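import Cfsg.Agent.H2.Eig
import Cfsg.Prelude.Def_Classical

/-! The centre of the symplectic group; eigenvalues of symplectic matrices. -/

set_option autoImplicit false

namespace CfsgH2

open Matrix

variable {l : Type*} [Fintype l] [DecidableEq l] {F : Type*} [Field F]

theorem dotProduct_J_mulVec_self (v : l ⊕ l → F) : v ⬝ᵥ (J l F *ᵥ v) = 0 := by
  have : v = Sum.elim (v ∘ Sum.inl) (v ∘ Sum.inr) := (Sum.elim_comp_inl_inr v).symm
  rw [this, J, Matrix.fromBlocks_mulVec, sumElim_dotProduct_sumElim]
  simp [Matrix.neg_mulVec, dotProduct_comm]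

/-- The symplectic transvection attached to a vector. -/
def spTransv (v : l ⊕ l → F) : symplecticGroup l F :=
  ⟨1 + vecMulVec v (J l F *ᵥ v), by
    rw [SymplecticGroup.mem_iff', Matrix.transpose_add, Matrix.transpose_one,
      Matrix.transpose_vecMulVec, Matrix.add_mul, Matrix.add_mul, Matrix.mul_add, Matrix.mul_add,
      Matrix.one_mul, Matrix.mul_one, Matrix.mul_one, Matrix.mul_vecMulVec, Matrix.vecMulVec_mul,
      Matrix.vecMulVec_mul_vecMulVec]
    have h1 : v ᵥ* J l F = -(J l F *ᵥ v) := by
      rw [← Matrix.mulVec_transpose, J_transpose, Matrix.neg_mulVec]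
    rw [h1, neg_dotProduct, dotProduct_comm, dotProduct_J_mulVec_self]
    simp⟩

theorem mem_center_symplectic_iff {g : symplecticGroup l F} :
    g ∈ Subgroup.center (symplecticGroup l F) ↔ g.1 = 1 ∨ g.1 = -1 := by
  rw [Subgroup.mem_center_iff]
  constructor
  · intro h
    rcases isEmpty_or_nonempty l with hl | hl
    · exact Or.inl (Subsingleton.elim _ _)
    obtain ⟨a, ha⟩ := LinearMap.exists_eq_smul_id_of_forall_notLinearIndependent
      (f := Matrix.toLin' g.1) (by
        intro v hli
        have hv : v ≠ 0 := hli.ne_zero 0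
        have hJv : J l F *ᵥ v ≠ 0 := by
          intro h0
          apply hv
          have := congrArg (J l F *ᵥ ·) h0
          simpa [Matrix.mulVec_mulVec, J_squared, Matrix.neg_mulVec] using this
        obtain ⟨i, hi⟩ := Function.ne_iff.mp hJv
        have h1 : (1 + vecMulVec v (J l F *ᵥ v)) * g.1 = g.1 * (1 + vecMulVec v (J l F *ᵥ v)) :=
          congrArg Subtype.val (h (spTransv v))
        rw [Matrix.add_mul, Matrix.mul_add, Matrix.one_mul, Matrix.mul_one, add_right_inj,
          Matrix.vecMulVec_mul, Matrix.mul_vecMulVec] at h1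
        rw [LinearIndependent.pair_iff] at hli
        have := hli (((J l F *ᵥ v) ᵥ* g.1) i) (-(J l F *ᵥ v) i) (by
          ext j
          have := congrFun (congrFun h1 j) i
          simp only [vecMulVec_apply] at this
          simp only [Matrix.toLin'_apply, Pi.add_apply, Pi.smul_apply, smul_eq_mul, Pi.zero_apply]
          linear_combination this)
        exact hi (neg_eq_zero.mp this.2))
    have hg : g.1 = a • 1 := by
      apply Matrix.toLin'.injective
      rw [ha, map_smul, Matrix.toLin'_one]
      rfl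
    have h2 := SymplecticGroup.mem_iff.mp g.2
    rw [hg] at h2
    obtain ⟨i⟩ := hl
    have h3 := congrFun (congrFun h2 (Sum.inr i)) (Sum.inl i)
    simp [J] at h3
    rcases mul_self_eq_one_iff.mp h3 with rfl | rfl
    · left; rw [hg, one_smul]
    · right; rw [hg, neg_smul, one_smul]
  · rintro (h | h) x
    · apply Subtype.ext
      simp [h]
    · apply Subtype.ext
      simp [h]

theorem psp_mk_pow_eq_one_iff (g : symplecticGroup l F) (k : ℕ) :
    (QuotientGroup.mk g : symplecticGroup l F ⧸ Subgroup.center (symplecticGroup l F)) ^ k = 1 ↔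
      g.1 ^ k = 1 ∨ g.1 ^ k = -1 := by
  rw [← QuotientGroup.mk_pow, QuotientGroup.eq_one_iff, mem_center_symplectic_iff]
  rfl

theorem IsEig.inv_of_symplectic {A : Matrix (l ⊕ l) (l ⊕ l) F} (hA : A ∈ symplecticGroup l F)
    {x : F} (h : IsEig A x) : IsEig A x⁻¹ :=
  h.inv_of_form (isUnit_det_J l F) (SymplecticGroup.mem_iff'.mp hA)

/-- The orbit of the exponent `1` modulo `N` under multiplication by `q` and negation. -/
def orbExp (q N : ℕ) : Finset ℕ :=
  (Finset.range 12).image (fun i => q ^ i % N) ∪
    (Finset.range 12).image (fun i => (N - q ^ i % N) % N)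

section

variable {K : Type*} [Field K] [Fintype F] [Algebra F K] {A : Matrix (l ⊕ l) (l ⊕ l) F}

theorem IsEig.pow_card_pow {n : Type*} [Fintype n] [DecidableEq n] {A : Matrix n n F} {x : K}
    (h : IsEig (A.map (algebraMap F K)) x) (i : ℕ) :
    IsEig (A.map (algebraMap F K)) (x ^ Fintype.card F ^ i) := by
  induction i with
  | zero => simpa using h
  | succ i ih => rw [pow_succ, pow_mul]; exact ih.pow_card

theorem IsEig.pow_of_mem_orbExp (hA : A ∈ symplecticGroup l F) {x : K} {N : ℕ} (hN : 0 < N)
    (hx : x ^ N = 1) (h : IsEig (A.map (algebraMap F K)) x) {e : ℕ}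
    (he : e ∈ orbExp (Fintype.card F) N) : IsEig (A.map (algebraMap F K)) (x ^ e) := by
  rw [orbExp, Finset.mem_union, Finset.mem_image, Finset.mem_image] at he
  rcases he with ⟨i, -, rfl⟩ | ⟨i, -, rfl⟩
  · rw [← pow_eq_pow_mod _ hx]
    exact h.pow_card_pow i
  · rw [← pow_eq_pow_mod _ hx]
    have h1 := (h.pow_card_pow i).inv_of_symplectic
      (SymplecticGroup.map_mem hA (algebraMap F K))
    convert h1 using 1
    apply eq_inv_of_mul_eq_one_left
    rw [pow_eq_pow_mod (Fintype.card F ^ i) hx, ← pow_add,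
      Nat.sub_add_cancel (Nat.mod_lt _ hN).le, hx]

theorem lt_of_mem_orbExp {q N e : ℕ} (hN : 0 < N) (he : e ∈ orbExp q N) : e < N := by
  rw [orbExp, Finset.mem_union, Finset.mem_image, Finset.mem_image] at he
  rcases he with ⟨i, -, rfl⟩ | ⟨i, -, rfl⟩ <;> exact Nat.mod_lt _ hN

theorem card_image_orbExp [DecidableEq K] {x : K} {q N : ℕ} (hN : 0 < N) (hx : orderOf x = N) :
    ((orbExp q N).image (x ^ ·)).card = (orbExp q N).card := by
  apply Finset.card_image_of_injOn
  intro a ha b hb hab
  exact pow_injOn_Iio_orderOf (hx ▸ lt_of_mem_orbExp hN ha) (hx ▸ lt_of_mem_orbExp hN hb) hab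

theorem IsEig.card_orbExp_le (hA : A ∈ symplecticGroup l F) {x : K} {N : ℕ} (hN : 0 < N)
    (hx : orderOf x = N) (h : IsEig (A.map (algebraMap F K)) x) :
    (orbExp (Fintype.card F) N).card ≤ Fintype.card (l ⊕ l) := by
  classical
  rw [← card_image_orbExp hN hx]
  apply card_le_of_isEig (A := A.map (algebraMap F K))
  intro y hy
  obtain ⟨e, he, rfl⟩ := Finset.mem_image.mp hy
  exact h.pow_of_mem_orbExp hA hN (hx ▸ pow_orderOf_eq_one x) he

theorem IsEig.exists_eq_pow (hA : A ∈ symplecticGroup l F) {x : K} {N : ℕ} (hN : 0 < N)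
    (hx : orderOf x = N) (h : IsEig (A.map (algebraMap F K)) x)
    (hc : (orbExp (Fintype.card F) N).card = Fintype.card (l ⊕ l)) {y : K}
    (hy : IsEig (A.map (algebraMap F K)) y) : ∃ e ∈ orbExp (Fintype.card F) N, y = x ^ e := by
  classical
  by_contra hne
  push Not at hne
  have h1 : y ∉ (orbExp (Fintype.card F) N).image (x ^ ·) := by
    intro h1
    obtain ⟨e, he, h2⟩ := Finset.mem_image.mp h1
    exact hne e he h2.symm
  have := card_le_of_isEig (A := A.map (algebraMap F K))
    (insert y ((orbExp (Fintype.card F) N).image (x ^ ·))) (by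
      intro z hz
      rcases Finset.mem_insert.mp hz with rfl | hz
      · exact hy
      · obtain ⟨e, he, rfl⟩ := Finset.mem_image.mp hz
        exact h.pow_of_mem_orbExp hA hN (hx ▸ pow_orderOf_eq_one x) he)
  rw [Finset.card_insert_of_notMem h1, card_image_orbExp hN hx, hc] at this
  omega

theorem IsEig.eq_zero_of_commute (hA : A ∈ symplecticGroup l F) {x : K} {N : ℕ} (hN : 0 < N)
    (hx : orderOf x = N) (h : IsEig (A.map (algebraMap F K)) x)
    (hc : (orbExp (Fintype.card F) N).card = Fintype.card (l ⊕ l))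
    {B : Matrix (l ⊕ l) (l ⊕ l) F} (hAB : A * B = B * A) {j : ℕ} (hB : B ^ j = 0) : B = 0 := by
  classical
  have := eq_zero_of_commute_of_pow_eq_zero (A := A.map (algebraMap F K))
    (B := B.map (algebraMap F K)) ((orbExp (Fintype.card F) N).image (x ^ ·))
    (by rw [card_image_orbExp hN hx, hc]) (by
      intro z hz
      obtain ⟨e, he, rfl⟩ := Finset.mem_image.mp hz
      exact h.pow_of_mem_orbExp hA hN (hx ▸ pow_orderOf_eq_one x) he)
    (by rw [← Matrix.map_mul, hAB, Matrix.map_mul]) (j := j)
    (by rw [← Matrix.map_pow, hB]; simp)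
  apply Matrix.map_injective (algebraMap F K).injective
  simpa using this

end

theorem pow_eq_smul_of_forall_isEig' {n : Type*} [Fintype n] [DecidableEq n] {A : Matrix n n F}
    {N k : ℕ} {c : F} (hN : (N : F) ≠ 0) (hA : A ^ N = 1)
    (h : ∀ x, IsEig (A.map (algebraMap F (AlgebraicClosure F))) x →
      x ^ k = algebraMap F (AlgebraicClosure F) c) : A ^ k = c • 1 := by
  have := pow_eq_smul_of_forall_isEig (A := A.map (algebraMap F (AlgebraicClosure F))) (N := N)
    (by rwa [← map_natCast (algebraMap F (AlgebraicClosure F)), _root_.map_ne_zero])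
    (by rw [← Matrix.map_pow, hA]; simp) h
  apply Matrix.map_injective (algebraMap F (AlgebraicClosure F)).injective
  simp only
  rw [Matrix.map_pow, this]
  ext i j
  by_cases hij : i = j <;> simp [Matrix.one_apply, hij]

end CfsgH2
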