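import Mathlib

/-! Elementary facts on eigenvalues of matrices. -/

set_option autoImplicit false

namespace CfsgH2

open Polynomial Matrix

variable {K : Type*} [Field K] {n : Type*} [Fintype n] [DecidableEq n]

/-- `l` is an eigenvalue of the matrix `A`. -/
def IsEig (A : Matrix n n K) (l : K) : Prop := ∃ v : n → K, v ≠ 0 ∧ A *ᵥ v = l • v

theorem isEig_iff_isRoot {A : Matrix n n K} {l : K} : IsEig A l ↔ A.charpoly.IsRoot l := by
  rw [IsRoot.def, Matrix.eval_charpoly, ← Matrix.exists_mulVec_eq_zero_iff]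
  refine exists_congr fun v => and_congr_right fun _ => ?_
  rw [Matrix.sub_mulVec, sub_eq_zero, eq_comm]
  have : Matrix.scalar n l *ᵥ v = l • v := by
    ext i
    simp [Matrix.scalar_apply, Matrix.mulVec_diagonal]
  rw [this]

theorem card_le_of_isEig {A : Matrix n n K} (s : Finset K) (h : ∀ l ∈ s, IsEig A l) :
    s.card ≤ Fintype.card n := by
  rw [← A.charpoly_natDegree_eq_dim]
  apply Polynomial.card_le_degree_of_subset_roots
  intro l hl
  rw [mem_roots A.charpoly_monic.ne_zero]
  exact isEig_iff_isRoot.mp (h l hl)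

theorem aeval_mulVec_of_eig {A : Matrix n n K} {l : K} {v : n → K} (h : A *ᵥ v = l • v)
    (p : K[X]) : aeval A p *ᵥ v = p.eval l • v := by
  have hk : ∀ k : ℕ, A ^ k *ᵥ v = l ^ k • v := by
    intro k
    induction k with
    | zero => simp
    | succ k ih => rw [pow_succ, ← Matrix.mulVec_mulVec, h, Matrix.mulVec_smul, ih, smul_smul,
        pow_succ']
  induction p using Polynomial.induction_on' with
  | add p q hp hq => rw [map_add, Matrix.add_mulVec, hp, hq, eval_add, add_smul]
  | monomial k a =>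
    rw [aeval_monomial, eval_monomial, ← Algebra.smul_def, Matrix.smul_mulVec, hk, smul_smul]

theorem IsEig.aeval {A : Matrix n n K} {l : K} (h : IsEig A l) (p : K[X]) :
    IsEig (aeval A p) (p.eval l) := by
  obtain ⟨v, hv, h⟩ := h
  exact ⟨v, hv, aeval_mulVec_of_eig h p⟩

theorem IsEig.pow {A : Matrix n n K} {l : K} (h : IsEig A l) (k : ℕ) : IsEig (A ^ k) (l ^ k) := by
  simpa using h.aeval (X ^ k)

theorem IsEig.eq_of_smul_one {c l : K} (h : IsEig (c • (1 : Matrix n n K)) l) : l = c := by
  obtain ⟨v, hv, h⟩ := h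
  rw [Matrix.smul_mulVec, Matrix.one_mulVec] at h
  exact (smul_left_injective K hv h).symm

theorem IsEig.pow_eq {A : Matrix n n K} {l c : K} (h : IsEig A l) {k : ℕ} (hA : A ^ k = c • 1) :
    l ^ k = c := (hA ▸ h.pow k).eq_of_smul_one

theorem IsEig.pow_eq_one {A : Matrix n n K} {l : K} (h : IsEig A l) {k : ℕ} (hA : A ^ k = 1) :
    l ^ k = 1 := h.pow_eq (by rw [hA, one_smul])

theorem IsEig.map {L : Type*} [Field L] {A : Matrix n n K} {l : K} (h : IsEig A l) (φ : K →+* L) :
    IsEig (A.map φ) (φ l) := by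
  obtain ⟨v, hv, h⟩ := h
  refine ⟨φ ∘ v, ?_, ?_⟩
  · intro h0
    apply hv
    ext i
    exact φ.injective (by simpa using congrFun h0 i)
  · ext i
    rw [← RingHom.map_mulVec, h]
    simp

theorem isEig_map_iff {L : Type*} [Field L] {A : Matrix n n K} {l : K} (φ : K →+* L) :
    IsEig (A.map φ) (φ l) ↔ IsEig A l := by
  rw [isEig_iff_isRoot, isEig_iff_isRoot, Matrix.charpoly_map, IsRoot.def, IsRoot.def,
    eval_map, eval₂_hom, map_eq_zero]

theorem IsEig.transpose {A : Matrix n n K} {l : K} (h : IsEig A l) : IsEig Aᵀ l := by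
  rwa [isEig_iff_isRoot, Matrix.charpoly_transpose, ← isEig_iff_isRoot]

/-- Eigenvalues of `A` are inverses of eigenvalues of `B` when `Aᵀ J B = J`, `J` invertible. -/
theorem IsEig.inv_of_form {A B J : Matrix n n K} {l : K} (h : IsEig A l) (hJ : IsUnit J.det)
    (hA : Aᵀ * J * B = J) : IsEig B l⁻¹ := by
  obtain ⟨w, hw, h⟩ := h.transpose
  set u := J⁻¹ *ᵥ w with hu
  have hJu : J *ᵥ u = w := by
    rw [hu, Matrix.mulVec_mulVec, Matrix.mul_nonsing_inv _ hJ, Matrix.one_mulVec]
  have hu0 : u ≠ 0 := by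
    intro h0
    rw [h0, Matrix.mulVec_zero] at hJu
    exact hw hJu.symm
  have hdet : IsUnit (Aᵀ * J).det := by
    have := congrArg Matrix.det hA
    rw [Matrix.det_mul] at this
    exact isUnit_of_mul_isUnit_left (this ▸ hJ)
  have h1 : (Aᵀ * J) *ᵥ (l • B *ᵥ u) = (Aᵀ * J) *ᵥ u := by
    rw [Matrix.mulVec_smul, Matrix.mulVec_mulVec, hA, hJu, ← Matrix.mulVec_mulVec, hJu, h]
  have h2 : l • B *ᵥ u = u :=
    Matrix.mulVec_injective_iff_isUnit.mpr ((Matrix.isUnit_iff_isUnit_det _).mpr hdet) h1
  have hl : l ≠ 0 := by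
    rintro rfl
    rw [zero_smul] at h2
    exact hu0 h2.symm
  refine ⟨u, hu0, ?_⟩
  rw [eq_inv_smul_iff₀ hl, h2]

theorem aeval_eq_zero_of_forall_isEig [IsAlgClosed K] {A : Matrix n n K} {p f : K[X]}
    (hp : p.Separable) (hA : aeval A p = 0) (h : ∀ l, IsEig A l → f.eval l = 0) :
    aeval A f = 0 := by
  by_cases hf : f = 0
  · simp [hf]
  have hint : IsIntegral K A := A.isIntegral
  have h0 := minpoly.ne_zero hint
  have h1 : minpoly K A ∣ f := by
    apply (IsAlgClosed.splits _).dvd_of_roots_le_roots h0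
    rw [Multiset.le_iff_subset (nodup_roots (hp.of_dvd (minpoly.dvd K A hA)))]
    intro l hl
    rw [mem_roots hf]
    rw [mem_roots h0] at hl
    exact h l (isEig_iff_isRoot.mpr (hl.dvd A.minpoly_dvd_charpoly))
  exact aeval_eq_zero_of_dvd_aeval_eq_zero h1 (minpoly.aeval K A)

theorem pow_eq_smul_of_forall_isEig [IsAlgClosed K] {A : Matrix n n K} {N k : ℕ} {c : K}
    (hN : (N : K) ≠ 0) (hA : A ^ N = 1) (h : ∀ l, IsEig A l → l ^ k = c) : A ^ k = c • 1 := by
  have := aeval_eq_zero_of_forall_isEig (A := A) (f := X ^ k - C c)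
    (X_pow_sub_one_separable_iff.mpr hN) (by simp [hA]) (fun l hl => by simp [h l hl])
  rw [map_sub, map_pow, aeval_X, aeval_C, sub_eq_zero, Algebra.algebraMap_eq_smul_one] at this
  exact this

theorem exists_isEig [IsAlgClosed K] [Nonempty n] (A : Matrix n n K) : ∃ l, IsEig A l := by
  obtain ⟨l, hl⟩ := IsAlgClosed.exists_root A.charpoly (by
    rw [A.charpoly_degree_eq_dim]
    exact_mod_cast Fintype.card_ne_zero)
  exact ⟨l, isEig_iff_isRoot.mpr hl⟩

theorem aeval_mul_of_intertwine {m : Type*} [Fintype m] [DecidableEq m] {A : Matrix n n K}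
    {B : Matrix m m K} {M : Matrix n m K} (h : A * M = M * B) (p : K[X]) :
    aeval A p * M = M * aeval B p := by
  have hk : ∀ k : ℕ, A ^ k * M = M * B ^ k := by
    intro k
    induction k with
    | zero => simp
    | succ k ih => rw [pow_succ, Matrix.mul_assoc, h, ← Matrix.mul_assoc, ih, Matrix.mul_assoc,
        ← pow_succ]
  induction p using Polynomial.induction_on' with
  | add p q hp hq => rw [map_add, map_add, Matrix.add_mul, Matrix.mul_add, hp, hq]
  | monomial k a =>
    rw [aeval_monomial, aeval_monomial, ← Algebra.smul_def, ← Algebra.smul_def, Matrix.smul_mul,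
      Matrix.mul_smul, hk]

/-- Intertwined matrices have a common eigenvalue. -/
theorem exists_common_isEig [IsAlgClosed K] {m : Type*} [Fintype m] [DecidableEq m]
    {A : Matrix n n K} {B : Matrix m m K} {M : Matrix n m K} (h : A * M = M * B) (hM : M ≠ 0) :
    ∃ l, IsEig A l ∧ IsEig B l := by
  by_contra hne
  have hc : IsCoprime A.charpoly B.charpoly := by
    rw [Polynomial.isCoprime_iff_aeval_ne_zero_of_isAlgClosed K K]
    intro a
    by_contra h2
    push Not at h2
    apply hne
    refine ⟨a, isEig_iff_isRoot.mpr ?_, isEig_iff_isRoot.mpr ?_⟩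
    · simpa using h2.1
    · simpa using h2.2
  obtain ⟨a, b, hab⟩ := hc
  have h1 := congrArg (aeval A) hab
  rw [map_add, map_mul, map_mul, Matrix.aeval_self_charpoly, mul_zero, zero_add, map_one] at h1
  apply hM
  calc M = aeval A b * aeval A B.charpoly * M := by rw [h1, Matrix.one_mul]
    _ = 0 := by
      rw [Matrix.mul_assoc, aeval_mul_of_intertwine h, Matrix.aeval_self_charpoly,
        Matrix.mul_zero, Matrix.mul_zero]

/-- A nilpotent matrix commuting with a matrix with `n` distinct eigenvalues vanishes. -/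
theorem eq_zero_of_commute_of_pow_eq_zero {A B : Matrix n n K} (s : Finset K)
    (hs : s.card = Fintype.card n) (h : ∀ l ∈ s, IsEig A l) (hAB : A * B = B * A) {j : ℕ}
    (hB : B ^ j = 0) : B = 0 := by
  classical
  rcases isEmpty_or_nonempty n with hn | hn
  · exact Subsingleton.elim _ _
  choose v hv0 hv using fun l : s => h l l.2
  have hli : LinearIndependent K v :=
    Module.End.eigenvectors_linearIndependent' (Matrix.toLin' A) (fun l : s => (l : K))
      Subtype.val_injective v (fun l => ⟨Module.End.mem_eigenspace_iff.mpr (by simpa using hv l),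
        hv0 l⟩)
  have hne : Nonempty s := by
    rw [Finset.nonempty_coe_sort, ← Finset.card_pos, hs]
    exact Fintype.card_pos
  let b := basisOfLinearIndependentOfCardEqFinrank hli (by simp [hs])
  have hb : ∀ l, b l = v l := fun l => by simp [b]
  have key : ∀ l : s, B *ᵥ v l = 0 := by
    intro l
    have h1 : A *ᵥ (B *ᵥ v l) = (l : K) • (B *ᵥ v l) := by
      rw [Matrix.mulVec_mulVec, hAB, ← Matrix.mulVec_mulVec, hv, Matrix.mulVec_smul]
    set c := b.repr (B *ᵥ v l) with hc
    have h2 : B *ᵥ v l = ∑ i, c i • v i := by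
      conv_lhs => rw [← b.sum_repr (B *ᵥ v l)]
      simp only [hb, hc]
    have h3 : ∑ i, (c i * (i - l)) • v i = 0 := by
      rw [h2, Matrix.mulVec_sum, Finset.smul_sum] at h1
      simp only [Matrix.mulVec_smul, hv, smul_smul] at h1
      simp only [mul_sub, sub_smul, Finset.sum_sub_distrib, h1]
      simp only [mul_comm, sub_self]
    have h4 := Fintype.linearIndependent_iff.mp hli _ h3
    have h5 : B *ᵥ v l = c l • v l := by
      rw [h2, Finset.sum_eq_single l]
      · intro i _ hi
        have : c i = 0 := (mul_eq_zero.mp (h4 i)).resolve_right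
          (sub_ne_zero.mpr (fun h => hi (Subtype.ext h)))
        rw [this, zero_smul]
      · simp
    have h6 : IsEig B (c l) := ⟨v l, hv0 l, h5⟩
    have h7 : c l ^ j = 0 := h6.pow_eq (by rw [hB, zero_smul])
    rw [h5, pow_eq_zero_iff'.mp h7 |>.1, zero_smul]
  apply Matrix.toLin'.injective
  apply b.ext
  intro l
  simp [hb, key]

/-- Over an extension of a finite field the eigenvalues of a matrix with entries in the small field
are permuted by the Frobenius map. -/
theorem IsEig.pow_card {F : Type*} [Field F] [Fintype F] [Algebra F K] {A : Matrix n n F} {l : K}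
    (h : IsEig (A.map (algebraMap F K)) l) :
    IsEig (A.map (algebraMap F K)) (l ^ Fintype.card F) := by
  have := h.map (FiniteField.frobeniusAlgHom F K : K →+* K)
  convert this using 1
  · ext i j
    simp [← map_pow, FiniteField.pow_card]
  · simp

end CfsgH2
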