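import Cfsg.Agent.FT.Base3
import Cfsg.Agent.H5.Suzuki2
import Cfsg.Agent.H8.PGroupBasic

/-! Sectional 2-rank bookkeeping. -/

set_option autoImplicit false
set_option linter.style.haveILetI false
set_option linter.unusedSectionVars false

namespace CfsgH2.Fx
open Subgroup CfsgH5 CfsgH6 CfsgFT

universe u
variable {G : Type u} [Group G]

/-- every elementary abelian section `X / Y` of `H / A` has order at most `2 ^ k`. -/
def SR (k : ℕ) (H A : Subgroup G) : Prop :=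
  ∀ X Y : Subgroup G, A ≤ Y → Y ≤ X → X ≤ H → (∀ x ∈ X, x * x ∈ Y) → Y.relIndex X ≤ 2 ^ k

theorem comm_mem {X Y : Subgroup G} (h : ∀ x ∈ X, x * x ∈ Y) {a b : G} (ha : a ∈ X) (hb : b ∈ X) :
    a * b * a⁻¹ * b⁻¹ ∈ Y := by
  have e : a * b * a⁻¹ * b⁻¹ = a * a * (a⁻¹ * b * (a⁻¹ * b)) * (b * b)⁻¹ := by group
  rw [e]
  exact mul_mem (mul_mem (h a ha) (h _ (mul_mem (inv_mem ha) hb))) (inv_mem (h b hb))

theorem comm_of_sq {X : Subgroup G} (h : ∀ x ∈ X, x * x = 1) {a b : G} (ha : a ∈ X) (hb : b ∈ X) :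
    a * b = b * a := by
  have := comm_mem (Y := ⊥) (fun x hx => mem_bot.mpr (h x hx)) ha hb
  rw [mem_bot, mul_inv_eq_one, mul_inv_eq_iff_eq_mul] at this
  exact this

theorem ab_of_sq {X : Subgroup G} (h : ∀ x ∈ X, x * x = 1) : Ab X :=
  ab_iff.mpr fun _ ha _ hb => comm_of_sq h ha hb

theorem SR.mono {k : ℕ} {H A H' A' : Subgroup G} (h : SR k H A) (h1 : H' ≤ H) (h2 : A ≤ A') :
    SR k H' A' := fun X Y a b c d => h X Y (h2.trans a) b (c.trans h1) d

theorem SR.le {k l : ℕ} {H A : Subgroup G} (h : SR k H A) (hl : k ≤ l) : SR l H A :=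
  fun X Y a b c d => (h X Y a b c d).trans (Nat.pow_le_pow_right (by norm_num) hl)

theorem SR.of_map {G' : Type*} [Group G'] {k : ℕ} {H A : Subgroup G} (f : G →* G')
    (h : SR k (H.map f) (A.map f)) (hk : f.ker ≤ A) : SR k H A := by
  intro X Y a b c d
  have := h (X.map f) (Y.map f) (map_mono a) (map_mono b) (map_mono c) (by
    rintro _ ⟨x, hx, rfl⟩
    exact ⟨x * x, d x hx, map_mul f x x⟩)
  rwa [relIndex_map_map, sup_eq_left.mpr (hk.trans a), sup_eq_left.mpr (hk.trans (a.trans b))] at this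

theorem SR.map {G' : Type*} [Group G'] {k : ℕ} {H A : Subgroup G} (f : G →* G')
    (h : SR k H A) (hk : f.ker ≤ H) : SR k (H.map f) (A.map f) := by
  intro X Y a b c d
  have := h (X.comap f) (Y.comap f) (map_le_iff_le_comap.mp a) (comap_mono b)
    ((comap_mono c).trans (by rw [comap_map_eq, sup_eq_left.mpr hk])) (fun x hx => by
      rw [mem_comap, map_mul]; exact d _ hx)
  rwa [relIndex_comap, map_comap_eq_self (c.trans (map_le_range f H))] at this

theorem SR.sub {k : ℕ} {H : Subgroup G} (h : SR k (⊤ : Subgroup H) ⊥) : SR k H ⊥ := by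
  have := h.map H.subtype le_top
  rwa [← MonoidHom.range_eq_map, range_subtype, Subgroup.map_bot] at this

theorem SR.to_sub {k : ℕ} {H : Subgroup G} (h : SR k H ⊥) : SR k (⊤ : Subgroup H) ⊥ := by
  refine SR.of_map H.subtype ?_ (by rw [ker_subtype])
  rwa [← MonoidHom.range_eq_map, range_subtype, Subgroup.map_bot]

theorem SR.of_quo {k : ℕ} {A : Subgroup G} [A.Normal] (h : SR k (⊤ : Subgroup (G ⧸ A)) ⊥) :
    SR k ⊤ A := by
  refine SR.of_map (QuotientGroup.mk' A) ?_ (by rw [QuotientGroup.ker_mk'])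
  exact h.mono le_top bot_le

theorem SR.cjj {k : ℕ} {H A : Subgroup G} (h : SR k H A) (g : G) : SR k (cj g H) (cj g A) :=
  h.map _ (by
    intro x hx
    rw [MonoidHom.mem_ker] at hx
    have : x = 1 := (MulAut.conj g).injective (by simpa using hx)
    rw [this]; exact one_mem _)

variable [Finite G]

theorem split {X Y T : Subgroup G} (hYX : Y ≤ X) (hT : Nrm X T) :
    Y.relIndex X = (Y ⊔ T).relIndex X * Y.relIndex (X ⊓ T) := by
  have n1 : Nrm Y T := hT.mono hYX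
  have e : X ⊓ (Y ⊔ T) = Y ⊔ X ⊓ T := modular_left' (Or.inl n1) hYX
  rw [← inf_relIndex_left X (Y ⊔ T), e, ← relIndex_sup (X := Y) (Y := X ⊓ T)
    (Or.inl ((Nrm.of_le hYX).inf n1)), mul_comm,
    relIndex_mul_relIndex _ _ _ le_sup_left (sup_le hYX inf_le_left)]

theorem rel_le_right (Y : Subgroup G) {X H : Subgroup G} (h : X ≤ H) :
    Y.relIndex X ≤ Y.relIndex H := relIndex_le_of_le_right h (relIndex_ne_zero' _ _)

theorem rel_le_left {A Y : Subgroup G} (X : Subgroup G) (h : A ≤ Y) :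
    Y.relIndex X ≤ A.relIndex X := relIndex_le_of_le_left h (relIndex_ne_zero' _ _)

theorem rel_le_card (Y X : Subgroup G) : Y.relIndex X ≤ Nat.card X :=
  Nat.le_of_dvd (card_pos X) (relIndex_dvd_card' Y X)

theorem SR.top_part {b : ℕ} {H B X Y : Subgroup G} (h : SR b H B) (hB : Nrm H B) (hBH : B ≤ H)
    (hYX : Y ≤ X) (hX : X ≤ H) (hs : ∀ x ∈ X, x * x ∈ Y) : (Y ⊔ B).relIndex X ≤ 2 ^ b := by
  refine (rel_le_right _ (le_sup_left : X ≤ X ⊔ B)).trans (h _ _ le_sup_right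
    (sup_le_sup_right hYX B) (sup_le hX hBH) fun x hx => ?_)
  obtain ⟨a, ha, c, hc, rfl⟩ := (mem_sup_nrm (hB.mono hX)).mp hx
  have e : a * c * (a * c) = a * a * (a⁻¹ * c * a * c) := by group
  rw [e]
  exact mul_mem (mem_sup_left (hs a ha)) (mem_sup_right (mul_mem (hB.conj' (hX ha) hc) hc))

theorem SR.bot_part {a : ℕ} {B A X Y : Subgroup G} (h : SR a B A) (hA : A ≤ B) (hAY : A ≤ Y)
    (hYX : Y ≤ X) (hs : ∀ x ∈ X, x * x ∈ Y) : Y.relIndex (X ⊓ B) ≤ 2 ^ a := by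
  have := h (X ⊓ B) (Y ⊓ B) (le_inf hAY hA) (inf_le_inf_right B hYX) inf_le_right
    fun x hx => ⟨hs x hx.1, mul_mem hx.2 hx.2⟩
  have e : Y ⊓ B = Y ⊓ (X ⊓ B) := by rw [← inf_assoc, inf_eq_left.mpr hYX]
  rwa [e, inf_relIndex_right] at this

theorem SR.add {a b : ℕ} {H B A : Subgroup G} (h1 : SR a B A) (h2 : SR b H B) (hB : Nrm H B)
    (hA : A ≤ B) (hBH : B ≤ H) : SR (a + b) H A := by
  intro X Y p q r s
  rw [split q (hB.mono r), pow_add, mul_comm]
  exact Nat.mul_le_mul (h1.bot_part hA p q s) (h2.top_part hB hBH q r s)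

theorem sr_of_rel {k : ℕ} {H A : Subgroup G} (h : A.relIndex H ≤ 2 ^ k) : SR k H A :=
  fun X _ a _ c _ => (rel_le_left X a).trans ((rel_le_right A c).trans h)

theorem pow_card (hG : IsPGroup 2 G) (X : Subgroup G) : ∃ n, Nat.card X = 2 ^ n :=
  haveI : Fact (Nat.Prime 2) := ⟨Nat.prime_two⟩
  IsPGroup.iff_card.mp (hG.to_subgroup X)

theorem pow_rel (hG : IsPGroup 2 G) (Y X : Subgroup G) : ∃ n, Y.relIndex X = 2 ^ n := by
  obtain ⟨n, hn⟩ := pow_card hG X
  obtain ⟨k, -, hk⟩ := (Nat.dvd_prime_pow Nat.prime_two).mp (hn ▸ relIndex_dvd_card' Y X)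
  exact ⟨k, hk⟩

theorem pow_up {m k : ℕ} (h : ∃ n, m = 2 ^ n) (hk : 2 ^ k < m) : 2 ^ (k + 1) ≤ m := by
  obtain ⟨n, rfl⟩ := h
  exact Nat.pow_le_pow_right (by norm_num) ((Nat.pow_lt_pow_iff_right (by norm_num)).mp hk)

theorem pow_down {m k : ℕ} (h : ∃ n, m = 2 ^ n) (hk : m < 2 ^ (k + 1)) : m ≤ 2 ^ k := by
  by_contra c
  have := pow_up h (not_le.mp c)
  omega

theorem big (hG : IsPGroup 2 G) {k : ℕ} {H A : Subgroup G} (h : ¬ SR k H A) :
    ∃ X Y : Subgroup G, A ≤ Y ∧ Y ≤ X ∧ X ≤ H ∧ (∀ x ∈ X, x * x ∈ Y) ∧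
      2 ^ (k + 1) ≤ Y.relIndex X := by
  unfold SR at h
  push Not at h
  obtain ⟨X, Y, a, b, c, d, e⟩ := h
  exact ⟨X, Y, a, b, c, d, pow_up (pow_rel hG Y X) e⟩

theorem rel3 {A Y X H : Subgroup G} (a : A ≤ Y) (b : Y ≤ X) (c : X ≤ H) :
    A.relIndex Y * Y.relIndex X * X.relIndex H = A.relIndex H := by
  rw [relIndex_mul_relIndex _ _ _ a b, relIndex_mul_relIndex _ _ _ (a.trans b) c]

theorem sq_of_not_sr (hG : IsPGroup 2 G) {k : ℕ} {H A : Subgroup G}
    (hH : A.relIndex H ≤ 2 ^ (k + 1)) (h : ¬ SR k H A) :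
    (∀ x ∈ H, x * x ∈ A) ∧ A.relIndex H = 2 ^ (k + 1) := by
  obtain ⟨X, Y, a, b, c, d, e⟩ := big hG h
  have e3 := rel3 a b c
  have p1 := relIndex_pos A Y
  have p2 := relIndex_pos X H
  have q : A.relIndex Y * X.relIndex H ≤ 1 := by
    have : A.relIndex Y * X.relIndex H * 2 ^ (k + 1) ≤ 1 * 2 ^ (k + 1) := by
      calc _ ≤ A.relIndex Y * X.relIndex H * Y.relIndex X := Nat.mul_le_mul_left _ e
        _ = A.relIndex H := by rw [← e3]; ring
        _ ≤ _ := by omega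
    exact Nat.le_of_mul_le_mul_right this (by positivity)
  have q1 : A.relIndex Y = 1 := by nlinarith
  have q2 : X.relIndex H = 1 := by nlinarith
  refine ⟨fun x hx => relIndex_eq_one.mp q1 (d x (relIndex_eq_one.mp q2 hx)), ?_⟩
  rw [q1, q2] at e3
  omega

theorem big2 (hG : IsPGroup 2 G) {k : ℕ} {H A : Subgroup G}
    (hH : A.relIndex H ≤ 2 ^ (k + 2)) (h : ¬ SR k H A) :
    (∃ Y : Subgroup G, A ≤ Y ∧ Y ≤ H ∧ A.relIndex Y ≤ 2 ∧ (∀ x ∈ H, x * x ∈ Y) ∧
      2 ^ (k + 1) ≤ Y.relIndex H) ∨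
    ∃ X : Subgroup G, A ≤ X ∧ X ≤ H ∧ X.relIndex H = 2 ∧ (∀ x ∈ X, x * x ∈ A) ∧
      A.relIndex X = 2 ^ (k + 1) := by
  obtain ⟨X, Y, a, b, c, d, e⟩ := big hG h
  have e3 := rel3 a b c
  have p1 := relIndex_pos A Y
  have p2 := relIndex_pos X H
  have q : A.relIndex Y * X.relIndex H ≤ 2 := by
    have : A.relIndex Y * X.relIndex H * 2 ^ (k + 1) ≤ 2 * 2 ^ (k + 1) := by
      calc _ ≤ A.relIndex Y * X.relIndex H * Y.relIndex X := Nat.mul_le_mul_left _ e
        _ = A.relIndex H := by rw [← e3]; ring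
        _ ≤ _ := by rw [← pow_succ']; exact hH
    exact Nat.le_of_mul_le_mul_right this (by positivity)
  by_cases q2 : X.relIndex H = 1
  · have : X = H := le_antisymm c (relIndex_eq_one.mp q2)
    subst this
    exact Or.inl ⟨Y, a, b, by rw [q2] at q; omega, d, e⟩
  · have q3 : X.relIndex H = 2 := by nlinarith [Nat.lt_of_le_of_ne p2 (Ne.symm q2)]
    have q1 : A.relIndex Y = 1 := by rw [q3] at q; omega
    have : Y = A := le_antisymm (relIndex_eq_one.mp q1) a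
    subst this
    refine Or.inr ⟨X, b, c, q3, d, ?_⟩
    rw [q1, q3] at e3
    rw [pow_succ] at hH
    omega

theorem rel_le_ker {X Y : Subgroup G} (f : X →* G) (hf : ∀ x, f x ∈ Y ⊓ X) :
    Y.relIndex X ≤ Nat.card f.ker := by
  have e1 := card_inf_mul_relIndex Y X
  have e2 : Nat.card f.ker * Nat.card f.range = Nat.card X := by
    rw [← index_ker, card_mul_index]
  have e3 : Nat.card f.range ≤ Nat.card ↥(Y ⊓ X) :=
    card_le_of_le (by rintro _ ⟨x, rfl⟩; exact hf x)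
  have := card_pos (Y ⊓ X)
  nlinarith

theorem card_ker_le {X : Subgroup G} {H : Type*} [Group H] (f : X →* H) {V : Subgroup G}
    (h : ∀ x : X, f x = 1 → (x : G) ∈ V) : Nat.card f.ker ≤ Nat.card V :=
  Nat.card_le_card_of_injective (fun x : f.ker => (⟨x.1.1, h _ x.2⟩ : V))
    fun _ _ e => Subtype.ext (Subtype.ext (congrArg (Subtype.val : V → G) e))

/-- the squaring map of an abelian subgroup. -/
def sqh {X : Subgroup G} (h : Ab X) : X →* G :=
  MonoidHom.mk' (fun a => a * a) fun a b => by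
    simp only [coe_mul]
    calc _ = (a : G) * (b * a) * b := by group
      _ = _ := by rw [← h.comm a.2 b.2]; group

/-- `a ↦ g a g⁻¹ a⁻¹` on an abelian subgroup. -/
def cmh {X : Subgroup G} (h : Ab X) {g : G} (hg : ∀ a ∈ X, g * a * g⁻¹ ∈ X) : X →* G :=
  MonoidHom.mk' (fun a => g * a * g⁻¹ * (a : G)⁻¹) fun a b => by
    simp only [coe_mul]
    have := h.comm (inv_mem a.2) (mul_mem (hg _ b.2) (inv_mem b.2))
    calc _ = g * a * g⁻¹ * (g * b * g⁻¹ * (b : G)⁻¹ * (a : G)⁻¹) := by group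
      _ = _ := by rw [← this]; group

/-- `a ↦ a g a g⁻¹` on an abelian subgroup. -/
def nuh {X : Subgroup G} (h : Ab X) {g : G} (hg : ∀ a ∈ X, g * a * g⁻¹ ∈ X) : X →* G :=
  MonoidHom.mk' (fun a => a * (g * a * g⁻¹)) fun a b => by
    simp only [coe_mul]
    have := h.comm b.2 (hg _ a.2)
    calc _ = a * (b * (g * a * g⁻¹)) * (g * b * g⁻¹) := by group
      _ = _ := by rw [this]; group

theorem sr_ab {k : ℕ} {A V : Subgroup G} (hA : Ab A) (hV : Nat.card V ≤ 2 ^ k)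
    (h : ∀ a ∈ A, a * a = 1 → a ∈ V) : SR k A ⊥ := by
  intro X Y _ _ c d
  refine (rel_le_ker (sqh (hA.mono c)) fun x => ⟨d _ x.2, mul_mem x.2 x.2⟩).trans
    ((card_ker_le _ fun x hx => h _ (c x.2) hx).trans hV)

theorem rel_le_cent {X Y : Subgroup G} (hX : Ab X) {g : G} (hg : ∀ a ∈ X, g * a * g⁻¹ ∈ X)
    (h : ∀ a ∈ X, g * a * g⁻¹ * a⁻¹ ∈ Y) : Y.relIndex X ≤ Nat.card ↥(X ⊓ C1 g) :=
  (rel_le_ker (cmh hX hg) fun x => ⟨h _ x.2, X.mul_mem (hg _ x.2) (X.inv_mem x.2)⟩).trans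
    (card_ker_le _ fun x hx => ⟨x.2, mem_C1_iff_conj'.mpr (mul_inv_eq_one.mp hx)⟩)

theorem sr_cyc (x : G) : SR 1 (zpowers x) ⊥ := by
  classical
  by_cases h : ∃ z ∈ zpowers x, z ≠ 1 ∧ z * z = 1
  · obtain ⟨z, hz, z1, z2⟩ := h
    have oz : orderOf z = 2 := orderOf_eq_prime (by rw [pow_two, z2]) z1
    refine sr_ab (V := zpowers z) (ab_zpowers x) (by rw [Nat.card_zpowers, oz]; norm_num)
      fun a ha a2 => ?_
    by_contra c
    haveI := Fintype.ofFinite (zpowers x)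
    have := IsCyclic.card_pow_eq_one_le (α := zpowers x) (n := 2) two_pos
    have h3 : ({1, ⟨z, hz⟩, ⟨a, ha⟩} : Finset (zpowers x)) ⊆ Finset.univ.filter (fun a => a ^ 2 = 1) := by
      intro y hy
      simp only [Finset.mem_insert, Finset.mem_singleton] at hy
      rcases hy with rfl | rfl | rfl <;> simp [Subtype.ext_iff, pow_two, z2, a2]
    have h4 := Finset.card_le_card h3
    rw [Finset.card_eq_three.mpr ⟨_, _, _, by simpa [Subtype.ext_iff] using z1.symm, by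
      intro e; apply c; rw [show a = 1 from (congrArg Subtype.val e).symm]; exact one_mem _, by
      intro e; apply c; rw [show a = z from (congrArg Subtype.val e).symm]; exact mem_zpowers _,
      rfl⟩] at h4
    omega
  · push Not at h
    refine sr_ab (V := ⊥) (ab_zpowers x) (by simp) fun a ha a2 => ?_
    by_contra c
    exact h a ha c a2

theorem sr_two_of_cyc {x : G} {H : Subgroup G} (hx : x ∈ H) (h : (zpowers x).relIndex H ≤ 2) :
    SR 2 H ⊥ := by
  have hle : zpowers x ≤ H := zpowers_le.mpr hx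
  refine (sr_cyc x).add (b := 1) (sr_of_rel h) ?_ bot_le hle
  have p := relIndex_pos (zpowers x) H
  by_cases q : (zpowers x).relIndex H = 1
  · exact Nrm.of_le (relIndex_eq_one.mp q)
  · exact idx2' (by omega)
  where
  idx2' (h2 : (zpowers x).relIndex H = 2) : Nrm H (zpowers x) :=
    Nrm.of_normal_subgroupOf (zpowers_le.mpr hx) (normal_of_index_eq_two h2)

end CfsgH2.Fx
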