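import Cfsg.Agent.H2.FxA
import Cfsg.Agent.H6.PGroupAct

/-! Index two subgroups, normal four-groups, maximal class, class counts. -/

set_option autoImplicit false
set_option linter.style.haveILetI false
set_option linter.unusedSectionVars false

namespace CfsgH2.Fx
open Subgroup CfsgH5 CfsgH6 CfsgFT

universe u
variable {G : Type u} [Group G]

theorem inv_self {x : G} (h : x * x = 1) : x⁻¹ = x := inv_eq_of_mul_eq_one_right h

/-- index at most two. -/
def I2 (H : Subgroup G) : Prop := ∀ a b, a ∉ H → b ∉ H → a * b ∈ H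

theorem I2.mul_iff {H : Subgroup G} (h : I2 H) (a b : G) : a * b ∈ H ↔ (a ∈ H ↔ b ∈ H) := by
  by_cases ha : a ∈ H
  · simp only [ha, true_iff, mul_mem_cancel_left ha]
  by_cases hb : b ∈ H
  · simp only [hb, iff_true, mul_mem_cancel_right hb]
  simp only [ha, hb, iff_true]
  exact h a b ha hb

theorem I2.index {H : Subgroup G} (h : I2 H) : H.index ≤ 2 := by
  by_cases c : H = ⊤
  · rw [c, index_top]; norm_num
  · obtain ⟨a, ha⟩ : ∃ a, a ∉ H := by
      by_contra e; push Not at e; exact c (eq_top_iff.mpr fun x _ => e x)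
    refine (index_eq_two_iff.mpr ⟨a, fun b => ?_⟩).le
    rw [h.mul_iff]
    by_cases hb : b ∈ H <;> simp [hb, ha]

theorem I2.comm_mem {H : Subgroup G} (h : I2 H) (a b : G) : a * b * a⁻¹ * b⁻¹ ∈ H := by
  simp only [h.mul_iff, inv_mem_iff]; tauto

theorem I2.comm {H : Subgroup G} (h : I2 H) : _root_.commutator G ≤ H := by
  rw [_root_.commutator_def, commutator_le]
  exact fun a _ b _ => h.comm_mem a b

theorem I2.comb {H K : Subgroup G} (h : I2 H) (k : I2 K) :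
    ∃ L : Subgroup G, I2 L ∧ ∀ s, s ∈ L ↔ (s ∈ H ↔ s ∈ K) := by
  refine ⟨{ carrier := {s | s ∈ H ↔ s ∈ K}
            one_mem' := by simp
            mul_mem' := fun {a b} ha hb => ?_
            inv_mem' := fun {a} ha => by simpa using ha }, fun a b ha hb => ?_, fun s => Iff.rfl⟩
  · change (a ∈ H ↔ a ∈ K) at ha
    change (b ∈ H ↔ b ∈ K) at hb
    change a * b ∈ H ↔ a * b ∈ K
    rw [h.mul_iff, k.mul_iff]; tauto
  · change ¬ (a ∈ H ↔ a ∈ K) at ha
    change ¬ (b ∈ H ↔ b ∈ K) at hb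
    change a * b ∈ H ↔ a * b ∈ K
    rw [h.mul_iff, k.mul_iff]; tauto

theorem i2_of_index {H : Subgroup G} [Finite G] (h : H.index ≤ 2) : I2 H := by
  intro a b ha hb
  have h0 : H.index ≠ 0 := index_ne_zero_of_finite
  have h1 : H.index ≠ 1 := fun e => ha (index_eq_one.mp e ▸ mem_top a)
  rw [mul_mem_iff_of_index_two (by omega)]
  tauto

/-- data of a normal four-group `{1, z, v, v z}`. -/
structure N4 (z v : G) : Prop where
  zz : z * z = 1
  vv : v * v = 1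
  z1 : z ≠ 1
  v1 : v ≠ 1
  vz : v ≠ z
  cz : ∀ g, g * z = z * g
  cv : ∀ g, g * v * g⁻¹ = v ∨ g * v * g⁻¹ = v * z

namespace N4
variable {z v : G} (h : N4 z v)
include h

theorem cz' (g : G) : g * z * g⁻¹ = z := by rw [h.cz, mul_inv_cancel_right]

/-- the four-group. -/
def V : Subgroup G where
  carrier := {a | a = 1 ∨ a = z ∨ a = v ∨ a = v * z}
  one_mem' := Or.inl rfl
  mul_mem' := by
    have e := h.cz v
    have e1 : ∀ a, z * (z * a) = a := fun a => by rw [← mul_assoc, h.zz, one_mul]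
    have e2 : ∀ a, v * (v * a) = a := fun a => by rw [← mul_assoc, h.vv, one_mul]
    have e3 : ∀ a, z * (v * a) = v * (z * a) := fun a => by rw [← mul_assoc, ← e, mul_assoc]
    rintro a b (rfl | rfl | rfl | rfl) (rfl | rfl | rfl | rfl) <;>
      simp [mul_assoc, h.zz, h.vv, e1, e2, e3, ← e]
  inv_mem' := by
    rintro a (rfl | rfl | rfl | rfl)
    · simp
    · simp [inv_self h.zz]
    · simp [inv_self h.vv]
    · simp [inv_self h.zz, inv_self h.vv, h.cz v]

theorem mem {a : G} : a ∈ h.V ↔ a = 1 ∨ a = z ∨ a = v ∨ a = v * z := Iff.rfl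
theorem z_mem : z ∈ h.V := Or.inr (Or.inl rfl)
theorem v_mem : v ∈ h.V := Or.inr (Or.inr (Or.inl rfl))

theorem vz1 : v * z ≠ 1 := fun e => h.vz (by rw [eq_inv_of_mul_eq_one_left e, inv_self h.zz])

theorem card : Nat.card h.V = 4 := by
  have : (h.V : Set G) = {1, z, v, v * z} := rfl
  change (h.V : Set G).ncard = 4
  have e1 : z ≠ v * z := fun e => h.v1 (by simpa using e)
  have e2 : v ≠ v * z := fun e => h.z1 (by simpa using e)
  rw [this, Set.ncard_insert_of_notMem (by simp [h.z1.symm, h.v1.symm, h.vz1.symm]),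
    Set.ncard_insert_of_notMem (by simp [h.vz.symm, e1]), Set.ncard_pair e2]

theorem le {K : Subgroup G} (hz : z ∈ K) (hv : v ∈ K) : h.V ≤ K := by
  rintro a (rfl | rfl | rfl | rfl)
  exacts [one_mem _, hz, hv, mul_mem hv hz]

theorem normal : h.V.Normal := ⟨by
  rintro a (rfl | rfl | rfl | rfl) g
  · simp
  · rw [h.cz']; exact h.z_mem
  · rcases h.cv g with e | e <;> rw [e]
    exacts [h.v_mem, mul_mem h.v_mem h.z_mem]
  · have : g * (v * z) * g⁻¹ = g * v * g⁻¹ * z := by rw [mul_assoc _ g⁻¹, h.cz g⁻¹]; group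
    rw [this]
    rcases h.cv g with e | e <;> rw [e]
    exacts [mul_mem h.v_mem h.z_mem, mul_mem (mul_mem h.v_mem h.z_mem) h.z_mem]⟩

theorem sq {a : G} (ha : a ∈ h.V) : a * a = 1 := by
  rcases ha with rfl | rfl | rfl | rfl
  · simp
  · exact h.zz
  · exact h.vv
  · rw [mul_assoc, ← mul_assoc z, ← h.cz, mul_assoc, h.zz, mul_one, h.vv]

theorem le_C1 {g : G} (hg : g ∈ C1 v) : h.V ≤ C1 g :=
  h.le (mem_C1.mpr (h.cz g).symm) (mem_C1_comm.mp hg)

theorem comm {g a : G} (hg : g ∈ C1 v) (ha : a ∈ h.V) : g * a = a * g :=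
  (mem_C1.mp (h.le_C1 hg ha)).symm

theorem conj {g a : G} (hg : g ∈ C1 v) (ha : a ∈ h.V) : g * a * g⁻¹ = a := by
  rw [h.comm hg ha, mul_inv_cancel_right]

theorem out {g : G} (hg : g ∉ C1 v) : g * v * g⁻¹ = v * z :=
  (h.cv g).resolve_left fun e => hg (mem_C1_iff_conj.mpr e)

theorem i2 : I2 (C1 v) := fun a b ha hb => mem_C1_iff_conj.mpr (by
  calc a * b * v * (a * b)⁻¹ = a * (b * v * b⁻¹) * a⁻¹ := by group
    _ = a * v * a⁻¹ * (a * z * a⁻¹) := by rw [h.out hb]; group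
    _ = v := by rw [h.out ha, h.cz', mul_assoc, h.zz, mul_one])

theorem sq_mem (g : G) : g * g ∈ C1 v := by rw [h.i2.mul_iff]

theorem fix {g a : G} (hg : g ∉ C1 v) (ha : a ∈ h.V) (e : g * a * g⁻¹ = a) : a = 1 ∨ a = z := by
  rcases ha with rfl | rfl | rfl | rfl
  · exact Or.inl rfl
  · exact Or.inr rfl
  · exact absurd (mem_C1_iff_conj.mpr e) hg
  · refine absurd (mem_C1_iff_conj.mpr ?_) hg
    have : g * (v * z) * g⁻¹ = g * v * g⁻¹ * z := by rw [mul_assoc _ g⁻¹, h.cz g⁻¹]; group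
    rw [this] at e
    exact mul_right_cancel e

end N4

variable [Finite G]

theorem I2.rel {H : Subgroup G} (h : I2 H) (D : Subgroup G) : H.relIndex D ≤ 2 :=
  (rel_le_right H le_top).trans (by rw [relIndex_top_right]; exact h.index)

theorem I2.card {H : Subgroup G} (h : I2 H) (D : Subgroup G) :
    Nat.card D ≤ 2 * Nat.card ↥(D ⊓ H) := by
  rw [← card_inf_mul_relIndex H D, inf_comm, mul_comm]
  exact Nat.mul_le_mul_right _ (h.rel D)

theorem I2.card' {H : Subgroup G} (h : I2 H) : Nat.card G ≤ 2 * Nat.card H := by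
  have := h.card ⊤
  rwa [top_inf_eq, card_top] at this

theorem n4_of (hG : IsPGroup 2 G) {E : Subgroup G} [E.Normal] (hE : ∀ a ∈ E, a * a = 1)
    {w : G} (w1 : w ≠ 1) (wc : ∀ g, g * w = w * g) (ww : w * w = 1) (h : 2 < Nat.card E) :
    ∃ v ∈ E, N4 w v := by
  haveI : Fact (Nat.Prime 2) := ⟨Nat.prime_two⟩
  haveI := CfsgH8.normal_zpowers_of_mem_center (mem_center_iff.mpr wc)
  have ow : orderOf w = 2 := orderOf_eq_prime (by rw [pow_two, ww]) w1
  obtain ⟨v, hv, v1, -, vc⟩ := CfsgH8.exists_central_mod hG (zpowers w) E (fun c => by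
    have := card_le_of_le c
    rw [Nat.card_zpowers, ow] at this
    omega)
  refine ⟨v, hv, ww, hE v hv, w1, fun e => v1 (e ▸ one_mem _), fun e => v1 (e ▸ mem_zpowers _),
    wc, fun g => ?_⟩
  rcases mem_zpowers_order_two ww (vc g) with e | e
  · exact Or.inl (mul_inv_eq_one.mp e)
  · exact Or.inr (by rw [mul_inv_eq_iff_eq_mul.mp e, wc])

theorem sr_two_of_no (hG : IsPGroup 2 G) (h : ¬ ∃ z v : G, N4 z v) : SR 2 (⊤ : Subgroup G) ⊥ := by
  haveI : Fact (Nat.Prime 2) := ⟨Nat.prime_two⟩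
  have hno : ¬ CfsgH8.HasNormalPP 2 G := by
    rintro ⟨z, a, hz, oz, ha, az, hc⟩
    have zz : z * z = 1 := by rw [← pow_two, ← oz, pow_orderOf_eq_one]
    refine h ⟨z, a, zz, by rw [← pow_two, ha], by rintro rfl; simp at oz,
      fun e => az (e ▸ one_mem _), fun e => az (e ▸ mem_zpowers _), mem_center_iff.mp hz,
      fun g => ?_⟩
    rcases mem_zpowers_order_two zz (hc g) with e | e
    · exact Or.inl (mul_inv_eq_one.mp e)
    · exact Or.inr (by rw [mul_inv_eq_iff_eq_mul.mp e, mem_center_iff.mp hz])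
  rcases CfsgH8.structure_of_not_hasNormalPP hG hno with hc | ⟨-, n, x, y, -, -, hi, -⟩
  · obtain ⟨x, hx⟩ := hc.exists_generator
    refine sr_two_of_cyc (mem_top x) ?_
    rw [relIndex_eq_one.mpr fun g _ => hx g]; norm_num
  · exact sr_two_of_cyc (mem_top x) (by rw [relIndex_top_right, hi])

theorem sq_case (hG : IsPGroup 2 G) {x s : G} (hs : s * s = x) (xx : x * x = 1) (x1 : x ≠ 1)
    (hc : Nat.card (C1 x) ≤ 4) : (∀ g, g ∈ C1 x) ∧ ∀ y, y * y = 1 → y = 1 ∨ y = x := by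
  haveI : Fact (Nat.Prime 2) := ⟨Nat.prime_two⟩
  have sx : s * x = x * s := by rw [← hs]; group
  have k : ∀ y ∈ C1 x, y * y = 1 → y = 1 ∨ y = x := fun y hy yy => by
    rcases eq_of_four_mem hc (mem_C1.mpr sx) (self_mem_C1 x) (by rintro rfl; simp [x1.symm] at hs)
      x1 (by rintro rfl; exact x1 (hs.symm.trans xx)) (fun e => x1 (by
        have : s = x := by rw [eq_inv_of_mul_eq_one_left e, inv_self xx]
        rw [← hs, this, xx])) hy with e | e | e | e
    · exact Or.inl e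
    · exact absurd (by rw [← hs, ← e, yy]) x1
    · exact Or.inr e
    · refine absurd ?_ x1
      rw [e, mul_assoc, ← mul_assoc x, ← sx, mul_assoc, xx, mul_one, hs] at yy
      exact yy
  obtain ⟨w, -, ow, wc⟩ := exists_central_orderOf_eq_of_normal hG ⊤ (fun e => x1 (by
    rw [← mem_bot, ← e]; exact mem_top x))
  have ww : w * w = 1 := by rw [← pow_two, ← ow, pow_orderOf_eq_one]
  have : w = x := (k w (mem_C1.mpr (mem_center_iff.mp wc x).symm) ww).resolve_left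
    (by rintro rfl; simp at ow)
  subst this
  exact ⟨fun g => mem_C1.mpr (mem_center_iff.mp wc g),
    fun y => k y (mem_C1.mpr (mem_center_iff.mp wc y))⟩

theorem idx_two {P : Type*} [Group P] [Finite P]
    (h : (∃ n : ℕ, Nonempty (P ≃* DihedralGroup n)) ∨ Cfsg.IsQuasiDihedral P) :
    ∃ r : P, (zpowers r).index = 2 := by
  suffices ∃ r : P, Nat.card P = orderOf r * 2 by
    obtain ⟨r, hr⟩ := this
    have := (zpowers r).card_mul_index
    rw [Nat.card_zpowers, hr] at this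
    exact ⟨r, Nat.eq_of_mul_eq_mul_left (orderOf_pos r) this⟩
  rcases h with ⟨n, ⟨e⟩⟩ | ⟨n, -, h, r, -, hr, -⟩
  · refine ⟨e.symm (DihedralGroup.r 1), ?_⟩
    rw [MulEquiv.orderOf_eq, DihedralGroup.orderOf_r_one, Nat.card_congr e.toEquiv,
      DihedralGroup.nat_card, mul_comm]
  · exact ⟨r, by rw [h, hr, pow_succ]⟩

theorem mc0 (hG : IsPGroup 2 G) {x : G} (xx : x * x = 1) (x1 : x ≠ 1)
    (hc : Nat.card (C1 x) ≤ 4) : SR 2 (⊤ : Subgroup G) ⊥ := by
  by_cases h : ∃ s, s * s = x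
  · obtain ⟨s, hs⟩ := h
    refine sr_of_rel ?_
    rw [relIndex_bot_left, ← eq_top_iff.mpr fun g _ => (sq_case hG hs xx x1 hc).1 g]
    exact hc
  · push Not at h
    obtain ⟨r, hr⟩ := idx_two (dihedral_or_quasiDihedral hG x xx x1 h hc)
    exact sr_two_of_cyc (mem_top r) (by rw [relIndex_top_right, hr])

theorem mc_d (hG : IsPGroup 2 G) {x y : G} (xx : x * x = 1) (x1 : x ≠ 1)
    (hc : Nat.card (C1 x) ≤ 4) (yy : y * y = 1) (y1 : y ≠ 1) (yx : y ≠ x) :
    (∃ n : ℕ, Nonempty (G ≃* DihedralGroup n)) ∨ Cfsg.IsQuasiDihedral G :=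
  dihedral_or_quasiDihedral hG x xx x1
    (fun _ hs => ((sq_case hG hs xx x1 hc).2 y yy).elim y1 yx) hc

theorem card_C1_sub {H : Subgroup G} {x : G} (hx : x ∈ H) :
    Nat.card (C1 (⟨x, hx⟩ : H)) = Nat.card ↥(H ⊓ C1 x) := by
  rw [← card_map_of_injective (f := H.subtype) (subtype_injective H)]
  congr 2
  ext g
  constructor
  · rintro ⟨a, ha, rfl⟩
    exact ⟨a.2, mem_C1.mpr (congrArg Subtype.val (mem_C1.mp ha))⟩
  · rintro ⟨h1, h2⟩
    exact ⟨⟨g, h1⟩, mem_C1.mpr (Subtype.ext (mem_C1.mp h2)), rfl⟩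

theorem mc_sub {H : Subgroup G} (hH : IsPGroup 2 H) {x : G} (hx : x ∈ H) (xx : x * x = 1)
    (x1 : x ≠ 1) (hc : Nat.card ↥(H ⊓ C1 x) ≤ 4) : SR 2 H ⊥ :=
  (mc0 hH (x := ⟨x, hx⟩) (Subtype.ext xx) (fun e => x1 (congrArg Subtype.val e))
    (by rw [card_C1_sub]; exact hc)).sub

theorem two_mem {Y : Subgroup G} (h : Nat.card Y ≤ 2) : ∃ z, ∀ y ∈ Y, y = 1 ∨ y = z := by
  by_cases c : ∃ z ∈ Y, z ≠ 1
  · obtain ⟨z, hz, z1⟩ := c
    refine ⟨z, fun y hy => ?_⟩
    by_contra e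
    push Not at e
    have h3 : ({1, z, y} : Set G) ⊆ Y := by
      rintro a (rfl | rfl | rfl)
      exacts [one_mem _, hz, hy]
    have := Set.ncard_le_ncard h3 (Set.toFinite _)
    rw [Set.ncard_insert_of_notMem (by simp [z1.symm, e.1.symm]), Set.ncard_pair e.2.symm] at this
    change 3 ≤ Nat.card Y at this
    omega
  · push Not at c
    exact ⟨1, fun y hy => Or.inl (c y hy)⟩

theorem three_le {Y : Subgroup G} {a b : G} (ha : a ∈ Y) (hb : b ∈ Y) (a1 : a ≠ 1) (b1 : b ≠ 1)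
    (ab : a ≠ b) : 2 < Nat.card Y := by
  by_contra c
  obtain ⟨z, hz⟩ := two_mem (not_lt.mp c)
  exact ab (((hz a ha).resolve_left a1).trans ((hz b hb).resolve_left b1).symm)

theorem card_range_mul {X : Subgroup G} {H : Type*} [Group H] (f : X →* H) :
    Nat.card f.ker * Nat.card f.range = Nat.card X := by
  rw [← index_ker, card_mul_index]

/-- an involutory automorphism of an elementary abelian group. -/
theorem cmh_range_le {X : Subgroup G} (hX : ∀ a ∈ X, a * a = 1) {g : G}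
    (hg : ∀ a ∈ X, g * a * g⁻¹ ∈ X) (h2 : ∀ a ∈ X, g * g * a = a * (g * g)) :
    (cmh (ab_of_sq hX) hg).range ≤ X ⊓ C1 g := by
  rintro _ ⟨a, rfl⟩
  refine ⟨X.mul_mem (hg _ a.2) (X.inv_mem a.2), mem_C1_iff_conj'.mpr ?_⟩
  change g * (g * a * g⁻¹ * (a : G)⁻¹) * g⁻¹ = g * a * g⁻¹ * (a : G)⁻¹
  rw [inv_self (hX _ a.2)]
  calc _ = g * g * a * (g * g)⁻¹ * (g * a * g⁻¹) := by group
    _ = _ := by rw [h2 _ a.2, mul_inv_cancel_right, comm_of_sq hX (hg _ a.2) a.2]

theorem card_cmh_ker {X : Subgroup G} (hX : Ab X) {g : G} (hg : ∀ a ∈ X, g * a * g⁻¹ ∈ X) :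
    Nat.card (cmh hX hg).ker = Nat.card ↥(X ⊓ C1 g) := by
  rw [← card_map_of_injective (f := X.subtype) (subtype_injective X)]
  congr 2
  ext a
  constructor
  · rintro ⟨a, ha, rfl⟩
    exact ⟨a.2, mem_C1_iff_conj'.mpr (mul_inv_eq_one.mp ha)⟩
  · rintro ⟨h1, h2⟩
    exact ⟨⟨a, h1⟩, mul_inv_eq_one.mpr (mem_C1_iff_conj'.mp h2), rfl⟩

theorem card_le_sq {X : Subgroup G} (hX : ∀ a ∈ X, a * a = 1) {g : G}
    (hg : ∀ a ∈ X, g * a * g⁻¹ ∈ X) (h2 : ∀ a ∈ X, g * g * a = a * (g * g)) :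
    Nat.card X ≤ Nat.card ↥(X ⊓ C1 g) * Nat.card ↥(X ⊓ C1 g) := by
  rw [← card_range_mul (cmh (ab_of_sq hX) hg), card_cmh_ker]
  exact Nat.mul_le_mul_left _ (card_le_of_le (cmh_range_le hX hg h2))

theorem q16 (hG : IsPGroup 2 G) (hc : Nat.card G ≤ 16) (h : ¬ SR 2 (⊤ : Subgroup G) ⊥) :
    ∃ z : G, ∀ a b : G, a * b * a⁻¹ * b⁻¹ = 1 ∨ a * b * a⁻¹ * b⁻¹ = z := by
  rcases big2 hG (by rw [relIndex_bot_left, card_top]; exact hc) h with
    ⟨Y, -, -, h1, h2, -⟩ | ⟨X, -, -, h1, h2, h3⟩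
  · rw [relIndex_bot_left] at h1
    obtain ⟨z, hz⟩ := two_mem h1
    exact ⟨z, fun a b => hz _ (comm_mem h2 (mem_top a) (mem_top b))⟩
  rw [relIndex_top_right] at h1
  rw [relIndex_bot_left] at h3
  have hX : ∀ a ∈ X, a * a = 1 := fun a ha => mem_bot.mp (h2 a ha)
  haveI := normal_of_index_eq_two h1
  have i2 := i2_of_index h1.le
  obtain ⟨q, hq⟩ : ∃ q, q ∉ X := by
    by_contra e; push Not at e
    rw [show X = ⊤ from eq_top_iff.mpr fun x _ => e x, index_top] at h1; omega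
  have hg : ∀ a ∈ X, q * a * q⁻¹ ∈ X := fun a ha => Normal.conj_mem inferInstance a ha q
  have hr := cmh_range_le hX hg fun a ha => comm_of_sq hX (i2 q q hq hq) ha
  have e1 := card_range_mul (cmh (ab_of_sq hX) hg)
  have e2 := card_le_of_le hr
  rw [card_cmh_ker, h3] at e1
  obtain ⟨z, hz⟩ := two_mem (Y := (cmh (ab_of_sq hX) hg).range)
    (pow_down (k := 1) (pow_card hG _) (by
      generalize Nat.card (cmh (ab_of_sq hX) hg).range = r at *
      norm_num only at e1 ⊢; nlinarith))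
  have k : ∀ g, g ∉ X → ∀ b ∈ X, g * b * g⁻¹ * b⁻¹ ∈ (cmh (ab_of_sq hX) hg).range := by
    intro g hg' b hb
    refine ⟨⟨b, hb⟩, ?_⟩
    have := comm_of_sq hX (i2 _ _ (fun c => hq (inv_mem_iff.mp c)) hg') hb
    change q * b * q⁻¹ * b⁻¹ = _
    calc _ = q * (b * (q⁻¹ * g)) * g⁻¹ * b⁻¹ := by group
      _ = _ := by rw [← this]; group
  have k2 : ∀ y ∈ (cmh (ab_of_sq hX) hg).range, ∀ g, g * y * g⁻¹ = y := by
    intro y hy g
    by_cases c : g ∈ X
    · rw [comm_of_sq hX c (hr hy).1, mul_inv_cancel_right]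
    · have := comm_of_sq hX (i2 _ _ (fun c => hq (inv_mem_iff.mp c)) c) (hr hy).1
      calc _ = q * (q⁻¹ * g * y) * g⁻¹ := by group
        _ = q * y * q⁻¹ := by rw [this]; group
        _ = y := mem_C1_iff_conj'.mp (hr hy).2
  refine ⟨z, fun a b => hz _ ?_⟩
  by_cases ha : a ∈ X <;> by_cases hb : b ∈ X
  · rw [comm_of_sq hX ha hb]; simp
  · have := inv_mem (k b hb a ha)
    simpa [mul_assoc] using this
  · exact k a ha b hb
  · have := k a ha _ (i2 _ _ (fun c => ha (inv_mem_iff.mp c)) hb)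
    rw [← k2 _ this a] at this
    simpa [mul_assoc] using this

theorem q8 (hG : IsPGroup 2 G) (hc : Nat.card G ≤ 8) (h : ¬ SR 2 (⊤ : Subgroup G) ⊥) (a b : G) :
    a * b = b * a :=
  comm_of_sq (X := ⊤) (fun x hx => mem_bot.mp ((sq_of_not_sr hG
    (by rw [relIndex_bot_left, card_top]; exact hc) h).1 x hx)) (mem_top a) (mem_top b)

theorem rel_C1 (H : Subgroup G) (x : G) :
    (C1 x).relIndex H = {y | ∃ g ∈ H, g * x * g⁻¹ = y}.ncard := by
  let act : MulAction G G :=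
    { smul := fun g y => g * y * g⁻¹
      one_smul := fun y => by change 1 * y * 1⁻¹ = y; simp
      mul_smul := fun a b y => by change a * b * y * (a * b)⁻¹ = a * (b * y * b⁻¹) * a⁻¹; group }
  have h1 : C1 x = @MulAction.stabilizer G G _ act x := by
    ext g
    exact mem_C1_iff_conj
  let act' : MulAction H G := @Subgroup.instMulAction G G _ act H
  have h2 := @MulAction.index_stabilizer H G _ act' x
  rw [h1]
  refine Eq.trans h2 ?_
  congr 1
  ext y
  exact ⟨fun ⟨g, e⟩ => ⟨g, g.2, e⟩, fun ⟨g, hg, e⟩ => ⟨⟨g, hg⟩, e⟩⟩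

theorem card_le_cls (D : Subgroup G) (x : G) {s : Set G} (hs : ∀ d ∈ D, d * x * d⁻¹ ∈ s) :
    Nat.card D ≤ Nat.card ↥(D ⊓ C1 x) * s.ncard := by
  rw [← card_inf_mul_relIndex (C1 x) D, inf_comm, rel_C1]
  exact Nat.mul_le_mul_left _ (Set.ncard_le_ncard (by rintro _ ⟨g, hg, rfl⟩; exact hs g hg)
    (Set.toFinite _))

theorem cls_onto (D : Subgroup G) (x : G) {s : Set G} (hs : ∀ d ∈ D, d * x * d⁻¹ ∈ s)
    (h : Nat.card ↥(D ⊓ C1 x) * s.ncard ≤ Nat.card D) : ∀ y ∈ s, ∃ d ∈ D, d * x * d⁻¹ = y := by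
  rw [← card_inf_mul_relIndex (C1 x) D, inf_comm, rel_C1] at h
  have := Set.eq_of_subset_of_ncard_le (s := {y | ∃ g ∈ D, g * x * g⁻¹ = y}) (t := s)
    (by rintro _ ⟨g, hg, rfl⟩; exact hs g hg) (Nat.le_of_mul_le_mul_left h (card_pos _))
  intro y hy
  rwa [← this] at hy

theorem ncard_coset (x : G) (A : Subgroup G) : ((fun a => x * a) '' (A : Set G)).ncard = Nat.card A :=
  Set.ncard_image_of_injective _ (mul_right_injective x)

theorem card_map_mk (A D : Subgroup G) [A.Normal] (h : A ≤ D) :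
    Nat.card A * Nat.card (D.map (QuotientGroup.mk' A)) = Nat.card D := by
  rw [← card_mul_relIndex h, ← relIndex_ker, QuotientGroup.ker_mk']

/-- the centralizer of an involution modulo a normal abelian subgroup. -/
theorem lcent {A D : Subgroup G} [hn : A.Normal] (hA : Ab A) (hD : A ≤ D) {x : G} (xx : x * x = 1) :
    Nat.card ↥(D.map (QuotientGroup.mk' A) ⊓ C1 (QuotientGroup.mk' A x)) *
      Nat.card (nuh hA (fun a ha => hn.conj_mem a ha x)).range ≤ Nat.card ↥(D ⊓ C1 x) := by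
  set ν := nuh hA (fun a ha => hn.conj_mem a ha x)
  set π := QuotientGroup.mk' A
  have e1 : (D ⊓ (C1 (π x)).comap π).map π = D.map π ⊓ C1 (π x) := by
    rw [inf_comm, map_inf_eq_of_comap', inf_comm]
  have e2 := card_map_mk A (D ⊓ (C1 (π x)).comap π) (le_inf hD fun a ha => by
    rw [mem_comap, show π a = 1 from (QuotientGroup.eq_one_iff a).mpr ha]; exact one_mem _)
  have e3 := card_range_mul ν
  have e4 := card_le_cls (D ⊓ (C1 (π x)).comap π) x
    (s := (fun a => x * a) '' (ν.ker.map A.subtype : Set G)) fun d hd => by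
      have m : x⁻¹ * (d * x * d⁻¹) ∈ A := by
        rw [← QuotientGroup.eq_one_iff]
        change π _ = 1
        simp only [map_mul, map_inv]
        rw [mem_C1_iff_conj.mp hd.2, inv_mul_cancel]
      refine ⟨_, ⟨⟨_, m⟩, ?_, rfl⟩, by simp⟩
      change x⁻¹ * (d * x * d⁻¹) * (x * (x⁻¹ * (d * x * d⁻¹)) * x⁻¹) = 1
      calc _ = x⁻¹ * (d * (x * x) * d⁻¹) * x⁻¹ := by group
        _ = 1 := by simp [xx, inv_self xx]
  rw [ncard_coset, card_map_of_injective (subtype_injective A)] at e4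
  have e5 : Nat.card ↥(D ⊓ (C1 (π x)).comap π ⊓ C1 x) ≤ Nat.card ↥(D ⊓ C1 x) :=
    card_le_of_le (inf_le_inf_right _ inf_le_left)
  rw [e1] at e2
  have p := card_pos ν.ker
  refine Nat.le_of_mul_le_mul_left ?_ p
  nlinarith
  where
  map_inf_eq_of_comap' {H : Type u} [Group H] {f : G →* H} {X : Subgroup H} {Y : Subgroup G} :
      (X.comap f ⊓ Y).map f = X ⊓ Y.map f := by
    ext y
    constructor
    · rintro ⟨a, ⟨h1, h2⟩, rfl⟩; exact ⟨h1, a, h2, rfl⟩
    · rintro ⟨h1, a, h2, rfl⟩; exact ⟨a, ⟨h1, h2⟩, rfl⟩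

theorem card_le_two (hG : IsPGroup 2 G) {D : Subgroup G} {x : G} (hx : x ∈ D) (x1 : x ≠ 1)
    (h : Nat.card ↥(D ⊓ C1 x) ≤ 2) : Nat.card D ≤ 2 := by
  haveI : Fact (Nat.Prime 2) := ⟨Nat.prime_two⟩
  obtain ⟨w, -, ow, wc⟩ := exists_central_orderOf_eq_of_normal (hG.to_subgroup D) ⊤ (fun e => x1 (by
    have : (⟨x, hx⟩ : D) ∈ (⊥ : Subgroup D) := e ▸ mem_top _
    exact congrArg Subtype.val (mem_bot.mp this)))
  have c : ∀ d ∈ D, d * w = w * d := fun d hd =>
    congrArg Subtype.val (mem_center_iff.mp wc ⟨d, hd⟩)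
  have w1 : (w : G) ≠ 1 := fun e => by rw [show w = 1 from Subtype.ext e] at ow; simp at ow
  have : (w : G) = x := by
    by_contra e
    have := three_le (Y := D ⊓ C1 x) ⟨w.2, mem_C1.mpr (c x hx).symm⟩ ⟨hx, self_mem_C1 x⟩ w1 x1 e
    omega
  rwa [inf_eq_left.mpr fun d hd => mem_C1.mpr (this ▸ c d hd)] at h

theorem lb {a b : ℕ} {B : Subgroup G} [hn : B.Normal] (hB : Ab B) (h1 : SR b ⊤ B)
    (h2 : SR (a + b) B ⊥) (h3 : ∀ y, y ∉ B → Nat.card ↥(B ⊓ C1 y) ≤ 2 ^ a) :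
    SR (a + b) (⊤ : Subgroup G) ⊥ := by
  intro X Y p q r s
  by_cases c : X ≤ B
  · exact h2 X Y p q c s
  obtain ⟨y, hy, yB⟩ := SetLike.not_le_iff_exists.mp c
  rw [split q (Nrm.of_normal X B), pow_add, mul_comm]
  refine Nat.mul_le_mul ?_ (h1.top_part (Nrm.of_normal _ _) le_top q r s)
  refine (rel_le_cent (hB.mono inf_le_right) (g := y) (fun a ha => ⟨X.mul_mem (X.mul_mem hy ha.1)
    (X.inv_mem hy), hn.conj_mem a ha.2 y⟩) fun a ha => comm_mem s hy ha.1).trans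
    ((card_le_of_le (inf_le_inf_right _ inf_le_right)).trans (h3 y yB))

end CfsgH2.Fx
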