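import Cfsg.Agent.H2.O8Tc2
import Cfsg.Agent.H2.O8A
import Cfsg.Agent.H1.CTTypeD

set_option autoImplicit false
set_option maxRecDepth 100000
set_option linter.style.haveILetI false

/-! A model of `Ω⁺(8,2)`. -/

namespace CfsgH2.O8

open CfsgH3.TC CfsgH9 CfsgH8 Subgroup CfsgH1 CfsgFT CfsgH2.Fx

/-- the group `Ω⁺(8,2)` -/
abbrev Om : Type := ↥(_root_.commutator (Op (ZMod 2) (Fin 4)))

/-- reindexing -/
def e8 : Fin 4 ⊕ Fin 4 ≃ Fin 8 := finSumFinEquiv

/-- the matrices -/
def omHom : Om →* Matrix (Fin 8) (Fin 8) (ZMod 2) where
  toFun g := g.1.1.1.submatrix e8.symm e8.symm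
  map_one' := Matrix.submatrix_one_equiv e8.symm
  map_mul' a b := (Matrix.submatrix_mul_equiv a.1.1.1 b.1.1.1 _ e8.symm _).symm

theorem omHom_inj : Function.Injective omHom := by
  intro a b h
  refine Subtype.ext (Subtype.ext (Units.ext ?_))
  ext i j
  simpa [omHom] using congrFun (congrFun h (e8 i)) (e8 j)

theorem o_ok : MatOK 8 2 4 32 1 1 404399200101416122972727962327899080730729934460329449514903409786895 4294967295 54036308310747557864333126337387690331525992843965596551746872537026127165303 7237005577437574505643276245281800458116601676090275855917632765326956429313 :=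
  ⟨by norm_num, by norm_num, by norm_num, by norm_num, by norm_num, by decide +kernel, by decide +kernel, by decide +kernel,
    by decide +kernel, by norm_num, by decide +kernel⟩

/-- the model -/
noncomputable def oM : Model Om :=
  matModel 8 2 (nat_lit 4) (nat_lit 32) (nat_lit 1) (nat_lit 1) (nat_lit 404399200101416122972727962327899080730729934460329449514903409786895) (nat_lit 4294967295) (nat_lit 54036308310747557864333126337387690331525992843965596551746872537026127165303) (nat_lit 7237005577437574505643276245281800458116601676090275855917632765326956429313) o_ok omHom omHom_inj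

noncomputable def rtT : NT := (.node (.node (.node (.leaf (nat_lit 0x1000000001000000001100000001000000001000000001000000001000000011)) (.leaf (nat_lit 0x1000000001000000001000000011000000001000000001000000001100000001))) (.node (.leaf (nat_lit 0x1100000001000000001000000001000000001000000011000000001000000001)) (.leaf (nat_lit 0x1000000011000000001000000001000000001100000001000000001000000001)))) (.node (.node (.leaf (nat_lit 0x1000000001100000001000000001000000001000000001000000011000000001)) (.leaf (nat_lit 0x1000000001000000011000000001000000001000000001100000001000000001))) (.node (.leaf (nat_lit 0x1000000001000000001000000001000001001000100001000000001000000001)) (.leaf (nat_lit 0x1000010001001000001000000001000000001000000001000000001000000001)))))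

noncomputable def cT : NT := (.node (.node (.node (.node (.node (.leaf (nat_lit 0x1000000001000000001000000001000000001000000001000000001000000001)) (.leaf (nat_lit 0x1000000000100000010000000001000000001000000000100000010000000001))) (.leaf (nat_lit 0x1000000001000000000100000010000000001000000001000000000100000010))) (.node (.leaf (nat_lit 0x1100000001000000001000000001000000001000000011000000001000000001)) (.leaf (nat_lit 0x10000001000001000000001000001000000100000000000001000000001)))) (.node (.node (.leaf (nat_lit 0x1000000001000000001100000001000000001000000001000000001000000011)) (.leaf (nat_lit 0x100000010000000001000000001000000000100000010000000001000000001))) (.node (.leaf (nat_lit 0x1000000001000000001000000001000001001000100001000000001000000001)) (.leaf (nat_lit 0x1000000001000000001000000001000000001000000101000000001001000001))))) (.node (.node (.node (.node (.leaf (nat_lit 0x1000000001000000001000000001000000001000000001000000001000000001)) (.leaf (nat_lit 0x1000000000100000010000000001000000001000000000100000010000000001))) (.leaf (nat_lit 0x1000000001000000000100000010000000001000000001000000000100000010)))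 (.node (.leaf (nat_lit 0x1100000001000000001000000001000000001000000011000000001000000001)) (.leaf (nat_lit 0x10000001000001000000001000001000000100000000000001000000001)))) (.node (.node (.leaf (nat_lit 0x1000000001000000001100000001000000001000000001000000001000000011)) (.leaf (nat_lit 0x100000010000000001000000001000000000100000010000000001000000001))) (.node (.leaf (nat_lit 0x1000000001000000001000000001000001001000100001000000001000000001)) (.leaf (nat_lit 0x1000000001000000001000000001000000001000000101000000001001000001))))))

noncomputable def cTW : NT := (.node (.node (.node (.node (.node (.leaf (nat_lit 0)) (.leaf (nat_lit 218))) (.leaf (nat_lit 127))) (.node (.leaf (nat_lit 3)) (.leaf (nat_lit 400)))) (.node (.node (.leaf (nat_lit 1)) (.leaf (nat_lit 309))) (.node (.leaf (nat_lit 4)) (.leaf (nat_lit 236120396226540634))))) (.node (.node (.node (.node (.leaf (nat_lit 0)) (.leaf (nat_lit 218))) (.leaf (nat_lit 127))) (.node (.leaf (nat_lit 3)) (.leaf (nat_lit 400)))) (.node (.node (.leaf (nat_lit 1)) (.leaf (nat_lit 309))) (.node (.leaf (nat_lit 4)) (.leaf (nat_lit 236120396226540634))))))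


/-- positive root elements -/
def rp (i : Fin 4) : Om := ⟨rt (aD i) (bD i) 1, rt_mem_commutator (by simp) _ _ _⟩

/-- negative root elements -/
def rn (i : Fin 4) : Om := ⟨rt (bD i) (aD i) 1, rt_mem_commutator (by simp) _ _ _⟩

theorem matModel_enc' {G : Type*} [Group G] {n p w wn m s CM RM QM one : ℕ} [NeZero p]
    (ok : MatOK n p w wn m s CM RM QM one) (f : G →* Matrix (Fin n) (Fin n) (ZMod p))
    (hf : Function.Injective f) (g : G) :
    (matModel n p w wn m s CM RM QM one ok f hf).enc g = encMat n p w (f g) := rfl

theorem oM_enc (g : Om) : oM.enc g = encMat 8 2 4 (omHom g) := by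
  unfold oM
  exact matModel_enc' o_ok omHom omHom_inj g

theorem enc_rt {a b : Fin 4 ⊕ Fin 4} (h : a ≠ b) (hm) :
    omHom ⟨rt a b 1, hm⟩ = (rtM a b 1).submatrix e8.symm e8.symm := by
  rw [← coe_rt h]; rfl

theorem enc_r0 : ∀ i : Fin 4,
    encMat 8 2 4 ((rtM (aD i) (bD i) 1).submatrix e8.symm e8.symm) = rtT.get i ∧
    encMat 8 2 4 ((rtM (bD i) (aD i) 1).submatrix e8.symm e8.symm) = rtT.get (4 + i) := by
  decide +kernel

theorem enc_r (i : Fin 4) : oM.enc (rp i) = rtT.get i ∧ oM.enc (rn i) = rtT.get (4 + i) := by
  have h : aD i ≠ bD i := by revert i; decide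
  rw [oM_enc, oM_enc, rp, rn, enc_rt h, enc_rt h.symm]
  exact enc_r0 i

theorem exists_vH : ∃ val : ℕ → Om, Sat val ((relS ++ relC) ++ relR) ∧
    ∀ l, l ≤ 2 * 8 + 1 → oM.enc (sval val l) = cT.get l := by
  refine exists_sat_of_chk (Model.mem_of_subCheck (r := 8) (s := rtT) (ws := cTW) (fuel := 20)
    (by norm_num) (fun a ha => ?_) (by decide +kernel)) (by decide +kernel) (by decide +kernel)
    (by decide +kernel)
  by_cases h : a < 4
  · exact ⟨_, mem_top _, (enc_r ⟨a, h⟩).1⟩
  · exact ⟨_, mem_top _, (enc_r ⟨a - 4, by omega⟩).2.trans (congrArg _ (by simp; omega))⟩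

/-- the generators in the model -/
noncomputable def vH : ℕ → Om := exists_vH.choose

theorem vH_sat : Sat vH ((relS ++ relC) ++ relR) := exists_vH.choose_spec.1

theorem vH_enc : ∀ l, l ≤ 2 * 8 + 1 → oM.enc (sval vH l) = cT.get l := exists_vH.choose_spec.2

/-- words of the extended alphabet -/
def exW : List (List ℕ) := [[], [2], [4], [6], [8], [10], [12], [14], [14, 8, 10, 12, 14, 12, 10, 8, 14, 8, 10, 12, 14, 12, 10, 8], [8, 14, 8], [10, 14, 10], [12, 14, 12], [10, 12, 14, 12, 10], [8, 12, 14, 12, 8], [8, 10, 14, 10, 8], [8, 10, 12, 14, 12, 10, 8], [16]]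

/-- the extended alphabet -/
def ext {G : Type*} [Group G] (v : ℕ → G) (a : ℕ) : G := wval v (exW.getD a [])

noncomputable def cE : NT := (.node (.node (.node (.node (.node (.leaf (nat_lit 0x1000000001000000001000000001000000001000000001000000001000000001)) (.leaf (nat_lit 0x1000000000100000010000000001000000001000000000100000010000000001))) (.leaf (nat_lit 0x1000000001000000001000000001000000001000000001000001001000100001))) (.node (.leaf (nat_lit 0x1000000001000000000100000010000000001000000001000000000100000010)) (.leaf (nat_lit 0x1000000001010000001000000001000000001000000001000000001000000101)))) (.node (.node (.leaf (nat_lit 0x1100000001000000001000000001000000001000000011000000001000000001)) (.leaf (nat_lit 0x1000000001000000001000000001000000011000000001000000001010000001))) (.node (.leaf (nat_lit 0x10000001000001000000001000001000000100000000000001000000001)) (.leaf (nat_lit 0x1000000001000000001000000001000000101000000001001000001000000001))))) (.node (.node (.node (.leaf (nat_lit 0x1000000001000000001100000001000000001000000001000000001000000011)) (.leaf (nat_lit 0x1000000001000000001000000001000000001000001001000100001000000001)))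 (.node (.leaf (nat_lit 0x100000010000000001000000001000000000100000010000000001000000001)) (.leaf (nat_lit 0x1010000001000000001000000001000000001000000001000000101000000001)))) (.node (.node (.leaf (nat_lit 0x1000000001000000001000000001000001001000100001000000001000000001)) (.leaf (nat_lit 0x1001000001000000001000000001000000001000000001000000001000001001))) (.node (.leaf (nat_lit 0x1000000001000000001000000001000000001000000101000000001001000001)) (.leaf (nat_lit 0x1000000001100000001000000001000000001000000001000000011000000001))))))


theorem enc_ext (a : ℕ) (ha : a < 17) : oM.enc (ext vH a) = cE.get a := by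
  have h : allLt 17 (fun a => band (allL (exW.getD a []) fun l => Nat.ble l 17)
      (Nat.beq (wcode oM cT (exW.getD a [])) (cE.get a))) = true := by decide +kernel
  obtain ⟨h1, h2⟩ := band_iff.1 (allLt_iff.1 h a ha)
  rw [ext, enc_wval vH_enc _ fun l hl => Nat.le_of_ble_eq_true (allL_iff.1 h1 l hl)]
  exact Nat.eq_of_beq_eq_true h2

theorem wval_mem_Gen {G : Type*} [Group G] {v : ℕ → G} (h0 : v 0 = 1) {n : ℕ} {w : List ℕ}
    (hw : ∀ l ∈ w, l ≤ 2 * n + 1) : wval v w ∈ Gen n v := by
  induction w with
  | nil => exact one_mem _
  | cons l w ih =>
    rw [wval_cons]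
    refine mul_mem ?_ (ih fun l hl => hw l (by simp [hl]))
    have : v (l / 2) ∈ Gen n v := by
      rcases Nat.eq_zero_or_pos (l / 2) with e | e
      · rw [e, h0]; exact one_mem _
      · exact mem_Gen v e (by have := hw l (by simp); omega)
    unfold sval
    split_ifs
    exacts [this, inv_mem this]

theorem ext_mem7 {G : Type*} [Group G] {v : ℕ → G} (h0 : v 0 = 1) {a : ℕ} (ha : a < 16) :
    ext v a ∈ Gen 7 v :=
  wval_mem_Gen h0 ((by decide : ∀ a < 16, ∀ l ∈ exW.getD a [], l ≤ 2 * 7 + 1) a ha)

theorem ext_mem8 {G : Type*} [Group G] {v : ℕ → G} (h0 : v 0 = 1) {a : ℕ} (ha : a < 17) :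
    ext v a ∈ Gen 8 v :=
  wval_mem_Gen h0 ((by decide : ∀ a < 17, ∀ l ∈ exW.getD a [], l ≤ 2 * 8 + 1) a ha)

noncomputable def rtW : NT := (.node (.node (.node (.leaf (nat_lit 2)) (.leaf (nat_lit 740))) (.node (.leaf (nat_lit 3)) (.leaf (nat_lit 1083)))) (.node (.node (.leaf (nat_lit 16)) (.leaf (nat_lit 5506))) (.node (.leaf (nat_lit 4)) (.leaf (nat_lit 1426)))))


theorem gen_top : Gen 8 vH = ⊤ := by
  have h := Model.mem_of_subCheck (M := oM) (r := 17) (s := cE) (K := Gen 8 vH) (r' := 8) (s' := rtT)
    (ws := rtW) (fuel := 4) (by norm_num)
    (fun a ha => ⟨_, ext_mem8 vH_sat.1 ha, enc_ext a ha⟩) (by decide +kernel)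
  have h1 : _root_.commutator (Op (ZMod 2) (Fin 4)) ≤ (Gen 8 vH).map (Subgroup.subtype _) := by
    conv_lhs => rw [← ctG_D (le_refl 4)]
    rw [ctG, closure_le]
    rintro _ ⟨i, t, rfl | rfl⟩ <;> rcases (by decide : ∀ t : ZMod 2, t = 0 ∨ t = 1) t with rfl | rfl
    · refine ⟨1, one_mem _, Subtype.ext (Units.ext ?_)⟩
      rw [coe_rt (by revert i; decide)]; simp [rtM]
    · exact ⟨rp i, Model.mem_of_Mem ((enc_r i).1 ▸ h i (by omega)), rfl⟩
    · refine ⟨1, one_mem _, Subtype.ext (Units.ext ?_)⟩
      rw [coe_rt (by revert i; decide)]; simp [rtM]
    · exact ⟨rn i, Model.mem_of_Mem ((enc_r i).2 ▸ h (4 + i) (by omega)), rfl⟩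
  refine eq_top_iff.2 fun g _ => ?_
  obtain ⟨k, hk, e⟩ := h1 g.2
  exact (Subtype.ext e : k = g) ▸ hk

/-- left-associated products -/
def ev {G : Type*} [Group G] (v : ℕ → G) : List ℕ → G
  | [] => 1
  | a :: l => l.foldl (fun acc b => acc * v b) (v a)

/-- their codes -/
noncomputable def evC (w : List ℕ) : ℕ :=
  List.rec (motive := fun _ => ℕ) oM.one (fun a _ ih => oM.mul (cE.get a) ih) w

theorem ev_cons {G : Type*} [Group G] (v : ℕ → G) (a : ℕ) (l : List ℕ) :
    ev v (a :: l) = v a * ev v l := by
  have k : ∀ (l : List ℕ) (x y : G), l.foldl (fun acc b => acc * v b) (x * y) =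
      x * l.foldl (fun acc b => acc * v b) y := fun l => by
    induction l with
    | nil => intro x y; rfl
    | cons b l ih => intro x y; rw [List.foldl_cons, List.foldl_cons, mul_assoc, ih]
  cases l with
  | nil => simp [ev]
  | cons b l => exact k l _ _

theorem enc_ev {w : List ℕ} (hw : ∀ a ∈ w, a < 17) : oM.enc (ev (ext vH) w) = evC w := by
  induction w with
  | nil => exact oM.enc_one
  | cons a w ih =>
    rw [ev_cons, oM.enc_mul, enc_ext a (hw a (by simp)), ih fun b hb => hw b (by simp [hb])]
    rfl

/-- check of a tree of conjugates -/
noncomputable def orbF (r : ℕ) (t P : NT) (j : ℕ) : Bool :=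
  bor (Nat.beq j 0) (band (Nat.blt (Nat.div (P.get j) r) j)
    (frcA (cT.get (Nat.mul 2 (Nat.succ (Nat.mod (P.get j) r)))) fun g =>
      Nat.beq (t.get j) (oM.mul (oM.mul g (t.get (Nat.div (P.get j) r))) g)))

theorem vH_ext (a : ℕ) (h1 : 1 ≤ a) (h2 : a ≤ 7) : ext vH a = vH a := by
  interval_cases a <;> simp [ext, exW, sval]

theorem enc_vH (a : ℕ) (ha : a ≤ 8) : oM.enc (vH a) = cT.get (2 * a) := by
  rw [← vH_enc _ (by omega)]; simp [sval]

theorem vH_inv (a : ℕ) (ha : a ≤ 8) : (vH a)⁻¹ = vH a := by
  have h : allLt 9 (fun a => Nat.beq (oM.mul (cT.get (2 * a)) (cT.get (2 * a))) oM.one) = true := by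
    decide +kernel
  refine inv_self (oM.enc_inj ?_)
  rw [oM.enc_mul, enc_vH a ha, oM.enc_one]
  exact Nat.eq_of_beq_eq_true (allLt_iff.1 h a (by omega))

theorem orb_mem {r k : ℕ} {t P : NT} (hr : 0 < r) (hr' : r ≤ 8) {y : Om} (hy : oM.enc y = t.get 0)
    (h : allLt k (orbF r t P) = true) :
    ∀ j, j < k → ∃ g ∈ Gen r vH, oM.enc (g * y * g⁻¹) = t.get j := by
  intro j
  induction j using Nat.strong_induction_on with
  | _ j ih =>
  intro hj
  rcases bor_iff.1 (allLt_iff.1 h j hj) with h1 | h1
  · exact ⟨1, one_mem _, by rw [Nat.eq_of_beq_eq_true h1]; simpa using hy⟩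
  obtain ⟨h2, h3⟩ := band_iff.1 h1
  have h4 : P.get j / r < j := Nat.blt_eq.mp h2
  have h5 : P.get j % r < r := Nat.mod_lt _ hr
  obtain ⟨g, hg, e⟩ := ih _ h4 (h4.trans hj)
  rw [frcA_eq'] at h3
  refine ⟨vH (P.get j % r + 1) * g, mul_mem (mem_Gen vH (by omega) (by omega)) hg, ?_⟩
  rw [Nat.eq_of_beq_eq_true h3, show ∀ a : Om, a * g * y * (a * g)⁻¹ = a * (g * y * g⁻¹) * a⁻¹ by
    intro a; group, vH_inv _ (by omega), oM.enc_mul, oM.enc_mul, e, enc_vH _ (by omega)]
  rfl

instance : Finite Om := Finite.of_injective _ omHom_inj

theorem orb_le {k p : ℕ} {t I : NT} {K : Subgroup Om} {y : Om}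
    (h : ∀ j, j < k → ∃ g ∈ K, oM.enc (g * y * g⁻¹) = t.get j)
    (hI : allLt k (fun j => Nat.beq (I.get (Nat.mod (t.get j) p)) j) = true) :
    k ≤ (C1 y).relIndex K := by
  rw [rel_C1]
  choose! g hg eg using h
  have := Set.ncard_le_ncard_of_injOn (s := Set.Iio k) (t := {x | ∃ g ∈ K, g * y * g⁻¹ = x})
    (fun j => g j * y * (g j)⁻¹) (fun j hj => ⟨_, hg j hj, rfl⟩) fun i hi j hj e => by
      rw [← Nat.eq_of_beq_eq_true (allLt_iff.1 hI i hi), ← eg i hi,
        show g i * y * (g i)⁻¹ = _ from e, eg j hj]
      exact Nat.eq_of_beq_eq_true (allLt_iff.1 hI j hj)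
  simpa using this

theorem orb_card {k m : ℕ} {K L : Subgroup Om} {y : Om} (h : k ≤ (C1 y).relIndex K)
    (h1 : L ≤ K) (h2 : L ≤ C1 y) (h3 : m ≤ Nat.card L) : m * k ≤ Nat.card K := by
  rw [← card_inf_mul_relIndex (C1 y) K]
  exact Nat.mul_le_mul (h3.trans (card_le_of_le (le_inf h2 h1))) h

theorem Gen_mono {G : Type*} [Group G] (v : ℕ → G) {m n : ℕ} (h : m ≤ n) : Gen m v ≤ Gen n v :=
  Gen_le fun _ h1 h2 => mem_Gen v h1 (h2.trans h)

theorem Gen_C1 {r : ℕ} (hr : r ≤ 7) {w : List ℕ} (hw : ∀ a ∈ w, a < 17)
    (h : allLt r (fun a => Nat.beq (oM.mul (cE.get (a + 1)) (evC w))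
      (oM.mul (evC w) (cE.get (a + 1)))) = true) : Gen r vH ≤ C1 (ev (ext vH) w) :=
  Gen_le fun a h1 h2 => mem_C1.2 (oM.enc_inj (by
    rw [oM.enc_mul, oM.enc_mul, enc_ev hw, ← vH_ext a h1 (by omega), enc_ext a (by omega)]
    have := Nat.eq_of_beq_eq_true (allLt_iff.1 h (a - 1) (by omega))
    rwa [show a - 1 + 1 = a by omega] at this))

noncomputable def o7T : NT := (.node (.node (.node (.node (.node (.node (.node (.node (.node (.leaf (nat_lit 0x1000000001000000001000010001001000001000000001000000001000000001)) (.leaf (nat_lit 0x1000000000100001010000011001011001101001100000101000010000000001))) (.node (.leaf (nat_lit 0x1101000000000010011011101000100001000001001000000100000001)) (.leaf (nat_lit 0x1000000001010010010101010000001000001000000101100001000001100110)))) (.node (.node (.leaf (nat_lit 0x1000000101000001001000010111111000001000000001010000001100000001)) (.leaf (nat_lit 0x1000000011100001100000010000011000011110000001000001010010100000))) (.node (.leaf (nat_lit 0x100000101000000111000011110101000110011001111111100001111000000)) (.leaf (nat_lit 0x111001110110011101111010111111001100110100110011001111101101111)))))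 (.node (.node (.node (.leaf (nat_lit 0x1100000101000000011000010101101000001000000011110000001000000001)) (.leaf (nat_lit 0x100000110000001111000011011111001100111101010101100001100000001))) (.node (.leaf (nat_lit 0x100001001000000000010011101001000100001001011011100000000000001)) (.leaf (nat_lit 0x1001001001010010000011010000001000001000000001000001000000101100)))) (.node (.node (.leaf (nat_lit 0x100000101000000111000010000101000010010000111100000001011000000)) (.leaf (nat_lit 0x111011001111011111011011110011000110011001111111100111111001100))) (.node (.leaf (nat_lit 0x1000000010000011100001010111011001101110101000011100000100000001)) (.leaf (nat_lit 0x110011011011011010111011111011001110101100111111001100111100111)))))) (.node (.node (.node (.node (.leaf (nat_lit 0x1000000101000000001000010101101000001000000001010000001000000001)) (.leaf (nat_lit 0x1101001000010010101111010100001001011010100110010000001011001110))) (.node (.leaf (nat_lit 0x111000001101000011100111001010111100001010000001010000000)) (.leaf (nat_lit 0x1000000011100001100000011000011000111111000001001001010010100000)))) (.node (.node (.leaf (nat_lit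 0x1000000011000011001001011001011000001101000001000000001000000001)) (.leaf (nat_lit 0x1000000001000000000000011000001000101001000001001001000000100000))) (.node (.leaf (nat_lit 0x100001101000000101110010100101001010010100111010000001011000010)) (.leaf (nat_lit 0x1110011010111001110110010111011001101110100110111001110101100111))))) (.node (.node (.node (.leaf (nat_lit 0x1100001001000000011010010101001000001000000011110000001000000001)) (.leaf (nat_lit 0x1110000100100001010000010111111000001000000010110000110100000001))) (.node (.leaf (nat_lit 0x100001010000010011111011101001001010101100110110000001011000011)) (.leaf (nat_lit 0x1111010110101010010101011111101001111101100110111001110111101011)))) (.node (.node (.leaf (nat_lit 0x1100000100000001011000010110111000001000001110110100001101000000)) (.leaf (nat_lit 0x1000000011110011011101011111011001011101101101110101011111100111))) (.node (.leaf (nat_lit 0x1000000010010010101001011100001001011111100000010000001010000100)) (.leaf (nat_lit 0x1001001001010010110011010000001000011010000101100001000011101100))))))) (.node (.node (.node (.node (.node (.leaf (nat_lit 0x1000000001000000111000010001001000001010000001100000001000000001))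 (.leaf (nat_lit 0x101011110011001111110010001111000000110000010100000001000001111))) (.node (.leaf (nat_lit 0x11101011010101111010000101000010010000001000000001010000110)) (.leaf (nat_lit 0x1101011110111001110110011011111001011111101010100101010110101111)))) (.node (.node (.leaf (nat_lit 0x1000010101001011001001010001111000001000000001000000001000000001)) (.leaf (nat_lit 0x1111001100110011010111010001111000001000000010100000110000001111))) (.node (.leaf (nat_lit 0x1111000011000011011011111000100101000001001000000100000001)) (.leaf (nat_lit 0x1101011110101010100111011111101001011111101110010101010111101011))))) (.node (.node (.node (.leaf (nat_lit 0x1000001101000011001011010001111000001000000001000000001000000001)) (.leaf (nat_lit 0x1111000011110011010111111001100110100001111000000100000001))) (.node (.leaf (nat_lit 0x1100001001000000101110010101001001001010100111010000001001000011)) (.leaf (nat_lit 0x1110011111101010111011011011101001101111101011101100111100000001)))) (.node (.node (.leaf (nat_lit 0x1000000010000001111000011000011001011111100100100000001011000000)) (.leaf (nat_lit 0x111001110110011110011010000111000010110000110100001110011101100)))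 (.node (.leaf (nat_lit 0x1011000010110011011001001001100111100001101000000000000001)) (.leaf (nat_lit 0x1011011101011010000011010000101000001000000001000001100000101100)))))) (.node (.node (.node (.node (.leaf (nat_lit 0x1000001101000000011010010101101000001000000001110000001000000001)) (.leaf (nat_lit 0x110000110100001110000010000111000010110000110100001110011100000))) (.node (.leaf (nat_lit 0x10111011011101001010000111000010110000001000000001010000100)) (.leaf (nat_lit 0x1010010101011010000001010000101000001000000001000001100000100100)))) (.node (.node (.leaf (nat_lit 0x11100001001011010011101111001000001100000110000001000000001)) (.leaf (nat_lit 0x1010010110101010000001011111101000101101001000011100110100000001))) (.node (.leaf (nat_lit 0x1000000000010010111101010100001001011010100000110000001010000110)) (.leaf (nat_lit 0x1111010101011010010101010000101000001000000111100001100001101110))))) (.node (.node (.node (.leaf (nat_lit 0x1000010101001010001001010001101000001000000001000000001000000001)) (.leaf (nat_lit 0x1000011111111001100110011010111000001111000001000000010100000110))) (.node (.leaf (nat_lit 0x1100000100000001011000011010111001001001101110100100001101000000))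 (.leaf (nat_lit 0x1010000101100001000000011010111000101001000001001001110100100000)))) (.node (.node (.leaf (nat_lit 0x1100001100000011000011010111111000001000001010010100000100000001)) (.leaf (nat_lit 0x1000011110101010110011011111101000001111000000110000010100000001))) (.node (.leaf (nat_lit 0x1000011000101001010010010001011000001000000000100000010000000001)) (.leaf (nat_lit 0x1000000001000000100000011100001001111011101001011101000010100000)))))))) (.node (.node (.node (.node (.node (.node (.leaf (nat_lit 0x1000001001000000001010010001001000001000000001000000001000000001)) (.leaf (nat_lit 0x11010011001111110011001011001010111100000100000001010000111))) (.node (.leaf (nat_lit 0x1001001000000111110011000001001000011100101100000001001001010)) (.leaf (nat_lit 0x1101010110101011011101011010111001011101101110100101011111101010)))) (.node (.node (.leaf (nat_lit 0x1000000101000000001000011011101000001001000001000000001100000001)) (.leaf (nat_lit 0x110011010101011001011011111011000000101000010010000111100000001))) (.node (.leaf (nat_lit 0x111001101000000011010011010101001000001101111100100101101001000)) (.leaf (nat_lit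 0x1011001101110011101111011011111000111011000001001001111110101111))))) (.node (.node (.node (.leaf (nat_lit 0x1000001001000010011111010001001000001000000001100000001000000011)) (.leaf (nat_lit 0x1000000000110011101001011110011001111011100000011000011110000100))) (.node (.leaf (nat_lit 0x1000000000010010101001010100001001011010100000010000001010000100)) (.leaf (nat_lit 0x1001001001000000000010010000001000001000000001000001000000101000)))) (.node (.node (.leaf (nat_lit 0x1101010101001010011101010001101000001000000011100000001000001011)) (.leaf (nat_lit 0x10110101011101001010111111001100110100000011000011100000001))) (.node (.leaf (nat_lit 0x1000000010000001111000011110011000111111001100111100001111000000)) (.leaf (nat_lit 0x1000000011010010100001011000001000111111000001001001000010100100)))))) (.node (.node (.node (.node (.leaf (nat_lit 0x1000000001000010011101010001001000001000000001100000001000000011)) (.leaf (nat_lit 0x1000000011000011110101010110011001111110100001111000000110000010))) (.node (.leaf (nat_lit 0x110000101000000110000010001101000000010000011100000100000000001)) (.leaf (nat_lit 0x1111010111101011010101011100111001111101101011111101110010101010))))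 (.node (.node (.leaf (nat_lit 0x1100000100000001011000011100111001001001100110110000001001000000)) (.leaf (nat_lit 0x1000011111111010100111011010101000001111000001000000010100000110))) (.node (.leaf (nat_lit 0x100001101000000010010011011101001100001101011101100000100000001)) (.leaf (nat_lit 0x1010000101000000000000011110101000101001001001011101100100100000))))) (.node (.node (.node (.leaf (nat_lit 0x1000000000000001011000011000011001001001100100100000001001000000)) (.leaf (nat_lit 0x1000000010100001110000010111011001101110100000111000010100000001))) (.node (.leaf (nat_lit 0x1000000010000010010101011101001001111101101100111100000011000011)) (.leaf (nat_lit 0x1110011111111001100110011100111001101111101111011101110001100110)))) (.node (.node (.leaf (nat_lit 0x1100000101000000011000011011101001001001101011100100001100000001)) (.leaf (nat_lit 0x1000000001110011111101011111011000111011001101111101011111100111))) (.node (.leaf (nat_lit 0x101010110011011111101010001111000000110000010100000001000001111)) (.leaf (nat_lit 0x1111010111111010010101011010101001111101101111101100110111001110))))))) (.node (.node (.node (.node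 (.node (.leaf (nat_lit 0x1000001101000000001010010001101000001000000001000000001000000001)) (.leaf (nat_lit 0x1011000101001010010011000011001100001100100101001010001101000))) (.node (.leaf (nat_lit 0x1000000011000010111101011001001001011111100001100000001010000011)) (.leaf (nat_lit 0x111011010011011000011011110011000100101001010011101100100101100)))) (.node (.node (.leaf (nat_lit 0x1001001000000101110011000001000000011000001000000001000001010)) (.leaf (nat_lit 0x1010000101100001000000010000111000001000000001000001110000100000))) (.node (.leaf (nat_lit 0x1110011000001011000011010111011000001000001010010100100100000001)) (.leaf (nat_lit 0x1111011011111001100110010110011001111110101111011100110111001110))))) (.node (.node (.node (.leaf (nat_lit 0x1000000001000000111000010101001001001010100001110000001000000001)) (.leaf (nat_lit 0x100001110000011010111011010111001110101101110101100000111000010))) (.node (.leaf (nat_lit 0x101011101011010111011010000101000010010000111100000001011001100)) (.leaf (nat_lit 0x11011110101010011111011111101001010101101100110101111111101011)))) (.node (.node (.leaf (nat_lit 0x1001011010010001011011000001000000101000001000000001000001100))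 (.leaf (nat_lit 0x110011110111001110110010000111000010110000110100001110011100110))) (.node (.leaf (nat_lit 0x111001101000000110110010001101000000010000011100000100000001011)) (.leaf (nat_lit 0x1011001101110011110011011100111000111011001101111101110011101100)))))) (.node (.node (.node (.node (.leaf (nat_lit 0x1000000001000001001000011001011000001001000001000000001000000001)) (.leaf (nat_lit 0x111000001101000010110111001110110100001011000001110000000))) (.node (.leaf (nat_lit 0x100000101000000111000010100101001010010100111110000001011000000)) (.leaf (nat_lit 0x1000000001110011100001011000011000111011000001001001010010100100)))) (.node (.node (.leaf (nat_lit 0x1011001001001001010011000011000000001000001000000001000001000)) (.leaf (nat_lit 0x10010100011010100001010100101001010010101000010101100010100100))) (.node (.leaf (nat_lit 0x1100001001000000111110010101001001001010100111110000001001000011)) (.leaf (nat_lit 0x11011110011001111110010111111001100110101100111101101101101111))))) (.node (.node (.node (.leaf (nat_lit 0x1000000011000010001001011001001000001101000001000000001000000001)) (.leaf (nat_lit 0x1000011010101011110011010001011000001110000000100000010000000001)))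 (.node (.leaf (nat_lit 0x111001101000000001010011110101000000001000011010000101100001000)) (.leaf (nat_lit 0x101001010010010110011011100001000110111001110111101000011101100)))) (.node (.node (.leaf (nat_lit 0x1101010100001011011101010000111000001000000110100000001001001010)) (.leaf (nat_lit 0x1101011101101001000010010110111000001000001011010101010100101000))) (.node (.leaf (nat_lit 0x100001001000000110110011101001000110011001111111100000011000011)) (.leaf (nat_lit 0x1101001001000000100110010100001001011010101111010101000011101010))))))))) (.node (.node (.node (.node (.node (.node (.node (.leaf (nat_lit 0x1000000001000000001000010101001000001000000001010000001000000001)) (.leaf (nat_lit 0x1101001000010010111011010100001001011010100110110000001011001100))) (.node (.leaf (nat_lit 0x100001101000000111110010000101000010010000111100000001011000010)) (.leaf (nat_lit 0x1111011001101001000010010110011000001000001011010101110100101000)))) (.node (.node (.leaf (nat_lit 0x1000000001000001001000011111011000001001000001010000001100000001)) (.leaf (nat_lit 0x1010010110101011000001011101111000101101001000011100110000000001))) (.node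 (.leaf (nat_lit 0x100000101000000111000011010101001110011101111101100001111000000)) (.leaf (nat_lit 0x1111001101000000101110011111101001111011100111011001101111101011))))) (.node (.node (.node (.leaf (nat_lit 0x1000000011000001101000010001011000001110000001000000001000000001)) (.leaf (nat_lit 0x110011100001001011010011011111001000001101010100100101100000001))) (.node (.leaf (nat_lit 0x10000101000000100000010101101001000010101001010100100000000001)) (.leaf (nat_lit 0x1000000001010010100001010000001000011010000001000001000010100100)))) (.node (.node (.leaf (nat_lit 0x1001001000000011010011000001001000001100101100000001001001000)) (.leaf (nat_lit 0x111011000101001010010011110011001100001100110111001110101101000))) (.node (.leaf (nat_lit 0x100001010000010101111011101001001010111100110010000001011000011)) (.leaf (nat_lit 0x1111011010101011101111010110011001111110100110011001111111101010)))))) (.node (.node (.node (.node (.leaf (nat_lit 0x1000001001000010001011010001001000001000000001000000001000000001)) (.leaf (nat_lit 0x11010011011011111011001011001010101100000100000001010000111))) (.node (.leaf (nat_lit 0x1100001000000010010111010101001000001000001110110100000001000011))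 (.leaf (nat_lit 0x1110000101000000010000010000101000001000000111100001100001100000)))) (.node (.node (.leaf (nat_lit 0x1000000011000010101001011001001000001111000001000000001000000001)) (.leaf (nat_lit 0x10110101010101001011111101001100111100000011000011100000001))) (.node (.leaf (nat_lit 0x100001101000000000010011111101000100001001011011100000100000001)) (.leaf (nat_lit 0x101011111111001100110010111111001100110101111011101010101101111))))) (.node (.node (.node (.leaf (nat_lit 0x1100000100000001011000010000111000001000000110100000001001000000)) (.leaf (nat_lit 0x1000000001100001000000010110011000001000001001010101010100100000))) (.node (.leaf (nat_lit 0x1000000010000010110101011101001000111111001100111100000011000011)) (.leaf (nat_lit 0x11011100011010110011010100101001010010101100110101100011101100)))) (.node (.node (.leaf (nat_lit 0x1000000000000001011000011110011001001001101100110100001101000000)) (.leaf (nat_lit 0x1111001100110011111011011010111001111011101110101100111111001100))) (.node (.leaf (nat_lit 0x11011101011000011011001011000100101000001001000010000000001)) (.leaf (nat_lit 0x1001001001000000010010010000001000001000000101100001000001101000)))))))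 (.node (.node (.node (.node (.node (.leaf (nat_lit 0x1000001001000000011010010001001000001000000001100000001000000001)) (.leaf (nat_lit 0x11001111011100111011001011000110011000001001000010010000111))) (.node (.leaf (nat_lit 0x1000000010000011011101011000011001011101100100100000001011000010)) (.leaf (nat_lit 0x111001110110011011111011011111001010101101010100101111110101111)))) (.node (.node (.leaf (nat_lit 0x1000000000000011000001010111011000001000001000010100000100000001)) (.leaf (nat_lit 0x1000000001110011000001010000011000001000000001000001010000100100))) (.node (.leaf (nat_lit 0x1000000010010010111101011100001000001111000000110000001000000110)) (.leaf (nat_lit 0x1110000101000000010000011110101001101001100111111001100101100000))))) (.node (.node (.node (.leaf (nat_lit 0x1000000001000011101001011001011000001011000001000000001000000001)) (.leaf (nat_lit 0x1000011110011001111110011100111000001111000000110000001000000110))) (.node (.leaf (nat_lit 0x11001101001000010011001011000100001000001001000010000000001)) (.leaf (nat_lit 0x111010110111010110101011110101000000111000010110000110100001110)))) (.node (.node (.leaf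 (nat_lit 0x1000000011000010011101011001001001011101100001100000001010000011)) (.leaf (nat_lit 0x101001010010010000011011100001000100101001010011101000000101100))) (.node (.leaf (nat_lit 0x1000010110011011001001011100111000001101000000010000001000000100)) (.leaf (nat_lit 0x1000000001000000010000011100001001101001101101111101000001100000)))))) (.node (.node (.node (.node (.leaf (nat_lit 0x1000000101000001001000010001111000001000000001000000001000000001)) (.leaf (nat_lit 0x11011111111001100110010001111000000110000001000000110000001111))) (.node (.leaf (nat_lit 0x1001000000010010011001001001100001100001101000000000000001)) (.leaf (nat_lit 0x1111001100110011100111011101111001111011101110011100110011001111)))) (.node (.node (.leaf (nat_lit 0x1000000000000010100001010101001001001010101000010100000000000001)) (.leaf (nat_lit 0x1011000111011110011011000011001110011100100101001010011101100))) (.node (.leaf (nat_lit 0x1110011101001001001010010111111000001000000011010000101100000001)) (.leaf (nat_lit 0x1000000011010010010101011000001001111101100101101001000011100110))))) (.node (.node (.node (.leaf (nat_lit 0x1001011000001001011010010000011000001000000100100000001001001000))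 (.leaf (nat_lit 0x11001111110011001011011010111000000101000001000000111100001100))) (.node (.leaf (nat_lit 0x1100000101000000011000011111101001001001101011110100001100000001)) (.leaf (nat_lit 0x110011111111010011111011010101001010101101111100101111111100110)))) (.node (.node (.leaf (nat_lit 0x101001001000000111110011100001000000011000011110000001000001010)) (.leaf (nat_lit 0x111011010111001110110011110011000000111000010110000110100001110))) (.node (.leaf (nat_lit 0x1101011100011010001011010100101000001000000010010000001000001100)) (.leaf (nat_lit 0x1111010110011011010101011011111001111101101010101101100110101111)))))))) (.node (.node (.node (.node (.node (.node (.leaf (nat_lit 0x1000000001000000001000011001001000001001000001000000001000000001)) (.leaf (nat_lit 0x1000010111101010001001011011101000001101000001000000011100000001))) (.node (.leaf (nat_lit 0x1101011101001010011111010001101000001000000011100000001000001011)) (.leaf (nat_lit 0x110011100011010100111010100101001010010101110010101100011100110)))) (.node (.node (.leaf (nat_lit 0x1000001101000011111011011101111000001011000001110000001000000001)) (.leaf (nat_lit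 0x1110011100101001010010010001111000001000000010100000110000000001))) (.node (.leaf (nat_lit 0x1111000011011111011100111001010101100001110000001010000010)) (.leaf (nat_lit 0x1111001101000000111110011011101001111011101011101101101110101011))))) (.node (.node (.node (.leaf (nat_lit 0x1000000001000001001000010111011000001000000001010000001100000001)) (.leaf (nat_lit 0x1111011000111011001011010110011000001000000010010000111100001100))) (.node (.leaf (nat_lit 0x1110011001001001001010010111011000001000000011010000101100000001)) (.leaf (nat_lit 0x1000000001000000000000010100001000001000001001010101000000100000)))) (.node (.node (.leaf (nat_lit 0x10101011010101001010000101000010010000001000000001010000100)) (.leaf (nat_lit 0x11011111111010001011011010101000000101000001000000111100001100))) (.node (.leaf (nat_lit 0x1000000011000011010101011110011001111101100001111000000110000010)) (.leaf (nat_lit 0x1101001001000000000010010100001000001000001011010101000000101000)))))) (.node (.node (.node (.node (.leaf (nat_lit 0x1000000001000011001001010001011000001000000001000000001000000001)) (.leaf (nat_lit 0x11001111110011100111010001111000000110000001000000110000001111)))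 (.node (.leaf (nat_lit 0x101001001000000011010011100001001000001100111110000001001001000)) (.leaf (nat_lit 0x1001011001111011000011010000011000001000000001000001010000101100)))) (.node (.node (.leaf (nat_lit 0x111000001101000010000111000010110000001000000001010000000)) (.leaf (nat_lit 0x1101010111101010011101011011101001011101101011100101011110101011))) (.node (.leaf (nat_lit 0x110000101000000110000011011101001000011101011100100100100000001)) (.leaf (nat_lit 0x1001001001000000100110010000001000011010000001000001000010101010))))) (.node (.node (.node (.leaf (nat_lit 0x101000000101000010000101000010010000001000000001010000000)) (.leaf (nat_lit 0x10101111011101001011010111000110011000001001000011110000100))) (.node (.leaf (nat_lit 0x1001011010010011111011000001001010101100101100000001011001110)) (.leaf (nat_lit 0x10010110111010100001011110101001010111101000010101110110100100)))) (.node (.node (.leaf (nat_lit 0x11001101000000001010011010101000000001000001000000101100001000)) (.leaf (nat_lit 0x1110011001111011011111010111011000001000001111110101111101100111))) (.node (.leaf (nat_lit 0x11011101001010100111010001101000000010000001000000100000001011))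 (.leaf (nat_lit 0x1111001101000000000010010100101000001000001011010101100000101000))))))) (.node (.node (.node (.node (.node (.leaf (nat_lit 0x1000000001000001001000010001011000001000000001000000001000000001)) (.leaf (nat_lit 0x111001101000000100110010101101001000010101111010100100001001011))) (.node (.leaf (nat_lit 0x1001011010010101111011000001000000111000001000000001000001110)) (.leaf (nat_lit 0x1110011011101011111011010111011001101110101011111100111100000001)))) (.node (.node (.leaf (nat_lit 0x11000001011111011011001011001000011100000100000001000000001)) (.leaf (nat_lit 0x1000000001010010000001010000001000001000000001000001000000100100))) (.node (.leaf (nat_lit 0x1101000000010010011111101001100001100001111000000100000001)) (.leaf (nat_lit 0x110011111011001101110010110111001110110100111011001101111100110))))) (.node (.node (.node (.leaf (nat_lit 0x1100001101000000001010010101101000001000000011010000001000000001)) (.leaf (nat_lit 0x1000011100101001010010010111111000001000000000110000010100000001))) (.node (.leaf (nat_lit 0x1000000010000010100001011101001001101111101000011100000000000001)) (.leaf (nat_lit 0x1011011110111010111011011110101000111111001100111100111111001100))))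 (.node (.node (.leaf (nat_lit 0x1000001101000011010111010110111000001000000001110000000100000010)) (.leaf (nat_lit 0x110000110100001110000010110111001110110100110111001110111100000))) (.node (.leaf (nat_lit 0x1011000010010111011001001001110101100001101000000010000011)) (.leaf (nat_lit 0x1011001101000000010010010100101000001000001101110101100001101000)))))) (.node (.node (.node (.node (.leaf (nat_lit 0x1000000001000000101000010101001001001010100001010000001000000001)) (.leaf (nat_lit 0x1100001101000000100110011110101001001011101111010100000101000010))) (.node (.leaf (nat_lit 0x1001000000100110011001001000110011000001001000000010000011)) (.leaf (nat_lit 0x1000000001000000100000011000001000111011000001001001000010100000)))) (.node (.node (.leaf (nat_lit 0x1001000000000010011001001000100001000001001000000000000001)) (.leaf (nat_lit 0x1000000010110011010101011001011001111101100000101000010010000111))) (.node (.leaf (nat_lit 0x11101101001000010011011111000100001000001001000010100000001)) (.leaf (nat_lit 0x111010111011011110101010111111001100110100111111001100101101111))))) (.node (.node (.node (.leaf (nat_lit 0x1000000010000001111000010000011000011110000100100000001011000000))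 (.leaf (nat_lit 0x1000000010110011110101010001011000001110000000100000010000000111))) (.node (.leaf (nat_lit 0x11011101001001001010011010111000000001000001000000101100001000)) (.leaf (nat_lit 0x1010010101111011000001010000111000001000000001000001110000100100)))) (.node (.node (.leaf (nat_lit 0x1101000000111110010100101001010010100001110000001010000010)) (.leaf (nat_lit 0x1010000101100001000000010110111000001000001001010101110100100000))) (.node (.leaf (nat_lit 0x11001101000000110110010101101001000010101101110100100001001011)) (.leaf (nat_lit 0x1000000001000000110000010100001001011010101101110101000011100000)))))))))) (.node (.node (.node (.node (.node (.node (.node (.node (.leaf (nat_lit 0x1000000001000000011000010001001000001000000001100000001000000001)) (.leaf (nat_lit 0x1000000001100001000000010000011000001000000001000001010000100000))) (.node (.leaf (nat_lit 0x10000101000000100000011011101000000011000001000000100100000001)) (.leaf (nat_lit 0x1010000101000000000000011010101000101001000001001001100100100000)))) (.node (.node (.leaf (nat_lit 0x1000001001000000111110010001001000001010000001100000001000000011)) (.leaf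 (nat_lit 0x1000011010111001110110010001011000001110000000100000010000000111))) (.node (.leaf (nat_lit 0x1000000000110011001001010110011000001000000000010000011100000100)) (.leaf (nat_lit 0x1101010110111010011101011110101001011101101010110101011110101110))))) (.node (.node (.node (.leaf (nat_lit 0x1100001001000000001010010101001000001000000011010000001000000001)) (.leaf (nat_lit 0x1000010100111011001001010110111000001000000000010000011100000100))) (.node (.leaf (nat_lit 0x1000000000100001010000010001011000001000000000100000010000000001)) (.leaf (nat_lit 0x1000000001000000000000011100001000101001001001011101000000100000)))) (.node (.node (.leaf (nat_lit 0x1000000000010010001001010100001000001000000000010000001000000100)) (.leaf (nat_lit 0x1110000100100001010000011011111001101001101010101100110100000001))) (.node (.leaf (nat_lit 0x1011011011001101110011000011000000111000001000000001000001110)) (.leaf (nat_lit 0x110011010011001111110011111011000110111001110111101101111100111)))))) (.node (.node (.node (.node (.leaf (nat_lit 0x1100000101000000011000010001101000001000000011100000001000000001)) (.leaf (nat_lit 0x10010111101011100001010001111000000110000001000000110000000001)))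 (.node (.leaf (nat_lit 0x101011101001001001010011100111000000001000011010000001000001000)) (.leaf (nat_lit 0x1000000011010010000001011000001000101101000001001001000000100100)))) (.node (.node (.leaf (nat_lit 0x100001110000011111011010001111000000110000010100000001000000001)) (.leaf (nat_lit 0x111011000001011100111011110011001000011101110010100100101001010))) (.node (.leaf (nat_lit 0x1000011100011010011111010100101000001000000000110000001000000110)) (.leaf (nat_lit 0x1110011101011010010111010000101000001000000111100001100001100110))))) (.node (.node (.node (.leaf (nat_lit 0x1000000101000001001000011101111000001001000001010000001000000001)) (.leaf (nat_lit 0x1000000000100001010000011111011001101001100000111000010100000001))) (.node (.leaf (nat_lit 0x1000000011000001101000010111011001101110100001011000001100000001)) (.leaf (nat_lit 0x10010100111011100001011100111001110011101000011101110010100100)))) (.node (.node (.leaf (nat_lit 0x1000000001000011110101011110011000001011000001110000000100000010)) (.leaf (nat_lit 0x1101010101111011011101010111111000001000001111110101011101101111))) (.node (.leaf (nat_lit 0x1000000010010010011101011100001001011101100000110000001010000110))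 (.leaf (nat_lit 0x1000000001000000110000010000001000011010000101100001000011100000))))))) (.node (.node (.node (.node (.node (.leaf (nat_lit 0x1000000001000010001001010001001000001000000001000000001000000001)) (.leaf (nat_lit 0x1001011010011001111110010000011000011110000100100000001011001110))) (.node (.leaf (nat_lit 0x100001110000011001011011101111000000101000010010000001000000001)) (.leaf (nat_lit 0x111010111101010110101011011101001010111101011100101110110101011)))) (.node (.node (.leaf (nat_lit 0x1000000000000011111101011000011001001011100100100000001001000010)) (.leaf (nat_lit 0x1000000000110011110101011001011001111011100000101000010010000111))) (.node (.leaf (nat_lit 0x110000101000000110000011111101000000011000011110000100100000001)) (.leaf (nat_lit 0x1000000011010010110101011000001001101111100101101001000001100110))))) (.node (.node (.node (.leaf (nat_lit 0x1000000001000000101000011101001001001011100001010000001000000001)) (.leaf (nat_lit 0x110011001001011110011011111011000000011000011110000100100000001))) (.node (.leaf (nat_lit 0x1011011100001010010111010101101000001000001100110100100001001011)) (.leaf (nat_lit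 0x101010110101010111101011111101000110111001110111101011111101011)))) (.node (.node (.leaf (nat_lit 0x100001010000010001011011101001000000101000010010000001000000001)) (.leaf (nat_lit 0x110000110100001110000011100111000110111001110111101110011100000))) (.node (.leaf (nat_lit 0x110011101001010110011010001101000000010000011100000100000000001)) (.leaf (nat_lit 0x1000000001000000110000011000001001111011100101101001000011100000)))))) (.node (.node (.node (.node (.leaf (nat_lit 0x1100001101000000011010010001101000001000000011100000001000000001)) (.leaf (nat_lit 0x100001001000000100110011101001001110011101111011100000011000011))) (.node (.leaf (nat_lit 0x1000000000000010110101010101001001001010101100110100000001000011)) (.leaf (nat_lit 0x1000000001000000010000011000001001101001100101101001000001100000)))) (.node (.node (.leaf (nat_lit 0x1101011100001001011010010000111000001000000110100000001001001000)) (.leaf (nat_lit 0x111010101111011110101011101111000110011001111111100110011001111))) (.node (.leaf (nat_lit 0x101011100001010101111010101101001000010100110010000001001001011)) (.leaf (nat_lit 0x1010010111111010000001011010101000101101000001001001110100100100)))))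 (.node (.node (.node (.leaf (nat_lit 0x11000001001011010011001011001000001100000100000001000000001)) (.leaf (nat_lit 0x10010111101010100001011011101000000111000001000000110100000001))) (.node (.leaf (nat_lit 0x1000001101000000110110011110101000001011000001110000000100000010)) (.leaf (nat_lit 0x101010111101011111101010110111001110110101011111101011110101010)))) (.node (.node (.leaf (nat_lit 0x1111000011101111010000111000010110000001000000001010000010)) (.leaf (nat_lit 0x1000000011100001100000011110011001011111101001010101010110100000))) (.node (.leaf (nat_lit 0x111010101001010110101010001101000000010000011100000100000001011)) (.leaf (nat_lit 0x1101001001000000110110010100001001011010101011110101000010101010)))))))) (.node (.node (.node (.node (.node (.node (.leaf (nat_lit 0x1000000001000000011000010101001000001000000001110000001000000001)) (.leaf (nat_lit 0x1111011001001011010111010110011000001000000011110000100100001010))) (.node (.leaf (nat_lit 0x11100001010111011010101101001000010100000110000001000000001)) (.leaf (nat_lit 0x101010100111011111101011011111001110011101010101101011110101111)))) (.node (.node (.leaf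 (nat_lit 0x1000000000000001011000010110011000001000001100110100001101000000)) (.leaf (nat_lit 0x1000011000111011010111010001011000001000000000100000010000000111))) (.node (.leaf (nat_lit 0x1100001100000011110011011011111001001011101010100100000100000001)) (.leaf (nat_lit 0x1011001101000000111110011111101000111011001101111101101111101011))))) (.node (.node (.node (.leaf (nat_lit 0x1000000001000010111101010001001000001010000001100000001000000011)) (.leaf (nat_lit 0x1000000001110011011101010111011000001000001101110101011101100111))) (.node (.leaf (nat_lit 0x101010100001010111101010101101001000010100110110000001001001011)) (.leaf (nat_lit 0x1000000001000000100000010000001000011010000001000001000010100000)))) (.node (.node (.leaf (nat_lit 0x1010010100001010000001010101101000001000001000010100100000000001)) (.leaf (nat_lit 0x100001110000011100111010110111001110110101110011100000111000010))) (.node (.leaf (nat_lit 0x10000111100001100000011011111000000111000001000000110100000001)) (.leaf (nat_lit 0x1110000101000000010000010100101000001000001111110101100001100000)))))) (.node (.node (.node (.node (.leaf (nat_lit 0x1000000001000000111000011101001000001011000001110000001000000001))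 (.leaf (nat_lit 0x1000000010000001111000010110011001111110101100111100001111000000))) (.node (.leaf (nat_lit 0x1000000010010010001001011100001000001101000000010000001000000100)) (.leaf (nat_lit 0x111011011101011011111011110011001010101101011110101111110101010)))) (.node (.node (.leaf (nat_lit 0x1100001000000010000011010101001000001000001010010100000000000001)) (.leaf (nat_lit 0x110011110101010001011011111101000000101000010010000111100000001))) (.node (.leaf (nat_lit 0x10000101000000100000011111101001000011101001010100100100000001)) (.leaf (nat_lit 0x1000000001010010110101010000001000011010000101100001000011100110))))) (.node (.node (.node (.leaf (nat_lit 0x1000000000000010000001010101001000001000001000010100000000000001)) (.leaf (nat_lit 0x1000010111101011001001011011111000001101000001000000011100000001))) (.node (.leaf (nat_lit 0x1001011010010111011011000001001010111100101100000001011001100)) (.leaf (nat_lit 0x1000000011110011000001011000011000101101000001001001010000100100)))) (.node (.node (.leaf (nat_lit 0x101000000101000011010101000110011000001001000001110000000)) (.leaf (nat_lit 0x1011001101000000101110011011101000111011000001001001101110101011)))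 (.node (.leaf (nat_lit 0x1001000000110110011001001001110011100001101000000010000011)) (.leaf (nat_lit 0x1111011010011001111110010110011001111110101010111101101110101110))))))) (.node (.node (.node (.node (.node (.leaf (nat_lit 0x1000000001000000001000011101001000001001000001010000001000000001)) (.leaf (nat_lit 0x11011111001100110011001011000110111000001001000010010000111))) (.node (.leaf (nat_lit 0x1000000010000011000001011111011000101101001000011100000100000001)) (.leaf (nat_lit 0x1001011011101011100111010000011000011110000001000001010010101010)))) (.node (.node (.leaf (nat_lit 0x1000011101001010001011010001101000001000000001000000001000000001)) (.leaf (nat_lit 0x1000000001100001000000011000011000101001000001001001010000100000))) (.node (.leaf (nat_lit 0x11111011001101110010000111000010110000001000000001010000110)) (.leaf (nat_lit 0x110011011111001100110011111011001010111101111010101110111100111))))) (.node (.node (.node (.leaf (nat_lit 0x1000011001001011001011010001011000001000000001000000001000000001)) (.leaf (nat_lit 0x11111101010000011011011101000100101000001001000010100000001))) (.node (.leaf (nat_lit 0x101010101011010111101010000101000010010000111100000001011001110))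 (.leaf (nat_lit 0x1110011011011001101110010111011001101110100111011001101101100111)))) (.node (.node (.leaf (nat_lit 0x1000000101000001001000011011111000001001000001000000001100000001)) (.leaf (nat_lit 0x11001111110011111011010110111001110110101101111100111111001100))) (.node (.leaf (nat_lit 0x1000000010100001110000010001011000001110000000100000010000000001)) (.leaf (nat_lit 0x1000000001000000110000011100001000111011001101111101000011100000)))))) (.node (.node (.node (.node (.leaf (nat_lit 0x1000000000000001011000010000011000001000000100100000001001000000)) (.leaf (nat_lit 0x111011001001001001010011110011000000001000011010000101100001000))) (.node (.leaf (nat_lit 0x1000010100011010001001010100101000001000000000010000001000000100)) (.leaf (nat_lit 0x1011001101000000000010010000101000001000000001000001100000101000)))) (.node (.node (.leaf (nat_lit 0x1000000000000010010101010101001000001000001100110100000001000011)) (.leaf (nat_lit 0x1011011110111001110110011101111000111111001100111100110011001111))) (.node (.leaf (nat_lit 0x1011011100001001011010010110111000001000001100110100101101001000)) (.leaf (nat_lit 0x1111011011011011110011010110011001111110100111111001100111101100)))))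 (.node (.node (.node (.leaf (nat_lit 0x100000110000001111000010001111000000110000010100000001000000001)) (.leaf (nat_lit 0x1101010111011011011101011101111001011101100111110000001011001111))) (.node (.leaf (nat_lit 0x101000000101000011110101001110011100001011000001110000000)) (.leaf (nat_lit 0x101001010010010010111011100001001110101101010111101000010101110)))) (.node (.node (.leaf (nat_lit 0x1000000000000011100001011111011001001011101000010100000100000001)) (.leaf (nat_lit 0x11110111001110110010110111001110110100000111000010110000110))) (.node (.leaf (nat_lit 0x1000000000110011010101010001011000001000000000100000010000000111)) (.leaf (nat_lit 0x1101001001000000010010010100001000001000001111110101000001101000))))))))) (.node (.node (.node (.node (.node (.node (.node (.leaf (nat_lit 0x1000000001000000101000010001001000001010000001000000001000000001)) (.leaf (nat_lit 0x110011000001001011010011111011001000001101010110100101100000001))) (.node (.leaf (nat_lit 0x1000000000010010011101010100001000001000000000110000001000000110)) (.leaf (nat_lit 0x1000000011100001100000010110011001111110101001011101010110100000)))) (.node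 (.node (.leaf (nat_lit 0x1000000001000011010101010110011000001000000001110000000100000010)) (.leaf (nat_lit 0x1011010101011010111011000011001110101100100101001010011101010))) (.node (.leaf (nat_lit 0x11001101000000011010011110101001000001101101110100101101001000)) (.leaf (nat_lit 0x1011011111011001101110011011111000111111000001001001101110101111))))) (.node (.node (.node (.leaf (nat_lit 0x1000001001000010111011010001001000001010000001100000001000000001)) (.leaf (nat_lit 0x1111001100110011001011010110111000001000000010010000111100001100))) (.node (.leaf (nat_lit 0x1101001000010010001011010100001000001000000010010000001000001100)) (.leaf (nat_lit 0x1010000101000000000000010100101000001000001001010101100000100000)))) (.node (.node (.leaf (nat_lit 0x10100001010101001010101101001000010100000010000001000000001)) (.leaf (nat_lit 0x111010110101011110101010000111000010110000110100001110011101010))) (.node (.leaf (nat_lit 0x1000000011000001101000011111011001101111100001011000001100000001)) (.leaf (nat_lit 0x1111001101000000010010010000101000001000000111100001100001101000)))))) (.node (.node (.node (.node (.leaf (nat_lit 0x1000000001000010101001010001001000001010000001000000001000000001))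 (.leaf (nat_lit 0x100000110000001111000010111111001100110101010111100001100000001))) (.node (.leaf (nat_lit 0x1011000010000011011001001000100101000001001000000000000001)) (.leaf (nat_lit 0x1001011011111001100110010000011000011110000001000001010010101110)))) (.node (.node (.leaf (nat_lit 0x1000000010000011111101010000011000011110000100100000001011000010)) (.leaf (nat_lit 0x1101011111011001101110011101111001011111100111010000001011001111))) (.node (.leaf (nat_lit 0x1000000000100001010000010111011000001000000000110000010100000001)) (.leaf (nat_lit 0x1001001001010010010111010000001000001000000101100001000001101110))))) (.node (.node (.node (.leaf (nat_lit 0x1000011101001001001010010001111000001000000001000000001000000001)) (.leaf (nat_lit 0x1110011000101001010010010111011000001000000010110000110100000001))) (.node (.leaf (nat_lit 0x10000111100001100000010001111000000110000001000000110000000001)) (.leaf (nat_lit 0x111010100011010110101010100101001010010101010110101100010101110)))) (.node (.node (.leaf (nat_lit 0x1000001101000000100110011010101000001011000001000000000100000010)) (.leaf (nat_lit 0x1011001101110011011111010111111000001000001101110101111101101111)))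 (.node (.leaf (nat_lit 0x1001011010011011111011010000011000011110000100100000001011001100)) (.leaf (nat_lit 0x1000000001000000010000010000001000001000000101100001000001100000))))))) (.node (.node (.node (.node (.node (.leaf (nat_lit 0x1000000001000000101000011001001000001011000001000000001000000001)) (.leaf (nat_lit 0x110011101101001000010011101111000100001001011011100110000000001))) (.node (.leaf (nat_lit 0x100001010000010111011011101001000000111000010110000001000000001)) (.leaf (nat_lit 0x101001010010010100111011100001001100111101110011101000001101110)))) (.node (.node (.leaf (nat_lit 0x1101000000101110010000101000010010000001000000001010000010)) (.leaf (nat_lit 0x1110000100100001010000011101111001101001101010111100110000000001))) (.node (.leaf (nat_lit 0x101001001000000101110011100001001000011100111010000001001001010)) (.leaf (nat_lit 0x1010010111011011000001011010111000101101000001001001100100100100))))) (.node (.node (.node (.leaf (nat_lit 0x1000000000000011011101010000011000001000000100100000001001000010)) (.leaf (nat_lit 0x1000000010100001110000011111011000001111000000110000010100000001))) (.node (.leaf (nat_lit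 0x1111010100001010010101010101101000001000001110110100100001001011)) (.leaf (nat_lit 0x1101011111111010110011011010101001011111101111100101010111101100)))) (.node (.node (.leaf (nat_lit 0x1000000010000010000001011101001000101101001000011100000000000001)) (.leaf (nat_lit 0x1111010100111011010101010001111000001000000010100000110000001111))) (.node (.leaf (nat_lit 0x1011000010100111011001001000110111000001001000000010000011)) (.leaf (nat_lit 0x1000000001000000100000010100001001011010101001010101000010100000)))))) (.node (.node (.node (.node (.leaf (nat_lit 0x1000000001000000011000011101001001001001100001110000001000000001)) (.leaf (nat_lit 0x10000111100001100000010111111001100110101001011100110100000001))) (.node (.leaf (nat_lit 0x10010101001010100001010001101000000010000001000000100000000001)) (.leaf (nat_lit 0x1011001101110011000011010000111000001000000001000001110000101100)))) (.node (.node (.leaf (nat_lit 0x101000000101000010100101001010010100001010000001010000000)) (.leaf (nat_lit 0x11011100101001010010011100111001100001101100111101110001101000))) (.node (.leaf (nat_lit 0x1000011011011011101111010001011000001110000001000000001000000111))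 (.leaf (nat_lit 0x111011011011001101110011110011001100111100111011001101101101110))))) (.node (.node (.node (.leaf (nat_lit 0x1000000011000001101000011001011000001111000001000000001000000001)) (.leaf (nat_lit 0x110000110100001110000011010111001010111101110100101110111100000))) (.node (.leaf (nat_lit 0x111000001101000011010111000110111000001001000001110000000)) (.leaf (nat_lit 0x111001110110011000011011100111000100101001010011101110000101100)))) (.node (.node (.leaf (nat_lit 0x10100001011101001011101111001000011100000010000001000000001)) (.leaf (nat_lit 0x101011111101010010111011011101001110101101011101101010110101011))) (.node (.leaf (nat_lit 0x1101010100011010011101010100101000001000000010110000001000001110)) (.leaf (nat_lit 0x1001001001000000110110010000001000011010000101100001000011101010)))))))) (.node (.node (.node (.node (.node (.node (.leaf (nat_lit 0x1000000101000000001000010001101000001000000001000000001000000001)) (.leaf (nat_lit 0x1111011000001001011010010110011000001000001110110100101101001000))) (.node (.leaf (nat_lit 0x1010010100001011000001010111111000001000001000010100100100000001)) (.leaf (nat_lit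 0x10010110011011100001010110111001110110101000011101100110100100)))) (.node (.node (.leaf (nat_lit 0x1100001100000011011111010000111000001000000110100000001001000010)) (.leaf (nat_lit 0x1001011001101001000010010000011000001000000001000001010000101000))) (.node (.leaf (nat_lit 0x101010101001011111101011100111000000011000011110000001000001010)) (.leaf (nat_lit 0x1011011111101010101111011011101000111111000001001001111110101011))))) (.node (.node (.node (.leaf (nat_lit 0x1000001001000000101110010001001000001010000001000000001000000011)) (.leaf (nat_lit 0x1000000010110011101001010110011001111110100000011000011110000100))) (.node (.leaf (nat_lit 0x1000011011011001101110010001011000001110000001000000001000000111)) (.leaf (nat_lit 0x11110111010010111011110101001110101100000111000010110000110)))) (.node (.node (.leaf (nat_lit 0x100000110000001111000011101111000000111000010110000001000000001)) (.leaf (nat_lit 0x11001111110011010111011101111001110101101101111100110011001111))) (.node (.leaf (nat_lit 0x1100001000000010100111010101001001001010101110010100000001000011)) (.leaf (nat_lit 0x1110011110011001111110011010111001101111101110101101101101100110))))))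 (.node (.node (.node (.node (.leaf (nat_lit 0x1000000001000000111000011001001001001011100001100000001000000001)) (.leaf (nat_lit 0x10000111100001100000011101111001100111101001011100110000000001))) (.node (.leaf (nat_lit 0x1110011100001010000011010101101000001000001010010100100000000001)) (.leaf (nat_lit 0x1011011101101001000010010000111000001000000001000001110000101000)))) (.node (.node (.leaf (nat_lit 0x101001001000000001010011100001000000001000011010000001000001000)) (.leaf (nat_lit 0x10111111010101001011010101000110111000001001000011110000100))) (.node (.leaf (nat_lit 0x1101001000010010011111010100001000001000000010110000001000001110)) (.leaf (nat_lit 0x1110000101000000010000011010101001101001101111101101100101100000))))) (.node (.node (.node (.leaf (nat_lit 0x1001001000000001010011000001000000001000001000000001000001000)) (.leaf (nat_lit 0x101011100101001010010011010111001100001101110101101010101101000))) (.node (.leaf (nat_lit 0x1000001101000011100111011010111000001011000001000000000100000010)) (.leaf (nat_lit 0x110011000111011101111011111011001110011100110011001111111100111)))) (.node (.node (.leaf (nat_lit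 0x1100001100000011101111011100111001001011100110010000001001000010)) (.leaf (nat_lit 0x1000000011110011111101010111011001101110101101111101011101100111))) (.node (.leaf (nat_lit 0x100001001000000010010011101001001100001101011111100000000000001)) (.leaf (nat_lit 0x1001001001010010100111010000001000011010000001000001000010101110))))))) (.node (.node (.node (.node (.node (.leaf (nat_lit 0x1000000001000000011000011001001001001001100001100000001000000001)) (.leaf (nat_lit 0x110011001101001000010011111011000100001001011011100110100000001))) (.node (.leaf (nat_lit 0x1100001000000010110011010101001001001010101010110100000000000001)) (.leaf (nat_lit 0x1000000011110011100001010000011000011110000001000001010010100100)))) (.node (.node (.leaf (nat_lit 0x1001011000001011011111010000011000001000000100100000001001001010)) (.leaf (nat_lit 0x1010000101000000000000010000101000001000000001000001100000100000))) (.node (.leaf (nat_lit 0x10010101001011100001011011111000000011000001000000100100000001)) (.leaf (nat_lit 0x1110011010011011100111010111011001101110101110011101100101100111))))) (.node (.node (.node (.leaf (nat_lit 0x1000000011000011101001010001011000001110000001000000001000000001))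 (.leaf (nat_lit 0x111010100001011110101011010111001000011101110100100100101001010))) (.node (.leaf (nat_lit 0x1011011011011001011011000011000000101000001000000001000001100)) (.leaf (nat_lit 0x101010111111010111101011010101001100111101111101101011101101110)))) (.node (.node (.leaf (nat_lit 0x1000000101000000001000011111101000001001000001010000001100000001)) (.leaf (nat_lit 0x1000010110111010001001011110101000001101000000010000011100000100))) (.node (.leaf (nat_lit 0x110000101000000110000010101101001000010101011110100100000000001)) (.leaf (nat_lit 0x1000000001000000010000010100001000001000001101110101000001100000)))))) (.node (.node (.node (.node (.leaf (nat_lit 0x1000011001001001001010010001011000001000000001000000001000000001)) (.leaf (nat_lit 0x1000000010110011001001011110011000001101000000010000011100000100))) (.node (.leaf (nat_lit 0x11001101000000100110010001101000000010000001000000100000001011)) (.leaf (nat_lit 0x1010000101100001000000011100111000101001001001011101110000100000)))) (.node (.node (.leaf (nat_lit 0x10000101000000100000010001101000000010000001000000100000000001)) (.leaf (nat_lit 0x1011010111001110110011000011001100111100100101001010001101110)))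 (.node (.leaf (nat_lit 0x1111010101001011010101010110111000001000000011110000100100001010)) (.leaf (nat_lit 0x1110011110111010101111011110101001101111100110011001111101100110))))) (.node (.node (.node (.leaf (nat_lit 0x1000001001000010101111010001001000001010000001000000001000000011)) (.leaf (nat_lit 0x1000000010100001110000011001011001101111100000101000010000000001))) (.node (.leaf (nat_lit 0x1100001101000000110110011010101001001011101111100100000101000010)) (.leaf (nat_lit 0x101011110111010000011011110101000100101001010011101010100101100)))) (.node (.node (.leaf (nat_lit 0x1011001001011101111011000011000000011000001000000001000001010)) (.leaf (nat_lit 0x1000000001100001000000011110011000101001001001011101010100100000))) (.node (.leaf (nat_lit 0x1110000100100001010000010001111000001000000010100000110000000001)) (.leaf (nat_lit 0x1000000001000000000000010000001000001000000001000001000000100000)))))))))))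

noncomputable def o7P : NT := (.node (.node (.node (.node (.node (.node (.node (.node (.node (.leaf (nat_lit 0)) (.leaf (nat_lit 1129))) (.node (.leaf (nat_lit 522)) (.leaf (nat_lit 2145)))) (.node (.node (.leaf (nat_lit 255)) (.leaf (nat_lit 1665))) (.node (.leaf (nat_lit 820)) (.leaf (nat_lit 2561))))) (.node (.node (.node (.leaf (nat_lit 118)) (.leaf (nat_lit 1315))) (.node (.leaf (nat_lit 659)) (.leaf (nat_lit 2327)))) (.node (.node (.leaf (nat_lit 379)) (.leaf (nat_lit 1897))) (.node (.leaf (nat_lit 969)) (.leaf (nat_lit 2749)))))) (.node (.node (.node (.node (.leaf (nat_lit 51)) (.leaf (nat_lit 1216))) (.node (.leaf (nat_lit 592)) (.leaf (nat_lit 2239)))) (.node (.node (.leaf (nat_lit 326)) (.leaf (nat_lit 1804))) (.node (.leaf (nat_lit 883)) (.leaf (nat_lit 2658))))) (.node (.node (.node (.leaf (nat_lit 180)) (.leaf (nat_lit 1475))) (.node (.leaf (nat_lit 741)) (.leaf (nat_lit 2414)))) (.node (.node (.leaf (nat_lit 454)) (.leaf (nat_lit 2015))) (.node (.leaf (nat_lit 1045)) (.leaf (nat_lit 2908))))))) (.node (.node (.node (.node (.node (.leaf (nat_lit 22)) (.leaf (nat_lit 1170))) (.node (.leaf (nat_lit 557))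 (.leaf (nat_lit 2190)))) (.node (.node (.leaf (nat_lit 292)) (.leaf (nat_lit 1769))) (.node (.leaf (nat_lit 844)) (.leaf (nat_lit 2638))))) (.node (.node (.node (.leaf (nat_lit 152)) (.leaf (nat_lit 1383))) (.node (.leaf (nat_lit 705)) (.leaf (nat_lit 2367)))) (.node (.node (.leaf (nat_lit 419)) (.leaf (nat_lit 1952))) (.node (.leaf (nat_lit 1005)) (.leaf (nat_lit 2846)))))) (.node (.node (.node (.node (.leaf (nat_lit 86)) (.leaf (nat_lit 1259))) (.node (.leaf (nat_lit 627)) (.leaf (nat_lit 2292)))) (.node (.node (.leaf (nat_lit 359)) (.leaf (nat_lit 1858))) (.node (.leaf (nat_lit 919)) (.leaf (nat_lit 2705))))) (.node (.node (.node (.leaf (nat_lit 215)) (.leaf (nat_lit 1565))) (.node (.leaf (nat_lit 769)) (.leaf (nat_lit 2477)))) (.node (.node (.leaf (nat_lit 500)) (.leaf (nat_lit 2077))) (.node (.leaf (nat_lit 1083)) (.leaf (nat_lit 3127)))))))) (.node (.node (.node (.node (.node (.node (.leaf (nat_lit 12)) (.leaf (nat_lit 1159))) (.node (.leaf (nat_lit 534)) (.leaf (nat_lit 2169)))) (.node (.node (.leaf (nat_lit 270)) (.leaf (nat_lit 1711))) (.node (.leaf (nat_lit 832)) (.leaf (nat_lit 2596))))) (.node (.node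 (.node (.leaf (nat_lit 132)) (.leaf (nat_lit 1353))) (.node (.leaf (nat_lit 681)) (.leaf (nat_lit 2342)))) (.node (.node (.leaf (nat_lit 398)) (.leaf (nat_lit 1921))) (.node (.leaf (nat_lit 987)) (.leaf (nat_lit 2798)))))) (.node (.node (.node (.node (.leaf (nat_lit 69)) (.leaf (nat_lit 1239))) (.node (.leaf (nat_lit 600)) (.leaf (nat_lit 2260)))) (.node (.node (.leaf (nat_lit 349)) (.leaf (nat_lit 1831))) (.node (.leaf (nat_lit 902)) (.leaf (nat_lit 2679))))) (.node (.node (.node (.leaf (nat_lit 202)) (.leaf (nat_lit 1502))) (.node (.leaf (nat_lit 755)) (.leaf (nat_lit 2449)))) (.node (.node (.leaf (nat_lit 482)) (.leaf (nat_lit 2050))) (.node (.leaf (nat_lit 1070)) (.leaf (nat_lit 2962))))))) (.node (.node (.node (.node (.node (.leaf (nat_lit 40)) (.leaf (nat_lit 1196))) (.node (.leaf (nat_lit 580)) (.leaf (nat_lit 2210)))) (.node (.node (.leaf (nat_lit 306)) (.leaf (nat_lit 1791))) (.node (.leaf (nat_lit 871)) (.leaf (nat_lit 2648))))) (.node (.node (.node (.leaf (nat_lit 165)) (.leaf (nat_lit 1406))) (.node (.leaf (nat_lit 715)) (.leaf (nat_lit 2393)))) (.node (.node (.leaf (nat_lit 439)) (.leaf (nat_lit 1980)))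 (.node (.leaf (nat_lit 1027)) (.leaf (nat_lit 2876)))))) (.node (.node (.node (.node (.leaf (nat_lit 100)) (.leaf (nat_lit 1292))) (.node (.leaf (nat_lit 638)) (.leaf (nat_lit 2309)))) (.node (.node (.leaf (nat_lit 369)) (.leaf (nat_lit 1879))) (.node (.leaf (nat_lit 943)) (.leaf (nat_lit 2727))))) (.node (.node (.node (.leaf (nat_lit 235)) (.leaf (nat_lit 1629))) (.node (.leaf (nat_lit 789)) (.leaf (nat_lit 2525)))) (.node (.node (.leaf (nat_lit 510)) (.leaf (nat_lit 2120))) (.node (.leaf (nat_lit 1107)) (.leaf (nat_lit 3300))))))))) (.node (.node (.node (.node (.node (.node (.node (.leaf (nat_lit 10)) (.leaf (nat_lit 1143))) (.node (.leaf (nat_lit 526)) (.leaf (nat_lit 2155)))) (.node (.node (.leaf (nat_lit 262)) (.leaf (nat_lit 1695))) (.node (.leaf (nat_lit 825)) (.leaf (nat_lit 2580))))) (.node (.node (.node (.leaf (nat_lit 123)) (.leaf (nat_lit 1336))) (.node (.leaf (nat_lit 667)) (.leaf (nat_lit 2334)))) (.node (.node (.leaf (nat_lit 387)) (.leaf (nat_lit 1903))) (.node (.leaf (nat_lit 979)) (.leaf (nat_lit 2792)))))) (.node (.node (.node (.node (.leaf (nat_lit 61)) (.leaf (nat_lit 1231))) (.node (.leaf (nat_lit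 595)) (.leaf (nat_lit 2244)))) (.node (.node (.leaf (nat_lit 334)) (.leaf (nat_lit 1817))) (.node (.leaf (nat_lit 897)) (.leaf (nat_lit 2673))))) (.node (.node (.node (.leaf (nat_lit 188)) (.leaf (nat_lit 1483))) (.node (.leaf (nat_lit 749)) (.leaf (nat_lit 2426)))) (.node (.node (.leaf (nat_lit 468)) (.leaf (nat_lit 2039))) (.node (.leaf (nat_lit 1061)) (.leaf (nat_lit 2930))))))) (.node (.node (.node (.node (.node (.leaf (nat_lit 30)) (.leaf (nat_lit 1187))) (.node (.leaf (nat_lit 566)) (.leaf (nat_lit 2204)))) (.node (.node (.leaf (nat_lit 304)) (.leaf (nat_lit 1777))) (.node (.leaf (nat_lit 852)) (.leaf (nat_lit 2643))))) (.node (.node (.node (.leaf (nat_lit 156)) (.leaf (nat_lit 1391))) (.node (.leaf (nat_lit 711)) (.leaf (nat_lit 2381)))) (.node (.node (.leaf (nat_lit 426)) (.leaf (nat_lit 1963))) (.node (.leaf (nat_lit 1013)) (.leaf (nat_lit 2854)))))) (.node (.node (.node (.node (.leaf (nat_lit 96)) (.leaf (nat_lit 1265))) (.node (.leaf (nat_lit 634)) (.leaf (nat_lit 2298)))) (.node (.node (.leaf (nat_lit 367)) (.leaf (nat_lit 1868))) (.node (.leaf (nat_lit 941)) (.leaf (nat_lit 2712))))) (.node (.node (.node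 (.leaf (nat_lit 223)) (.leaf (nat_lit 1601))) (.node (.leaf (nat_lit 783)) (.leaf (nat_lit 2512)))) (.node (.node (.leaf (nat_lit 502)) (.leaf (nat_lit 2105))) (.node (.leaf (nat_lit 1097)) (.leaf (nat_lit 3219)))))))) (.node (.node (.node (.node (.node (.node (.leaf (nat_lit 18)) (.leaf (nat_lit 1166))) (.node (.leaf (nat_lit 545)) (.leaf (nat_lit 2180)))) (.node (.node (.leaf (nat_lit 282)) (.leaf (nat_lit 1734))) (.node (.leaf (nat_lit 837)) (.leaf (nat_lit 2617))))) (.node (.node (.node (.leaf (nat_lit 143)) (.leaf (nat_lit 1363))) (.node (.leaf (nat_lit 703)) (.leaf (nat_lit 2350)))) (.node (.node (.leaf (nat_lit 410)) (.leaf (nat_lit 1944))) (.node (.leaf (nat_lit 993)) (.leaf (nat_lit 2811)))))) (.node (.node (.node (.node (.leaf (nat_lit 82)) (.leaf (nat_lit 1251))) (.node (.leaf (nat_lit 611)) (.leaf (nat_lit 2281)))) (.node (.node (.leaf (nat_lit 354)) (.leaf (nat_lit 1840))) (.node (.leaf (nat_lit 909)) (.leaf (nat_lit 2692))))) (.node (.node (.node (.leaf (nat_lit 207)) (.leaf (nat_lit 1551))) (.node (.leaf (nat_lit 762)) (.leaf (nat_lit 2460)))) (.node (.node (.leaf (nat_lit 488)) (.leaf (nat_lit 2064)))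 (.node (.leaf (nat_lit 1076)) (.leaf (nat_lit 3063))))))) (.node (.node (.node (.node (.node (.leaf (nat_lit 47)) (.leaf (nat_lit 1202))) (.node (.leaf (nat_lit 586)) (.leaf (nat_lit 2222)))) (.node (.node (.leaf (nat_lit 317)) (.leaf (nat_lit 1802))) (.node (.leaf (nat_lit 879)) (.leaf (nat_lit 2656))))) (.node (.node (.node (.leaf (nat_lit 174)) (.leaf (nat_lit 1447))) (.node (.leaf (nat_lit 731)) (.leaf (nat_lit 2402)))) (.node (.node (.leaf (nat_lit 448)) (.leaf (nat_lit 1987))) (.node (.leaf (nat_lit 1035)) (.leaf (nat_lit 2888)))))) (.node (.node (.node (.node (.leaf (nat_lit 108)) (.leaf (nat_lit 1301))) (.node (.leaf (nat_lit 655)) (.leaf (nat_lit 2315)))) (.node (.node (.leaf (nat_lit 375)) (.leaf (nat_lit 1888))) (.node (.leaf (nat_lit 949)) (.leaf (nat_lit 2743))))) (.node (.node (.node (.leaf (nat_lit 244)) (.leaf (nat_lit 1650))) (.node (.leaf (nat_lit 803)) (.leaf (nat_lit 2547)))) (.node (.node (.leaf (nat_lit 515)) (.leaf (nat_lit 2134))) (.node (.leaf (nat_lit 1115)) (.leaf (nat_lit 3421)))))))))) (.node (.node (.node (.node (.node (.node (.node (.node (.leaf (nat_lit 6)) (.leaf (nat_lit 1133)))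 (.node (.leaf (nat_lit 523)) (.leaf (nat_lit 2146)))) (.node (.node (.leaf (nat_lit 257)) (.leaf (nat_lit 1671))) (.node (.leaf (nat_lit 824)) (.leaf (nat_lit 2575))))) (.node (.node (.node (.leaf (nat_lit 122)) (.leaf (nat_lit 1328))) (.node (.leaf (nat_lit 663)) (.leaf (nat_lit 2329)))) (.node (.node (.leaf (nat_lit 383)) (.leaf (nat_lit 1902))) (.node (.leaf (nat_lit 971)) (.leaf (nat_lit 2763)))))) (.node (.node (.node (.node (.leaf (nat_lit 55)) (.leaf (nat_lit 1223))) (.node (.leaf (nat_lit 593)) (.leaf (nat_lit 2243)))) (.node (.node (.leaf (nat_lit 330)) (.leaf (nat_lit 1813))) (.node (.leaf (nat_lit 887)) (.leaf (nat_lit 2663))))) (.node (.node (.node (.leaf (nat_lit 184)) (.leaf (nat_lit 1479))) (.node (.leaf (nat_lit 745)) (.leaf (nat_lit 2421)))) (.node (.node (.leaf (nat_lit 462)) (.leaf (nat_lit 2029))) (.node (.leaf (nat_lit 1049)) (.leaf (nat_lit 2917))))))) (.node (.node (.node (.node (.node (.leaf (nat_lit 26)) (.leaf (nat_lit 1175))) (.node (.leaf (nat_lit 561)) (.leaf (nat_lit 2197)))) (.node (.node (.leaf (nat_lit 300)) (.leaf (nat_lit 1773))) (.node (.leaf (nat_lit 845)) (.leaf (nat_lit 2642)))))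 (.node (.node (.node (.leaf (nat_lit 153)) (.leaf (nat_lit 1384))) (.node (.leaf (nat_lit 707)) (.leaf (nat_lit 2372)))) (.node (.node (.leaf (nat_lit 421)) (.leaf (nat_lit 1959))) (.node (.leaf (nat_lit 1006)) (.leaf (nat_lit 2847)))))) (.node (.node (.node (.node (.leaf (nat_lit 90)) (.leaf (nat_lit 1264))) (.node (.leaf (nat_lit 630)) (.leaf (nat_lit 2294)))) (.node (.node (.leaf (nat_lit 363)) (.leaf (nat_lit 1863))) (.node (.leaf (nat_lit 937)) (.leaf (nat_lit 2706))))) (.node (.node (.node (.leaf (nat_lit 219)) (.leaf (nat_lit 1573))) (.node (.leaf (nat_lit 775)) (.leaf (nat_lit 2498)))) (.node (.node (.leaf (nat_lit 501)) (.leaf (nat_lit 2099))) (.node (.leaf (nat_lit 1091)) (.leaf (nat_lit 3203)))))))) (.node (.node (.node (.node (.node (.node (.leaf (nat_lit 14)) (.leaf (nat_lit 1162))) (.node (.leaf (nat_lit 541)) (.leaf (nat_lit 2176)))) (.node (.node (.leaf (nat_lit 272)) (.leaf (nat_lit 1720))) (.node (.leaf (nat_lit 836)) (.leaf (nat_lit 2602))))) (.node (.node (.node (.leaf (nat_lit 139)) (.leaf (nat_lit 1357))) (.node (.leaf (nat_lit 699)) (.leaf (nat_lit 2343)))) (.node (.node (.leaf (nat_lit 409))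 (.leaf (nat_lit 1925))) (.node (.leaf (nat_lit 992)) (.leaf (nat_lit 2804)))))) (.node (.node (.node (.node (.leaf (nat_lit 78)) (.leaf (nat_lit 1245))) (.node (.leaf (nat_lit 607)) (.leaf (nat_lit 2274)))) (.node (.node (.leaf (nat_lit 353)) (.leaf (nat_lit 1835))) (.node (.leaf (nat_lit 905)) (.leaf (nat_lit 2684))))) (.node (.node (.node (.leaf (nat_lit 206)) (.leaf (nat_lit 1530))) (.node (.leaf (nat_lit 758)) (.leaf (nat_lit 2456)))) (.node (.node (.leaf (nat_lit 487)) (.leaf (nat_lit 2055))) (.node (.leaf (nat_lit 1075)) (.leaf (nat_lit 3009))))))) (.node (.node (.node (.node (.node (.leaf (nat_lit 43)) (.leaf (nat_lit 1201))) (.node (.leaf (nat_lit 584)) (.leaf (nat_lit 2218)))) (.node (.node (.leaf (nat_lit 313)) (.leaf (nat_lit 1798))) (.node (.leaf (nat_lit 872)) (.leaf (nat_lit 2652))))) (.node (.node (.node (.leaf (nat_lit 166)) (.leaf (nat_lit 1432))) (.node (.leaf (nat_lit 720)) (.leaf (nat_lit 2397)))) (.node (.node (.leaf (nat_lit 444)) (.leaf (nat_lit 1981))) (.node (.leaf (nat_lit 1034)) (.leaf (nat_lit 2882)))))) (.node (.node (.node (.node (.leaf (nat_lit 104)) (.leaf (nat_lit 1293))) (.node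 (.leaf (nat_lit 642)) (.leaf (nat_lit 2314)))) (.node (.node (.leaf (nat_lit 371)) (.leaf (nat_lit 1884))) (.node (.leaf (nat_lit 945)) (.leaf (nat_lit 2738))))) (.node (.node (.node (.leaf (nat_lit 239)) (.leaf (nat_lit 1644))) (.node (.leaf (nat_lit 802)) (.leaf (nat_lit 2540)))) (.node (.node (.leaf (nat_lit 514)) (.leaf (nat_lit 2125))) (.node (.leaf (nat_lit 1111)) (.leaf (nat_lit 3386))))))))) (.node (.node (.node (.node (.node (.node (.node (.leaf (nat_lit 11)) (.leaf (nat_lit 1158))) (.node (.leaf (nat_lit 530)) (.leaf (nat_lit 2162)))) (.node (.node (.leaf (nat_lit 266)) (.leaf (nat_lit 1700))) (.node (.leaf (nat_lit 828)) (.leaf (nat_lit 2581))))) (.node (.node (.node (.leaf (nat_lit 128)) (.leaf (nat_lit 1349))) (.node (.leaf (nat_lit 677)) (.leaf (nat_lit 2335)))) (.node (.node (.leaf (nat_lit 394)) (.leaf (nat_lit 1917))) (.node (.leaf (nat_lit 983)) (.leaf (nat_lit 2797)))))) (.node (.node (.node (.node (.leaf (nat_lit 65)) (.leaf (nat_lit 1235))) (.node (.leaf (nat_lit 599)) (.leaf (nat_lit 2253)))) (.node (.node (.leaf (nat_lit 335)) (.leaf (nat_lit 1821))) (.node (.leaf (nat_lit 901)) (.leaf (nat_lit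 2677))))) (.node (.node (.node (.leaf (nat_lit 194)) (.leaf (nat_lit 1489))) (.node (.leaf (nat_lit 754)) (.leaf (nat_lit 2442)))) (.node (.node (.leaf (nat_lit 473)) (.leaf (nat_lit 2043))) (.node (.leaf (nat_lit 1065)) (.leaf (nat_lit 2945))))))) (.node (.node (.node (.node (.node (.leaf (nat_lit 39)) (.leaf (nat_lit 1191))) (.node (.leaf (nat_lit 572)) (.leaf (nat_lit 2208)))) (.node (.node (.leaf (nat_lit 305)) (.leaf (nat_lit 1787))) (.node (.leaf (nat_lit 856)) (.leaf (nat_lit 2644))))) (.node (.node (.node (.leaf (nat_lit 160)) (.leaf (nat_lit 1405))) (.node (.leaf (nat_lit 713)) (.leaf (nat_lit 2386)))) (.node (.node (.leaf (nat_lit 437)) (.leaf (nat_lit 1972))) (.node (.leaf (nat_lit 1026)) (.leaf (nat_lit 2861)))))) (.node (.node (.node (.node (.leaf (nat_lit 97)) (.leaf (nat_lit 1277))) (.node (.leaf (nat_lit 635)) (.leaf (nat_lit 2302)))) (.node (.node (.leaf (nat_lit 368)) (.leaf (nat_lit 1875))) (.node (.leaf (nat_lit 942)) (.leaf (nat_lit 2721))))) (.node (.node (.node (.leaf (nat_lit 228)) (.leaf (nat_lit 1609))) (.node (.leaf (nat_lit 788)) (.leaf (nat_lit 2519)))) (.node (.node (.leaf (nat_lit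 506)) (.leaf (nat_lit 2113))) (.node (.leaf (nat_lit 1105)) (.leaf (nat_lit 3274)))))))) (.node (.node (.node (.node (.node (.node (.leaf (nat_lit 19)) (.leaf (nat_lit 1168))) (.node (.leaf (nat_lit 556)) (.leaf (nat_lit 2181)))) (.node (.node (.leaf (nat_lit 286)) (.leaf (nat_lit 1742))) (.node (.leaf (nat_lit 838)) (.leaf (nat_lit 2622))))) (.node (.node (.node (.leaf (nat_lit 144)) (.leaf (nat_lit 1376))) (.node (.leaf (nat_lit 704)) (.leaf (nat_lit 2363)))) (.node (.node (.leaf (nat_lit 414)) (.leaf (nat_lit 1948))) (.node (.leaf (nat_lit 1001)) (.leaf (nat_lit 2840)))))) (.node (.node (.node (.node (.leaf (nat_lit 83)) (.leaf (nat_lit 1255))) (.node (.leaf (nat_lit 626)) (.leaf (nat_lit 2288)))) (.node (.node (.leaf (nat_lit 355)) (.leaf (nat_lit 1845))) (.node (.leaf (nat_lit 915)) (.leaf (nat_lit 2701))))) (.node (.node (.node (.leaf (nat_lit 208)) (.leaf (nat_lit 1560))) (.node (.leaf (nat_lit 763)) (.leaf (nat_lit 2470)))) (.node (.node (.leaf (nat_lit 496)) (.leaf (nat_lit 2071))) (.node (.leaf (nat_lit 1079)) (.leaf (nat_lit 3083))))))) (.node (.node (.node (.node (.node (.leaf (nat_lit 48)) (.leaf (nat_lit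 1214))) (.node (.leaf (nat_lit 591)) (.leaf (nat_lit 2232)))) (.node (.node (.leaf (nat_lit 321)) (.leaf (nat_lit 1803))) (.node (.leaf (nat_lit 880)) (.leaf (nat_lit 2657))))) (.node (.node (.node (.leaf (nat_lit 179)) (.leaf (nat_lit 1455))) (.node (.leaf (nat_lit 733)) (.leaf (nat_lit 2407)))) (.node (.node (.leaf (nat_lit 453)) (.leaf (nat_lit 1993))) (.node (.leaf (nat_lit 1038)) (.leaf (nat_lit 2896)))))) (.node (.node (.node (.node (.leaf (nat_lit 110)) (.leaf (nat_lit 1314))) (.node (.leaf (nat_lit 656)) (.leaf (nat_lit 2323)))) (.node (.node (.leaf (nat_lit 376)) (.leaf (nat_lit 1889))) (.node (.leaf (nat_lit 951)) (.leaf (nat_lit 2747))))) (.node (.node (.node (.leaf (nat_lit 251)) (.leaf (nat_lit 1661))) (.node (.leaf (nat_lit 811)) (.leaf (nat_lit 2551)))) (.node (.node (.leaf (nat_lit 516)) (.leaf (nat_lit 2141))) (.node (.leaf (nat_lit 1125)) (.leaf (nat_lit 3499)))))))))))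

noncomputable def o7I : NT := (.node (.node (.node (.node (.node (.node (.node (.node (.node (.leaf (nat_lit 258)) (.node (.leaf (nat_lit 132)) (.leaf (nat_lit 190)))) (.node (.leaf (nat_lit 291)) (.leaf (nat_lit 487)))) (.leaf (nat_lit 0))) (.node (.leaf (nat_lit 208)) (.node (.node (.leaf (nat_lit 0)) (.node (.node (.leaf (nat_lit 0)) (.node (.leaf (nat_lit 396)) (.leaf (nat_lit 500)))) (.leaf (nat_lit 0)))) (.node (.leaf (nat_lit 104)) (.leaf (nat_lit 358)))))) (.node (.node (.node (.node (.leaf (nat_lit 97)) (.leaf (nat_lit 458))) (.leaf (nat_lit 295))) (.node (.leaf (nat_lit 336)) (.leaf (nat_lit 427)))) (.node (.leaf (nat_lit 495)) (.node (.node (.leaf (nat_lit 384)) (.leaf (nat_lit 173))) (.leaf (nat_lit 366)))))) (.node (.node (.node (.node (.leaf (nat_lit 380)) (.node (.leaf (nat_lit 386)) (.node (.leaf (nat_lit 355)) (.leaf (nat_lit 83))))) (.node (.node (.node (.leaf (nat_lit 121)) (.node (.leaf (nat_lit 69)) (.leaf (nat_lit 499)))) (.leaf (nat_lit 462))) (.leaf (nat_lit 426)))) (.node (.node (.node (.leaf (nat_lit 360)) (.leaf (nat_lit 124))) (.node (.node (.leaf (nat_lit 0)) (.node (.leaf (nat_lit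 434)) (.leaf (nat_lit 136)))) (.leaf (nat_lit 0)))) (.node (.node (.node (.node (.leaf (nat_lit 0)) (.node (.leaf (nat_lit 130)) (.leaf (nat_lit 268)))) (.leaf (nat_lit 87))) (.leaf (nat_lit 0))) (.leaf (nat_lit 0))))) (.node (.node (.node (.leaf (nat_lit 195)) (.node (.leaf (nat_lit 0)) (.node (.node (.leaf (nat_lit 192)) (.node (.leaf (nat_lit 0)) (.node (.leaf (nat_lit 183)) (.leaf (nat_lit 164))))) (.leaf (nat_lit 0))))) (.node (.node (.leaf (nat_lit 181)) (.leaf (nat_lit 347))) (.node (.leaf (nat_lit 314)) (.node (.leaf (nat_lit 492)) (.leaf (nat_lit 50)))))) (.node (.node (.node (.node (.leaf (nat_lit 287)) (.leaf (nat_lit 482))) (.leaf (nat_lit 285))) (.node (.node (.leaf (nat_lit 0)) (.node (.leaf (nat_lit 152)) (.leaf (nat_lit 474)))) (.leaf (nat_lit 84)))) (.node (.leaf (nat_lit 52)) (.node (.leaf (nat_lit 54)) (.leaf (nat_lit 58)))))))) (.node (.node (.node (.node (.node (.node (.leaf (nat_lit 473)) (.node (.node (.leaf (nat_lit 497)) (.leaf (nat_lit 265))) (.leaf (nat_lit 0)))) (.leaf (nat_lit 352))) (.node (.leaf (nat_lit 75)) (.node (.leaf (nat_lit 202)) (.leaf (nat_lit 114))))) (.node (.node (.node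 (.node (.node (.node (.node (.leaf (nat_lit 112)) (.leaf (nat_lit 225))) (.leaf (nat_lit 0))) (.leaf (nat_lit 0))) (.leaf (nat_lit 370))) (.leaf (nat_lit 468))) (.leaf (nat_lit 441))) (.node (.node (.node (.leaf (nat_lit 0)) (.node (.leaf (nat_lit 484)) (.node (.node (.leaf (nat_lit 337)) (.node (.node (.leaf (nat_lit 142)) (.leaf (nat_lit 418))) (.leaf (nat_lit 0)))) (.leaf (nat_lit 276))))) (.node (.node (.node (.node (.leaf (nat_lit 422)) (.leaf (nat_lit 62))) (.leaf (nat_lit 0))) (.leaf (nat_lit 364))) (.leaf (nat_lit 115)))) (.leaf (nat_lit 387))))) (.node (.node (.node (.leaf (nat_lit 0)) (.node (.node (.leaf (nat_lit 436)) (.leaf (nat_lit 182))) (.leaf (nat_lit 0)))) (.node (.node (.leaf (nat_lit 0)) (.node (.node (.leaf (nat_lit 86)) (.leaf (nat_lit 343))) (.leaf (nat_lit 0)))) (.node (.leaf (nat_lit 357)) (.node (.leaf (nat_lit 0)) (.node (.node (.leaf (nat_lit 449)) (.leaf (nat_lit 230))) (.leaf (nat_lit 0))))))) (.node (.node (.node (.leaf (nat_lit 310)) (.node (.node (.leaf (nat_lit 390)) (.node (.node (.leaf (nat_lit 144)) (.leaf (nat_lit 294))) (.leaf (nat_lit 0)))) (.leaf (nat_lit 0)))) (.leaf (nat_lit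 323))) (.node (.node (.leaf (nat_lit 444)) (.leaf (nat_lit 119))) (.leaf (nat_lit 496)))))) (.node (.node (.node (.node (.leaf (nat_lit 243)) (.node (.leaf (nat_lit 187)) (.node (.node (.leaf (nat_lit 67)) (.leaf (nat_lit 216))) (.leaf (nat_lit 0))))) (.node (.leaf (nat_lit 0)) (.node (.node (.leaf (nat_lit 221)) (.leaf (nat_lit 71))) (.node (.node (.leaf (nat_lit 388)) (.leaf (nat_lit 509))) (.leaf (nat_lit 0)))))) (.node (.node (.node (.leaf (nat_lit 55)) (.leaf (nat_lit 469))) (.leaf (nat_lit 303))) (.node (.node (.node (.node (.leaf (nat_lit 330)) (.leaf (nat_lit 437))) (.leaf (nat_lit 0))) (.leaf (nat_lit 0))) (.node (.node (.node (.leaf (nat_lit 126)) (.node (.node (.leaf (nat_lit 0)) (.node (.leaf (nat_lit 413)) (.leaf (nat_lit 491)))) (.leaf (nat_lit 0)))) (.leaf (nat_lit 395))) (.leaf (nat_lit 175)))))) (.node (.node (.node (.leaf (nat_lit 477)) (.node (.node (.leaf (nat_lit 378)) (.leaf (nat_lit 493))) (.leaf (nat_lit 0)))) (.leaf (nat_lit 73))) (.node (.leaf (nat_lit 198)) (.node (.node (.node (.leaf (nat_lit 0)) (.node (.leaf (nat_lit 494)) (.node (.leaf (nat_lit 0)) (.node (.node (.node (.leaf (nat_lit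 465)) (.leaf (nat_lit 400))) (.leaf (nat_lit 0))) (.leaf (nat_lit 0)))))) (.leaf (nat_lit 0))) (.leaf (nat_lit 29)))))))) (.node (.node (.node (.node (.node (.node (.node (.leaf (nat_lit 0)) (.node (.node (.leaf (nat_lit 0)) (.node (.leaf (nat_lit 377)) (.leaf (nat_lit 333)))) (.leaf (nat_lit 0)))) (.node (.leaf (nat_lit 92)) (.leaf (nat_lit 292)))) (.node (.leaf (nat_lit 0)) (.node (.node (.node (.leaf (nat_lit 0)) (.node (.leaf (nat_lit 471)) (.leaf (nat_lit 145)))) (.leaf (nat_lit 0))) (.leaf (nat_lit 460))))) (.node (.node (.leaf (nat_lit 485)) (.node (.leaf (nat_lit 438)) (.node (.leaf (nat_lit 0)) (.node (.leaf (nat_lit 0)) (.node (.node (.leaf (nat_lit 312)) (.leaf (nat_lit 209))) (.leaf (nat_lit 0))))))) (.leaf (nat_lit 361)))) (.node (.node (.node (.node (.leaf (nat_lit 194)) (.leaf (nat_lit 489))) (.node (.leaf (nat_lit 486)) (.leaf (nat_lit 440)))) (.node (.leaf (nat_lit 420)) (.node (.leaf (nat_lit 0)) (.node (.node (.leaf (nat_lit 257)) (.leaf (nat_lit 405))) (.node (.leaf (nat_lit 365)) (.leaf (nat_lit 431))))))) (.node (.node (.node (.leaf (nat_lit 98)) (.node (.node (.leaf (nat_lit 286)) (.leaf (nat_lit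 215))) (.leaf (nat_lit 0)))) (.node (.node (.leaf (nat_lit 263)) (.leaf (nat_lit 172))) (.leaf (nat_lit 138)))) (.node (.leaf (nat_lit 110)) (.node (.leaf (nat_lit 228)) (.leaf (nat_lit 415))))))) (.node (.node (.node (.node (.node (.node (.node (.leaf (nat_lit 79)) (.leaf (nat_lit 96))) (.leaf (nat_lit 351))) (.leaf (nat_lit 0))) (.leaf (nat_lit 470))) (.node (.node (.node (.node (.node (.leaf (nat_lit 280)) (.leaf (nat_lit 411))) (.leaf (nat_lit 0))) (.node (.leaf (nat_lit 0)) (.node (.leaf (nat_lit 442)) (.leaf (nat_lit 102))))) (.leaf (nat_lit 0))) (.node (.leaf (nat_lit 193)) (.node (.leaf (nat_lit 443)) (.leaf (nat_lit 421)))))) (.node (.node (.node (.leaf (nat_lit 348)) (.leaf (nat_lit 223))) (.node (.leaf (nat_lit 118)) (.leaf (nat_lit 430)))) (.node (.node (.node (.node (.leaf (nat_lit 412)) (.leaf (nat_lit 435))) (.leaf (nat_lit 508))) (.leaf (nat_lit 298))) (.leaf (nat_lit 234))))) (.node (.node (.node (.leaf (nat_lit 502)) (.leaf (nat_lit 340))) (.node (.node (.leaf (nat_lit 332)) (.leaf (nat_lit 397))) (.leaf (nat_lit 403)))) (.node (.node (.node (.leaf (nat_lit 501)) (.node (.node (.leaf (nat_lit 320))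 (.leaf (nat_lit 156))) (.leaf (nat_lit 0)))) (.node (.node (.leaf (nat_lit 402)) (.leaf (nat_lit 445))) (.node (.node (.node (.node (.leaf (nat_lit 241)) (.leaf (nat_lit 401))) (.leaf (nat_lit 0))) (.leaf (nat_lit 334))) (.leaf (nat_lit 0))))) (.node (.leaf (nat_lit 406)) (.node (.node (.leaf (nat_lit 0)) (.node (.leaf (nat_lit 414)) (.node (.leaf (nat_lit 0)) (.node (.node (.leaf (nat_lit 408)) (.leaf (nat_lit 76))) (.leaf (nat_lit 284)))))) (.leaf (nat_lit 250)))))))) (.node (.node (.node (.node (.node (.leaf (nat_lit 240)) (.node (.leaf (nat_lit 404)) (.node (.node (.leaf (nat_lit 0)) (.node (.leaf (nat_lit 289)) (.leaf (nat_lit 479)))) (.leaf (nat_lit 0))))) (.node (.node (.leaf (nat_lit 300)) (.leaf (nat_lit 191))) (.leaf (nat_lit 467)))) (.node (.node (.leaf (nat_lit 510)) (.node (.node (.leaf (nat_lit 0)) (.node (.leaf (nat_lit 382)) (.leaf (nat_lit 417)))) (.leaf (nat_lit 0)))) (.node (.leaf (nat_lit 0)) (.node (.leaf (nat_lit 188)) (.node (.node (.leaf (nat_lit 399)) (.leaf (nat_lit 127))) (.leaf (nat_lit 89))))))) (.node (.node (.node (.node (.node (.leaf (nat_lit 131)) (.leaf (nat_lit 91))) (.leaf (nat_lit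 272))) (.node (.leaf (nat_lit 0)) (.node (.node (.leaf (nat_lit 108)) (.leaf (nat_lit 335))) (.leaf (nat_lit 0))))) (.node (.node (.node (.node (.leaf (nat_lit 407)) (.node (.leaf (nat_lit 447)) (.leaf (nat_lit 409)))) (.leaf (nat_lit 0))) (.leaf (nat_lit 367))) (.node (.leaf (nat_lit 203)) (.node (.node (.leaf (nat_lit 381)) (.leaf (nat_lit 507))) (.leaf (nat_lit 0)))))) (.node (.leaf (nat_lit 503)) (.leaf (nat_lit 261))))) (.node (.node (.node (.node (.node (.node (.node (.node (.leaf (nat_lit 0)) (.node (.leaf (nat_lit 472)) (.leaf (nat_lit 505)))) (.leaf (nat_lit 0))) (.leaf (nat_lit 43))) (.node (.node (.leaf (nat_lit 0)) (.node (.node (.leaf (nat_lit 511)) (.leaf (nat_lit 391))) (.leaf (nat_lit 277)))) (.leaf (nat_lit 0)))) (.node (.node (.leaf (nat_lit 457)) (.leaf (nat_lit 459))) (.leaf (nat_lit 113)))) (.node (.node (.leaf (nat_lit 0)) (.node (.node (.leaf (nat_lit 0)) (.node (.leaf (nat_lit 184)) (.leaf (nat_lit 383)))) (.leaf (nat_lit 189)))) (.node (.leaf (nat_lit 385)) (.node (.leaf (nat_lit 199)) (.leaf (nat_lit 327)))))) (.node (.node (.node (.node (.leaf (nat_lit 185)) (.leaf (nat_lit 504))) (.leaf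 (nat_lit 0))) (.node (.leaf (nat_lit 0)) (.node (.leaf (nat_lit 122)) (.leaf (nat_lit 315))))) (.node (.node (.node (.leaf (nat_lit 150)) (.leaf (nat_lit 205))) (.leaf (nat_lit 0))) (.leaf (nat_lit 0))))) (.node (.node (.node (.node (.node (.leaf (nat_lit 433)) (.node (.leaf (nat_lit 306)) (.leaf (nat_lit 117)))) (.node (.leaf (nat_lit 0)) (.node (.leaf (nat_lit 354)) (.leaf (nat_lit 251))))) (.node (.leaf (nat_lit 196)) (.leaf (nat_lit 498)))) (.leaf (nat_lit 157))) (.node (.node (.node (.node (.node (.leaf (nat_lit 0)) (.node (.leaf (nat_lit 488)) (.leaf (nat_lit 311)))) (.leaf (nat_lit 423))) (.leaf (nat_lit 163))) (.node (.leaf (nat_lit 490)) (.node (.leaf (nat_lit 346)) (.leaf (nat_lit 446))))) (.node (.node (.leaf (nat_lit 362)) (.leaf (nat_lit 149))) (.node (.node (.leaf (nat_lit 0)) (.node (.leaf (nat_lit 416)) (.leaf (nat_lit 475)))) (.node (.leaf (nat_lit 483)) (.leaf (nat_lit 419))))))))))) (.node (.node (.node (.node (.node (.node (.node (.leaf (nat_lit 0)) (.node (.leaf (nat_lit 456)) (.node (.leaf (nat_lit 454)) (.leaf (nat_lit 28))))) (.node (.leaf (nat_lit 252)) (.leaf (nat_lit 316)))) (.node (.node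 (.leaf (nat_lit 0)) (.node (.leaf (nat_lit 256)) (.leaf (nat_lit 169)))) (.node (.node (.node (.leaf (nat_lit 373)) (.node (.leaf (nat_lit 174)) (.leaf (nat_lit 90)))) (.leaf (nat_lit 106))) (.leaf (nat_lit 34))))) (.node (.node (.node (.leaf (nat_lit 0)) (.node (.node (.leaf (nat_lit 0)) (.node (.leaf (nat_lit 237)) (.leaf (nat_lit 219)))) (.leaf (nat_lit 448)))) (.node (.node (.leaf (nat_lit 35)) (.leaf (nat_lit 338))) (.node (.node (.node (.node (.leaf (nat_lit 14)) (.leaf (nat_lit 24))) (.leaf (nat_lit 0))) (.node (.leaf (nat_lit 39)) (.leaf (nat_lit 307)))) (.leaf (nat_lit 0))))) (.node (.node (.node (.leaf (nat_lit 275)) (.leaf (nat_lit 476))) (.leaf (nat_lit 369))) (.node (.leaf (nat_lit 328)) (.node (.leaf (nat_lit 350)) (.leaf (nat_lit 341))))))) (.node (.node (.node (.node (.leaf (nat_lit 19)) (.node (.leaf (nat_lit 128)) (.node (.node (.leaf (nat_lit 0)) (.node (.node (.leaf (nat_lit 0)) (.node (.leaf (nat_lit 103)) (.leaf (nat_lit 16)))) (.leaf (nat_lit 0)))) (.leaf (nat_lit 0))))) (.node (.node (.leaf (nat_lit 308)) (.leaf (nat_lit 65))) (.node (.leaf (nat_lit 210)) (.node (.leaf (nat_lit 66)) (.leaf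 (nat_lit 9)))))) (.node (.node (.node (.leaf (nat_lit 0)) (.node (.leaf (nat_lit 135)) (.node (.leaf (nat_lit 159)) (.leaf (nat_lit 153))))) (.node (.leaf (nat_lit 171)) (.leaf (nat_lit 212)))) (.node (.node (.leaf (nat_lit 339)) (.node (.leaf (nat_lit 297)) (.leaf (nat_lit 331)))) (.node (.leaf (nat_lit 305)) (.node (.node (.leaf (nat_lit 0)) (.node (.leaf (nat_lit 49)) (.leaf (nat_lit 432)))) (.node (.node (.leaf (nat_lit 141)) (.leaf (nat_lit 207))) (.leaf (nat_lit 74)))))))) (.node (.node (.node (.leaf (nat_lit 38)) (.node (.leaf (nat_lit 18)) (.leaf (nat_lit 1)))) (.node (.node (.node (.leaf (nat_lit 363)) (.node (.node (.node (.leaf (nat_lit 322)) (.leaf (nat_lit 31))) (.leaf (nat_lit 0))) (.leaf (nat_lit 0)))) (.leaf (nat_lit 0))) (.leaf (nat_lit 179)))) (.node (.leaf (nat_lit 318)) (.node (.node (.node (.leaf (nat_lit 232)) (.leaf (nat_lit 302))) (.node (.node (.node (.leaf (nat_lit 0)) (.node (.leaf (nat_lit 236)) (.leaf (nat_lit 27)))) (.leaf (nat_lit 0))) (.leaf (nat_lit 162)))) (.node (.leaf (nat_lit 425)) (.leaf (nat_lit 290)))))))) (.node (.node (.node (.node (.node (.node (.leaf (nat_lit 222)) (.node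 (.leaf (nat_lit 255)) (.leaf (nat_lit 375)))) (.node (.leaf (nat_lit 56)) (.node (.leaf (nat_lit 254)) (.leaf (nat_lit 2))))) (.node (.node (.leaf (nat_lit 0)) (.node (.leaf (nat_lit 278)) (.leaf (nat_lit 224)))) (.node (.leaf (nat_lit 271)) (.node (.leaf (nat_lit 146)) (.leaf (nat_lit 217)))))) (.node (.node (.leaf (nat_lit 0)) (.node (.leaf (nat_lit 125)) (.leaf (nat_lit 155)))) (.leaf (nat_lit 0)))) (.node (.node (.node (.node (.leaf (nat_lit 264)) (.leaf (nat_lit 15))) (.node (.node (.leaf (nat_lit 123)) (.leaf (nat_lit 345))) (.node (.leaf (nat_lit 101)) (.node (.leaf (nat_lit 105)) (.leaf (nat_lit 389)))))) (.node (.node (.node (.node (.leaf (nat_lit 53)) (.leaf (nat_lit 107))) (.leaf (nat_lit 0))) (.node (.node (.leaf (nat_lit 0)) (.node (.leaf (nat_lit 0)) (.node (.node (.leaf (nat_lit 506)) (.leaf (nat_lit 424))) (.leaf (nat_lit 0))))) (.node (.node (.node (.leaf (nat_lit 317)) (.leaf (nat_lit 77))) (.leaf (nat_lit 0))) (.leaf (nat_lit 0))))) (.node (.node (.leaf (nat_lit 80)) (.node (.node (.leaf (nat_lit 26)) (.leaf (nat_lit 429))) (.leaf (nat_lit 478)))) (.leaf (nat_lit 0))))) (.node (.leaf (nat_lit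 13)) (.node (.node (.leaf (nat_lit 0)) (.node (.node (.leaf (nat_lit 0)) (.node (.leaf (nat_lit 78)) (.leaf (nat_lit 371)))) (.leaf (nat_lit 0)))) (.leaf (nat_lit 0)))))) (.node (.node (.node (.node (.leaf (nat_lit 359)) (.node (.node (.leaf (nat_lit 36)) (.leaf (nat_lit 326))) (.node (.leaf (nat_lit 200)) (.leaf (nat_lit 374))))) (.node (.node (.leaf (nat_lit 0)) (.node (.leaf (nat_lit 0)) (.node (.leaf (nat_lit 139)) (.leaf (nat_lit 304))))) (.leaf (nat_lit 0)))) (.node (.node (.leaf (nat_lit 439)) (.leaf (nat_lit 168))) (.node (.leaf (nat_lit 226)) (.node (.leaf (nat_lit 0)) (.node (.leaf (nat_lit 21)) (.leaf (nat_lit 81))))))) (.node (.node (.node (.node (.node (.leaf (nat_lit 0)) (.node (.leaf (nat_lit 214)) (.leaf (nat_lit 313)))) (.node (.node (.leaf (nat_lit 93)) (.node (.leaf (nat_lit 394)) (.leaf (nat_lit 64)))) (.leaf (nat_lit 0)))) (.leaf (nat_lit 0))) (.node (.leaf (nat_lit 51)) (.node (.leaf (nat_lit 266)) (.leaf (nat_lit 68))))) (.node (.node (.node (.node (.leaf (nat_lit 279)) (.leaf (nat_lit 450))) (.leaf (nat_lit 0))) (.node (.leaf (nat_lit 0)) (.node (.leaf (nat_lit 321)) (.leaf (nat_lit 20)))))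 (.node (.leaf (nat_lit 288)) (.node (.node (.node (.leaf (nat_lit 0)) (.node (.leaf (nat_lit 37)) (.node (.leaf (nat_lit 85)) (.leaf (nat_lit 129))))) (.leaf (nat_lit 262))) (.leaf (nat_lit 5))))))))) (.node (.node (.node (.node (.node (.node (.node (.node (.leaf (nat_lit 453)) (.leaf (nat_lit 4))) (.leaf (nat_lit 0))) (.node (.leaf (nat_lit 0)) (.node (.leaf (nat_lit 283)) (.leaf (nat_lit 372))))) (.node (.node (.node (.leaf (nat_lit 46)) (.leaf (nat_lit 325))) (.leaf (nat_lit 0))) (.leaf (nat_lit 0)))) (.node (.node (.node (.leaf (nat_lit 72)) (.leaf (nat_lit 11))) (.node (.leaf (nat_lit 398)) (.leaf (nat_lit 30)))) (.node (.leaf (nat_lit 0)) (.node (.leaf (nat_lit 0)) (.node (.leaf (nat_lit 147)) (.leaf (nat_lit 6))))))) (.node (.node (.node (.node (.leaf (nat_lit 247)) (.node (.leaf (nat_lit 220)) (.leaf (nat_lit 218)))) (.node (.node (.leaf (nat_lit 176)) (.leaf (nat_lit 161))) (.node (.leaf (nat_lit 463)) (.node (.leaf (nat_lit 455)) (.leaf (nat_lit 143)))))) (.node (.node (.leaf (nat_lit 41)) (.leaf (nat_lit 180))) (.node (.leaf (nat_lit 267)) (.leaf (nat_lit 154))))) (.node (.node (.leaf (nat_lit 0)) (.node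 (.leaf (nat_lit 140)) (.leaf (nat_lit 296)))) (.node (.node (.leaf (nat_lit 3)) (.leaf (nat_lit 329))) (.leaf (nat_lit 0)))))) (.node (.node (.node (.node (.node (.node (.leaf (nat_lit 245)) (.leaf (nat_lit 170))) (.leaf (nat_lit 0))) (.node (.leaf (nat_lit 0)) (.node (.leaf (nat_lit 451)) (.leaf (nat_lit 324))))) (.leaf (nat_lit 0))) (.node (.node (.leaf (nat_lit 466)) (.leaf (nat_lit 260))) (.node (.leaf (nat_lit 231)) (.node (.node (.node (.leaf (nat_lit 116)) (.leaf (nat_lit 8))) (.leaf (nat_lit 0))) (.leaf (nat_lit 32)))))) (.node (.node (.node (.node (.node (.leaf (nat_lit 248)) (.node (.leaf (nat_lit 0)) (.node (.leaf (nat_lit 44)) (.leaf (nat_lit 235))))) (.leaf (nat_lit 0))) (.node (.node (.leaf (nat_lit 0)) (.node (.leaf (nat_lit 309)) (.leaf (nat_lit 393)))) (.leaf (nat_lit 299)))) (.node (.leaf (nat_lit 165)) (.node (.leaf (nat_lit 211)) (.node (.leaf (nat_lit 410)) (.node (.leaf (nat_lit 239)) (.leaf (nat_lit 244))))))) (.node (.node (.node (.leaf (nat_lit 40)) (.leaf (nat_lit 368))) (.node (.leaf (nat_lit 253)) (.leaf (nat_lit 301)))) (.node (.node (.leaf (nat_lit 10)) (.node (.leaf (nat_lit 109))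 (.leaf (nat_lit 342)))) (.node (.leaf (nat_lit 353)) (.leaf (nat_lit 167)))))))) (.node (.node (.node (.node (.node (.node (.node (.node (.node (.leaf (nat_lit 88)) (.leaf (nat_lit 12))) (.leaf (nat_lit 0))) (.leaf (nat_lit 480))) (.leaf (nat_lit 70))) (.node (.node (.node (.leaf (nat_lit 0)) (.node (.leaf (nat_lit 0)) (.node (.leaf (nat_lit 177)) (.leaf (nat_lit 61))))) (.leaf (nat_lit 0))) (.leaf (nat_lit 17)))) (.node (.node (.node (.leaf (nat_lit 259)) (.leaf (nat_lit 99))) (.leaf (nat_lit 0))) (.node (.leaf (nat_lit 158)) (.leaf (nat_lit 178))))) (.node (.node (.node (.leaf (nat_lit 379)) (.leaf (nat_lit 273))) (.node (.node (.node (.node (.node (.leaf (nat_lit 120)) (.leaf (nat_lit 281))) (.leaf (nat_lit 0))) (.leaf (nat_lit 148))) (.leaf (nat_lit 0))) (.leaf (nat_lit 134)))) (.node (.node (.leaf (nat_lit 23)) (.node (.leaf (nat_lit 63)) (.node (.node (.leaf (nat_lit 22)) (.leaf (nat_lit 282))) (.leaf (nat_lit 0))))) (.leaf (nat_lit 0))))) (.node (.node (.node (.leaf (nat_lit 269)) (.node (.leaf (nat_lit 464)) (.leaf (nat_lit 293)))) (.node (.node (.node (.leaf (nat_lit 0)) (.node (.leaf (nat_lit 0)) (.node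 (.node (.leaf (nat_lit 95)) (.leaf (nat_lit 25))) (.leaf (nat_lit 0))))) (.leaf (nat_lit 42))) (.node (.node (.leaf (nat_lit 100)) (.leaf (nat_lit 233))) (.leaf (nat_lit 0))))) (.node (.node (.node (.leaf (nat_lit 0)) (.node (.node (.node (.leaf (nat_lit 137)) (.leaf (nat_lit 60))) (.leaf (nat_lit 0))) (.node (.leaf (nat_lit 0)) (.node (.leaf (nat_lit 0)) (.node (.leaf (nat_lit 7)) (.leaf (nat_lit 227))))))) (.leaf (nat_lit 48))) (.node (.node (.node (.leaf (nat_lit 0)) (.node (.leaf (nat_lit 0)) (.node (.leaf (nat_lit 246)) (.leaf (nat_lit 82))))) (.node (.leaf (nat_lit 47)) (.leaf (nat_lit 197)))) (.node (.leaf (nat_lit 270)) (.leaf (nat_lit 249))))))) (.node (.node (.node (.node (.leaf (nat_lit 166)) (.node (.node (.node (.leaf (nat_lit 0)) (.node (.leaf (nat_lit 94)) (.leaf (nat_lit 349)))) (.leaf (nat_lit 0))) (.leaf (nat_lit 133)))) (.node (.node (.leaf (nat_lit 151)) (.leaf (nat_lit 186))) (.leaf (nat_lit 160)))) (.node (.leaf (nat_lit 111)) (.node (.leaf (nat_lit 428)) (.node (.leaf (nat_lit 45)) (.leaf (nat_lit 274)))))) (.node (.node (.node (.node (.node (.node (.leaf (nat_lit 0)) (.node (.node (.leaf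 (nat_lit 0)) (.node (.leaf (nat_lit 0)) (.node (.leaf (nat_lit 376)) (.leaf (nat_lit 206))))) (.leaf (nat_lit 238)))) (.leaf (nat_lit 213))) (.leaf (nat_lit 0))) (.node (.node (.node (.node (.leaf (nat_lit 0)) (.node (.leaf (nat_lit 344)) (.leaf (nat_lit 319)))) (.leaf (nat_lit 0))) (.leaf (nat_lit 0))) (.node (.node (.leaf (nat_lit 201)) (.leaf (nat_lit 57))) (.leaf (nat_lit 0))))) (.node (.leaf (nat_lit 242)) (.node (.leaf (nat_lit 392)) (.node (.leaf (nat_lit 204)) (.leaf (nat_lit 481)))))) (.node (.node (.node (.node (.leaf (nat_lit 0)) (.node (.leaf (nat_lit 33)) (.leaf (nat_lit 356)))) (.leaf (nat_lit 0))) (.node (.leaf (nat_lit 461)) (.leaf (nat_lit 452)))) (.node (.node (.leaf (nat_lit 229)) (.leaf (nat_lit 59))) (.leaf (nat_lit 0))))))))))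

noncomputable def o6T : NT := (.node (.node (.node (.node (.node (.leaf (nat_lit 0x1000000001000000001000000001000000001000000101000000001001000001)) (.leaf (nat_lit 0x1000000001010000001000000001000000011000000001000000001010000101))) (.node (.leaf (nat_lit 0x1000000001010000001000000001000000001000000001000000001000000101)) (.leaf (nat_lit 0x1000000001110000001000000001000000111000000001001000011010000101)))) (.node (.node (.leaf (nat_lit 0x1000000001000000001000000001000000001000001101000100001001000001)) (.leaf (nat_lit 0x1010000001100000001000000001000000001000000001000000111000000001))) (.leaf (nat_lit 0x1000000001000000001000000001000000101000001001001100001000000001)))) (.node (.node (.node (.leaf (nat_lit 0x1000000001000000001000000001000000011000000001000000001010000001)) (.leaf (nat_lit 0x1000000001110000001000000001000000001000000001000000011000000101))) (.node (.leaf (nat_lit 0x1000000001000000001000000001000000111000000001001000001010000001)) (.leaf (nat_lit 0x1011000001110000001000000001000000111000001101001100111011001101)))) (.node (.node (.leaf (nat_lit 0x1010000001000000001000000001000000001000000001000000101000000001))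 (.leaf (nat_lit 0x1001000001010000001000000001000000011000000101000000001011001101))) (.leaf (nat_lit 0x1010000001000000001000000001000000001000001001000100101000000001))))) (.node (.node (.node (.node (.leaf (nat_lit 0x1000000001000000001000000001000000001000001001000100001000000001)) (.leaf (nat_lit 0x1000000001000000001000000001000000111000001101001100001011000001))) (.node (.leaf (nat_lit 0x1001000001000000001000000001000000001000000101000000001001001001)) (.leaf (nat_lit 0x1010000001100000001000000001000000101000001001001100111000000001)))) (.node (.node (.leaf (nat_lit 0x1000000001000000001000000001000000101000000001001000001000000001)) (.leaf (nat_lit 0x1000000001100000001000000001000000101000000001001000011000000001))) (.leaf (nat_lit 0x1000000001100000001000000001000000001000000001000000011000000001)))) (.node (.node (.node (.leaf (nat_lit 0x1001000001000000001000000001000000001000000001000000001000001001)) (.leaf (nat_lit 0x1011000001000000001000000001000000001000001101000100101001001001))) (.leaf (nat_lit 0x1011000001000000001000000001000000001000000001000000101000001001))) (.node (.node (.leaf (nat_lit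 0x1000000001000000001000000001000000011000000101000000001011000001)) (.leaf (nat_lit 0x1011000001110000001000000001000000001000000001000000111000001101))) (.leaf (nat_lit 0x1001000001010000001000000001000000001000000001000000001000001101))))))

noncomputable def o6P : NT := (.node (.node (.node (.node (.node (.leaf (nat_lit 0)) (.leaf (nat_lit 50))) (.node (.leaf (nat_lit 17)) (.leaf (nat_lit 110)))) (.node (.node (.leaf (nat_lit 6)) (.leaf (nat_lit 77))) (.leaf (nat_lit 31)))) (.node (.node (.node (.leaf (nat_lit 4)) (.leaf (nat_lit 65))) (.node (.leaf (nat_lit 28)) (.leaf (nat_lit 140)))) (.node (.node (.leaf (nat_lit 11)) (.leaf (nat_lit 92))) (.leaf (nat_lit 38))))) (.node (.node (.node (.node (.leaf (nat_lit 3)) (.leaf (nat_lit 61))) (.node (.leaf (nat_lit 20)) (.leaf (nat_lit 122)))) (.node (.node (.leaf (nat_lit 10)) (.leaf (nat_lit 80))) (.leaf (nat_lit 35)))) (.node (.node (.node (.leaf (nat_lit 5)) (.leaf (nat_lit 68))) (.leaf (nat_lit 29))) (.node (.node (.leaf (nat_lit 13)) (.leaf (nat_lit 107))) (.leaf (nat_lit 47))))))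

noncomputable def o6I : NT := (.node (.node (.node (.node (.leaf (nat_lit 19)) (.leaf (nat_lit 16))) (.node (.node (.leaf (nat_lit 0)) (.node (.node (.leaf (nat_lit 8)) (.leaf (nat_lit 20))) (.leaf (nat_lit 0)))) (.node (.leaf (nat_lit 3)) (.leaf (nat_lit 9))))) (.node (.node (.node (.leaf (nat_lit 25)) (.node (.node (.leaf (nat_lit 17)) (.leaf (nat_lit 14))) (.leaf (nat_lit 0)))) (.leaf (nat_lit 18))) (.node (.leaf (nat_lit 22)) (.leaf (nat_lit 6))))) (.node (.node (.node (.leaf (nat_lit 15)) (.node (.leaf (nat_lit 24)) (.node (.leaf (nat_lit 0)) (.node (.leaf (nat_lit 5)) (.leaf (nat_lit 26)))))) (.node (.leaf (nat_lit 13)) (.node (.leaf (nat_lit 10)) (.leaf (nat_lit 12))))) (.node (.node (.node (.node (.node (.leaf (nat_lit 2)) (.leaf (nat_lit 4))) (.leaf (nat_lit 0))) (.node (.leaf (nat_lit 1)) (.leaf (nat_lit 7)))) (.leaf (nat_lit 11))) (.node (.leaf (nat_lit 23)) (.node (.leaf (nat_lit 0)) (.node (.node (.leaf (nat_lit 0)) (.leaf (nat_lit 21))) (.leaf (nat_lit 0))))))))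

noncomputable def o3T : NT := (.node (.node (.node (.leaf (nat_lit 0x1000000001100000001000000001000000001000000001000000011000000001)) (.leaf (nat_lit 0x1011000001110000001000000001000000001000000001000000111000001101))) (.node (.leaf (nat_lit 0x1010000001100000001000000001000000001000000001000000111000000001)) (.leaf (nat_lit 0x1010000001100000001000000001000000101000001001001100111000000001)))) (.node (.node (.leaf (nat_lit 0x1000000001110000001000000001000000001000000001000000011000000101)) (.leaf (nat_lit 0x1000000001110000001000000001000000111000000001001000011010000101))) (.node (.leaf (nat_lit 0x1000000001100000001000000001000000101000000001001000011000000001)) (.leaf (nat_lit 0x1011000001110000001000000001000000111000001101001100111011001101)))))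

noncomputable def o3P : NT := (.node (.node (.node (.leaf (nat_lit 0)) (.leaf (nat_lit 4))) (.node (.leaf (nat_lit 1)) (.leaf (nat_lit 8)))) (.node (.node (.leaf (nat_lit 0)) (.leaf (nat_lit 5))) (.node (.leaf (nat_lit 2)) (.leaf (nat_lit 14)))))

noncomputable def o3I : NT := (.node (.node (.node (.node (.node (.leaf (nat_lit 1)) (.leaf (nat_lit 5))) (.leaf (nat_lit 0))) (.node (.leaf (nat_lit 4)) (.leaf (nat_lit 0)))) (.leaf (nat_lit 7))) (.node (.leaf (nat_lit 0)) (.node (.leaf (nat_lit 2)) (.node (.leaf (nat_lit 0)) (.node (.leaf (nat_lit 6)) (.leaf (nat_lit 3)))))))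


theorem card_gen7 : Nat.card (Gen 7 vH) = 110592 := by
  refine le_antisymm (boundC (vH_sat.mono fun w hw => List.mem_append_left _ hw)).2 ?_
  have h3 := orb_card (L := ⊥) (m := 1) (orb_le (I := o3I) (p := 41) (orb_mem (k := 8) (t := o3T)
    (P := o3P) (r := 3) (by norm_num) (by norm_num)
    ((enc_ev (w := [15]) (by decide)).trans (by decide +kernel)) (by decide +kernel))
    (by decide +kernel)) bot_le bot_le (by simp)
  have h6 := orb_card (orb_le (I := o6I) (p := 143) (orb_mem (k := 27) (t := o6T)
    (P := o6P) (r := 6) (by norm_num) (by norm_num)
    ((enc_ev (w := [7]) (by decide)).trans (by decide +kernel)) (by decide +kernel))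
    (by decide +kernel)) (Gen_mono vH (by norm_num))
    (Gen_C1 (by norm_num) (by decide) (by decide +kernel)) h3
  exact orb_card (orb_le (I := o7I) (p := 30190) (orb_mem (k := 512) (t := o7T)
    (P := o7P) (r := 7) (by norm_num) (by norm_num)
    ((enc_ev (w := [16, 6, 5, 4, 16, 6, 5, 4, 16, 8, 16, 4, 5, 6, 16, 4, 5, 6, 16]) (by decide)).trans (by decide +kernel)) (by decide +kernel))
    (by decide +kernel)) (Gen_mono vH (by norm_num))
    (Gen_C1 (by norm_num) (by decide) (by decide +kernel)) h6

theorem pair_inj {G H : Type*} [Group G] [Group H] {n : ℕ} {vG : ℕ → G} {vH : ℕ → H}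
    (h1 : Finite (Gen n fun a => (vG a, vH a)))
    (h2 : Nat.card (Gen n fun a => (vG a, vH a)) ≤ Nat.card (Gen n vH)) {g : G}
    (hg : (g, 1) ∈ Gen n fun a => (vG a, vH a)) : g = 1 := by
  have h3 := card_eq_card_quotient_mul_card_subgroup
    ((MonoidHom.snd G H).comp (Gen n fun a => (vG a, vH a)).subtype).ker
  rw [Nat.card_congr (QuotientGroup.quotientKerEquivRange _).toEquiv, MonoidHom.range_comp,
    range_subtype, map_Gen] at h3
  change _ = Nat.card (Gen n vH) * _ at h3
  have h4 : 0 < Nat.card (Gen n fun a => (vG a, vH a)) := Nat.card_pos
  have h5 : ((MonoidHom.snd G H).comp (Gen n fun a => (vG a, vH a)).subtype).ker = ⊥ := by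
    refine eq_bot_of_card_le _ ?_
    by_contra hc
    nlinarith
  have : (⟨_, hg⟩ : Gen n fun a => (vG a, vH a)) = 1 := h5.le (by rfl)
  exact congrArg (fun p => p.1.1) this

theorem ev_pair {G H : Type*} [Group G] [Group H] (vG : ℕ → G) (vH : ℕ → H) (w : List ℕ) :
    ev (ext fun a => (vG a, vH a)) w = (ev (ext vG) w, ev (ext vH) w) := by
  induction w with
  | nil => rfl
  | cons a w ih =>
    rw [ev_cons, ev_cons, ev_cons, ih]
    exact Prod.ext (congrArg (· * _) (map_wval (MonoidHom.fst G H) _ _))
      (congrArg (· * _) (map_wval (MonoidHom.snd G H) _ _))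

theorem ev_mem {G : Type*} [Group G] {v : ℕ → G} {K : Subgroup G} {n : ℕ}
    (h : ∀ a, a < n → v a ∈ K) {w : List ℕ} (hw : ∀ a ∈ w, a < n) : ev v w ∈ K := by
  induction w with
  | nil => exact one_mem _
  | cons a w ih =>
    rw [ev_cons]
    exact mul_mem (h a (hw a (by simp))) (ih fun b hb => hw b (by simp [hb]))

/-- check of an identity -/
noncomputable def idChk (w w' : List ℕ) : Bool :=
  band (allL (w ++ w') fun a => Nat.blt a 16) (Nat.beq (evC w) (evC w'))

theorem transfer {G : Type*} [Group G] {v : ℕ → G} (h : Sat v (relS ++ relC)) (w w' : List ℕ)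
    (hc : idChk w w' = true) : ev (ext v) w = ev (ext v) w' := by
  obtain ⟨h1, h2⟩ := band_iff.1 hc
  have h3 : ∀ a ∈ w ++ w', a < 16 := fun a ha => Nat.blt_eq.mp (allL_iff.1 h1 a ha)
  have hw : ∀ a ∈ w, a < 16 := fun a ha => h3 a (by simp [ha])
  have hw' : ∀ a ∈ w', a < 16 := fun a ha => h3 a (by simp [ha])
  have hH := vH_sat.mono fun w hw => List.mem_append_left _ hw
  have hs : Sat (fun a => (v a, vH a)) (relS ++ relC) := ⟨Prod.ext h.1 hH.1, fun w hw => Prod.ext
    ((map_wval (MonoidHom.fst G Om) _ w).trans (h.2 w hw))
    ((map_wval (MonoidHom.snd G Om) _ w).trans (hH.2 w hw))⟩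
  have e : ev (ext vH) w = ev (ext vH) w' := oM.enc_inj (by
    rw [enc_ev fun a ha => (hw a ha).trans (by norm_num),
      enc_ev fun a ha => (hw' a ha).trans (by norm_num)]
    exact Nat.eq_of_beq_eq_true h2)
  have m := mul_mem (ev_mem (fun a ha => ext_mem7 (v := fun a => (v a, vH a)) hs.1 ha) hw)
    (inv_mem (ev_mem (fun a ha => ext_mem7 (v := fun a => (v a, vH a)) hs.1 ha) hw'))
  rw [ev_pair, ev_pair, e, Prod.inv_mk, Prod.mk_mul_mk, mul_inv_cancel] at m
  exact mul_inv_eq_one.1 (pair_inj (boundC hs).1 (card_gen7 ▸ (boundC hs).2) m)

end CfsgH2.O8
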