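import Cfsg.Agent.H2.O8M1

set_option autoImplicit false
set_option maxRecDepth 100000
set_option linter.style.haveILetI false

/-! The long root elements of `Ω⁺(8,2)`. -/

namespace CfsgH2.O8

open CfsgH3.TC CfsgH9 CfsgH8 Subgroup CfsgFT CfsgH2.Fx

noncomputable def dT : NT := (.node (.node (.node (.node (.node (.node (.node (.node (.node (.node (.node (.leaf (nat_lit 0x1000000001000000001000000001000000001000000001000001001000100001)) (.leaf (nat_lit 0x1001000000010010011001001001100001100001101000000000000001))) (.node (.leaf (nat_lit 0x1000010011111010001001000001000000001100000001000000011000000101)) (.leaf (nat_lit 0x1001011011101011100111010000011000011110000001000001010010101010)))) (.node (.node (.leaf (nat_lit 0x1001000001010000001100000001000000011000000101000000001011001111)) (.leaf (nat_lit 0x1100001000000010100111010101001001001010101110010100000001000011))) (.leaf (nat_lit 0x1000000011000011101001001001010000001111000001000000001000000001)))) (.node (.node (.node (.leaf (nat_lit 0x10010000001000001000000001000001000000101000000100101000000001)) (.leaf (nat_lit 0x100001101000000000010011111101000100001001011011100000100000001))) (.leaf (nat_lit 0x1000000011100001001000000011010000101100000001001000011100000001))) (.node (.node (.leaf (nat_lit 0x10000101000000001000000000100000010000000001000001101010100000)) (.leaf (nat_lit 0x1100000100000001011000011010111001001001101110100100001101000000))) (.leaf (nat_lit 0x1000000010000001001000001010010001111101101100001100001111000000))))) (.node (.node (.node (.node (.leaf (nat_lit 0x1000000001000000001000000001000000101000001001001101001000100001)) (.leaf (nat_lit 0x100001001000000100110011101001001110011101111011100000011000011))) (.leaf (nat_lit 0x1000000001000011101001001001010000001011000001000000001000000001))) (.node (.node (.leaf (nat_lit 0x1000000011110000001000000001000000111100000001001000011010000101)) (.leaf (nat_lit 0x1110011100101001010010010001111000001000000010100000110000000001))) (.leaf (nat_lit 0x1000011010000001000001000000001110101100101001001001011101100)))) (.node (.node (.node (.leaf (nat_lit 0x1000000011010000001000000001000000111100000001001001001010100101)) (.leaf (nat_lit 0x110000101000000110000011011101001000011101011100100100100000001))) (.leaf (nat_lit 0x1001001001010010111111000001000000011010000101100000001011001111))) (.node (.node (.leaf (nat_lit 0x100000101000000001000000010100000110000001111001100001111000000)) (.leaf (nat_lit 0x1111011000111011001011010110011000001000000010010000111100001100))) (.leaf (nat_lit 0x1100000100000001001000001110110001001001101110010100001101000000)))))) (.node (.node (.node (.node (.node (.leaf (nat_lit 0x1010000001000000001000000001000000001000000001000001101000100001)) (.leaf (nat_lit 0x1010000101000000000000011010101000101001000001001001100100100000))) (.node (.leaf (nat_lit 0x1110000000100000010000000001000000001000000110100001110001100001)) (.leaf (nat_lit 0x1111010110011011010101011011111001111101101010101101100110101111)))) (.node (.node (.leaf (nat_lit 0x1000010101101000001000000011100000001000000001000000011100000001)) (.leaf (nat_lit 0x110011101001011110011001111110000000011000011110000100100000001))) (.leaf (nat_lit 0x1001001001000000000010010000001000001000000001000001000000101000)))) (.node (.node (.node (.leaf (nat_lit 0x1000000000010000001000000100000000001000000000010000001000000100)) (.leaf (nat_lit 0x1000001101000000110110011110101000001011000001110000000100000010))) (.leaf (nat_lit 0x1011011101111000000110000010100000001000000001000000110100001110))) (.node (.node (.leaf (nat_lit 0x10101011000001000000000100000010000000001000000001010000100)) (.leaf (nat_lit 0x1001011010011001111110010000011000011110000100100000001011001110))) (.leaf (nat_lit 0x10010100001001001000001111110001000001101000010100101100000001))))) (.node (.node (.node (.node (.leaf (nat_lit 0x1101000001000000011100000001000000001000000011100000001000001011)) (.leaf (nat_lit 0x111000001001000001110110001110101100001011000001110000000))) (.leaf (nat_lit 0x1000011010000001000001000000001010101100101000000001011001100))) (.node (.node (.leaf (nat_lit 0x1000000010000010000001000001000000101100001000001100000000000001)) (.leaf (nat_lit 0x1000011010111001110110010001011000001110000000100000010000000111))) (.leaf (nat_lit 0x111011001011010110011000001000000010010000111100001100011101101)))) (.node (.node (.node (.leaf (nat_lit 0x1000010001001010001001000001000000001000000001000000001000000001)) (.leaf (nat_lit 0x100001010000010011111011101001001010101100110110000001011000011))) (.leaf (nat_lit 0x10000001000000100000001011000000110011000001001001100110100001))) (.node (.node (.leaf (nat_lit 0x1000000101000001001000000011110000001000000001000000001100000001)) (.leaf (nat_lit 0x111011010011011000011011110011000100101001010011101100100101100))) (.leaf (nat_lit 0x1001001001000000100110010000001000011010000001000001000010101010))))))) (.node (.node (.node (.node (.node (.node (.leaf (nat_lit 0x1000000001000000001000000001000001001000100001000000001000000001)) (.leaf (nat_lit 0x1000000001010010010101010000001000001000000101100001000001100110))) (.node (.leaf (nat_lit 0x1110000101000000001000000101100000001000001011010100101000000001)) (.leaf (nat_lit 0x111011011101011011111011110011001010101101011110101111110101010)))) (.node (.node (.leaf (nat_lit 0x1000000011100000001000001011000000001101000001000000011100000001)) (.leaf (nat_lit 0x100000101000000111000011010101001110011101111101100001111000000))) (.leaf (nat_lit 0x1000010001111011001001000001010000001000000001000000011000000101)))) (.node (.node (.node (.leaf (nat_lit 0x1000000011000000001000000001000000111100000001001000001010000001)) (.leaf (nat_lit 0x1100000101000000011000011111101001001001101011110100001100000001))) (.leaf (nat_lit 0x1000000001000000101000010101001001001010100001010000001000000001))) (.node (.node (.leaf (nat_lit 0x1000000010100000110000000001000000001110000000100000010000000001)) (.leaf (nat_lit 0x1000000000000011100001011111011001001011101000010100000100000001))) (.leaf (nat_lit 0x11011100111000010110000110100001110000101100111100110111001110))))) (.node (.node (.node (.node (.leaf (nat_lit 0x1000000011000000001000000001000000101100000001001000001000000001)) (.leaf (nat_lit 0x1110011100001011000011000011110000001000001010000100100100000001))) (.leaf (nat_lit 0x1100001000000010110011000001000001001010101010100100000000000001))) (.node (.node (.leaf (nat_lit 0x1000000011000000001000001001000000101101000001001000001000000001)) (.leaf (nat_lit 0x1110011000101001010010010111011000001000000010110000110100000001))) (.leaf (nat_lit 0x111000010110000110100001110000001010111101010110101110110101110)))) (.node (.node (.node (.leaf (nat_lit 0x1101001001000000001010000001000000001000000011000000001000001001)) (.leaf (nat_lit 0x1011000010010111011001001001110101100001101000000010000011))) (.leaf (nat_lit 0x1000000000010010100101000001000001011010101100000101000011100111))) (.node (.node (.leaf (nat_lit 0x1000000011110000001000000001000000101100000001001001011000100101)) (.leaf (nat_lit 0x101010110011011111101010001111000000110000010100000001000001111))) (.leaf (nat_lit 0x1000010011101011001001000001010000001100000001000000011000000001)))))) (.node (.node (.node (.node (.node (.leaf (nat_lit 0x1011000001110000001000000001000000001000000001000000111000001101)) (.leaf (nat_lit 0x1110011011111010111111000001000001101110101111101101111001100111))) (.leaf (nat_lit 0x1000010001001011001001000001010000001000000001000000001000000001))) (.node (.node (.leaf (nat_lit 0x1000001001000010001111000001000000001000000001000000001000000011)) (.leaf (nat_lit 0x101000000101000011110101001110011100001011000001110000000))) (.leaf (nat_lit 0x1000000011000010001001011001001000001101000001000000001000000001)))) (.node (.node (.node (.leaf (nat_lit 0x1000000001000000001000000111000000001000001001010100001100000001)) (.leaf (nat_lit 0x111001101000000110110010001101000000010000011100000100000001011))) (.leaf (nat_lit 0x1011010000001001001000000010010000001000001100000100101101001000))) (.node (.node (.leaf (nat_lit 0x1000000011010010001101000001000000011100000001000000001010000111)) (.leaf (nat_lit 0x1110011110111010101111011110101001101111100110011001111101100110))) (.leaf (nat_lit 0x1010000101100001001000001111110000101001001001011100111100000001))))) (.node (.node (.node (.node (.leaf (nat_lit 0x1110000001000000001000000001000000001000000111000001101001100001)) (.leaf (nat_lit 0x1010011011011101101001000010000000111000001000000001000001110))) (.leaf (nat_lit 0x1001010011111010001101000001000000011100000001000001011010101111))) (.node (.node (.leaf (nat_lit 0x1000000001000000101000001001000000111011000001001000001010000001)) (.leaf (nat_lit 0x1000000000000001011000011110011001001001101100110100001101000000))) (.leaf (nat_lit 0x101001010010010111111000001000000000110000010100000001000001111)))) (.node (.node (.node (.leaf (nat_lit 0x1001000000010010000001000001100000100001101000000000000001)) (.leaf (nat_lit 0x10110101010101001011111101001100111100000011000011100000001))) (.leaf (nat_lit 0x1001010010011001001000000000010000011100000100000000001011001100))) (.node (.node (.leaf (nat_lit 0x110000010100000001000000001000000110100001110001101111011100001)) (.leaf (nat_lit 0x1101011101101001000010010110111000001000001011010101010100101000))) (.leaf (nat_lit 0x1000000010000011101101001000010001011111100100000000001011000010)))))))) (.node (.node (.node (.node (.node (.node (.node (.leaf (nat_lit 0x1000000001000000001000000001000000011000000101000000001011000001)) (.leaf (nat_lit 0x110011101101000000010000011100000100000001011001100110100000001))) (.node (.leaf (nat_lit 0x110011010101010001011000001000000000100000010000000111000000001)) (.leaf (nat_lit 0x1111011010011001111110010110011001111110101010111101101110101110)))) (.node (.node (.leaf (nat_lit 0x1101000001000000011100000001000001011000101111100101001011101011)) (.leaf (nat_lit 0x1010010110011001001000001110110000101101001000011101101100100100))) (.leaf (nat_lit 0x10010011101010100001000001000000000110000001000000110000000001)))) (.node (.node (.node (.leaf (nat_lit 0x1000000001000000011000000101000000001000000001110000001000000001)) (.leaf (nat_lit 0x1101010100011010011101010100101000001000000010110000001000001110))) (.leaf (nat_lit 0x1100001101000000010110000110100000001000001111110100000101000010))) (.node (.node (.leaf (nat_lit 0x1000000000100000010000000001000001101000100000101000010000000001)) (.leaf (nat_lit 0x11000001011111011011001011001000011100000100000001000000001))) (.leaf (nat_lit 0x1001011010010000111000001000000110100000001001001000010101111))))) (.node (.node (.node (.node (.leaf (nat_lit 0x1000000001000000011000000001000001001000100001100000001000000001)) (.leaf (nat_lit 0x1000000010110011000001000011010000101100001000001101010100100101))) (.leaf (nat_lit 0x1000000001000000000000010000001000001000000001000001000000100000))) (.node (.node (.leaf (nat_lit 0x1111011001001000001010000001000000001000000011000000101000001001)) (.leaf (nat_lit 0x111001101000000001010011110101000000001000011010000101100001000))) (.leaf (nat_lit 0x11011101011000001110000000100000010000000001000001101010101110)))) (.node (.node (.node (.leaf (nat_lit 0x110000010100000001000000001000000000100000010000000111000000001)) (.leaf (nat_lit 0x1001001001010010110011010000001000011010000101100001000011101100))) (.leaf (nat_lit 0x1010001001001001000001000010000000001000001000000001000001000))) (.node (.node (.leaf (nat_lit 0x1011000011000011110000001000001010000100100100000001011001111)) (.leaf (nat_lit 0x10000111100001100000011101111001100111101001011100110000000001))) (.leaf (nat_lit 0x1101001000010010110111000001000001011010101010100101000010101111)))))) (.node (.node (.node (.node (.node (.leaf (nat_lit 0x1000000011000000001000000001000000001100000001000000001000000001)) (.leaf (nat_lit 0x110011100111000010110000110100001110000100110111001110111100110))) (.leaf (nat_lit 0x1011011101001000001010000001100000001000000001000000101000001001))) (.node (.node (.leaf (nat_lit 0x1000000001010010001101000001000000001000000001000000001000000111)) (.leaf (nat_lit 0x10111011011101001010000111000010110000001000000001010000100))) (.leaf (nat_lit 0x1100000101000000011000010001101000001000000011100000001000000001)))) (.node (.node (.node (.leaf (nat_lit 0x1000000001000000001000000001000001111000100101001001001011100001)) (.leaf (nat_lit 0x1000000001000000110000011100001000111011001101111101000011100000))) (.leaf (nat_lit 0x1000000001000000110100001110000001001011101101110100000101000010))) (.node (.node (.leaf (nat_lit 0x1101010101101000001000000011100000001000001011000101011100101001)) (.leaf (nat_lit 0x1110011111101010111011011011101001101111101011101100111100000001))) (.leaf (nat_lit 0x1011001101110011000111000010110000001000000001000000110100001110))))) (.node (.node (.node (.node (.leaf (nat_lit 0x1000000001000000101100000001000000001010000001000000001000000011)) (.leaf (nat_lit 0x1000010101001011001001010001111000001000000001000000001000000001))) (.leaf (nat_lit 0x10010101011000001000000000100000010000000001000001101010100100))) (.node (.node (.leaf (nat_lit 0x1000000001000000101000001001000001001011100001000000001000000001)) (.leaf (nat_lit 0x1111000011101111010000111000010110000001000000001010000010))) (.leaf (nat_lit 0x1111001101000000010110000110100000001000000011110000100100001010)))) (.node (.node (.node (.leaf (nat_lit 0x1000000001000000101000001001000000001011000001000000001000000001)) (.leaf (nat_lit 0x100000110000001111000010001111000000110000010100000001000000001))) (.leaf (nat_lit 0x10010111010101001000001000001110110100000001000011010000101))) (.node (.node (.leaf (nat_lit 0x1000000000010010000101000001000000001000001100000101000001100111)) (.leaf (nat_lit 0x111001110110011000011011100111000100101001010011101110000101100))) (.leaf (nat_lit 0x110000101000000110000010001101000000010000011100000100000000001))))))) (.node (.node (.node (.node (.node (.node (.leaf (nat_lit 0x1000000001000000001000000001000000111000001101001100001011000001)) (.leaf (nat_lit 0x1100001100000011111111001100110001001011100110110000001001000010))) (.node (.leaf (nat_lit 0x1000000011000001001000001001010000001101000001000000001000000001)) (.leaf (nat_lit 0x1111011010101011101111010110011001111110100110011001111111101010)))) (.node (.node (.leaf (nat_lit 0x11010000011000001000000001000001010000101100000101101011101101)) (.leaf (nat_lit 0x1001001000000111110011000001001000011100101100000001001001010))) (.leaf (nat_lit 0x10000001011101001001001010001000011100000000000001000000001)))) (.node (.node (.node (.leaf (nat_lit 0x1000000001010000001100000001000000011000000001000000001010000111)) (.leaf (nat_lit 0x1011001001001001010011000011000000001000001000000001000001000))) (.leaf (nat_lit 0x1111000000110000010100000001000000001000000110100001110001101111))) (.node (.node (.leaf (nat_lit 0x1000000001110000000100000010000000111000000001001000010110000110)) (.leaf (nat_lit 0x1110011011011001101110010111011001101110100111011001101101100111))) (.leaf (nat_lit 0x1011011101001011000111000010110000001000000001000000100100001010))))) (.node (.node (.node (.node (.leaf (nat_lit 0x1001000001010000001000000001000000001000000001000001001000101101)) (.leaf (nat_lit 0x1000000010010010101001011100001001011111100000010000001010000100))) (.leaf (nat_lit 0x101000001000000001000001100000000100001001011011101001000101000))) (.node (.node (.leaf (nat_lit 0x1000000011000001001000000001010000001100000001000000001000000001)) (.leaf (nat_lit 0x1110011101001001001010010111111000001000000011010000101100000001))) (.leaf (nat_lit 0x101010101111000001000000010100000110000001111001101011111101100)))) (.node (.node (.node (.leaf (nat_lit 0x100001001000000000010000001000000100000001011001100000000000001)) (.leaf (nat_lit 0x1101000000010010011111101001100001100001111000000100000001))) (.leaf (nat_lit 0x11000001000000001000001010000001100001101101001101101101101000))) (.node (.node (.leaf (nat_lit 0x1010000101000000001000000111100000001000001001010100101100000001)) (.leaf (nat_lit 0x1111010101001011010101010110111000001000000011110000100100001010))) (.leaf (nat_lit 0x10000011100000100000001011000000110111000001001001110110100001)))))) (.node (.node (.node (.node (.node (.leaf (nat_lit 0x1000010001011000001000000001000000001000000001000000001000000101)) (.leaf (nat_lit 0x11001111110011001111000000110000010100000001000001111010101110))) (.leaf (nat_lit 0x1000000001110011001001000001010000001000000001000000011000000101))) (.node (.node (.leaf (nat_lit 0x1000000000000010000101000001000000001000001100000100000001000011)) (.leaf (nat_lit 0x10100001011101001011101111001000011100000010000001000000001))) (.leaf (nat_lit 0x1101001000010010110011000001000001011010101110100101000011101101)))) (.node (.node (.node (.leaf (nat_lit 0x1000001001000000011110000001000000001000000001100000001000000011)) (.leaf (nat_lit 0x1000000101000001001000011011111000001001000001000000001100000001))) (.leaf (nat_lit 0x1000000001110011000101000010010000001000000001000000010100000110))) (.node (.node (.leaf (nat_lit 0x100001010000010001111000001000000010100000110000000001011000011)) (.leaf (nat_lit 0x101010111111010111101011010101001100111101111101101011101101110))) (.leaf (nat_lit 0x1000000010110000001000001110000001111101100000011000011110000100))))) (.node (.node (.node (.node (.leaf (nat_lit 0x1011000001000000001000000001000000001000001101000101101001101001)) (.leaf (nat_lit 0x101001010010010000011011100001000100101001010011101000000101100))) (.leaf (nat_lit 0x111011010101010001111000001000000010100000110000001111011101011))) (.node (.node (.leaf (nat_lit 0x1000000001000011001001000001010000001000000001000000001000000001)) (.leaf (nat_lit 0x1100001100000011011111010000111000001000000110100000001001000010))) (.leaf (nat_lit 0x1010010100111000001000000110100000001000001000010101111100100100)))) (.node (.node (.node (.leaf (nat_lit 0x1000001000000001000001000000000000001000001000000001000001000)) (.leaf (nat_lit 0x1000000010110011100001001011010001011111101000000101010110100101))) (.leaf (nat_lit 0x1111001101000000011010000101100000001000001111110100101001001001))) (.node (.node (.leaf (nat_lit 0x11000001000000001000001010000000100001000001001001101100101000)) (.leaf (nat_lit 0x1011001101110011110011011100111000111011001101111101110011101100))) (.leaf (nat_lit 0x1011011101111011001011000001110000001000000001000000111000001101))))))))) (.node (.node (.node (.node (.node (.node (.node (.node (.leaf (nat_lit 0x1001000001000000001000000001000000001000000001000000001000001001)) (.leaf (nat_lit 0x1101011100001011001111000000110000001000000110000000001001001010))) (.node (.leaf (nat_lit 0x1010000001100000001000000011000000101000000001001001111100100001)) (.leaf (nat_lit 0x11011110011001111110010111111001100110101100111101101101101111)))) (.node (.node (.leaf (nat_lit 0x1000000001000000000100000010000000111000001101001100000111000010)) (.leaf (nat_lit 0x11001111110011000011000011110000100100000001001001110100101101))) (.leaf (nat_lit 0x10000101000000100000010001101000000010000001000000100000000001)))) (.node (.node (.node (.leaf (nat_lit 0x1000011001001000001010000001000000001000000001000000001000000001)) (.leaf (nat_lit 0x101001001000000001010011100001000000001000011010000001000001000))) (.leaf (nat_lit 0x1000000011010010101101000001000000001110000001000000001000000111))) (.node (.node (.leaf (nat_lit 0x1000000000000010100001000001000001001010101000000100000000000001)) (.leaf (nat_lit 0x100001010000010101111011101001001010111100110010000001011000011))) (.leaf (nat_lit 0x1011010010111010000101000001000000111100001100001100110011001111))))) (.node (.node (.node (.node (.leaf (nat_lit 0x1100000001000000011000000001000000001000000011100000001000000001)) (.leaf (nat_lit 0x1001011010111010110011000001000000011110000100100001010011101101))) (.leaf (nat_lit 0x1100000100000001001000000000110000001000000110000000001001000000))) (.node (.node (.leaf (nat_lit 0x111000001000000110100000001000000000010000011100000100000001011)) (.leaf (nat_lit 0x110000110100001110000010000111000010110000110100001110011100000))) (.leaf (nat_lit 0x101011101011000001110000000100000010000000111000000001011001110)))) (.node (.node (.node (.leaf (nat_lit 0x1111000001000000001000000001000000001000001111000100101001001001)) (.leaf (nat_lit 0x110011101001010110011010001101000000010000011100000100000000001))) (.leaf (nat_lit 0x1000000000000011000001000011010000001000001000000100000100000001))) (.node (.node (.leaf (nat_lit 0x1000000001000000001000001011000001101001101001001100001100000001)) (.leaf (nat_lit 0x1011010111001110110011000011001100111100100101001010001101110))) (.leaf (nat_lit 0x1000000001000001001000011001011000001001000001000000001000000001)))))) (.node (.node (.node (.node (.node (.leaf (nat_lit 0x1000000001100000001000000001000000001000000001000001011000100001)) (.leaf (nat_lit 0x110011101011000001110000000100000010000000111000001101011100110))) (.node (.leaf (nat_lit 0x100001101000000001110000000100000010000000111000000001011000010)) (.leaf (nat_lit 0x110011011011011010111011111011001110101100111111001100111100111)))) (.node (.node (.leaf (nat_lit 0x1000000001000000010100000110000000001000001101110100000101000010)) (.leaf (nat_lit 0x1011000101001010010011000011001100001100100101001010001101000))) (.leaf (nat_lit 0x1000000000110011001101000000010000001000000100000001011001100110)))) (.node (.node (.node (.leaf (nat_lit 0x1110000001000000001000000111000000001000000011010000101100000001)) (.leaf (nat_lit 0x1000000001100001000000011000011000101001000001001001010000100000))) (.leaf (nat_lit 0x10010100101000001000000111100001100000101000011100111100000001))) (.node (.node (.leaf (nat_lit 0x1000000011010000101100000001000001111110100101001001001011100111)) (.leaf (nat_lit 0x1000000010000001111000010110011001111110101100111100001111000000))) (.leaf (nat_lit 0x100001001000000000010011101001000100001001011011100000000000001))))) (.node (.node (.node (.node (.leaf (nat_lit 0x1000000001110000001000000001000000111000000001001001011010100101)) (.leaf (nat_lit 0x1010010100001010000001010101101000001000001000010100100000000001))) (.leaf (nat_lit 0x1000011010000001000001000000000100101000001001001001000101100))) (.node (.node (.leaf (nat_lit 0x1010010101001000001000000001100000001000000001000000101000000001)) (.leaf (nat_lit 0x1011001001011101111011000011000000011000001000000001000001010))) (.leaf (nat_lit 0x1110011000111000010110000001000000001000000110100001110001100111)))) (.node (.node (.node (.leaf (nat_lit 0x1010000101000000001000000001100000001000000001000000101000000001)) (.leaf (nat_lit 0x1000000000000001011000010110011000001000001100110100001101000000))) (.leaf (nat_lit 0x1000010011111001001000000001010000001100000001000000011000000101))) (.node (.node (.leaf (nat_lit 0x1000001001000010111111000001000000001010000001100000001000000011)) (.leaf (nat_lit 0x11001111110011100111010001111000000110000001000000110000001111))) (.leaf (nat_lit 0x1000000011110011101001001001010000111111000001001000011010000101))))))) (.node (.node (.node (.node (.node (.node (.leaf (nat_lit 0x1000000001000000001000000001000000011000000001000001001010100001)) (.leaf (nat_lit 0x1110000101000000010000010000101000001000000111100001100001100000))) (.node (.leaf (nat_lit 0x100000010000000111000001101000000000111000010110000001000000001)) (.leaf (nat_lit 0x111001110110011011111011011111001010101101010100101111110101111)))) (.node (.node (.leaf (nat_lit 0x1100001001000000011110000001000000001000000111100000001001000011)) (.leaf (nat_lit 0x111001110110011110111001110110000000111000010110000110100001110))) (.leaf (nat_lit 0x1001010000101001001000000000010000001000000100000001011001101000)))) (.node (.node (.node (.leaf (nat_lit 0x1001000001000000001100000001000000011000000101000001001011101011)) (.leaf (nat_lit 0x1000011101001001001010010001111000001000000001000000001000000001))) (.leaf (nat_lit 0x10010000111000001000000001000001110000101000001101111010100101))) (.node (.node (.leaf (nat_lit 0x1010000001100000001000000011000000001000001001000101111100100001)) (.leaf (nat_lit 0x1111010111111010010101011010101001111101101111101100110111001110))) (.leaf (nat_lit 0x10010000101001001000001011010001100001101000001100111100000001))))) (.node (.node (.node (.node (.leaf (nat_lit 0x1001000001000000001100000001000000001000000101000000001001001011)) (.leaf (nat_lit 0x100001110000011110111001110110000110111001110111100000111000010))) (.leaf (nat_lit 0x101000001000000001000001100000001000001100111010000001001001000))) (.node (.node (.leaf (nat_lit 0x1101001001000000011010000001000000001000000111100000001001001001)) (.leaf (nat_lit 0x1000000000110011001001010110011000001000000000010000011100000100))) (.leaf (nat_lit 0x1011011100011000011110000100100000001000001100110101101001101110)))) (.node (.node (.node (.leaf (nat_lit 0x100000010000000111000000001000000000110000010100000001000000001)) (.leaf (nat_lit 0x11111101010000011011011101000100101000001001000010100000001))) (.leaf (nat_lit 0x1000000000110000010100000001000001111000100100101001010011100111))) (.node (.node (.leaf (nat_lit 0x1011001101000000000110000010100000001000000001000000100100001010)) (.leaf (nat_lit 0x1011011110111010111011011110101000111111001100111100111111001100))) (.leaf (nat_lit 0x1001010010111001001000000000010000011100000100000001011011101100)))))) (.node (.node (.node (.node (.node (.leaf (nat_lit 0x1000000001000000011100000001000000001000000001100000001000000011)) (.leaf (nat_lit 0x11010010011011100101001010010001100111101100001101100101101110))) (.leaf (nat_lit 0x1001010000001001001000000000010000001000000100000000001001001000))) (.node (.node (.leaf (nat_lit 0x1001001000000000110000001000000110000000001001001000010101011)) (.leaf (nat_lit 0x1011011100001010010111010101101000001000001100110100100001001011))) (.leaf (nat_lit 0x1000000101000000001000011011101000001001000001000000001100000001)))) (.node (.node (.node (.leaf (nat_lit 0x1000000001000000001000001011000000001001000001000000001100000001)) (.leaf (nat_lit 0x11011101001010100111010001101000000010000001000000100000001011))) (.leaf (nat_lit 0x111000010110000001000000001000000100100001010001101111000101101))) (.node (.node (.leaf (nat_lit 0x1111000000110000001000000110000000001000000010010000111100001100)) (.leaf (nat_lit 0x111010110101011110101010000111000010110000110100001110011101010))) (.leaf (nat_lit 0x1000000001000000011000011101001001001001100001110000001000000001))))) (.node (.node (.node (.node (.leaf (nat_lit 0x1111000001000000001000000001000000001000000011000000101000001001)) (.leaf (nat_lit 0x1101001001000000010010010100001000001000001111110101000001101000))) (.leaf (nat_lit 0x1111000000110000001000000110000001111000100110011001111111101100))) (.node (.node (.leaf (nat_lit 0x1010000101000000001000000101100000001000001001010100101000000001)) (.leaf (nat_lit 0x1000001101000011111011011101111000001011000001110000001000000001))) (.leaf (nat_lit 0x1000000010000011000001000011010000101100001000001100000100000001)))) (.node (.node (.node (.leaf (nat_lit 0x100000010000000001000000001000000110100001110001100001011000001)) (.leaf (nat_lit 0x1010011101011101101001000010000110111000001001001011010101010))) (.leaf (nat_lit 0x1010010010101010000001000001000000101100001000001100110000000001))) (.node (.node (.leaf (nat_lit 0x11000001000000001000001010000001000001101101000100101101001000)) (.leaf (nat_lit 0x110011001001011110011011111011000000011000011110000100100000001))) (.leaf (nat_lit 0x10000101000000100000011011101000000011000001000000100100000001)))))))) (.node (.node (.node (.node (.node (.node (.node (.leaf (nat_lit 0x1011000001000000001000000001000000001000000001000000101000001001)) (.leaf (nat_lit 0x1111001100110011001111000000110000001000000110000001111001101110))) (.node (.leaf (nat_lit 0x1000000011000000101000001001000000111111000001001000001010000001)) (.leaf (nat_lit 0x111011010111001110110011110011000000111000010110000110100001110)))) (.node (.node (.leaf (nat_lit 0x1110000001000000001000000111000000001000001011010100101100000001)) (.leaf (nat_lit 0x1000000010110011010101011001011001111101100000101000010010000111))) (.leaf (nat_lit 0x111001101000000001110000000100000010000000111000001101011101010)))) (.node (.node (.node (.leaf (nat_lit 0x1000000001000010001001000001000000001000000001000000001000000001)) (.leaf (nat_lit 0x1001001000000101110011000001000000011000001000000001000001010))) (.leaf (nat_lit 0x100000110000001001000000011110000100100001010001100001100000001))) (.node (.node (.leaf (nat_lit 0x1010010000001010000001000001000000001000001000000100100000000001)) (.leaf (nat_lit 0x1000000011110011100001010000011000011110000001000001010010100100))) (.leaf (nat_lit 0x11010011111010100101000001000000000110000001000000110000001111))))) (.node (.node (.node (.node (.leaf (nat_lit 0x1000001001000000001010000001000000001000000001000000001000000001)) (.leaf (nat_lit 0x1010011111001001000001000010000100101000001001001011000101100))) (.leaf (nat_lit 0x11001101000000001110000000100000010000000001000001101010101010))) (.node (.node (.leaf (nat_lit 0x100000010000000111000000001000001100110101010101100001000000001)) (.leaf (nat_lit 0x100001110000011001011011101111000000101000010010000001000000001))) (.leaf (nat_lit 0x1010010011111001001000000011010000101100000001001001111100100101)))) (.node (.node (.node (.leaf (nat_lit 0x1000000011000000101000000001000001101110100001001000001000000001)) (.leaf (nat_lit 0x1000000000000011011101010000011000001000000100100000001001000010))) (.leaf (nat_lit 0x1000000000000001001000001010010001001001101100000100001101000000))) (.node (.node (.leaf (nat_lit 0x1000000001000000001000001111000001001001101001010100001100000001)) (.leaf (nat_lit 0x1011000111011110011011000011001110011100100101001010011101100))) (.leaf (nat_lit 0x1110011000011010000111000001000000001000001110000101100001100111)))))) (.node (.node (.node (.node (.node (.leaf (nat_lit 0x1000000001010000001000000001000000001000000001000001001000100101)) (.leaf (nat_lit 0x10010010111001001000001011010001010101101000000101111110100101))) (.leaf (nat_lit 0x1001011001011010001011000001000000001000000001000000001000001101))) (.node (.node (.leaf (nat_lit 0x1000000000110000001000000110000000001000000000010000011100000100)) (.leaf (nat_lit 0x1000000000110011110101011001011001111011100000101000010010000111))) (.leaf (nat_lit 0x1000001101000011111011001101110000001011000001110000001000000001)))) (.node (.node (.node (.leaf (nat_lit 0x1000000001000000011100000001000001011000100101100000001011000011)) (.leaf (nat_lit 0x110011110101011001011000001110000000100000010000000111000000001))) (.leaf (nat_lit 0x1000011100011000011110000100100000001000000000110000001000000110))) (.node (.node (.leaf (nat_lit 0x1111000001000000010100000110000000001000001111110100100101001010)) (.leaf (nat_lit 0x1011011110101011111111001100110000111111001100111101111011101010))) (.leaf (nat_lit 0x1000000000010010011101010100001000001000000000110000001000000110))))) (.node (.node (.node (.node (.leaf (nat_lit 0x1000000001000000001000000001000001111000100001001000001010000001)) (.leaf (nat_lit 0x11010000111011100101001010010001110011101100001100110111001110))) (.leaf (nat_lit 0x1111000001000000010100000110000001111000101011111101100110101010))) (.node (.node (.leaf (nat_lit 0x10100001000001000000101100001000000100000010000001000000001)) (.leaf (nat_lit 0x1000000001100001000000011110011000101001001001011101010100100000))) (.leaf (nat_lit 0x110000001000000110000001111000001000011101011110100100100000001)))) (.node (.node (.node (.leaf (nat_lit 0x1000000101000000001000000101100000001000000001010000001000000001)) (.leaf (nat_lit 0x1001011000001001011010010000011000001000000100100000001001001000))) (.leaf (nat_lit 0x101011100001000011010000101100001000000100110110000001001001001))) (.node (.node (.leaf (nat_lit 0x1000011000111000010110000001000000001000000000100000010000000111)) (.leaf (nat_lit 0x111011011011001101110011110011001100111100111011001101101101110))) (.leaf (nat_lit 0x11010011101010100101000001000000010110000001000001110010101011))))))) (.node (.node (.node (.node (.node (.node (.leaf (nat_lit 0x1101000001000000001000000001000000001000000011000000001000001001)) (.leaf (nat_lit 0x1000000011010010000001011000001000101101000001001001000000100100))) (.node (.leaf (nat_lit 0x10010001001010100001000001000000000010000001000000100000000001)) (.leaf (nat_lit 0x1010010110101011000001011101111000101101001000011100110000000001)))) (.node (.node (.leaf (nat_lit 0x1000000001000000101100000001000001011010100101000000001011000011)) (.leaf (nat_lit 0x100000101000000111000010100101001010010100111110000001011000000))) (.leaf (nat_lit 0x10100001001001000001101110001000001100000010000001000000001)))) (.node (.node (.node (.leaf (nat_lit 0x1001000001010000001000000001000000011000000101000001001011101101)) (.leaf (nat_lit 0x1000000000110011010101010001011000001000000000100000010000000111))) (.leaf (nat_lit 0x100001101000000000010000011100000100000001011001100000100000001))) (.node (.node (.leaf (nat_lit 0x1101000000010000011100000100000000001000000010110000001000001110)) (.leaf (nat_lit 0x11010011001111110011001011001010111100000100000001010000111))) (.leaf (nat_lit 0x1101001000010010001011010100001000001000000010010000001000001100))))) (.node (.node (.node (.node (.leaf (nat_lit 0x1000000001000000000100000010000000001000000001000000000100000010)) (.leaf (nat_lit 0x1001001000000011010011000001001000001100101100000001001001000))) (.leaf (nat_lit 0x1000000001110000000100000010000000111000001101001101010111100110))) (.node (.node (.leaf (nat_lit 0x1000000011000010101001000001000000001110000001000000001000000001)) (.leaf (nat_lit 0x1011011101101001000010010000111000001000000001000001110000101000))) (.leaf (nat_lit 0x1011010010011001001000000010010000111100001100001101101111101100)))) (.node (.node (.node (.leaf (nat_lit 0x1000000001000000011000000101000001001000100001110000001000000001)) (.leaf (nat_lit 0x101010100001010111101010101101001000010100110110000001001001011))) (.leaf (nat_lit 0x1111011000001010000111000001000000001000001110000100100001001011))) (.node (.node (.leaf (nat_lit 0x1000000001000011000101000010010000001000000001000000000100000010)) (.leaf (nat_lit 0x110000110100001110000010110111001110110100110111001110111100000))) (.leaf (nat_lit 0x11011101101000000010000011100000100000000001001001110100101001)))))) (.node (.node (.node (.node (.node (.leaf (nat_lit 0x1000000011010000001000000001000000001100000001000000001000000101)) (.leaf (nat_lit 0x10010111011001001000000010110000110100000001001001101110100100))) (.leaf (nat_lit 0x1000000000100001001000000000010000001000000100000001011001100000))) (.node (.node (.leaf (nat_lit 0x101000010010000001000000001000000110100001110001101001011101101)) (.leaf (nat_lit 0x1100001000000010010111010101001000001000001110110100000001000011))) (.leaf (nat_lit 0x1000001000000101100001000000001110011100101001001001011101010)))) (.node (.node (.node (.leaf (nat_lit 0x1000010001111000001000000001000000001000000001000000011000000101)) (.leaf (nat_lit 0x111010101001010110101010001101000000010000011100000100000001011))) (.leaf (nat_lit 0x1010000101100001001000000011110000001000000001000000111100000001))) (.node (.node (.leaf (nat_lit 0x11010000101000001000000001000001100000101100001101111001101001)) (.leaf (nat_lit 0x1000000010110011101001010110011001111110100000011000011110000100))) (.leaf (nat_lit 0x1001001000000001010011000001000000001000001000000001000001000))))) (.node (.node (.node (.node (.leaf (nat_lit 0x1100000001000000001000000101000000001000000011010000001000000001)) (.leaf (nat_lit 0x100000101000000111000010000101000010010000111100000001011000000))) (.leaf (nat_lit 0x1000000011110000100100001010000000111111000001001000010110000110))) (.node (.node (.leaf (nat_lit 0x1000000000000001001000000000010000001000000100000000001001000000)) (.leaf (nat_lit 0x11011101001001001010011010111000000001000001000000101100001000))) (.leaf (nat_lit 0x100000110000001001000001111110000100101001010011100001100000001)))) (.node (.node (.node (.leaf (nat_lit 0x1011000001000000000100000010000000111000000001001001100110101010)) (.leaf (nat_lit 0x11011111011011000011000011110000100100000001001001100100101101))) (.leaf (nat_lit 0x1000000001000000111000010001001000001010000001100000001000000001))) (.node (.node (.leaf (nat_lit 0x1100000001000000011000000101000001001000101011110100001000000001)) (.leaf (nat_lit 0x1011011111011001101110011011111000111111000001001001101110101111))) (.leaf (nat_lit 0x101011101101000000010000011100000100000001011001101010100101001)))))))))) (.node (.node (.node (.node (.node (.node (.node (.node (.node (.leaf (nat_lit 0x1000000001000000001000000001000000001000001001000100001000000001)) (.leaf (nat_lit 0x1011011101010000111000001000000110100000001001001010010101011))) (.node (.leaf (nat_lit 0x1000000011000000101000001001000001011111100001000000001010000001)) (.leaf (nat_lit 0x1110011111111001100110011100111001101111101111011101110001100110)))) (.node (.node (.leaf (nat_lit 0x1101000000010000001000000100000000001000000010010000001000001100)) (.leaf (nat_lit 0x1001011010010011111011000001001010101100101100000001011001110))) (.leaf (nat_lit 0x1000000001000010101001010001001000001010000001000000001000000001)))) (.node (.node (.node (.leaf (nat_lit 0x1000000001000000001000000101000001001000100001010000001000000001)) (.leaf (nat_lit 0x1111001101000000000010010100101000001000001011010101100000101000))) (.leaf (nat_lit 0x101001010010010001111000001000000010100000110000000001011001111))) (.node (.node (.leaf (nat_lit 0x1000000000100000010000000001000000001000000100100001010001100001)) (.leaf (nat_lit 0x111010111101010110101011011101001010111101011100101110110101011))) (.leaf (nat_lit 0x1000000001000000100000010100001001011010101001010101000010100000))))) (.node (.node (.node (.node (.leaf (nat_lit 0x1010000001100000001000000001000000101000001001001100111000000001)) (.leaf (nat_lit 0x1000000000110011100001001011010001111011101000001101010110100101))) (.leaf (nat_lit 0x1000000001000010001001010001001000001000000001000000001000000001))) (.node (.node (.leaf (nat_lit 0x11000001000000100100000001000000010010000001000001100010101011)) (.leaf (nat_lit 0x1011011011011001011011000011000000101000001000000001000001100))) (.leaf (nat_lit 0x1110000000100000010000000111000001101000101010111100110100000001)))) (.node (.node (.node (.leaf (nat_lit 0x1000000011100000001000000001000000011100000001000001011010100001)) (.leaf (nat_lit 0x1000011001001011001011010001011000001000000001000000001000000001))) (.leaf (nat_lit 0x1000000010110000001000001110000000001101000000010000011100000100))) (.node (.node (.leaf (nat_lit 0x1111000000110000010100000001000000001000000010100000110000001111)) (.leaf (nat_lit 0x111010101111011110101011101111000110011001111111100110011001111))) (.leaf (nat_lit 0x1010000101000000000000010100101000001000001001010101100000100000)))))) (.node (.node (.node (.node (.node (.leaf (nat_lit 0x1000000001000000001000000001000001001000101001000100001000000001)) (.leaf (nat_lit 0x101000001000000111100001100000001110011101011111101001010101010))) (.node (.leaf (nat_lit 0x1000000010000010100001000001000001101110101000001100000000000001)) (.leaf (nat_lit 0x100001110000011010111011010111001110101101110101100000111000010)))) (.node (.node (.leaf (nat_lit 0x1001010001001010001101000001000000001000000001000000001000001011)) (.leaf (nat_lit 0x10010110111010100001011110101001010111101000010101110110100100))) (.leaf (nat_lit 0x1011001101110011001011000001110000001000000001000000111000001101)))) (.node (.node (.node (.leaf (nat_lit 0x1101000001000000011100000001000001011000101011100101001010101011)) (.leaf (nat_lit 0x1000000101000001001000010111111000001000000001010000001100000001))) (.leaf (nat_lit 0x1000000001000000001000001111000001101001100001011000001100000001))) (.node (.node (.leaf (nat_lit 0x1000000000100000010000000111000000001000000000110000010100000001)) (.leaf (nat_lit 0x100000110000001111000010111111001100110101010111100001100000001))) (.leaf (nat_lit 0x1100001101000000001010010101101000001000000011010000001000000001))))) (.node (.node (.node (.node (.leaf (nat_lit 0x1000000001000000001000000001000001101000100101001001001001100001)) (.leaf (nat_lit 0x101000000101000010100101001010010100001010000001010000000))) (.leaf (nat_lit 0x1011000001110000000100000010000000111000001101001100110111001110))) (.node (.node (.leaf (nat_lit 0x1000000001000000011000000101000001001000101101110100001001000001)) (.leaf (nat_lit 0x111000001101000010110111001110110100001011000001110000000))) (.leaf (nat_lit 0x1011010010101010000101000001000000111100001100001101110011101011)))) (.node (.node (.node (.leaf (nat_lit 0x1000000001000000011000000101000000001000001101110100001001000001)) (.leaf (nat_lit 0x1000000001100001000000010110011000001000001001010101010100100000))) (.leaf (nat_lit 0x1110011101001000001010000001100000001000000011000000101000000001))) (.node (.node (.leaf (nat_lit 0x1000000000000001001000000010010000001000001100000100001101000000)) (.leaf (nat_lit 0x110000110100001110000011100111000110111001110111101110011100000))) (.leaf (nat_lit 0x111001110110011001011000001110000000100000010000000111000001101))))))) (.node (.node (.node (.node (.node (.node (.leaf (nat_lit 0x1100000001000000001000000001000000001000000011000000001000000001)) (.leaf (nat_lit 0x1110000100100001001000001100110001101001101110011101111001100000))) (.node (.leaf (nat_lit 0x10000011100000100000000001000000010110000001000001110010100001)) (.leaf (nat_lit 0x101010100111011111101011011111001110011101010101101011110101111)))) (.node (.node (.leaf (nat_lit 0x101000010010000111100000001000000000110000010100000001000001111)) (.leaf (nat_lit 0x1111010100111011010101010001111000001000000010100000110000001111))) (.leaf (nat_lit 0x1010010101101001001000000001110000001000000001000000111000000001)))) (.node (.node (.node (.leaf (nat_lit 0x100000010000000001000000001000000010100000110000000001011000001)) (.leaf (nat_lit 0x1000000011000001101000011001011000001111000001000000001000000001))) (.leaf (nat_lit 0x10010001011010100001000001000000010010000001000001100010100101))) (.node (.node (.leaf (nat_lit 0x1011000001000000000100000010000000111000001101001101100111101010)) (.leaf (nat_lit 0x1110011101011010010111010000101000001000000111100001100001100110))) (.leaf (nat_lit 0x10010101111000001000000010100000110000000001001001111110100100))))) (.node (.node (.node (.node (.leaf (nat_lit 0x1000000011000000001000000001000000011100000001000000001010000001)) (.leaf (nat_lit 0x1000000001000000110000010100001001011010101101110101000011100000))) (.leaf (nat_lit 0x1000001000000001000001000000001100001100101001001001001101000))) (.node (.node (.leaf (nat_lit 0x100000010000000111000000001000000010110000110100000001011000001)) (.leaf (nat_lit 0x1000000010100001110000010111011001101110100000111000010100000001))) (.leaf (nat_lit 0x1000000010010000111100001100000000111111001100111101001011100110)))) (.node (.node (.node (.leaf (nat_lit 0x1000000011000000001000001001000000001101000001000000001000000001)) (.leaf (nat_lit 0x100001101000000010010011011101001100001101011101100000100000001))) (.leaf (nat_lit 0x11001101000000000010000011100000100000000001001001100100101001))) (.node (.node (.leaf (nat_lit 0x11001111000000110000001000000110000000001001000010010000111)) (.leaf (nat_lit 0x110011101101001000010011101111000100001001011011100110000000001))) (.leaf (nat_lit 0x111010110111001001000000001110000000100000010000000111000001101)))))) (.node (.node (.node (.node (.node (.leaf (nat_lit 0x1000000001110000001000000001000000111000000001001000011010000101)) (.leaf (nat_lit 0x1001011010010110111000001000001100110100101101001000001101111))) (.leaf (nat_lit 0x1000010101001001001000000001110000001000000001000000001000000001))) (.node (.node (.leaf (nat_lit 0x1011010001111000001000000001000000001000000001000000111000001101)) (.leaf (nat_lit 0x1010010100001011000001010111111000001000001000010100100100000001))) (.leaf (nat_lit 0x1000000001000001001000010001011000001000000001000000001000000001)))) (.node (.node (.node (.leaf (nat_lit 0x1001001001000000001110000001000000001000000001000000001000001011)) (.leaf (nat_lit 0x1001001001000000110110010000001000011010000101100001000011101010))) (.leaf (nat_lit 0x1101000000010010000111100001100000100001111000000100000001))) (.node (.node (.leaf (nat_lit 0x1000000011110000100100001010000000001111000001000000010100000110)) (.leaf (nat_lit 0x1011010101011010111011000011001110101100100101001010011101010))) (.leaf (nat_lit 0x1100000101000000011000010101101000001000000011110000001000000001))))) (.node (.node (.node (.node (.leaf (nat_lit 0x1110000001000000001000000001000000001000001011000100101000000001)) (.leaf (nat_lit 0x1101010100101001001000000010110000001000001110000101011101101000))) (.leaf (nat_lit 0x1000000011110000100100001010000001011111101101000101010111100110))) (.node (.node (.leaf (nat_lit 0x1000000001000000001000001101000000101001001001011100001000000001)) (.leaf (nat_lit 0x1000000001110011100001011000011000111011000001001001010010100100))) (.leaf (nat_lit 0x100001110000011000111000010110000110100001110001100000111000010)))) (.node (.node (.node (.leaf (nat_lit 0x1000000000000010000001000001000000001000001000000100000000000001)) (.leaf (nat_lit 0x11010010101011100101001010010001010111101100000101110111101010))) (.leaf (nat_lit 0x1110011011101010111011000001000001101110101011101100111000000001))) (.node (.node (.leaf (nat_lit 0x11000001000000100100000001000001010010101101000101100011101011)) (.leaf (nat_lit 0x1000010111101011001001011011111000001101000001000000011100000001))) (.leaf (nat_lit 0x1000000001010010100001010000001000011010000001000001000010100100)))))))) (.node (.node (.node (.node (.node (.node (.node (.leaf (nat_lit 0x1001000001000000001000000001000000001000000101000000001001001001)) (.leaf (nat_lit 0x1011001101000000000010010000101000001000000001000001100000101000))) (.node (.leaf (nat_lit 0x10010101010101001000001000001100110100000001000011000000001)) (.leaf (nat_lit 0x1101011111011001101110011101111001011111100111010000001011001111)))) (.node (.node (.leaf (nat_lit 0x1000000011010000101100000001000001101110100101001001001001100111)) (.leaf (nat_lit 0x100001101000000101110010100101001010010100111010000001011000010))) (.leaf (nat_lit 0x1000000010010010100001000001000001111110101000001101000010100101)))) (.node (.node (.node (.leaf (nat_lit 0x1000000101000000001000000001100000001000000001000000001000000001)) (.leaf (nat_lit 0x1000000000000010010101010101001000001000001100110100000001000011))) (.leaf (nat_lit 0x1111000000110000001000000110000001111000101110011100111111001100))) (.node (.node (.leaf (nat_lit 0x110000001000000110000000001000001000010101011100100100000000001)) (.leaf (nat_lit 0x1000000010000011100001010111011001101110101000011100000100000001))) (.leaf (nat_lit 0x1111010100111000001000000110100000001000000010010000111100001100))))) (.node (.node (.node (.node (.leaf (nat_lit 0x1000000001000000001000000101000000001000000001010000001000000001)) (.leaf (nat_lit 0x1000000010100000110000001111000001101111100000111000010100000001))) (.leaf (nat_lit 0x1000000000010010100001000001000001011010101000000101000010100101))) (.node (.node (.leaf (nat_lit 0x1000000011000000001000001001000001011101100001000000001010000001)) (.leaf (nat_lit 0x1000000010000011000001011111011000101101001000011100000100000001))) (.leaf (nat_lit 0x1110011101111000000110000010100000001000001111000101110101100110)))) (.node (.node (.node (.leaf (nat_lit 0x1100000001000000011000000001000001001000101111100100001001000001)) (.leaf (nat_lit 0x1000000000000011000001010111011000001000001000010100000100000001))) (.leaf (nat_lit 0x1100000100000001001000000010110000001000001110000100001101000000))) (.node (.node (.leaf (nat_lit 0x1000011101111000000110000010100000001000000001000000010100000110)) (.leaf (nat_lit 0x10010110011011100001010110111001110110101000011101100110100100))) (.leaf (nat_lit 0x1010010010111010000001000001000000101100001000001101110000100101)))))) (.node (.node (.node (.node (.node (.leaf (nat_lit 0x1001000001000000001100000001000000001000000001000000001000001011)) (.leaf (nat_lit 0x101010110111001001000000011110000100100001010001101011100101101))) (.leaf (nat_lit 0x1000010001101001001000000001010000001000000001000000011000000001))) (.node (.node (.leaf (nat_lit 0x1000000001000000100100001010000000001011000001000000000100000010)) (.leaf (nat_lit 0x1110000100100001010000011101111001101001101010111100110000000001))) (.leaf (nat_lit 0x1000000001000000011000011001001001001001100001100000001000000001)))) (.node (.node (.node (.leaf (nat_lit 0x1001010001101000001000000001000000001000000001000001011000101001)) (.leaf (nat_lit 0x1000001101000011001011010001111000001000000001000000001000000001))) (.leaf (nat_lit 0x1000000010010000001000001100000000101101001000011101001000100100))) (.node (.node (.leaf (nat_lit 0x1001010011101010001101000001000000011100000001000001011010101011)) (.leaf (nat_lit 0x10110101011101001010111111001100110100000011000011100000001))) (.leaf (nat_lit 0x1000000001110011100101001010010000111011000001001000010110000110))))) (.node (.node (.node (.node (.leaf (nat_lit 0x1000000001000000001000000001000001101000101001001100001000000001)) (.leaf (nat_lit 0x1000011010111010110111000001000000001110000000100000010000000111))) (.leaf (nat_lit 0x11101011000001110000000100000010000000001000000001010000110))) (.node (.node (.leaf (nat_lit 0x1000000001000000001000001101000001001001100001010000001000000001)) (.leaf (nat_lit 0x111000001101000011100111001010111100001010000001010000000))) (.leaf (nat_lit 0x11000011110000001000001010000000100101000001001001111100101100)))) (.node (.node (.node (.leaf (nat_lit 0x1000000001000000001000001101000000001001000001010000001000000001)) (.leaf (nat_lit 0x1001011001101001000010010000011000001000000001000001010000101000))) (.leaf (nat_lit 0x100000010000000111000001101000001010111100110110000001011000001))) (.node (.node (.leaf (nat_lit 0x101000000001000000110100001110000100001011000001110000000)) (.leaf (nat_lit 0x1101011110101010100111011111101001011111101110010101010111101011))) (.leaf (nat_lit 0x1000000001000000111000011001001001001011100001100000001000000001))))))) (.node (.node (.node (.node (.node (.node (.leaf (nat_lit 0x1000000001000000001000000001000001011000100001000000001010000001)) (.leaf (nat_lit 0x1010010101011010000001010000101000001000000001000001100000100100))) (.node (.leaf (nat_lit 0x1000000001000000101000010001001000001010000001000000001000000001)) (.leaf (nat_lit 0x1011011110111001110110011101111000111111001100111100110011001111)))) (.node (.node (.leaf (nat_lit 0x100001001000000000110000001000000110000001111001100000011000011)) (.leaf (nat_lit 0x11111101011000011000011110000100100000001001000010100000001))) (.leaf (nat_lit 0x1000001001000010001011010001001000001000000001000000001000000001)))) (.node (.node (.node (.leaf (nat_lit 0x1000000001100000001000000011000000001000000001000000011100000001)) (.leaf (nat_lit 0x1000000010100001110000010001011000001110000000100000010000000001))) (.leaf (nat_lit 0x1000000010000010100101000001000001111110101100001100000011000011))) (.node (.node (.leaf (nat_lit 0x1010000001100000001000000011000000101000001001001100111100000001)) (.leaf (nat_lit 0x1001011011111001100110010000011000011110000001000001010010101110))) (.leaf (nat_lit 0x11010000001011100101001010010001000011101100000100100101001010))))) (.node (.node (.node (.node (.leaf (nat_lit 0x1000000001000000001100000001000000011000000101000000001011000011)) (.leaf (nat_lit 0x1101001000010010111011010100001001011010100110110000001011001100))) (.leaf (nat_lit 0x1000001000000101100001000000000110011000001001001001010101010))) (.node (.node (.leaf (nat_lit 0x100001010000010001011000001000000000100000010000000001000000001)) (.leaf (nat_lit 0x100000110000001111000011101111000000111000010110000001000000001))) (.leaf (nat_lit 0x110000001000000110000001111000000110011001111111101100111100001)))) (.node (.node (.node (.leaf (nat_lit 0x1000000001000000101000000001000001011010100001000000001010000001)) (.leaf (nat_lit 0x1101010111101010011101011011101001011101101011100101011110101011))) (.leaf (nat_lit 0x111000001000000001000001110000001000001101111010100101101001000))) (.node (.node (.leaf (nat_lit 0x1000000001010010101101000001000000011010000001000000001010000111)) (.leaf (nat_lit 0x101010101001011111101011100111000000011000011110000001000001010))) (.leaf (nat_lit 0x1001010010011011001101000000010000011100000100000000001011001110)))))) (.node (.node (.node (.node (.node (.leaf (nat_lit 0x1101000001000000001000000001000000001000000111000000001001001001)) (.leaf (nat_lit 0x1010001111011101101001000010000110011000001001001011010101110))) (.leaf (nat_lit 0x1010000101100001001000000001110000001000000001000000111000000001))) (.node (.node (.leaf (nat_lit 0x1111000001000000001000000001000000001000001011000101101000101001)) (.leaf (nat_lit 0x11100111011110111001110110001110011100000111000010110000110))) (.leaf (nat_lit 0x1000000010100000110000000001000001111110100100101001010011100001)))) (.node (.node (.node (.leaf (nat_lit 0x1010010001101000001000000001000000001000000001000000111000000001)) (.leaf (nat_lit 0x1001011010101010110111000001000000011110000100100001010011101011))) (.leaf (nat_lit 0x1011001101000000010110000110100000001000001101110100100101001010))) (.node (.node (.leaf (nat_lit 0x1000000011000010101101000001000000011110000001000000001010000011)) (.leaf (nat_lit 0x1000000011110011011101011111011001011101101101110101011111100111))) (.leaf (nat_lit 0x1000000000000010000001010101001000001000001000010100000000000001))))) (.node (.node (.node (.node (.leaf (nat_lit 0x1100000001000000011000000001000001001000101011100100001000000001)) (.leaf (nat_lit 0x1110000100100001010000010001111000001000000010100000110000000001))) (.leaf (nat_lit 0x1010010101010101101000001000001110110100100001001011011101011))) (.node (.node (.leaf (nat_lit 0x1000000101000001001000000001110000001000000001000000001000000001)) (.leaf (nat_lit 0x1111001101000000111110011011101001111011101011101101101110101011))) (.leaf (nat_lit 0x11000011110000001000001010000001110101101101001100111111001100)))) (.node (.node (.node (.leaf (nat_lit 0x1000000001010000001100000001000000011000000101000001001011100111)) (.leaf (nat_lit 0x10000111100001001000001110110001010101101001010101111110100000))) (.leaf (nat_lit 0x1000000011100001001000001001010000101101000001001000011000000001))) (.node (.node (.leaf (nat_lit 0x1000000010110000110100000001000000001110000000100000010000000111)) (.leaf (nat_lit 0x1000000011110011111101010111011001101110101101111101011101100111))) (.leaf (nat_lit 0x1001010000111011001101000000010000001000000100000001011001101110))))))))) (.node (.node (.node (.node (.node (.node (.node (.node (.leaf (nat_lit 0x1000000001000000001000000001000000101000000001001000001000000001)) (.leaf (nat_lit 0x1011000010000011011001001000100101000001001000000000000001))) (.node (.leaf (nat_lit 0x1000010011011001001000000001010000001100000001000000001000000101)) (.leaf (nat_lit 0x110011010011001111110011111011000110111001110111101101111100111)))) (.node (.node (.leaf (nat_lit 0x1000000000010000001000000100000000001000001000010101001000100100)) (.leaf (nat_lit 0x10010001111011100001001011010000110011000001001001110110100101))) (.leaf (nat_lit 0x1000000001000000101000011001001000001011000001000000001000000001)))) (.node (.node (.node (.leaf (nat_lit 0x1000000001000000101000000001000000011010000001000000001010000001)) (.leaf (nat_lit 0x1000000010000010000001011101001000101101001000011100000000000001))) (.leaf (nat_lit 0x1000000011000011000101000010010000111100000001001000000110000010))) (.node (.node (.leaf (nat_lit 0x1101000000001110000000100000010000000001000000001010000010)) (.leaf (nat_lit 0x1110011000001011000011010111011000001000001010010100100100000001))) (.leaf (nat_lit 0x1000000010010010100101000001000001101110101100001101000001100111))))) (.node (.node (.node (.node (.leaf (nat_lit 0x1010010001001000001000000001000000001000000001000000101000000001)) (.leaf (nat_lit 0x111001110110011000111000010110000110100001110001100110111001110))) (.leaf (nat_lit 0x1000000000000001001000001000010001001001100100000000001001000000))) (.node (.node (.leaf (nat_lit 0x1100000001000000001000000101000001001000101111010100001001000001)) (.leaf (nat_lit 0x10000111100001100000010001111000000110000001000000110000000001))) (.leaf (nat_lit 0x1000011010000101100001000000000110111000001001001001010101110)))) (.node (.node (.node (.leaf (nat_lit 0x101000010010000001000000001000000010100000110000000001011001101)) (.leaf (nat_lit 0x100001010000010111011011101001000000111000010110000001000000001))) (.leaf (nat_lit 0x111000001001000000000110000010100000001000000001010000000))) (.node (.node (.leaf (nat_lit 0x1000000001000000111100000001000001011010100001100000001010000011)) (.leaf (nat_lit 0x11101101001000010011011111000100001000001001000010100000001))) (.leaf (nat_lit 0x1000000001000000111000011101001000001011000001110000001000000001)))))) (.node (.node (.node (.node (.node (.leaf (nat_lit 0x1000010001001000001000000001000000001000000001000000001000000001)) (.leaf (nat_lit 0x1011010011101011000101000010010000111100000001001001110110101010))) (.node (.leaf (nat_lit 0x1110000000100000010000000001000001101000101010101100110000000001)) (.leaf (nat_lit 0x1101010110101011011101011010111001011101101110100101011111101010)))) (.node (.node (.leaf (nat_lit 0x1010000101000000001000000011100000001000000001000000101100000001)) (.leaf (nat_lit 0x1000000010000010100001011101001001101111101000011100000000000001))) (.leaf (nat_lit 0x1010000101100001001000001101110000101001001001011100111000000001)))) (.node (.node (.node (.leaf (nat_lit 0x1100001001000000001110000001000000001000000111000000001001000011)) (.leaf (nat_lit 0x1000000101000001001000011101111000001001000001010000001000000001))) (.leaf (nat_lit 0x1010000011010101101000001000001010010100100000000001011001111))) (.node (.node (.leaf (nat_lit 0x1111000001000000010100000110000001111000100111111001100111101010)) (.leaf (nat_lit 0x11110111010010111011110101001110101100000111000010110000110))) (.leaf (nat_lit 0x1000000000000011100001001011010001001011101000000100000100000001))))) (.node (.node (.node (.node (.leaf (nat_lit 0x1000000001000000011100000001000000001000000101100000001001000011)) (.leaf (nat_lit 0x11010011111001001000001010010000000101000001000000111100001100))) (.leaf (nat_lit 0x1000011010000101100001000000000000111000001000000001000001110))) (.node (.node (.leaf (nat_lit 0x1000010001011010001001000001000000001000000001000000001000000101)) (.leaf (nat_lit 0x101011101001001001010011100111000000001000011010000001000001000))) (.leaf (nat_lit 0x1000000011110011000101000010010000111100000001001000010110000110)))) (.node (.node (.node (.leaf (nat_lit 0x1000000001010010001001000001000000001000000001000000001000000101)) (.leaf (nat_lit 0x1100001101000000110110011010101001001011101111100100000101000010))) (.leaf (nat_lit 0x111011010111010001011000001000000000100000010000000111000001101))) (.node (.node (.leaf (nat_lit 0x1001001000000010110000001000001110000100101101001000011101011)) (.leaf (nat_lit 0x1000000010000001111000011110011000111111001100111100001111000000))) (.leaf (nat_lit 0x1000000001000010111101010001001000001010000001100000001000000011))))))) (.node (.node (.node (.node (.node (.node (.leaf (nat_lit 0x1000000001000000001100000001000000001000000001000000001000000011)) (.leaf (nat_lit 0x1000000001000000010000011000001001101001100101101001000001100000))) (.node (.leaf (nat_lit 0x1100001101000000011010000101100000001000000011110000001000000001)) (.leaf (nat_lit 0x111011001111011111011011110011000110011001111111100111111001100)))) (.node (.node (.leaf (nat_lit 0x1011010001101000001000000001000000001000000001000001111000101001)) (.leaf (nat_lit 0x1000000000000010110101010101001001001010101100110100000001000011))) (.leaf (nat_lit 0x1011000011010111011000001000001010010100100100000001011001101)))) (.node (.node (.node (.leaf (nat_lit 0x1000000001010000001100000001000000001000000101000001001001100111)) (.leaf (nat_lit 0x1000011100011010011111010100101000001000000000110000001000000110))) (.leaf (nat_lit 0x110000101000000001000000010100000110000001111001101101111100000))) (.node (.node (.leaf (nat_lit 0x1000000001110000000100000010000000001000001101000101010101100110)) (.leaf (nat_lit 0x11011110101010011111011111101001010101101100110101111111101011))) (.leaf (nat_lit 0x1100001001000000011010010101001000001000000011110000001000000001))))) (.node (.node (.node (.node (.leaf (nat_lit 0x1000000001010000001100000001000000001000000001000000001000000111)) (.leaf (nat_lit 0x10010100011010100001010100101001010010101000010101100010100100))) (.leaf (nat_lit 0x1110011000001010000011000001000000001000001010000100100000000001))) (.node (.node (.leaf (nat_lit 0x1100001101000000001010000001100000001000000011000000001000000001)) (.leaf (nat_lit 0x1100001101000000100110011110101001001011101111010100000101000010))) (.leaf (nat_lit 0x1111000000110000010100000001000001111000101010101101110010101111)))) (.node (.node (.node (.leaf (nat_lit 0x1100001001000000011010000001000000001000000011100000001000000001)) (.leaf (nat_lit 0x11100001010111011010101101001000010100000110000001000000001))) (.leaf (nat_lit 0x11010001001010100101000001000000000010000001000000100000001011))) (.node (.node (.leaf (nat_lit 0x1000000001000000001000001111000000101001001001011100001100000001)) (.leaf (nat_lit 0x1011011100001001011010010110111000001000001100110100101101001000))) (.leaf (nat_lit 0x1111011011111010111011000001000001111110101111101100111011001101)))))) (.node (.node (.node (.node (.node (.leaf (nat_lit 0x1000000001000000001000000001000001101000100001001000001000000001)) (.leaf (nat_lit 0x1101001000010010101111010100001001011010100110010000001011001110))) (.leaf (nat_lit 0x11000001010111011000001000001000010100000100000001000000001))) (.node (.node (.leaf (nat_lit 0x1001000000010110000001000001110000100001101000000010000011)) (.leaf (nat_lit 0x101001001000000111110011100001000000011000011110000001000001010))) (.leaf (nat_lit 0x1000000001000000000000011000001000101001000001001001000000100000)))) (.node (.node (.node (.leaf (nat_lit 0x1000000001000000111100000001000000001010000001100000001000000011)) (.leaf (nat_lit 0x1010010010101011000001000011010000101100001000001100110100000001))) (.leaf (nat_lit 0x111011001111000000110000001000000110000001111001100110011001111))) (.node (.node (.leaf (nat_lit 0x1000000011000001001000000011010000101100000001001000001100000001)) (.leaf (nat_lit 0x10000111100001100000010111111001100110101001011100110100000001))) (.leaf (nat_lit 0x1000001101000011110111001110110000001011000001110000000100000010))))) (.node (.node (.node (.node (.leaf (nat_lit 0x101000010010000001000000001000000000100000010000000001000001101)) (.leaf (nat_lit 0x1101011100011010001011010100101000001000000010010000001000001100))) (.leaf (nat_lit 0x1010010011011001001000000011010000101100000001001001101100100101))) (.node (.node (.leaf (nat_lit 0x1000000001010010101001000001000000011010000001000000001010000101)) (.leaf (nat_lit 0x1100000100000001011000011100111001001001100110110000001001000000))) (.leaf (nat_lit 0x1000000010100000110000001111000000001111000000110000010100000001)))) (.node (.node (.node (.leaf (nat_lit 0x10000001000000100000000001000000010010000001000001100010100001)) (.leaf (nat_lit 0x1101011100111011000011000011110000001000001010000101010100101101))) (.leaf (nat_lit 0x100000010000000111000001101000000110111001110111100001011000001))) (.node (.node (.leaf (nat_lit 0x111000010110000001000000001000000110100001110001100111011001101)) (.leaf (nat_lit 0x1000000001110011111101011111011000111011001101111101011111100111))) (.leaf (nat_lit 0x1000000001000011001001010001011000001000000001000000001000000001)))))))) (.node (.node (.node (.node (.node (.node (.node (.leaf (nat_lit 0x1000000001000000001000000001000000101000001001001100001000000001)) (.leaf (nat_lit 0x1000000000110011101101001000010001111011100100001001011011100110))) (.node (.leaf (nat_lit 0x100000010000000001000001101000000100101001010011100001000000001)) (.leaf (nat_lit 0x1101011110111001110110011011111001011111101010100101010110101111)))) (.node (.node (.leaf (nat_lit 0x1101001001000000001110000001000000001000000111000000001001001011)) (.leaf (nat_lit 0x1111001100110011110011001111110001111011100110111001110111101101))) (.leaf (nat_lit 0x100001101000000011110000100100001010000100111110000001011000010)))) (.node (.node (.node (.leaf (nat_lit 0x1010000001000001000000001000001000000100100000000001001001001)) (.leaf (nat_lit 0x1000010110011001001000001100110000001101000000010000001000000100))) (.leaf (nat_lit 0x1000000011000001001000001011010000101101000001001000001100000001))) (.node (.node (.leaf (nat_lit 0x1000001000000001000001000000000100001000001001001001000101000)) (.leaf (nat_lit 0x1000000010000011111101010000011000011110000100100000001011000010))) (.leaf (nat_lit 0x1011010001111011000101000010010000001000000001000000110100001110))))) (.node (.node (.node (.node (.leaf (nat_lit 0x1001010001001000001000000001000000001000000001000000001000001001)) (.leaf (nat_lit 0x10000111100001001000000010110000110100000001001001111110100000))) (.leaf (nat_lit 0x1000000000100000010000000001000001101000100100101001010001100001))) (.node (.node (.leaf (nat_lit 0x110011000001000011010000001000001000000101010100100101000000001)) (.leaf (nat_lit 0x1000000010000010110101011101001000111111001100111100000011000011))) (.leaf (nat_lit 0x110011010111010001111000001000000010100000110000001111011100111)))) (.node (.node (.node (.leaf (nat_lit 0x1100000001000000001000000101000000001000001011010100001000000001)) (.leaf (nat_lit 0x1110011100111011001111000000110000001000000110000001111001100110))) (.leaf (nat_lit 0x1000000001000000000000010100001000001000001001010101000000100000))) (.node (.node (.leaf (nat_lit 0x10100101000001000000111100001100000100000011000011100000001)) (.leaf (nat_lit 0x1001011010011011111011010000011000011110000100100000001011001100))) (.leaf (nat_lit 0x11011111010000111000001000000110100000001001000010010000111)))))) (.node (.node (.node (.node (.node (.leaf (nat_lit 0x1000000001000000001000000011000000001000000001000000001100000001)) (.leaf (nat_lit 0x1100001001000000111110010101001001001010100111110000001001000011))) (.leaf (nat_lit 0x1011001101000000010000001000000100000000001001001010000101001))) (.node (.node (.leaf (nat_lit 0x1000000001000001001000000011010000001000000001000000001100000001)) (.leaf (nat_lit 0x10111111010101001011010101000110111000001001000011110000100))) (.leaf (nat_lit 0x1000010101001010001001010001101000001000000001000000001000000001)))) (.node (.node (.node (.leaf (nat_lit 0x1000000001000000101100000001000001001010100101000000001001000011)) (.leaf (nat_lit 0x1001010010101011001101000000010000011100000100000001011011101010))) (.leaf (nat_lit 0x1010010101001001001000000011110000001000000001000000101100000001))) (.node (.node (.leaf (nat_lit 0x1110000101000000001000000011100000001000001011000100101100000001)) (.leaf (nat_lit 0x11001111110011110011001111110001010111101101110101110111101101))) (.leaf (nat_lit 0x1101010100111000001000000110100000001000001010010101011100101100))))) (.node (.node (.node (.node (.leaf (nat_lit 0x10000011000001000000001000001010000100000000000001010000101)) (.leaf (nat_lit 0x1101001000010010011111010100001000001000000010110000001000001110))) (.leaf (nat_lit 0x1111010101101000001000000011100000001000001011000101111100101001))) (.node (.node (.leaf (nat_lit 0x10000001010101001000001000001000010100000000000001000000001)) (.leaf (nat_lit 0x1000000001000011110101011110011000001011000001110000000100000010))) (.leaf (nat_lit 0x1000000010100001001000000010010000111100001100001101011111100000)))) (.node (.node (.node (.leaf (nat_lit 0x1000000001000010101001000001000000001010000001000000001000000001)) (.leaf (nat_lit 0x1000011111111010100111011010101000001111000001000000010100000110))) (.leaf (nat_lit 0x101010110011001001000000001110000000100000010000000001000001101))) (.node (.node (.leaf (nat_lit 0x1100001000000010000111000001000000001000001110000100000001000011)) (.leaf (nat_lit 0x1000011110011001111110011100111000001111000000110000001000000110))) (.leaf (nat_lit 0x10010101001010100001010001101000000010000001000000100000000001))))))) (.node (.node (.node (.node (.node (.node (.leaf (nat_lit 0x1000000001000000001000000001000000001000000101000001001001100001)) (.leaf (nat_lit 0x1000000001100001000000010000011000001000000001000001010000100000))) (.node (.leaf (nat_lit 0x110000101000000001000000000100000010000000111000001101011100000)) (.leaf (nat_lit 0x111010111011011110101010111111001100110100111111001100101101111)))) (.node (.node (.leaf (nat_lit 0x1000000001000000010100000110000001111000100001111000000110000010)) (.leaf (nat_lit 0x1000000010100001110000011001011001101111100000101000010000000001))) (.leaf (nat_lit 0x1000001101000000001010010001101000001000000001000000001000000001)))) (.node (.node (.node (.leaf (nat_lit 0x1000000001000000000100000010000000111000000001001000000110000010)) (.leaf (nat_lit 0x11001101000000001010011010101000000001000001000000101100001000))) (.leaf (nat_lit 0x1111000000110000010100000001000001111000101110101100110011001111))) (.node (.node (.leaf (nat_lit 0x1000000000010000001000000100000001011000101000010101001010100100)) (.leaf (nat_lit 0x1111011000001001011010010110011000001000001110110100101101001000))) (.leaf (nat_lit 0x1000011100101000010010000111100000001000000000110000010100000001))))) (.node (.node (.node (.node (.leaf (nat_lit 0x1011000001110000001000000001000000111000001101001100111011001101)) (.leaf (nat_lit 0x1000000010100000110000001111000001011111101100110101010111100001))) (.leaf (nat_lit 0x1101000000010000001000000100000001011000101110010101001011101100))) (.node (.node (.leaf (nat_lit 0x100001001000000010010000001000001100000101011101100000000000001)) (.leaf (nat_lit 0x1101011100001001011010010000111000001000000110100000001001001000))) (.leaf (nat_lit 0x11001101000000010010000111100001100000101101111101100101101001)))) (.node (.node (.node (.leaf (nat_lit 0x1000010101001000001000000001100000001000000001000000001000000001)) (.leaf (nat_lit 0x1000011011011001101110010001011000001110000001000000001000000111))) (.leaf (nat_lit 0x111000001000000001000001110000000100001001011011101101100101000))) (.node (.node (.leaf (nat_lit 0x1000001101000000010110000110100000001000000001110000000100000010)) (.leaf (nat_lit 0x1111001100110011001011010110111000001000000010010000111100001100))) (.leaf (nat_lit 0x11001101000000100110010001101000000010000001000000100000001011)))))) (.node (.node (.node (.node (.node (.leaf (nat_lit 0x1000000001000000001000000001000000111000000001001001001010100001)) (.leaf (nat_lit 0x1111001100110011000011000011110000001000001010000101110100101101))) (.leaf (nat_lit 0x1001001001010010111011000001000000011010000101100000001011001101))) (.node (.node (.leaf (nat_lit 0x110000010100000001000000001000000010100000110000001111011100001)) (.leaf (nat_lit 0x1001011010010101111011000001000000111000001000000001000001110))) (.leaf (nat_lit 0x101000001000000111100001100000000110011001111111101001011101010)))) (.node (.node (.node (.leaf (nat_lit 0x1001000000000110000001000000110000000001001000000010000011)) (.leaf (nat_lit 0x1000000011000010111101011001001001011111100001100000001010000011))) (.leaf (nat_lit 0x1000000000100001001000000010010000001000001100000101011101100000))) (.node (.node (.leaf (nat_lit 0x101001001000000000110000001000000110000001111001101000011101011)) (.leaf (nat_lit 0x11011111001100110011001011000110111000001001000010010000111))) (.leaf (nat_lit 0x111000001001000001100110001010101100001010000001010000000))))) (.node (.node (.node (.node (.leaf (nat_lit 0x1100001001000000001010000001000000001000000011000000001000000001)) (.leaf (nat_lit 0x101011101001011111111001100110000000011000011110000001000001010))) (.leaf (nat_lit 0x1111000000110000001000000110000000001000001010010101111100101100))) (.node (.node (.leaf (nat_lit 0x1000001001000010111011000001000000001010000001100000001000000001)) (.leaf (nat_lit 0x1010000101100001000000011010111000101001000001001001110100100000))) (.leaf (nat_lit 0x10000101000000100000010101101001000010101001010100100000000001)))) (.node (.node (.node (.leaf (nat_lit 0x1011000001000000000100000010000000001000001101000100100101001010)) (.leaf (nat_lit 0x10010011011011100001001011010000110111000001001001100110100101))) (.leaf (nat_lit 0x100001110000011001011000001110000000100000010000000001000000001))) (.node (.node (.leaf (nat_lit 0x1111010101001000001000000001100000001000000011000000101000001001)) (.leaf (nat_lit 0x1100001100000011110011011011111001001011101010100100000100000001))) (.leaf (nat_lit 0x1111010100101001001000000000110000001000000110000001111001101000))))))))))) (.node (.node (.node (.node (.node (.node (.node (.node (.node (.node (.leaf (nat_lit 0x1000000001000000001000000001000000001000000101000000001001000001)) (.leaf (nat_lit 0x1001001001000000010010010000001000001000000101100001000001101000))) (.node (.leaf (nat_lit 0x111011000001000011010000001000001000000101110100100101001001001)) (.leaf (nat_lit 0x1111011011111001100110010110011001111110101111011100110111001110)))) (.node (.node (.leaf (nat_lit 0x1000000001110000000100000010000000001000000001000000010100000110)) (.leaf (nat_lit 0x1110000100100001010000011011111001101001101010101100110100000001))) (.leaf (nat_lit 0x1000000010000011001101000000010000011100000100000000001011000010)))) (.node (.node (.node (.leaf (nat_lit 0x1000000001000000011000000001000001001000100101100000001001000001)) (.leaf (nat_lit 0x10111111001001000000010110000110100000001001000011110000100))) (.leaf (nat_lit 0x1110000101000000001000000111100000001000000011010000101100000001))) (.node (.node (.leaf (nat_lit 0x1000000000010010000001000001000000001000001000000101000000100101)) (.leaf (nat_lit 0x1000000001110011011101010111011000001000001101110101011101100111))) (.leaf (nat_lit 0x1000000001000000101000011101001001001011100001010000001000000001))))) (.node (.node (.node (.node (.leaf (nat_lit 0x1010000001000000001000000001000000001000001001000101101000100001)) (.leaf (nat_lit 0x1101001001000000100110010100001001011010101111010101000011101010))) (.leaf (nat_lit 0x1000000000000011001101000000010000001000000100000000001001000010))) (.node (.node (.leaf (nat_lit 0x110000010100000001000000001000000100100001010001100111000000001)) (.leaf (nat_lit 0x101011110111010000011011110101000100101001010011101010100101100))) (.leaf (nat_lit 0x111010101011000001000000000100000010000000111000001101011101100)))) (.node (.node (.node (.leaf (nat_lit 0x1111000001000000001000000001000000001000000111000001101001101001)) (.leaf (nat_lit 0x1000000001000000110000011000001001111011100101101001000011100000))) (.leaf (nat_lit 0x1000001101000011000111000010110000001000000001000000000100000010))) (.node (.node (.leaf (nat_lit 0x1000000010000010000101000001000000111100001100001100000011000011)) (.leaf (nat_lit 0x11011111111001100110010001111000000110000001000000110000001111))) (.leaf (nat_lit 0x1000000101000000001000011111101000001001000001010000001100000001)))))) (.node (.node (.node (.node (.node (.leaf (nat_lit 0x1010000001100000001000000001000000001000000001000000111000000001)) (.leaf (nat_lit 0x1000001101000000100110011010101000001011000001000000000100000010))) (.node (.leaf (nat_lit 0x100000101000000001000000100100001010000100111010000001011000000)) (.leaf (nat_lit 0x111010100001011110101011010111001000011101110100100100101001010)))) (.node (.node (.leaf (nat_lit 0x1000000001000000111100000001000001001010100101100000001001000011)) (.leaf (nat_lit 0x1111000011110011001111110001100111100001111000000100000001))) (.leaf (nat_lit 0x11011101010000011000001000000100100000001001000010000000001)))) (.node (.node (.node (.leaf (nat_lit 0x1011000001110000001000000001000000111000001101001101111011101101)) (.leaf (nat_lit 0x1000000001000001001000011111011000001001000001010000001100000001))) (.leaf (nat_lit 0x1000000000110000001000000110000001111000101000011101011110100100))) (.node (.node (.leaf (nat_lit 0x1000000000010000011100000100000000001000001100110101001001100110)) (.leaf (nat_lit 0x1000000011100001100000010110011001111110101001011101010110100000))) (.leaf (nat_lit 0x1111010100001001001000000010110000001000001110000100101101001000))))) (.node (.node (.node (.node (.leaf (nat_lit 0x1000000001000000001000000001000001011000101101000101001011100001)) (.leaf (nat_lit 0x10000101000000100000011111101001000011101001010100100100000001))) (.leaf (nat_lit 0x101010101011000001000000000100000010000000111000000001011001100))) (.node (.node (.leaf (nat_lit 0x1110000000100000010000000001000000001000000010100000110000000001)) (.leaf (nat_lit 0x111011001001001001010011110011000000001000011010000101100001000))) (.leaf (nat_lit 0x1000000010110000110100000001000001101110100100101001010001100111)))) (.node (.node (.node (.leaf (nat_lit 0x11000001000011010000001000001000000100000100000001000000001)) (.leaf (nat_lit 0x1000000011000001101000010111011001101110100001011000001100000001))) (.leaf (nat_lit 0x1000000011000000101000001001000001101111100001001000001000000001))) (.node (.node (.leaf (nat_lit 0x1000000001000001001000001011010000001001000001000000001100000001)) (.leaf (nat_lit 0x11010011011011111011001011001010101100000100000001010000111))) (.leaf (nat_lit 0x1000011010101010110011000001000000001110000000100000010000000001))))))) (.node (.node (.node (.node (.node (.node (.leaf (nat_lit 0x1010000001000000001000000001000000001000001001000100101000000001)) (.leaf (nat_lit 0x1000000001000001001000010111011000001000000001010000001100000001))) (.node (.leaf (nat_lit 0x101001010010010001011000001000000000100000010000000001000001101)) (.leaf (nat_lit 0x101010111101011111101010110111001110110101011111101011110101010)))) (.node (.node (.leaf (nat_lit 0x1100000101000000001000000011100000001000001011000100001100000001)) (.leaf (nat_lit 0x1000000010000010010101011101001001111101101100111100000011000011))) (.leaf (nat_lit 0x11011100001000011010000101100001000000101100110100101001001001)))) (.node (.node (.node (.leaf (nat_lit 0x100000010000000001000000001000000100100001010001100001000000001)) (.leaf (nat_lit 0x1110000101000000010000010100101000001000001111110101100001100000))) (.leaf (nat_lit 0x100001010000010111111000001000000010110000110100000001011000011))) (.node (.node (.leaf (nat_lit 0x1000001000000101100001000000000000011000001000000001000001010)) (.leaf (nat_lit 0x101011111101010010111011011101001110101101011101101010110101011))) (.leaf (nat_lit 0x1101011100011000011110000100100000001000000010110000001000001110))))) (.node (.node (.node (.node (.leaf (nat_lit 0x100000010000000001000000001000000000100000010000000001000000001)) (.leaf (nat_lit 0x1000000010100001001000001010010001011101101100000101011111100000))) (.leaf (nat_lit 0x110000001000000110000000001000001010010101111100101100011100001))) (.node (.node (.leaf (nat_lit 0x1110000101000000001000000001100000001000000011000000101000000001)) (.leaf (nat_lit 0x1011011011001101110011000011000000111000001000000001000001110))) (.leaf (nat_lit 0x1011010011011011000101000010010000111100000001001001100110101110)))) (.node (.node (.node (.leaf (nat_lit 0x1100000001000000011000000101000000001000000011110000001000000001)) (.leaf (nat_lit 0x1001001001010010010111010000001000001000000101100001000001101110))) (.leaf (nat_lit 0x1001011000111000010110000001000000001000000100100001010001101111))) (.node (.node (.leaf (nat_lit 0x1010000001010101101000001000001000010100100000000001001001011)) (.leaf (nat_lit 0x1111001100110011100111011101111001111011101110011100110011001111))) (.leaf (nat_lit 0x110011100001000011010000101100001000000101010110100101000000001)))))) (.node (.node (.node (.node (.node (.leaf (nat_lit 0x1000000001000000001000000001000001011000101001000101001010100001)) (.leaf (nat_lit 0x110011001011010110111000001000000010010000111100001100011100111))) (.leaf (nat_lit 0x11100001000011010000101100001000000100000110000001000000001))) (.node (.node (.leaf (nat_lit 0x1000000001000010101101000001000000001010000001000000001000000011)) (.leaf (nat_lit 0x11001101000000011010011110101001000001101101110100101101001000))) (.leaf (nat_lit 0x1000000001010010000001010000001000001000000001000001000000100100)))) (.node (.node (.node (.leaf (nat_lit 0x1000000001000000101100000001000000011010000001000000001010000011)) (.leaf (nat_lit 0x1001000000110110011001001001110011100001101000000010000011))) (.leaf (nat_lit 0x1100001001000000001010010101001000001000000011010000001000000001))) (.node (.node (.leaf (nat_lit 0x1101001001000000011110000001000000001000000011100000001000001011)) (.leaf (nat_lit 0x101011100101001010010011010111001100001101110101101010101101000))) (.leaf (nat_lit 0x1110000100100001001000000010110000001000001110000101111101100000))))) (.node (.node (.node (.node (.leaf (nat_lit 0x1000000011010000001000000001000000101100000001001001001000100101)) (.leaf (nat_lit 0x10100101001001000001111110001100001100000011000011100000001))) (.leaf (nat_lit 0x111011000011000011110000001000001010000101010100101101010101111))) (.node (.node (.leaf (nat_lit 0x1011001101000000001010000001100000001000000001000000101000001001)) (.leaf (nat_lit 0x1100000100000001011000010110111000001000001110110100001101000000))) (.leaf (nat_lit 0x11010001011010100101000001000000010010000001000001100010101111)))) (.node (.node (.node (.leaf (nat_lit 0x101000000001000000000100000010000000001000000001010000000)) (.leaf (nat_lit 0x101011110101011000111000010110000110100001110001101010111101010))) (.leaf (nat_lit 0x1000001001000000101110010001001000001010000001000000001000000011))) (.node (.node (.leaf (nat_lit 0x111000010110000001000000001000000010100000110000001111011101101)) (.leaf (nat_lit 0x100000110000001111000011011111001100111101010101100001100000001))) (.leaf (nat_lit 0x1000000011000010101001011001001000001111000001000000001000000001)))))))) (.node (.node (.node (.node (.node (.node (.node (.leaf (nat_lit 0x1000000001010000001000000001000000001000000001000000001000000101)) (.leaf (nat_lit 0x1101000000000010011011101000100001000001001000000100000001))) (.node (.leaf (nat_lit 0x10000011100000100000000001000001100110101001001100110000000001)) (.leaf (nat_lit 0x111011000001011100111011110011001000011101110010100100101001010)))) (.node (.node (.leaf (nat_lit 0x1110000001000000001000000111000001101000100111011001101101100001)) (.leaf (nat_lit 0x1111001101000000101110011111101001111011100111011001101111101011))) (.leaf (nat_lit 0x110000101000000001000000100100001010000101111010101101011100000)))) (.node (.node (.node (.leaf (nat_lit 0x1000000001000000001000001001000000001001000001000000001000000001)) (.leaf (nat_lit 0x1000000010010010011101011100001001011101100000110000001010000110))) (.leaf (nat_lit 0x1010010100011000001000000100100000001000001000010101101000100100))) (.node (.node (.leaf (nat_lit 0x10000001000000100000000001000001010010101001000101100010100001)) (.leaf (nat_lit 0x1001011000001011011111010000011000001000000100100000001001001010))) (.leaf (nat_lit 0x100001101000000010010000111100001100000101011111100000100000001))))) (.node (.node (.node (.node (.leaf (nat_lit 0x1000000001000000011000000001000000001000000101100000001001000001)) (.leaf (nat_lit 0x1000000000010010111101010100001001011010100000110000001010000110))) (.leaf (nat_lit 0x10000101000000001000000100100001010000101001010101101010100000))) (.node (.node (.leaf (nat_lit 0x1100000001000000011000000101000001001000100111110000001001000001)) (.leaf (nat_lit 0x100000101000000111000011110101000110011001111111100001111000000))) (.leaf (nat_lit 0x1000000011110000100100001010000001101111101101001101010101100110)))) (.node (.node (.node (.leaf (nat_lit 0x11000001000000100100000001000000000010000001000000100000001011)) (.leaf (nat_lit 0x110000101000000110000011111101000000011000011110000100100000001))) (.leaf (nat_lit 0x1000000101000001001000001111110000001001000001010000001100000001))) (.node (.node (.leaf (nat_lit 0x1000000001000000100100001010000001001011101101000100000101000010)) (.leaf (nat_lit 0x11011101011000011011001011000100101000001001000010000000001))) (.leaf (nat_lit 0x111011001001010110111000001000000000010000011100000100000001011)))))) (.node (.node (.node (.node (.node (.leaf (nat_lit 0x1001000001010000001000000001000000011000000101000000001011001101)) (.leaf (nat_lit 0x1110011100011000011110000100100000001000001110110101101001100110))) (.leaf (nat_lit 0x1000000001000000001000001101000001101001101001011100001000000001))) (.node (.node (.leaf (nat_lit 0x1001001001000000011110000001000000001000000101100000001001001011)) (.leaf (nat_lit 0x1100001000000010110011010101001001001010101010110100000000000001))) (.leaf (nat_lit 0x1000000000100001001000001000010001101001100100001001011001100000)))) (.node (.node (.node (.leaf (nat_lit 0x1011010001011000001000000001000000001000000001000001101000101101)) (.leaf (nat_lit 0x1010000101100001000000010000111000001000000001000001110000100000))) (.leaf (nat_lit 0x1011010001001011000101000010010000001000000001000000100100001010))) (.node (.node (.leaf (nat_lit 0x101000010010000111100000001000001100110101110101101001001101111)) (.leaf (nat_lit 0x110011010101011001011011111011000000101000010010000111100000001))) (.leaf (nat_lit 0x1000000010110000001000001110000001011101101000010101011110100100))))) (.node (.node (.node (.node (.leaf (nat_lit 0x1000001001000000001110000001000000001000000001000000001000000011)) (.leaf (nat_lit 0x1110011100101000010010000111100000001000000010110000110100000001))) (.leaf (nat_lit 0x1000000000100000010000000111000001101000100000111000010100000001))) (.node (.node (.leaf (nat_lit 0x1000011101001000001010000001100000001000000001000000001000000001)) (.leaf (nat_lit 0x1000000010110011110101010001011000001110000000100000010000000111))) (.leaf (nat_lit 0x1111010100011000001000000100100000001000001010010101101000101100)))) (.node (.node (.node (.leaf (nat_lit 0x1000001101000000001010000001100000001000000001000000001000000001)) (.leaf (nat_lit 0x1000000010000001111000010000011000011110000100100000001011000000))) (.leaf (nat_lit 0x111011001101000000010000001000000100000001011001101110000101001))) (.node (.node (.leaf (nat_lit 0x1000000000110000010100000001000000001000000100100001010001100111)) (.leaf (nat_lit 0x1111000011011111011100111001010101100001110000001010000010))) (.leaf (nat_lit 0x1000000010100001001000001000010001111101100100001001011011100000))))))) (.node (.node (.node (.node (.node (.node (.leaf (nat_lit 0x1000000001110000001000000001000000001000000001000000011000000101)) (.leaf (nat_lit 0x1000010111101010001001011011101000001101000001000000011100000001))) (.node (.leaf (nat_lit 0x1000000010000001001000000000010000011100000100000000001011000000)) (.leaf (nat_lit 0x101011111111001100110010111111001100110101111011101010101101111)))) (.node (.node (.leaf (nat_lit 0x1010000101000001000000001000001100000100100001001011001101001)) (.leaf (nat_lit 0x11101011010101111010000101000010010000001000000001010000110))) (.leaf (nat_lit 0x1001010000001011001101000000010000001000000100000000001001001010)))) (.node (.node (.node (.leaf (nat_lit 0x1011000001000000000100000010000000001000000001000000100100001010)) (.leaf (nat_lit 0x1000000010010010111101011100001000001111000000110000001000000110))) (.leaf (nat_lit 0x100000101000000001000000110100001110000101111011100001111000000))) (.node (.node (.leaf (nat_lit 0x1101000000010000001000000100000000001000001010010101001000101100)) (.leaf (nat_lit 0x1111011001101001000010010110011000001000001011010101110100101000))) (.leaf (nat_lit 0x1000000010110000001000001110000000101101001000011101011100100100))))) (.node (.node (.node (.node (.leaf (nat_lit 0x1000000001010000001000000001000000011000000001000001001010100101)) (.leaf (nat_lit 0x1000000000000010100001010101001001001010101000010100000000000001))) (.leaf (nat_lit 0x1000000010100000110000000001000000011110000100100001010011100001))) (.node (.node (.leaf (nat_lit 0x1100000101000000001000000101100000001000000011010000001000000001)) (.leaf (nat_lit 0x1000000011100001100000011000011000111111000001001001010010100000))) (.leaf (nat_lit 0x111010110011001001000000011110000100100001010001101101100101101)))) (.node (.node (.node (.leaf (nat_lit 0x1000000001000000001000000101000001001000101001010100001000000001)) (.leaf (nat_lit 0x1111001100110011111111001100110001111011101010111101111010101110))) (.leaf (nat_lit 0x1011010000011010000101000001000000001000001100000101100001101111))) (.node (.node (.leaf (nat_lit 0x1001001001010010001111000001000000001000000001000000001000001111)) (.leaf (nat_lit 0x10010100111011100001011100111001110011101000011101110010100100))) (.leaf (nat_lit 0x10010011011101001001001010001010111100000000000001010000101)))))) (.node (.node (.node (.node (.node (.leaf (nat_lit 0x1101000001000000001000000001000000001000001011000101001000101001)) (.leaf (nat_lit 0x1011011100101000010010000111100000001000001100110101110101101001))) (.leaf (nat_lit 0x1011001101000000011010000101100000001000001101110100101001001001))) (.node (.node (.leaf (nat_lit 0x1000000000110000010100000001000000001000000000100000010000000111)) (.leaf (nat_lit 0x1101010100001011011101010000111000001000000110100000001001001010))) (.leaf (nat_lit 0x101000001000000001000001100000001100001101111011101001001101000)))) (.node (.node (.node (.leaf (nat_lit 0x1000000001000000001000000001000001111000101101001100001011000001)) (.leaf (nat_lit 0x1011001101000000101110011011101000111011000001001001101110101011))) (.leaf (nat_lit 0x1000000010010000001000001100000001011101100000010000001010000100))) (.node (.node (.leaf (nat_lit 0x11000011110000100100000001000000000110000001000000110000001111)) (.leaf (nat_lit 0x110011111111010011111011010101001010101101111100101111111100110))) (.leaf (nat_lit 0x1000000010010010001001011100001000001101000000010000001000000100))))) (.node (.node (.node (.node (.leaf (nat_lit 0x1010000001100000001000000001000000101000001001001101111000100001)) (.leaf (nat_lit 0x1100001000000010000011010101001000001000001010010100000000000001))) (.leaf (nat_lit 0x11000011110000100100000001000001100110101101001101110001101111))) (.node (.node (.leaf (nat_lit 0x1000001101000000011010000101100000001000000001110000001000000001)) (.leaf (nat_lit 0x1110011111101011111011001101110001101111101011111100111000000001))) (.leaf (nat_lit 0x1010001101001001000001000010000100001000001001001011000101000)))) (.node (.node (.node (.leaf (nat_lit 0x1010000001000000001000000011000000101000001001001101101100100001)) (.leaf (nat_lit 0x101010101101001001000001110110000100001001011011101011100101000))) (.leaf (nat_lit 0x110000110100001001000000001110000000100000010000000111000000001))) (.node (.node (.leaf (nat_lit 0x111000001000000001000001110000000000001000011010000101100001000)) (.leaf (nat_lit 0x1100001100000011101111011100111001001011100110010000001001000010))) (.leaf (nat_lit 0x10000111011101001001001010001110011100000001000011010000101))))))))) (.node (.node (.node (.node (.node (.node (.node (.node (.leaf (nat_lit 0x1000000001000000001000000001000000001000001101000100001001000001)) (.leaf (nat_lit 0x1000011101001010001011010001101000001000000001000000001000000001))) (.node (.leaf (nat_lit 0x100000010000000001000001101000001010101100110010000001011000001)) (.leaf (nat_lit 0x110011000111011101111011111011001110011100110011001111111100111)))) (.node (.node (.leaf (nat_lit 0x1000000000010000001000000100000001011000100000010000001010000100)) (.leaf (nat_lit 0x11001111110011111111001100110001100111101101111101111001101110))) (.leaf (nat_lit 0x1000000010000001001000001000010001011101100100000000001011000000)))) (.node (.node (.node (.leaf (nat_lit 0x1000000001000000001000000101000000001000001001010100001000000001)) (.leaf (nat_lit 0x100001001000000110110011101001000110011001111111100000011000011))) (.leaf (nat_lit 0x111000010110000110100001110000000000111000010110000110100001110))) (.node (.node (.leaf (nat_lit 0x1000011000101000010010000001000000001000000000100000010000000001)) (.leaf (nat_lit 0x1000011011011011101111010001011000001110000001000000001000000111))) (.leaf (nat_lit 0x110000101000000001000000110100001110000100111011001101111100000))))) (.node (.node (.node (.node (.leaf (nat_lit 0x1000000001000000001000000001000001001000101101000100001001000001)) (.leaf (nat_lit 0x10000111100001001000001100110001110101101001011101111010100000))) (.leaf (nat_lit 0x1000000101000000001000010001101000001000000001000000001000000001))) (.node (.node (.leaf (nat_lit 0x11000001000000001000001010000000000001000001000000101100001000)) (.leaf (nat_lit 0x1111001100110011010111010001111000001000000010100000110000001111))) (.leaf (nat_lit 0x1110000000100000010000000111000000001000001110110101110101100001)))) (.node (.node (.node (.leaf (nat_lit 0x1000000011100000001000000001000000101100000001001000011000000001)) (.leaf (nat_lit 0x1000000011010010100001011000001000111111000001001001000010100100))) (.leaf (nat_lit 0x1000000000010010001001010100001000001000000000010000001000000100))) (.node (.node (.leaf (nat_lit 0x1010010101101000001000000011100000001000000001000000111100000001)) (.leaf (nat_lit 0x1000000000110011101001011110011001111011100000011000011110000100))) (.leaf (nat_lit 0x1000000001000000000000011100001000101001001001011101000000100000)))))) (.node (.node (.node (.node (.node (.leaf (nat_lit 0x1000000001000000011000000001000000001000000001100000001000000001)) (.leaf (nat_lit 0x111000010110000110100001110000001100111100110111001110101101110))) (.node (.leaf (nat_lit 0x1011000010000011000001000000100100000001001000000000000001)) (.leaf (nat_lit 0x1110011110011001111110011010111001101111101110101101101101100110)))) (.node (.node (.leaf (nat_lit 0x1000000001000000001000001011000000101001000001001000001100000001)) (.leaf (nat_lit 0x10010011101011100001001011010000000111000001000000110100000001))) (.leaf (nat_lit 0x1000000001000010011101010001001000001000000001100000001000000011)))) (.node (.node (.node (.leaf (nat_lit 0x1000000011010000101100000001000000001110000001000000001000000111)) (.leaf (nat_lit 0x1000000001000011101001011001011000001011000001000000001000000001))) (.leaf (nat_lit 0x1000011001011010001111000001000000001000000001000000001000000111))) (.node (.node (.leaf (nat_lit 0x1111011001011000001110000001000000001000000111000001101001101111)) (.leaf (nat_lit 0x111010110111010110101011110101000000111000010110000110100001110))) (.leaf (nat_lit 0x1101001001000000000010010100001000001000001011010101000000101000))))) (.node (.node (.node (.node (.leaf (nat_lit 0x1000000001000000011100000001000001011000100001100000001010000011)) (.leaf (nat_lit 0x1100001100000011110011001111110001001011101010110100000100000001))) (.leaf (nat_lit 0x1110000000100000010000000111000000001000000010110000110100000001))) (.node (.node (.leaf (nat_lit 0x1000000001000000111000000001000001011010100101100000001011000001)) (.leaf (nat_lit 0x1000011000111011010111010001011000001000000000100000010000000111))) (.leaf (nat_lit 0x111000010110000110100001110000000110111001110111100110111001110)))) (.node (.node (.node (.leaf (nat_lit 0x1000000001000000111000000001000000011010000101100000001011000001)) (.leaf (nat_lit 0x1110000101000000010000011010101001101001101111101101100101100000))) (.leaf (nat_lit 0x111010100001000001000000101100001000000101110010100101001001001))) (.node (.node (.leaf (nat_lit 0x11010000111000001000000001000001110000101100001100111011001101)) (.leaf (nat_lit 0x1000000010110011001001011110011000001101000000010000011100000100))) (.leaf (nat_lit 0x1000000010110011001101000000010000011100000100000001011011100110))))))) (.node (.node (.node (.node (.node (.node (.leaf (nat_lit 0x1000000001010000001000000001000000011000000001000000001010000101)) (.leaf (nat_lit 0x1000000011000001101000010001011000001110000001000000001000000001))) (.node (.leaf (nat_lit 0x1000000011000011001001000001010000001100000001000000001000000001)) (.leaf (nat_lit 0x11001111110011111011010110111001110110101101111100111111001100)))) (.node (.node (.leaf (nat_lit 0x1000000001000000001000000001000001111000101001001101001010100001)) (.leaf (nat_lit 0x111010100011010110101010100101001010010101010110101100010101110))) (.leaf (nat_lit 0x1000001001000000011010010001001000001000000001100000001000000001)))) (.node (.node (.node (.leaf (nat_lit 0x1010000001000000001000000011000000101000000001001001101100100001)) (.leaf (nat_lit 0x1000010110111010001001011110101000001101000000010000011100000100))) (.leaf (nat_lit 0x101001001000000010110000001000001110000101011101101000010101011))) (.node (.node (.leaf (nat_lit 0x1001000001010000001100000001000000011000000001000001001010101111)) (.leaf (nat_lit 0x1101011111111010110011011010101001011111101111100101010111101100))) (.leaf (nat_lit 0x1011010000101001001000000010010000001000001100000101111101101000))))) (.node (.node (.node (.node (.leaf (nat_lit 0x1010000001000000001000000011000000001000000001000000101100000001)) (.leaf (nat_lit 0x1111000011000011000011110000100100000001001000000100000001))) (.leaf (nat_lit 0x1000000010100000110000000001000001101110100000101000010000000001))) (.node (.node (.leaf (nat_lit 0x1000000011000000101000001001000000001111000001000000001000000001)) (.leaf (nat_lit 0x1110000101000000010000011110101001101001100111111001100101100000))) (.leaf (nat_lit 0x1110000000100000010000000111000001101000100110111001110101100001)))) (.node (.node (.node (.leaf (nat_lit 0x1000000011000010001001000001000000001100000001000000001000000001)) (.leaf (nat_lit 0x1011011101011010000011010000101000001000000001000001100000101100))) (.leaf (nat_lit 0x1100001000000010110111000001000001001010101110100100000001000011))) (.node (.node (.leaf (nat_lit 0x1000000000110000001000000110000000001000001000010101011100100100)) (.leaf (nat_lit 0x1000010100111011001001010110111000001000000000010000011100000100))) (.leaf (nat_lit 0x1000001001000000111110010001001000001010000001100000001000000011)))))) (.node (.node (.node (.node (.node (.leaf (nat_lit 0x1000000001000000001000000001000001011000100101000000001011000001)) (.leaf (nat_lit 0x1010010010011011000001000011010000101100001000001101100100100101))) (.leaf (nat_lit 0x1000001001000000001010010001001000001000000001000000001000000001))) (.node (.node (.leaf (nat_lit 0x10000111000001000000001000001110000100000001000011010000101)) (.leaf (nat_lit 0x1010010110101010000001011111101000101101001000011100110100000001))) (.leaf (nat_lit 0x1010000101000000000000010000101000001000000001000001100000100000)))) (.node (.node (.node (.leaf (nat_lit 0x1000000101000000001000000011100000001000000001000000001100000001)) (.leaf (nat_lit 0x1011000010100111011001001000110111000001001000000010000011))) (.leaf (nat_lit 0x1001011010010000011000001000000100100000001001001000000101101))) (.node (.node (.leaf (nat_lit 0x110000010100000001000001111000000000101000010010000111100000001)) (.leaf (nat_lit 0x1111001100110011111011011010111001111011101110101100111111001100))) (.leaf (nat_lit 0x1000000001000000010000010100001000001000001101110101000001100000))))) (.node (.node (.node (.node (.leaf (nat_lit 0x1000000011100000001000000001000000001100000001000000011000000001)) (.leaf (nat_lit 0x11011100001011110111001110110001000011101100110100100101001010))) (.leaf (nat_lit 0x110000010100000001000001111000001010101101110010101111111100001))) (.node (.node (.leaf (nat_lit 0x1001001001010010001011000001000000001000000001000000001000001101)) (.leaf (nat_lit 0x1000000000000011111101011000011001001011100100100000001001000010))) (.leaf (nat_lit 0x1000000000010010101001010100001001011010100000010000001010000100)))) (.node (.node (.node (.leaf (nat_lit 0x10000001000000100000000001000001000010101001000100100000000001)) (.leaf (nat_lit 0x1101010111111001001000001111110001011101101111010101011111101101))) (.leaf (nat_lit 0x1011000010110011000001000001100110100001101000000000000001))) (.node (.node (.leaf (nat_lit 0x1011010000001010000101000001000000001000001100000100100001001011)) (.leaf (nat_lit 0x1111000011110011010111111001100110100001111000000100000001))) (.leaf (nat_lit 0x1000000001000000100000011000001000111011000001001001000010100000)))))))) (.node (.node (.node (.node (.node (.node (.node (.leaf (nat_lit 0x1000000001000000001000000001000000001000001001000101001000100001)) (.leaf (nat_lit 0x1101010101001010011101010001101000001000000011100000001000001011))) (.node (.leaf (nat_lit 0x1111001101000000001010000001100000001000000011000000101000001001)) (.leaf (nat_lit 0x11110111001110110010110111001110110100000111000010110000110)))) (.node (.node (.leaf (nat_lit 0x1000000011010000101100000001000000011110000001000000001010000111)) (.leaf (nat_lit 0x1111010100001010010101010101101000001000001110110100100001001011))) (.leaf (nat_lit 0x1110000000100000010000000001000001101000101110101101110001100001)))) (.node (.node (.node (.leaf (nat_lit 0x1000001001000000011010000001000000001000000001100000001000000001)) (.leaf (nat_lit 0x1101000000101110010000101000010010000001000000001010000010))) (.leaf (nat_lit 0x110000001000000110000001111000000000011000011110000100100000001))) (.node (.node (.leaf (nat_lit 0x110000001000000110000000001000000010010000111100001100011100001)) (.leaf (nat_lit 0x100001110000011111011010001111000000110000010100000001000000001))) (.leaf (nat_lit 0x1000000001000000110100001110000001111011100001111000000110000010))))) (.node (.node (.node (.node (.leaf (nat_lit 0x10000001000001000000001000001000000100000000000001000000001)) (.leaf (nat_lit 0x110000110100001001000001111110000000101000010010000111100000001))) (.leaf (nat_lit 0x1101001000010010000011000001000000001000001010000101000000101101))) (.node (.node (.leaf (nat_lit 0x1000010011101010001001000001000000001100000001000000011000000001)) (.leaf (nat_lit 0x1000000010000011011101011000011001011101100100100000001011000010))) (.leaf (nat_lit 0x111010100101000001000000111100001100000100110011001111101101001)))) (.node (.node (.node (.leaf (nat_lit 0x1110011001001000001010000001000000001000000011000000101000000001)) (.leaf (nat_lit 0x11011100111011111011001101110001110011101100111100111011001101))) (.leaf (nat_lit 0x1000000001000000001000011101001000001001000001010000001000000001))) (.node (.node (.leaf (nat_lit 0x1010010001001001001000000011010000001000000001000000101100000001)) (.leaf (nat_lit 0x10010111101011100001010001111000000110000001000000110000000001))) (.leaf (nat_lit 0x10000001000000100000001011000001110011101001001101100110100001)))))) (.node (.node (.node (.node (.node (.leaf (nat_lit 0x1000000001000000001100000001000000011000000001000000001010000011)) (.leaf (nat_lit 0x1011010010111001001000000010010000111100001100001100111111001100))) (.leaf (nat_lit 0x10000011010101001000001000001010010100000000000001010000101))) (.node (.node (.leaf (nat_lit 0x1000000001000000001000001111000000001001000001010000001100000001)) (.leaf (nat_lit 0x11001101001000010011001011000100001000001001000010000000001))) (.leaf (nat_lit 0x1100001100000011001111000000110000001000000110000000001001000010)))) (.node (.node (.node (.leaf (nat_lit 0x1000000001000000001000000111000001101000100001011000001100000001)) (.leaf (nat_lit 0x10010101011101001001001010001100111100000001000011000000001))) (.leaf (nat_lit 0x10101111000001000000010100000110000000001001000011110000100))) (.node (.node (.leaf (nat_lit 0x1000000011100000001000001011000000101101000001001000011100000001)) (.leaf (nat_lit 0x101011101111011110011001111110000110011001111111101010111101101))) (.leaf (nat_lit 0x10111011001001000000000110000010100000001000000001010000100))))) (.node (.node (.node (.node (.leaf (nat_lit 0x1000010001101000001000000001000000001000000001000000011000000001)) (.leaf (nat_lit 0x1010010000111011000001000011010000001000001000000101110100100101))) (.leaf (nat_lit 0x1000000011100000001000001011000001111101101001001101011110100001))) (.node (.node (.leaf (nat_lit 0x1000011001001010001011000001000000001000000001000000001000000001)) (.leaf (nat_lit 0x1010000101100001000000010110111000001000001001010101110100100000))) (.leaf (nat_lit 0x1000000011100001001000001011010000001101000001000000011100000001)))) (.node (.node (.node (.leaf (nat_lit 0x1000001001000010001011000001000000001000000001000000001000000001)) (.leaf (nat_lit 0x1010010111111010000001011010101000101101000001001001110100100100))) (.leaf (nat_lit 0x1011000001110000000100000010000000111000000001001001110110101110))) (.node (.node (.leaf (nat_lit 0x1101000000000010000011100000100000000001001000000100000001)) (.leaf (nat_lit 0x110011111011001101110010110111001110110100111011001101111100110))) (.leaf (nat_lit 0x100001110000011111011001101110000000111000010110000001000000001))))))) (.node (.node (.node (.node (.node (.node (.leaf (nat_lit 0x1000000001000000001000000001000000001000001101000101001001100001)) (.leaf (nat_lit 0x100001010000010001011011101001000000101000010010000001000000001))) (.node (.leaf (nat_lit 0x101001001000000010010000001000001100000101111101101000001101001)) (.leaf (nat_lit 0x1010010111011011000001011010111000101101000001001001100100100100)))) (.node (.node (.leaf (nat_lit 0x1001011001011000001110000001000000001000000001000000001000001111)) (.leaf (nat_lit 0x101001001000000011010011100001001000001100111110000001001001000))) (.leaf (nat_lit 0x1101010100001001001000000000110000001000000110000000001001001000)))) (.node (.node (.node (.leaf (nat_lit 0x1000000001000000001000000011000000101000001001001100001100000001)) (.leaf (nat_lit 0x101000000101000011010101000110011000001001000001110000000))) (.leaf (nat_lit 0x1011000010000111000001000000110100000001001000000010000011))) (.node (.node (.leaf (nat_lit 0x1000011010000001000001000000000000101000001000000001000001100)) (.leaf (nat_lit 0x1111011001001011010111010110011000001000000011110000100100001010))) (.leaf (nat_lit 0x10000111100001001000000000110000010100000001000001111010100000))))) (.node (.node (.node (.node (.leaf (nat_lit 0x1000000001000000001000000011000000001000001001000100001100000001)) (.leaf (nat_lit 0x10101011010101001010000101000010010000001000000001010000100))) (.leaf (nat_lit 0x1011000001110000000100000010000000001000001101000101110101101110))) (.node (.node (.leaf (nat_lit 0x101001001000000000010000001000000100000001011001101000000101001)) (.leaf (nat_lit 0x11100001001011010011101111001000001100000110000001000000001))) (.leaf (nat_lit 0x1100001001000000101110010101001001001010100111010000001001000011)))) (.node (.node (.node (.leaf (nat_lit 0x1000000001000000001000001001000001001001100001000000001000000001)) (.leaf (nat_lit 0x1110011001001001001010010111011000001000000011010000101100000001))) (.leaf (nat_lit 0x10000001000000100000001011000001000011101001000100100100000001))) (.node (.node (.leaf (nat_lit 0x1000000010010000001000001100000000001101000000010000001000000100)) (.leaf (nat_lit 0x110011110111001110110010000111000010110000110100001110011100110))) (.leaf (nat_lit 0x1101010111011001001000001101110001011101100111010000001011001101)))))) (.node (.node (.node (.node (.node (.leaf (nat_lit 0x1100000001000000001000000001000000001000000111000000001001000001)) (.leaf (nat_lit 0x111001101000000100110010101101001000010101111010100100001001011))) (.leaf (nat_lit 0x1000000001000000011000010001001000001000000001100000001000000001))) (.node (.node (.leaf (nat_lit 0x1000000011110000001000000001000000011100000001000001011010100101)) (.leaf (nat_lit 0x1110000100100001010000010111111000001000000010110000110100000001))) (.leaf (nat_lit 0x101000001000000111100001100000001000011100111110000001001001010)))) (.node (.node (.node (.leaf (nat_lit 0x10000101000001000000001000001100000100000001000011000000001)) (.leaf (nat_lit 0x1000000010110011101101001000010001101111100100001001011001100110))) (.leaf (nat_lit 0x1000000001100001001000001011010000101001000001001000011100000001))) (.node (.node (.leaf (nat_lit 0x1010000111000001000000001000001110000100100001001011011101101)) (.leaf (nat_lit 0x11001111110011010111011101111001110101101101111100110011001111))) (.leaf (nat_lit 0x101000000101000010000101000010010000001000000001010000000))))) (.node (.node (.node (.node (.leaf (nat_lit 0x1000000011000000101000000001000000001110000001000000001000000001)) (.leaf (nat_lit 0x1101011100101000010010000111100000001000001110110101010101101001))) (.leaf (nat_lit 0x1111001101000000000110000010100000001000001111000100100101001010))) (.node (.node (.leaf (nat_lit 0x1000000001000000001000010001001000001000000001000000001000000001)) (.leaf (nat_lit 0x111000001101000011010111000110111000001001000001110000000))) (.leaf (nat_lit 0x111000001001000000010110000110100000001001000001110000000)))) (.node (.node (.node (.leaf (nat_lit 0x1000000001100000001000000011000000001000001001000101011100100001)) (.leaf (nat_lit 0x110011100011010100111010100101001010010101110010101100011100110))) (.leaf (nat_lit 0x101001010010010111011000001000000010110000110100000001011001101))) (.node (.node (.leaf (nat_lit 0x1000000011000000001000001001000001111101100001001000001010000001)) (.leaf (nat_lit 0x1011001101110011101111011011111000111011000001001001111110101111))) (.leaf (nat_lit 0x10010100101001001000001101110001100001101000011100111000000001)))))))))) (.node (.node (.node (.node (.node (.node (.node (.node (.node (.leaf (nat_lit 0x1000000001000000001000000001000000011000000001000000001010000001)) (.leaf (nat_lit 0x11100001011111011001101110001000011100000110000001000000001))) (.node (.leaf (nat_lit 0x1101011101001000001010000001100000001000000011000000001000001001)) (.leaf (nat_lit 0x1111011011011011110011010110011001111110100111111001100111101100)))) (.node (.node (.leaf (nat_lit 0x1010000001100000001000000011000000001000000001000000111100000001)) (.leaf (nat_lit 0x101010101011010111101010000101000010010000111100000001011001110))) (.leaf (nat_lit 0x100000110000001001000001101110000000101000010010000001000000001)))) (.node (.node (.node (.leaf (nat_lit 0x1000000001000000101000000001000001001010100001000000001000000001)) (.leaf (nat_lit 0x1000000011000011001001011001011000001101000001000000001000000001))) (.leaf (nat_lit 0x11000011110000100100000001000000010110000001000001110010101111))) (.node (.node (.leaf (nat_lit 0x101000000001000000100100001010000100001010000001010000000)) (.leaf (nat_lit 0x1000000011010010110101011000001001101111100101101001000001100110))) (.leaf (nat_lit 0x10010011111010100001000001000000010110000001000001110010100101))))) (.node (.node (.node (.node (.leaf (nat_lit 0x1010000001100000001000000001000000001000000001000001111000100001)) (.leaf (nat_lit 0x111010101101001001000001100110000100001001011011101111000101000))) (.leaf (nat_lit 0x1000000101000001001000001101110000001001000001010000001000000001))) (.node (.node (.leaf (nat_lit 0x111000010110000001000000001000000000100000010000000111000001101)) (.leaf (nat_lit 0x101001010010010110011011100001000110111001110111101000011101100))) (.leaf (nat_lit 0x1000011010000101100001000000001010111100101000000001011001110)))) (.node (.node (.node (.leaf (nat_lit 0x101000010010000001000000001000000100100001010001101001000101101)) (.leaf (nat_lit 0x10010111101010100001011011101000000111000001000000110100000001))) (.leaf (nat_lit 0x1000000001000011100101001010010000001011000001000000000100000010))) (.node (.node (.leaf (nat_lit 0x1000000001000000010100000110000001111000101101111100000111000010)) (.leaf (nat_lit 0x111011000101001010010011110011001100001100110111001110101101000))) (.leaf (nat_lit 0x1000001101000000011010010101101000001000000001110000001000000001)))))) (.node (.node (.node (.node (.node (.leaf (nat_lit 0x1000000001100000001000000001000000101000000001001000011000000001)) (.leaf (nat_lit 0x1000011010000101100001000000001100111100101001001001001101110))) (.node (.leaf (nat_lit 0x1110011000101000010010000001000000001000000010100000110000000001)) (.leaf (nat_lit 0x11001111110011001011011010111000000101000001000000111100001100)))) (.node (.node (.leaf (nat_lit 0x11000011000011110000001000001010000100000100000001010000111)) (.leaf (nat_lit 0x11011100011010110011010100101001010010101100110101100011101100))) (.leaf (nat_lit 0x1000000001110011101001001001010000111011000001001000011010000101)))) (.node (.node (.node (.leaf (nat_lit 0x1101000001000000011100000001000000001000000111100000001001001011)) (.leaf (nat_lit 0x1011001101000000010010010100101000001000001101110101100001101000))) (.leaf (nat_lit 0x1010010001101001001000000011010000001000000001000000111100000001))) (.node (.node (.leaf (nat_lit 0x1110000001000000001000000111000001101000101111011101101101100001)) (.leaf (nat_lit 0x1000000011000011110101010110011001111110100001111000000110000010))) (.leaf (nat_lit 0x11010001001001001000001010010000000001000001000000101100001000))))) (.node (.node (.node (.node (.leaf (nat_lit 0x1010010001011000001000000001000000001000000001000001101000100101)) (.leaf (nat_lit 0x11001101000000110110010101101001000010101101110100100001001011))) (.leaf (nat_lit 0x1101000000010000011100000100000000001000001110110101001001101110))) (.node (.node (.leaf (nat_lit 0x1000000001000000001000001001000001101001100001001000001000000001)) (.leaf (nat_lit 0x1000011100101001010010010111111000001000000000110000010100000001))) (.leaf (nat_lit 0x1001011010010110011000001000001110110100101101001000011101101)))) (.node (.node (.node (.leaf (nat_lit 0x1000000001000000001000001001000000101001000001001000001000000001)) (.leaf (nat_lit 0x1000000001000011010101010110011000001000000001110000000100000010))) (.leaf (nat_lit 0x100000010000000001000001101000001110101101110011100001011000001))) (.node (.node (.leaf (nat_lit 0x1000000001000000001000010101001000001000000001010000001000000001)) (.leaf (nat_lit 0x111001110110011110011010000111000010110000110100001110011101100))) (.leaf (nat_lit 0x10000011100000100000001011000001010111101001000101110110100001))))))) (.node (.node (.node (.node (.node (.node (.leaf (nat_lit 0x1001000001010000001000000001000000001000000001000000001000001101)) (.leaf (nat_lit 0x1100000101000000011000011011101001001001101011100100001100000001))) (.node (.leaf (nat_lit 0x1000000011010010101001000001000000011110000001000000001010000101)) (.leaf (nat_lit 0x1111010111101011010101011100111001111101101011111101110010101010)))) (.node (.node (.leaf (nat_lit 0x1000000011000010001101000001000000011100000001000000001010000011)) (.leaf (nat_lit 0x1010010110111001001000001100110000101101001000011101111000100100))) (.leaf (nat_lit 0x10000101001001000001001010001100001100000001000011000000001)))) (.node (.node (.node (.leaf (nat_lit 0x10000001000000100000000001000000000010000001000000100000000001)) (.leaf (nat_lit 0x1000000001000000010000011100001001101001101101111101000001100000))) (.leaf (nat_lit 0x11000011110000100100000001000001110110101101001100110011001111))) (.node (.node (.leaf (nat_lit 0x1000000001100000001000000011000000101000001001001101011100100001)) (.leaf (nat_lit 0x101011100001010101111010101101001000010100110010000001001001011))) (.leaf (nat_lit 0x1000010101101001001000000011110000001000000001000000011100000001))))) (.node (.node (.node (.node (.leaf (nat_lit 0x1001000001000000001100000001000000011000000001000001001010101011)) (.leaf (nat_lit 0x11010001101001001000001010010000100001000001001001111100101000))) (.leaf (nat_lit 0x1010010000011010000001000001000000001000001000000101100000100101))) (.node (.node (.leaf (nat_lit 0x1000000011010010001001000001000000001100000001000000001000000101)) (.leaf (nat_lit 0x11111011001101110010000111000010110000001000000001010000110))) (.leaf (nat_lit 0x101011100111000010110000110100001110000101010111101010110101110)))) (.node (.node (.node (.leaf (nat_lit 0x1100000101000000001000000001100000001000000011000000001000000001)) (.leaf (nat_lit 0x1111001101000000010010010000101000001000000111100001100001101000))) (.leaf (nat_lit 0x1101001000010010000111000001000000001000001110000101000001101111))) (.node (.node (.leaf (nat_lit 0x1000000001000000100100001010000000111011000001001000000110000010)) (.leaf (nat_lit 0x11001111011100111011001011000110011000001001000010010000111))) (.leaf (nat_lit 0x10010111001001000001001010001110101100000001000011010000101)))))) (.node (.node (.node (.node (.node (.leaf (nat_lit 0x1000000001110000001000000001000000001000000001000001011000100101)) (.leaf (nat_lit 0x110011110011011000111000010110000110100001110001101100111100110))) (.leaf (nat_lit 0x10000001001001000001001010001000001100000000000001000000001))) (.node (.node (.leaf (nat_lit 0x10010000101000001000000001000001100000101000001100111000000001)) (.leaf (nat_lit 0x1101000000111110010100101001010010100001110000001010000010))) (.leaf (nat_lit 0x1100000100000001001000001100110001001001100110010000001001000000)))) (.node (.node (.node (.leaf (nat_lit 0x1000000001000000010100000110000000001000000001110000000100000010)) (.leaf (nat_lit 0x1101011111011011111011001101110001011111100111110000001011001101))) (.leaf (nat_lit 0x1011000001010111111000001000001000010100100100000001001001011))) (.node (.node (.leaf (nat_lit 0x1100001101000000000110000010100000001000001111000100000101000010)) (.leaf (nat_lit 0x110000110100001110000011010111001010111101110100101110111100000))) (.leaf (nat_lit 0x1000000000100001001000001010010001101001101100001101011101100000))))) (.node (.node (.node (.node (.leaf (nat_lit 0x1000000011010000001000000001000000011100000001000000001010000101)) (.leaf (nat_lit 0x100001001000000010010011101001001100001101011111100000000000001))) (.leaf (nat_lit 0x1101011101111000000110000010100000001000001111000101010101101110))) (.node (.node (.leaf (nat_lit 0x1000000001100001001000000001010000001000000001000000011000000001)) (.leaf (nat_lit 0x1010000101100001000000011100111000101001001001011101110000100000))) (.leaf (nat_lit 0x1000000011000011100101001010010000111111000001001000000110000010)))) (.node (.node (.node (.leaf (nat_lit 0x1000000000100000010000000001000000001000000000100000010000000001)) (.leaf (nat_lit 0x11011111101011001111000000110000010100000001000001111010101010))) (.leaf (nat_lit 0x110011001001010110011000001000000000010000011100000100000000001))) (.node (.node (.leaf (nat_lit 0x111000001000000110100000001000001000010101111100100100001001011)) (.leaf (nat_lit 0x110011100001001011010011011111001000001101010100100101100000001))) (.leaf (nat_lit 0x1000001001000010111011010001001000001010000001100000001000000001)))))))) (.node (.node (.node (.node (.node (.node (.node (.leaf (nat_lit 0x1000000001000000001000000001000000111000000001001000001010000001)) (.leaf (nat_lit 0x1011001101110011111011001101110000111011001101111100111011001101))) (.node (.leaf (nat_lit 0x110011001101000000010000001000000100000001011001100110000000001)) (.leaf (nat_lit 0x100001110000011100111010110111001110110101110011100000111000010)))) (.node (.node (.leaf (nat_lit 0x1110011001011000001110000001000000001000000111000001101001100111)) (.leaf (nat_lit 0x111001101000000011010011010101001000001101111100100101101001000))) (.leaf (nat_lit 0x1111011000101000010010000001000000001000000110100001110001101001)))) (.node (.node (.node (.leaf (nat_lit 0x1000000001000000111000000001000000001010000001100000001000000001)) (.leaf (nat_lit 0x1000000000100001010000010111011000001000000000110000010100000001))) (.leaf (nat_lit 0x11000011110000001000001010000000000101000001000000111100001100))) (.node (.node (.leaf (nat_lit 0x1000001000000001000001000000001000001100101000000001001001000)) (.leaf (nat_lit 0x1000011010101011110011010001011000001110000000100000010000000001))) (.leaf (nat_lit 0x1011000010110111000001000001110110100001101000000010000011))))) (.node (.node (.node (.node (.leaf (nat_lit 0x1000000001000000101000000001000000001010000001000000001000000001)) (.leaf (nat_lit 0x11111011011001111000000110000010100000001000000001010000110))) (.leaf (nat_lit 0x1001011000101000010010000001000000001000000100100001010001101001))) (.node (.node (.leaf (nat_lit 0x1101010101001000001000000001100000001000000011000000001000001001)) (.leaf (nat_lit 0x1000000011110011000001011000011000101101000001001001010000100100))) (.leaf (nat_lit 0x110000010100000001000001111000001110101100110011001111111100001)))) (.node (.node (.node (.leaf (nat_lit 0x1100000001000000001000000101000001001000100111010000001001000001)) (.leaf (nat_lit 0x1000000001110011000001010000011000001000000001000001010000100100))) (.leaf (nat_lit 0x1000000101000000001000010101101000001000000001010000001000000001))) (.node (.node (.leaf (nat_lit 0x1000000000110000001000000110000001111000100000011000011110000100)) (.leaf (nat_lit 0x11011100101001010010011100111001100001101100111101110001101000))) (.leaf (nat_lit 0x111000001000000001000001110000001100001100111011001101101101000)))))) (.node (.node (.node (.node (.node (.leaf (nat_lit 0x1000000001000000001000000001000000011000000101000001001011100001)) (.leaf (nat_lit 0x110000001000000110000001111000001110011100111111001100111100001))) (.leaf (nat_lit 0x10010100001000001000000101100001000000101000010100101000000001))) (.node (.node (.leaf (nat_lit 0x1000001101000000000110000010100000001000000001000000000100000010)) (.leaf (nat_lit 0x101011101011010111011010000101000010010000111100000001011001100))) (.leaf (nat_lit 0x1000000001000000010000010000001000001000000101100001000001100000)))) (.node (.node (.node (.leaf (nat_lit 0x10010000011000001000000001000001010000101000000101101010100101)) (.leaf (nat_lit 0x1100000100000001011000010000111000001000000110100000001001000000))) (.leaf (nat_lit 0x11100111000010110000110100001110000100000111000010110000110))) (.node (.node (.leaf (nat_lit 0x110011000011000011110000001000001010000101110100101101011100111)) (.leaf (nat_lit 0x1101011111101011110111001110110001011111101011110101010110101010))) (.leaf (nat_lit 0x1000000000110011000001000011010000001000001000000101010100100101))))) (.node (.node (.node (.node (.leaf (nat_lit 0x1001010001011000001000000001000000001000000001000000001000001101)) (.leaf (nat_lit 0x1000011101111011000111000010110000001000000001000000010100000110))) (.leaf (nat_lit 0x1000000000100000010000000111000000001000001100110101010101100001))) (.node (.node (.leaf (nat_lit 0x1000010001001001001000000001010000001000000001000000001000000001)) (.leaf (nat_lit 0x1011001101000000111110011111101000111011001101111101101111101011))) (.leaf (nat_lit 0x110000110100001001000000011110000100100001010001100111100000001)))) (.node (.node (.node (.leaf (nat_lit 0x1000000001000001001000000001010000001000000001000000001000000001)) (.leaf (nat_lit 0x11000001001011010011001011001000001100000100000001000000001))) (.leaf (nat_lit 0x1000010011011011001001000001010000001100000001000000001000000101))) (.node (.node (.leaf (nat_lit 0x1000000000000010100101000001000001001010101100000100000001000011)) (.leaf (nat_lit 0x1110011010111001110110010111011001101110100110111001110101100111))) (.leaf (nat_lit 0x1000000001000000110000010000001000011010000101100001000011100000))))))) (.node (.node (.node (.node (.node (.node (.leaf (nat_lit 0x1011000001000000001000000001000000001000001101000100101001001001)) (.leaf (nat_lit 0x10100001010101001010101101001000010100000010000001000000001))) (.node (.leaf (nat_lit 0x100001010000010111011000001000000000110000010100000001000000001)) (.leaf (nat_lit 0x10101111011101001011010111000110011000001001000011110000100)))) (.node (.node (.leaf (nat_lit 0x1000000001000000001000000111000001101000101001011100001100000001)) (.leaf (nat_lit 0x1000011110011011111111001100110000001111000000110000001000000110))) (.leaf (nat_lit 0x11101101000000010000011100000100000000001001000010100000001)))) (.node (.node (.node (.leaf (nat_lit 0x1001000001010000001100000001000000001000000001000000001000001111)) (.leaf (nat_lit 0x111000001101000010000111000010110000001000000001010000000))) (.leaf (nat_lit 0x1111011000111000010110000001000000001000000010100000110000001111))) (.node (.node (.leaf (nat_lit 0x1011000001110000000100000010000000001000000001000000110100001110)) (.leaf (nat_lit 0x110011000001001011010011111011001000001101010110100101100000001))) (.leaf (nat_lit 0x1010010000001011000001000011010000001000001000000100100100000001))))) (.node (.node (.node (.node (.leaf (nat_lit 0x1000000001000000001000000011000000101000000001001000001100000001)) (.leaf (nat_lit 0x1000000000100001010000011001011001101001100000101000010000000001))) (.leaf (nat_lit 0x101000001000000111100001100000000000011000011110000001000001010))) (.node (.node (.leaf (nat_lit 0x10000011100000100000000001000000000110000001000000110000000001)) (.leaf (nat_lit 0x1000000010000001111000011000011001011111100100100000001011000000))) (.leaf (nat_lit 0x10010010011001001000001011010001110101101000001101101110100101)))) (.node (.node (.node (.leaf (nat_lit 0x1001011001001000001010000001000000001000000001000000001000001001)) (.leaf (nat_lit 0x1111010101011010010101010000101000001000000111100001100001101110))) (.leaf (nat_lit 0x1000000010110000110100000001000001111110100000101000010010000111))) (.node (.node (.leaf (nat_lit 0x1000000001000000110100001110000000001011000001110000000100000010)) (.leaf (nat_lit 0x1111000011000011011011111000100101000001001000000100000001))) (.leaf (nat_lit 0x1000001001000010101111010001001000001010000001000000001000000011)))))) (.node (.node (.node (.node (.node (.leaf (nat_lit 0x1110000001000000001000000001000000001000000011000000101000000001)) (.leaf (nat_lit 0x1111010111011001001000001111110001111101100111011001101111101101))) (.leaf (nat_lit 0x1000000001100001001000001001010000101001000001001000011000000001))) (.node (.node (.leaf (nat_lit 0x1000000011100000001000000001000000111100000001001001011010100001)) (.leaf (nat_lit 0x101001010010010010111011100001001110101101010111101000010101110))) (.leaf (nat_lit 0x1111011000011010000011000001000000001000001010000101100000101101)))) (.node (.node (.node (.leaf (nat_lit 0x1010000011000001000000001000001010000100100000000001011001101)) (.leaf (nat_lit 0x111001110110011111011001101110000110111001110111100111011001101))) (.leaf (nat_lit 0x1101010100011000001000000100100000001000000010010000001000001100))) (.node (.node (.leaf (nat_lit 0x1010010001111000001000000001000000001000000001000001111000100101)) (.leaf (nat_lit 0x1101010101111011011101010111111000001000001111110101011101101111))) (.leaf (nat_lit 0x1000000000100001010000010001011000001000000000100000010000000001))))) (.node (.node (.node (.node (.leaf (nat_lit 0x1100000001000000011000000001000000001000000111100000001001000001)) (.leaf (nat_lit 0x1001011010010001011011000001000000101000001000000001000001100))) (.leaf (nat_lit 0x110011001111000000110000001000000110000001111001101110011100111))) (.node (.node (.leaf (nat_lit 0x1000000001000001001000001001010000001001000001000000001000000001)) (.leaf (nat_lit 0x1011011111101010101111011011101000111111000001001001111110101011))) (.leaf (nat_lit 0x111010101111000001000000010100000110000001111001100111111001100)))) (.node (.node (.node (.leaf (nat_lit 0x1001000001010000001100000001000000001000000101000001001001101111)) (.leaf (nat_lit 0x1110011111011011110111001110110001101111100111111001100101100110))) (.leaf (nat_lit 0x1000000010100001001000000000010000011100000100000001011011100000))) (.node (.node (.leaf (nat_lit 0x10000001000000100000001011000000000011000001000000100100000001)) (.leaf (nat_lit 0x1110011001111011011111010111011000001000001111110101111101100111))) (.leaf (nat_lit 0x1000001001000010011111010001001000001000000001100000001000000011))))))))) (.node (.node (.node (.node (.node (.node (.node (.node (.leaf (nat_lit 0x1010000001000000001000000001000000001000000001000000101000000001)) (.leaf (nat_lit 0x1001001001010010000011010000001000001000000001000001000000101100))) (.node (.leaf (nat_lit 0x101010100001000001000000101100001000000100110010000001001001001)) (.leaf (nat_lit 0x111001110110011101111010111111001100110100110011001111101101111)))) (.node (.node (.leaf (nat_lit 0x1000000000010000011100000100000000001000000000110000001000000110)) (.leaf (nat_lit 0x110011101111011111111001100110000110011001111111101111011100110))) (.leaf (nat_lit 0x1000000001000000100000010000001000011010000001000001000010100000)))) (.node (.node (.node (.leaf (nat_lit 0x1001001001000000001010000001000000001000000001000000001000001001)) (.leaf (nat_lit 0x1011001101110011110111001110110000111011001101111100110111001110))) (.leaf (nat_lit 0x1000000010010000111100001100000000001111000000110000001000000110))) (.node (.node (.leaf (nat_lit 0x1100001000000010000011000001000000001000001010000100000000000001)) (.leaf (nat_lit 0x1001011001111011000011010000011000001000000001000001010000101100))) (.leaf (nat_lit 0x111001101000000000010000011100000100000001011001101100100101001))))) (.node (.node (.node (.node (.leaf (nat_lit 0x1000000001100000001000000001000000101000000001001001011000100001)) (.leaf (nat_lit 0x1000000011110011100101001010010000001111000001000000010100000110))) (.leaf (nat_lit 0x1000000001000000001000011001001000001001000001000000001000000001))) (.node (.node (.leaf (nat_lit 0x1000000011000000101000000001000001111110100001001000001010000001)) (.leaf (nat_lit 0x11011111111010001011011010101000000101000001000000111100001100))) (.leaf (nat_lit 0x1000000000100000010000000111000001101000101100111101010101100001)))) (.node (.node (.node (.leaf (nat_lit 0x1000000011110000001000000001000000001100000001000000011000000101)) (.leaf (nat_lit 0x1000000011000011101001010001011000001110000001000000001000000001))) (.leaf (nat_lit 0x1000010100111000001000000110100000001000000000010000011100000100))) (.node (.node (.leaf (nat_lit 0x1001010001011010001101000001000000001000000001000000001000001111)) (.leaf (nat_lit 0x1000011110101011110011001111110000001111000000110000010100000001))) (.leaf (nat_lit 0x1000000101000001001000010001111000001000000001000000001000000001)))))) (.node (.node (.node (.node (.node (.leaf (nat_lit 0x1100000001000000001000000001000000001000001011000100001000000001)) (.leaf (nat_lit 0x1000000010010000111100001100000001101111101100111101001001100110))) (.leaf (nat_lit 0x1000000001000000101000001001000001111011100001001000001010000001))) (.node (.node (.leaf (nat_lit 0x1000000001000000111100000001000000011010000101100000001011000011)) (.leaf (nat_lit 0x1001011010010111011011000001001010111100101100000001011001100))) (.leaf (nat_lit 0x1110000100100001001000000000110000001000000110000001111001100000)))) (.node (.node (.node (.leaf (nat_lit 0x1000000001000000001000000001000001101000101101001101001001100001)) (.leaf (nat_lit 0x1000000000000001011000011000011001001001100100100000001001000000))) (.leaf (nat_lit 0x1011001111000000110000001000000110000000001001001010010101111))) (.node (.node (.leaf (nat_lit 0x1000000011100000001000001011000001011101101001000101011110100001)) (.leaf (nat_lit 0x1000011111111001100110011010111000001111000001000000010100000110))) (.leaf (nat_lit 0x1011011111010000011000001000000100100000001001001010000101101))))) (.node (.node (.node (.node (.leaf (nat_lit 0x1000000001000000001000000111000000001000000001010000001100000001)) (.leaf (nat_lit 0x1000000001000000100000011100001001111011101001011101000010100000))) (.leaf (nat_lit 0x1000000000010000011100000100000001011000101100110101001011100110))) (.node (.node (.leaf (nat_lit 0x1011000001000011010000001000001000000100100100000001001001001)) (.leaf (nat_lit 0x1000000010100001110000011111011000001111000000110000010100000001))) (.leaf (nat_lit 0x1000000010010000111100001100000001011111100000110000001010000110)))) (.node (.node (.node (.leaf (nat_lit 0x1001001001000000011010000001000000001000000101100000001001001001)) (.leaf (nat_lit 0x1000000011100001100000010000011000011110000001000001010010100000))) (.leaf (nat_lit 0x10000011100000100000000001000001110110101001001101110010100001))) (.node (.node (.leaf (nat_lit 0x10000101000000001000000010100000110000000001001001101110100000)) (.leaf (nat_lit 0x1000000011000011010101011110011001111101100001111000000110000010))) (.leaf (nat_lit 0x110000110100001001000001101110000100101001010011100111000000001))))))) (.node (.node (.node (.node (.node (.node (.leaf (nat_lit 0x1001000001000000001000000001000000001000000001000001001000101001)) (.leaf (nat_lit 0x1000011001001001001010010001011000001000000001000000001000000001))) (.node (.leaf (nat_lit 0x100000110000001001000000001110000000100000010000000001000000001)) (.leaf (nat_lit 0x110011011111001100110011111011001010111101111010101110111100111)))) (.node (.node (.leaf (nat_lit 0x1001010001111000001000000001000000001000000001000001011000101101)) (.leaf (nat_lit 0x1000000000100001010000011111011001101001100000111000010100000001))) (.leaf (nat_lit 0x1000011101001011001011000001110000001000000001000000001000000001)))) (.node (.node (.node (.leaf (nat_lit 0x1010000001000000001000000011000000001000001001000100101100000001)) (.leaf (nat_lit 0x1000011000101001010010010001011000001000000000100000010000000001))) (.leaf (nat_lit 0x1000000010010010000101000001000000111100001100001101000011100111))) (.node (.node (.leaf (nat_lit 0x1101000000010000001000000100000001011000100110010000001011001100)) (.leaf (nat_lit 0x101010110101010111101011111101000110111001110111101011111101011))) (.leaf (nat_lit 0x11000011010111111000001000001010010100000100000001010000111))))) (.node (.node (.node (.node (.leaf (nat_lit 0x1000000001000000001100000001000000001000000101000000001001000011)) (.leaf (nat_lit 0x1000000010000011100001001011010001101111101000001100000100000001))) (.leaf (nat_lit 0x1000001000000101100001000000001000011100101000000001001001010))) (.node (.node (.leaf (nat_lit 0x100000010000000001000001101000000000101000010010000001000000001)) (.leaf (nat_lit 0x1000000011000001101000011111011001101111100001011000001100000001))) (.leaf (nat_lit 0x11000011110000001000001010000001010101101101000101111111101100)))) (.node (.node (.node (.leaf (nat_lit 0x11010000001000001000000001000001000000101100000100101001001001)) (.leaf (nat_lit 0x1011000010110011011001001001100111100001101000000000000001))) (.leaf (nat_lit 0x111000001000000110100000001000001010010101011100101100010101011))) (.node (.node (.leaf (nat_lit 0x1000000001100001001000000011010000001000000001000000011100000001)) (.leaf (nat_lit 0x10010101001011100001011011111000000011000001000000100100000001))) (.leaf (nat_lit 0x101011110011011001011000001110000000100000010000000001000001101)))))) (.node (.node (.node (.node (.node (.leaf (nat_lit 0x1000000001000000001000000001000001001000100101000000001001000001)) (.leaf (nat_lit 0x1000000010100000110000001111000000111111001100111101010111100001))) (.leaf (nat_lit 0x1000000001000000111000001101000000111011001101111100001011000001))) (.node (.node (.leaf (nat_lit 0x101000000001000000010100000110000000001001000001110000000)) (.leaf (nat_lit 0x1010010101111011000001010000111000001000000001000001110000100100))) (.leaf (nat_lit 0x11001101000000011110000100100001010000101101110101101011101010)))) (.node (.node (.node (.leaf (nat_lit 0x1000000001000010001101000001000000001000000001000000001000000011)) (.leaf (nat_lit 0x1001001001010010100111010000001000011010000001000001000010101110))) (.leaf (nat_lit 0x1000000001000000110100001110000000111011001101111100000111000010))) (.node (.node (.leaf (nat_lit 0x1100000101000000001000000111100000001000001011010100001100000001)) (.leaf (nat_lit 0x110011001101001000010011111011000100001001011011100110100000001))) (.leaf (nat_lit 0x1000010100011010001001010100101000001000000000010000001000000100))))) (.node (.node (.node (.node (.leaf (nat_lit 0x1000000001000000001000000001000000111000001101001101001011100001)) (.leaf (nat_lit 0x10010001001011100001001011010000000011000001000000100100000001))) (.leaf (nat_lit 0x101010100101000001000000111100001100000101110011101011101101001))) (.node (.node (.leaf (nat_lit 0x1000000001000000111000001101000000001011000001110000001000000001)) (.leaf (nat_lit 0x1011001101110011000011010000111000001000000001000001110000101100))) (.leaf (nat_lit 0x1111000011001111000000110000010100000001000000001010000010)))) (.node (.node (.node (.leaf (nat_lit 0x110000001000000110000000001000000000010000011100000100000000001)) (.leaf (nat_lit 0x1101001001000000110110010100001001011010101011110101000010101010))) (.leaf (nat_lit 0x1000000011110011001001000001010000001100000001000000011000000101))) (.node (.node (.leaf (nat_lit 0x111000001000000110100000001000000010010000111100001100011101011)) (.leaf (nat_lit 0x1011001101110011011111010111111000001000001101110101111101101111))) (.leaf (nat_lit 0x111001101000000011110000100100001010000101011110101101010101010)))))))) (.node (.node (.node (.node (.node (.node (.node (.leaf (nat_lit 0x1000000001100000001000000001000000001000000001000000011000000001)) (.leaf (nat_lit 0x1000000011000010011101011001001001011101100001100000001010000011))) (.node (.leaf (nat_lit 0x1000000011100001001000000001010000001100000001000000011000000001)) (.leaf (nat_lit 0x1110011011101011111011010111011001101110101011111100111100000001)))) (.node (.node (.leaf (nat_lit 0x1111000001000000010100000110000000001000000011110000100100001010)) (.leaf (nat_lit 0x101001001000000101110011100001001000011100111010000001001001010))) (.leaf (nat_lit 0x1000000001000000111000001101000001111011101101111100001011000001)))) (.node (.node (.node (.leaf (nat_lit 0x1001000000000010000001000000100000000001001000000000000001)) (.leaf (nat_lit 0x1110000100100001001000001110110001101001100110011001111101100000))) (.leaf (nat_lit 0x1000000010000001001000000010010000111100001100001100001111000000))) (.node (.node (.leaf (nat_lit 0x101000001000000001000001100000000000001000011010000001000001000)) (.leaf (nat_lit 0x1100001100000011000011010111111000001000001010010100000100000001))) (.leaf (nat_lit 0x1000000010010000001000001100000001111101101000011101001010100100))))) (.node (.node (.node (.node (.leaf (nat_lit 0x1100000001000000001000000001000000001000001111000100001001000001)) (.leaf (nat_lit 0x110000101000000110000010101101001000010101011110100100000000001))) (.leaf (nat_lit 0x1101000000011110000100100001010000100001110000001010000010))) (.node (.node (.leaf (nat_lit 0x1100000001000000011000000101000000001000001111110100001001000001)) (.leaf (nat_lit 0x1101010110111010011101011110101001011101101010110101011110101110))) (.leaf (nat_lit 0x1010010111010101101000001000001100110100100001001011001101111)))) (.node (.node (.node (.leaf (nat_lit 0x1000000011000000101000000001000000011110000001000000001010000001)) (.leaf (nat_lit 0x1101011101001010011111010001101000001000000011100000001000001011))) (.leaf (nat_lit 0x10000101000000001000000110100001110000101001011101101110100000))) (.node (.node (.leaf (nat_lit 0x1001011001001010001111000001000000001000000001000000001000001011)) (.leaf (nat_lit 0x1000010110011011001001011100111000001101000000010000001000000100))) (.leaf (nat_lit 0x100000010000000111000001101000001100111101010111100001000000001)))))) (.node (.node (.node (.node (.node (.leaf (nat_lit 0x1001000001000000001000000001000000001000000101000001001001101001)) (.leaf (nat_lit 0x111001101000000010010000111100001100000100111111001100101101001))) (.leaf (nat_lit 0x1000000001000000111000001101000001001011100001110000001000000001))) (.node (.node (.leaf (nat_lit 0x1000000101000000001000000111100000001000000001010000001100000001)) (.leaf (nat_lit 0x1000010110111001001000001110110000001101000000010000011100000100))) (.leaf (nat_lit 0x1000000000000011101101001000010001001011100100000000001001000010)))) (.node (.node (.node (.leaf (nat_lit 0x1000011001011000001110000001000000001000000001000000001000000111)) (.leaf (nat_lit 0x1111010111111001001000001101110001111101101111011100111011001101))) (.leaf (nat_lit 0x10010000001001001000001011010001000001101000000100101100000001))) (.node (.node (.leaf (nat_lit 0x101000010010000111100000001000000010110000110100000001011001111)) (.leaf (nat_lit 0x1011011110011011110011001111110000111111001100111101100111101101))) (.leaf (nat_lit 0x1010011011001001000001000010000000101000001000000001000001100))))) (.node (.node (.node (.node (.leaf (nat_lit 0x1101000001000000001000000001000000001000001111000101001001101001)) (.leaf (nat_lit 0x10010111111001001000000000110000010100000001000001111010100100))) (.leaf (nat_lit 0x101000010010000111100000001000001110110101010101101001010101111))) (.node (.node (.leaf (nat_lit 0x11001101000000010000001000000100000000001001000010000000001)) (.leaf (nat_lit 0x1000001101000011010111010110111000001000000001110000000100000010))) (.leaf (nat_lit 0x1000000001000000111000010101001001001010100001110000001000000001)))) (.node (.node (.node (.leaf (nat_lit 0x1001001000000000010000001000000100000000001001001000000101001)) (.leaf (nat_lit 0x110011110101010001011011111101000000101000010010000111100000001))) (.leaf (nat_lit 0x10010011001001000001001010001010101100000000000001010000101))) (.node (.node (.leaf (nat_lit 0x1000000000110000010100000001000001111000100000101000010010000111)) (.leaf (nat_lit 0x1000000011100001100000011110011001011111101001010101010110100000))) (.leaf (nat_lit 0x10000011100000100000001011000001100111101001001100110100000001))))))) (.node (.node (.node (.node (.node (.node (.leaf (nat_lit 0x1000000001000000001000000001000000101000000001001001001000100001)) (.leaf (nat_lit 0x1000000000000001011000010000011000001000000100100000001001000000))) (.node (.leaf (nat_lit 0x1000000010010010000001000001000000101100001000001101000000100101)) (.leaf (nat_lit 0x1101010111011011011101011101111001011101100111110000001011001111)))) (.node (.node (.leaf (nat_lit 0x1000000001000000001000001011000001001001101001000100001100000001)) (.leaf (nat_lit 0x1110011100001010000011010101101000001000001010010100100000000001))) (.leaf (nat_lit 0x1001000000000010011001001000100001000001001000000000000001)))) (.node (.node (.node (.leaf (nat_lit 0x1000000001000000000100000010000000001000001101000100000101000010)) (.leaf (nat_lit 0x1010000101000000000000011110101000101001001001011101100100100000))) (.leaf (nat_lit 0x1000000001000000100100001010000001111011101101001100000111000010))) (.node (.node (.leaf (nat_lit 0x1000000000010000011100000100000001011000100000110000001010000110)) (.leaf (nat_lit 0x101011110011001111110010001111000000110000010100000001000001111))) (.leaf (nat_lit 0x1010001001011101101001000010000000011000001000000001000001010))))) (.node (.node (.node (.node (.leaf (nat_lit 0x1011000001110000001000000001000000001000000001000001111000101101)) (.leaf (nat_lit 0x1111000011111111001100110001010111100001110000001010000010))) (.leaf (nat_lit 0x1101000000010000011100000100000001011000100110110000001011001110))) (.node (.node (.leaf (nat_lit 0x100000101000000001000000000100000010000000111000000001011000000)) (.leaf (nat_lit 0x1000011110101010110011011111101000001111000000110000010100000001))) (.leaf (nat_lit 0x1111011011101010111111000001000001111110101011101101111010101011)))) (.node (.node (.node (.leaf (nat_lit 0x1000000001000000111000000001000001001010100001100000001000000001)) (.leaf (nat_lit 0x1000000011010010010101011000001001111101100101101001000011100110))) (.leaf (nat_lit 0x1000000010110000110100000001000000011110000100100001010011100111))) (.node (.node (.leaf (nat_lit 0x1000010100011000001000000100100000001000000000010000001000000100)) (.leaf (nat_lit 0x10000111100001100000011011111000000111000001000000110100000001))) (.leaf (nat_lit 0x1001000000100110011001001000110011000001001000000010000011)))))) (.node (.node (.node (.node (.node (.leaf (nat_lit 0x1011000001000000001000000001000000001000000001000001101000101001)) (.leaf (nat_lit 0x11010011011001001000001010010000100101000001001001101100101100))) (.leaf (nat_lit 0x1000001101000011001011000001110000001000000001000000001000000001))) (.node (.node (.leaf (nat_lit 0x11000001000000100100000001000001000010101101000100100001001011)) (.leaf (nat_lit 0x100001101000000111110010000101000010010000111100000001011000010))) (.leaf (nat_lit 0x1101000000010000011100000100000001011000101010110101001010101110)))) (.node (.node (.node (.leaf (nat_lit 0x1110000001000000001000000001000000001000001111000101101001100001)) (.leaf (nat_lit 0x1000000001010010110101010000001000011010000101100001000011100110))) (.leaf (nat_lit 0x1000000001000000011000010101001000001000000001110000001000000001))) (.node (.node (.leaf (nat_lit 0x100001001000000010110000001000001110000101111101100000011000011)) (.leaf (nat_lit 0x1111010110101010010101011111101001111101100110111001110111101011))) (.leaf (nat_lit 0x101010101001001001000001100110000000001000011010000001000001000))))) (.node (.node (.node (.node (.leaf (nat_lit 0x1011010001001000001000000001000000001000000001000000101000001001)) (.leaf (nat_lit 0x111010101001001001000001110110000000001000011010000101100001000))) (.leaf (nat_lit 0x110000010100000001000001111000000100101001010011100111100000001))) (.node (.node (.leaf (nat_lit 0x1001001000000010010000001000001100000100101101001000001101001)) (.leaf (nat_lit 0x1000001101000011100111011010111000001011000001000000000100000010))) (.leaf (nat_lit 0x1100001100000011000011000011110000001000001010000100000100000001)))) (.node (.node (.node (.leaf (nat_lit 0x1000000001100000001000000011000000101000000001001000011100000001)) (.leaf (nat_lit 0x101001010010010100111011100001001100111101110011101000001101110))) (.leaf (nat_lit 0x10000011100000100000001011000000000111000001000000110100000001))) (.node (.node (.leaf (nat_lit 0x100000010000000111000000001000001110110101110101100001011000001)) (.leaf (nat_lit 0x1110011010011011100111010111011001101110101110011101100101100111))) (.leaf (nat_lit 0x1100001101000000011010010001101000001000000011100000001000000001))))))))))))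

noncomputable def dP : NT := (.node (.node (.node (.node (.node (.node (.node (.node (.node (.node (.node (.leaf (nat_lit 0)) (.leaf (nat_lit 6303))) (.node (.leaf (nat_lit 2621)) (.leaf (nat_lit 11293)))) (.node (.node (.leaf (nat_lit 1217)) (.leaf (nat_lit 8623))) (.leaf (nat_lit 4266)))) (.node (.node (.node (.leaf (nat_lit 562)) (.leaf (nat_lit 7431))) (.leaf (nat_lit 3437))) (.node (.node (.leaf (nat_lit 1915)) (.leaf (nat_lit 9670))) (.leaf (nat_lit 5238))))) (.node (.node (.node (.node (.leaf (nat_lit 249)) (.leaf (nat_lit 6879))) (.leaf (nat_lit 3010))) (.node (.node (.leaf (nat_lit 1572)) (.leaf (nat_lit 9117))) (.leaf (nat_lit 4852)))) (.node (.node (.node (.leaf (nat_lit 892)) (.leaf (nat_lit 7999))) (.leaf (nat_lit 3786))) (.node (.node (.leaf (nat_lit 2259)) (.leaf (nat_lit 10373))) (.leaf (nat_lit 5710)))))) (.node (.node (.node (.node (.node (.leaf (nat_lit 109)) (.leaf (nat_lit 6559))) (.node (.leaf (nat_lit 2797)) (.leaf (nat_lit 11919)))) (.node (.node (.leaf (nat_lit 1389)) (.leaf (nat_lit 8834))) (.leaf (nat_lit 4519)))) (.node (.node (.node (.leaf (nat_lit 743)) (.leaf (nat_lit 7688))) (.leaf (nat_lit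 3613))) (.node (.node (.leaf (nat_lit 2093)) (.leaf (nat_lit 9974))) (.leaf (nat_lit 5490))))) (.node (.node (.node (.node (.leaf (nat_lit 391)) (.leaf (nat_lit 7142))) (.leaf (nat_lit 3260))) (.node (.node (.leaf (nat_lit 1732)) (.leaf (nat_lit 9387))) (.leaf (nat_lit 5063)))) (.node (.node (.node (.leaf (nat_lit 1053)) (.leaf (nat_lit 8313))) (.leaf (nat_lit 4032))) (.node (.node (.leaf (nat_lit 2413)) (.leaf (nat_lit 10764))) (.leaf (nat_lit 6023))))))) (.node (.node (.node (.node (.node (.node (.leaf (nat_lit 55)) (.leaf (nat_lit 6439))) (.node (.leaf (nat_lit 2698)) (.leaf (nat_lit 11598)))) (.node (.node (.leaf (nat_lit 1316)) (.leaf (nat_lit 8707))) (.leaf (nat_lit 4413)))) (.node (.node (.node (.leaf (nat_lit 636)) (.leaf (nat_lit 7559))) (.leaf (nat_lit 3511))) (.node (.node (.leaf (nat_lit 1980)) (.leaf (nat_lit 9810))) (.leaf (nat_lit 5378))))) (.node (.node (.node (.node (.leaf (nat_lit 316)) (.leaf (nat_lit 7013))) (.leaf (nat_lit 3105))) (.node (.node (.leaf (nat_lit 1652)) (.leaf (nat_lit 9283))) (.leaf (nat_lit 5009)))) (.node (.node (.node (.leaf (nat_lit 989)) (.leaf (nat_lit 8143))) (.leaf (nat_lit 3892)))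 (.node (.node (.leaf (nat_lit 2319)) (.leaf (nat_lit 10566))) (.leaf (nat_lit 5901)))))) (.node (.node (.node (.node (.node (.leaf (nat_lit 197)) (.leaf (nat_lit 6770))) (.leaf (nat_lit 2885))) (.node (.node (.leaf (nat_lit 1461)) (.leaf (nat_lit 8967))) (.leaf (nat_lit 4615)))) (.node (.node (.node (.leaf (nat_lit 819)) (.leaf (nat_lit 7831))) (.leaf (nat_lit 3694))) (.node (.node (.leaf (nat_lit 2157)) (.leaf (nat_lit 10207))) (.leaf (nat_lit 5602))))) (.node (.node (.node (.node (.leaf (nat_lit 459)) (.leaf (nat_lit 7308))) (.leaf (nat_lit 3365))) (.node (.node (.leaf (nat_lit 1812)) (.leaf (nat_lit 9486))) (.leaf (nat_lit 5138)))) (.node (.node (.node (.leaf (nat_lit 1146)) (.leaf (nat_lit 8394))) (.leaf (nat_lit 4150))) (.node (.node (.leaf (nat_lit 2521)) (.leaf (nat_lit 10925))) (.leaf (nat_lit 6150)))))))) (.node (.node (.node (.node (.node (.node (.node (.leaf (nat_lit 25)) (.leaf (nat_lit 6361))) (.node (.leaf (nat_lit 2661)) (.leaf (nat_lit 11462)))) (.node (.node (.leaf (nat_lit 1295)) (.leaf (nat_lit 8670))) (.leaf (nat_lit 4319)))) (.node (.node (.node (.leaf (nat_lit 592)) (.leaf (nat_lit 7495))) (.leaf (nat_lit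 3482))) (.node (.node (.leaf (nat_lit 1946)) (.leaf (nat_lit 9746))) (.leaf (nat_lit 5305))))) (.node (.node (.node (.node (.leaf (nat_lit 287)) (.leaf (nat_lit 6966))) (.leaf (nat_lit 3047))) (.node (.node (.leaf (nat_lit 1621)) (.leaf (nat_lit 9215))) (.leaf (nat_lit 4925)))) (.node (.node (.node (.leaf (nat_lit 937)) (.leaf (nat_lit 8081))) (.leaf (nat_lit 3836))) (.node (.node (.leaf (nat_lit 2282)) (.leaf (nat_lit 10481))) (.leaf (nat_lit 5761)))))) (.node (.node (.node (.node (.node (.leaf (nat_lit 148)) (.leaf (nat_lit 6738))) (.leaf (nat_lit 2837))) (.node (.node (.leaf (nat_lit 1421)) (.leaf (nat_lit 8901))) (.leaf (nat_lit 4567)))) (.node (.node (.node (.leaf (nat_lit 780)) (.leaf (nat_lit 7720))) (.leaf (nat_lit 3657))) (.node (.node (.leaf (nat_lit 2125)) (.leaf (nat_lit 10106))) (.leaf (nat_lit 5565))))) (.node (.node (.node (.node (.leaf (nat_lit 420)) (.leaf (nat_lit 7181))) (.leaf (nat_lit 3317))) (.node (.node (.leaf (nat_lit 1764)) (.leaf (nat_lit 9421))) (.leaf (nat_lit 5098)))) (.node (.node (.node (.leaf (nat_lit 1092)) (.leaf (nat_lit 8361))) (.leaf (nat_lit 4098))) (.node (.node (.leaf (nat_lit 2468))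 (.leaf (nat_lit 10841))) (.leaf (nat_lit 6095))))))) (.node (.node (.node (.node (.node (.node (.leaf (nat_lit 89)) (.leaf (nat_lit 6502))) (.node (.leaf (nat_lit 2754)) (.leaf (nat_lit 11717)))) (.node (.node (.leaf (nat_lit 1354)) (.leaf (nat_lit 8780))) (.leaf (nat_lit 4482)))) (.node (.node (.node (.leaf (nat_lit 676)) (.leaf (nat_lit 7612))) (.leaf (nat_lit 3573))) (.node (.node (.leaf (nat_lit 2036)) (.leaf (nat_lit 9939))) (.leaf (nat_lit 5445))))) (.node (.node (.node (.node (.leaf (nat_lit 349)) (.leaf (nat_lit 7071))) (.leaf (nat_lit 3179))) (.node (.node (.leaf (nat_lit 1685)) (.leaf (nat_lit 9349))) (.leaf (nat_lit 5029)))) (.node (.node (.node (.leaf (nat_lit 1031)) (.leaf (nat_lit 8266))) (.leaf (nat_lit 3987))) (.node (.node (.leaf (nat_lit 2354)) (.leaf (nat_lit 10646))) (.leaf (nat_lit 5975)))))) (.node (.node (.node (.node (.node (.leaf (nat_lit 213)) (.leaf (nat_lit 6805))) (.leaf (nat_lit 2949))) (.node (.node (.leaf (nat_lit 1524)) (.leaf (nat_lit 9026))) (.leaf (nat_lit 4689)))) (.node (.node (.node (.leaf (nat_lit 842)) (.leaf (nat_lit 7899))) (.leaf (nat_lit 3741))) (.node (.node (.leaf (nat_lit 2197))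 (.leaf (nat_lit 10287))) (.leaf (nat_lit 5650))))) (.node (.node (.node (.node (.leaf (nat_lit 506)) (.leaf (nat_lit 7383))) (.leaf (nat_lit 3405))) (.node (.node (.leaf (nat_lit 1861)) (.leaf (nat_lit 9558))) (.leaf (nat_lit 5191)))) (.node (.node (.node (.leaf (nat_lit 1179)) (.leaf (nat_lit 8572))) (.leaf (nat_lit 4202))) (.node (.node (.leaf (nat_lit 2579)) (.leaf (nat_lit 11153))) (.leaf (nat_lit 6269))))))))) (.node (.node (.node (.node (.node (.node (.node (.node (.leaf (nat_lit 13)) (.leaf (nat_lit 6334))) (.node (.leaf (nat_lit 2639)) (.leaf (nat_lit 11443)))) (.node (.node (.leaf (nat_lit 1256)) (.leaf (nat_lit 8637))) (.leaf (nat_lit 4287)))) (.node (.node (.node (.leaf (nat_lit 581)) (.leaf (nat_lit 7455))) (.leaf (nat_lit 3458))) (.node (.node (.leaf (nat_lit 1924)) (.leaf (nat_lit 9713))) (.leaf (nat_lit 5277))))) (.node (.node (.node (.node (.leaf (nat_lit 271)) (.leaf (nat_lit 6916))) (.leaf (nat_lit 3030))) (.node (.node (.leaf (nat_lit 1609)) (.leaf (nat_lit 9155))) (.leaf (nat_lit 4861)))) (.node (.node (.node (.leaf (nat_lit 912)) (.leaf (nat_lit 8049))) (.leaf (nat_lit 3814))) (.node (.node (.leaf (nat_lit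 2268)) (.leaf (nat_lit 10412))) (.leaf (nat_lit 5724)))))) (.node (.node (.node (.node (.node (.leaf (nat_lit 126)) (.leaf (nat_lit 6653))) (.node (.leaf (nat_lit 2808)) (.leaf (nat_lit 12038)))) (.node (.node (.leaf (nat_lit 1408)) (.leaf (nat_lit 8883))) (.leaf (nat_lit 4550)))) (.node (.node (.node (.leaf (nat_lit 771)) (.leaf (nat_lit 7700))) (.leaf (nat_lit 3626))) (.node (.node (.leaf (nat_lit 2116)) (.leaf (nat_lit 9998))) (.leaf (nat_lit 5503))))) (.node (.node (.node (.node (.leaf (nat_lit 406)) (.leaf (nat_lit 7157))) (.leaf (nat_lit 3276))) (.node (.node (.leaf (nat_lit 1741)) (.leaf (nat_lit 9396))) (.leaf (nat_lit 5082)))) (.node (.node (.node (.leaf (nat_lit 1069)) (.leaf (nat_lit 8334))) (.leaf (nat_lit 4077))) (.node (.node (.leaf (nat_lit 2434)) (.leaf (nat_lit 10796))) (.leaf (nat_lit 6074))))))) (.node (.node (.node (.node (.node (.node (.leaf (nat_lit 71)) (.leaf (nat_lit 6463))) (.node (.leaf (nat_lit 2729)) (.leaf (nat_lit 11672)))) (.node (.node (.leaf (nat_lit 1330)) (.leaf (nat_lit 8754))) (.leaf (nat_lit 4438)))) (.node (.node (.node (.leaf (nat_lit 665)) (.leaf (nat_lit 7589))) (.leaf (nat_lit 3546)))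 (.node (.node (.leaf (nat_lit 1997)) (.leaf (nat_lit 9935))) (.leaf (nat_lit 5402))))) (.node (.node (.node (.node (.leaf (nat_lit 338)) (.leaf (nat_lit 7058))) (.leaf (nat_lit 3155))) (.node (.node (.leaf (nat_lit 1666)) (.leaf (nat_lit 9304))) (.leaf (nat_lit 5023)))) (.node (.node (.node (.leaf (nat_lit 1001)) (.leaf (nat_lit 8223))) (.leaf (nat_lit 3914))) (.node (.node (.leaf (nat_lit 2341)) (.leaf (nat_lit 10609))) (.leaf (nat_lit 5926)))))) (.node (.node (.node (.node (.node (.leaf (nat_lit 207)) (.leaf (nat_lit 6794))) (.leaf (nat_lit 2910))) (.node (.node (.leaf (nat_lit 1503)) (.leaf (nat_lit 8989))) (.leaf (nat_lit 4639)))) (.node (.node (.node (.leaf (nat_lit 828)) (.leaf (nat_lit 7871))) (.leaf (nat_lit 3713))) (.node (.node (.leaf (nat_lit 2175)) (.leaf (nat_lit 10237))) (.leaf (nat_lit 5615))))) (.node (.node (.node (.node (.leaf (nat_lit 472)) (.leaf (nat_lit 7343))) (.leaf (nat_lit 3383))) (.node (.node (.leaf (nat_lit 1826)) (.leaf (nat_lit 9513))) (.leaf (nat_lit 5174)))) (.node (.node (.node (.leaf (nat_lit 1153)) (.leaf (nat_lit 8524))) (.leaf (nat_lit 4173))) (.node (.node (.leaf (nat_lit 2555)) (.leaf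 (nat_lit 11004))) (.leaf (nat_lit 6175)))))))) (.node (.node (.node (.node (.node (.node (.node (.leaf (nat_lit 45)) (.leaf (nat_lit 6422))) (.node (.leaf (nat_lit 2684)) (.leaf (nat_lit 11563)))) (.node (.node (.leaf (nat_lit 1307)) (.leaf (nat_lit 8684))) (.leaf (nat_lit 4336)))) (.node (.node (.node (.leaf (nat_lit 605)) (.leaf (nat_lit 7524))) (.leaf (nat_lit 3501))) (.node (.node (.leaf (nat_lit 1965)) (.leaf (nat_lit 9773))) (.leaf (nat_lit 5333))))) (.node (.node (.node (.node (.leaf (nat_lit 301)) (.leaf (nat_lit 6988))) (.leaf (nat_lit 3072))) (.node (.node (.leaf (nat_lit 1633)) (.leaf (nat_lit 9241))) (.leaf (nat_lit 4973)))) (.node (.node (.node (.leaf (nat_lit 980)) (.leaf (nat_lit 8118))) (.leaf (nat_lit 3854))) (.node (.node (.leaf (nat_lit 2297)) (.leaf (nat_lit 10524))) (.leaf (nat_lit 5821)))))) (.node (.node (.node (.node (.node (.leaf (nat_lit 165)) (.leaf (nat_lit 6754))) (.leaf (nat_lit 2861))) (.node (.node (.leaf (nat_lit 1439)) (.leaf (nat_lit 8920))) (.leaf (nat_lit 4602)))) (.node (.node (.node (.leaf (nat_lit 807)) (.leaf (nat_lit 7805))) (.leaf (nat_lit 3671))) (.node (.node (.leaf (nat_lit 2144))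 (.leaf (nat_lit 10138))) (.leaf (nat_lit 5575))))) (.node (.node (.node (.node (.leaf (nat_lit 432)) (.leaf (nat_lit 7282))) (.leaf (nat_lit 3352))) (.node (.node (.leaf (nat_lit 1778)) (.leaf (nat_lit 9468))) (.leaf (nat_lit 5119)))) (.node (.node (.node (.leaf (nat_lit 1106)) (.leaf (nat_lit 8382))) (.leaf (nat_lit 4122))) (.node (.node (.leaf (nat_lit 2485)) (.leaf (nat_lit 10876))) (.leaf (nat_lit 6127))))))) (.node (.node (.node (.node (.node (.node (.leaf (nat_lit 103)) (.leaf (nat_lit 6527))) (.node (.leaf (nat_lit 2775)) (.leaf (nat_lit 11845)))) (.node (.node (.leaf (nat_lit 1380)) (.leaf (nat_lit 8823))) (.leaf (nat_lit 4498)))) (.node (.node (.node (.leaf (nat_lit 706)) (.leaf (nat_lit 7640))) (.leaf (nat_lit 3584))) (.node (.node (.leaf (nat_lit 2064)) (.leaf (nat_lit 9956))) (.leaf (nat_lit 5455))))) (.node (.node (.node (.node (.leaf (nat_lit 368)) (.leaf (nat_lit 7084))) (.leaf (nat_lit 3220))) (.node (.node (.leaf (nat_lit 1706)) (.leaf (nat_lit 9373))) (.leaf (nat_lit 5046)))) (.node (.node (.node (.leaf (nat_lit 1040)) (.leaf (nat_lit 8298))) (.leaf (nat_lit 3997))) (.node (.node (.leaf (nat_lit 2389)) (.leaf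 (nat_lit 10715))) (.leaf (nat_lit 5991)))))) (.node (.node (.node (.node (.node (.leaf (nat_lit 228)) (.leaf (nat_lit 6862))) (.leaf (nat_lit 2974))) (.node (.node (.leaf (nat_lit 1537)) (.leaf (nat_lit 9071))) (.leaf (nat_lit 4752)))) (.node (.node (.node (.leaf (nat_lit 869)) (.leaf (nat_lit 7959))) (.leaf (nat_lit 3765))) (.node (.node (.leaf (nat_lit 2226)) (.leaf (nat_lit 10332))) (.leaf (nat_lit 5676))))) (.node (.node (.node (.node (.leaf (nat_lit 547)) (.leaf (nat_lit 7397))) (.leaf (nat_lit 3428))) (.node (.node (.leaf (nat_lit 1886)) (.leaf (nat_lit 9635))) (.leaf (nat_lit 5218)))) (.node (.node (.node (.leaf (nat_lit 1192)) (.leaf (nat_lit 8606))) (.leaf (nat_lit 4223))) (.node (.node (.leaf (nat_lit 2608)) (.leaf (nat_lit 11227))) (.leaf (nat_lit 6287)))))))))) (.node (.node (.node (.node (.node (.node (.node (.node (.node (.leaf (nat_lit 11)) (.leaf (nat_lit 6327))) (.node (.leaf (nat_lit 2636)) (.leaf (nat_lit 11435)))) (.node (.node (.leaf (nat_lit 1231)) (.leaf (nat_lit 8628))) (.leaf (nat_lit 4271)))) (.node (.node (.node (.leaf (nat_lit 579)) (.leaf (nat_lit 7439))) (.leaf (nat_lit 3453))) (.node (.node (.leaf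 (nat_lit 1917)) (.leaf (nat_lit 9695))) (.leaf (nat_lit 5247))))) (.node (.node (.node (.node (.leaf (nat_lit 266)) (.leaf (nat_lit 6900))) (.leaf (nat_lit 3015))) (.node (.node (.leaf (nat_lit 1591)) (.leaf (nat_lit 9140))) (.leaf (nat_lit 4859)))) (.node (.node (.node (.leaf (nat_lit 900)) (.leaf (nat_lit 8021))) (.leaf (nat_lit 3807))) (.node (.node (.leaf (nat_lit 2261)) (.leaf (nat_lit 10386))) (.leaf (nat_lit 5719)))))) (.node (.node (.node (.node (.node (.leaf (nat_lit 119)) (.leaf (nat_lit 6600))) (.node (.leaf (nat_lit 2804)) (.leaf (nat_lit 11983)))) (.node (.node (.leaf (nat_lit 1397)) (.leaf (nat_lit 8871))) (.leaf (nat_lit 4541)))) (.node (.node (.node (.leaf (nat_lit 759)) (.leaf (nat_lit 7693))) (.leaf (nat_lit 3617))) (.node (.node (.leaf (nat_lit 2107)) (.leaf (nat_lit 9987))) (.leaf (nat_lit 5495))))) (.node (.node (.node (.node (.leaf (nat_lit 395)) (.leaf (nat_lit 7151))) (.leaf (nat_lit 3265))) (.node (.node (.leaf (nat_lit 1736)) (.leaf (nat_lit 9389))) (.leaf (nat_lit 5069)))) (.node (.node (.node (.leaf (nat_lit 1064)) (.leaf (nat_lit 8323))) (.leaf (nat_lit 4069))) (.node (.node (.leaf (nat_lit 2422))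 (.leaf (nat_lit 10779))) (.leaf (nat_lit 6069))))))) (.node (.node (.node (.node (.node (.node (.leaf (nat_lit 63)) (.leaf (nat_lit 6454))) (.node (.leaf (nat_lit 2711)) (.leaf (nat_lit 11656)))) (.node (.node (.leaf (nat_lit 1321)) (.leaf (nat_lit 8709))) (.leaf (nat_lit 4429)))) (.node (.node (.node (.leaf (nat_lit 654)) (.leaf (nat_lit 7572))) (.leaf (nat_lit 3527))) (.node (.node (.leaf (nat_lit 1992)) (.leaf (nat_lit 9847))) (.leaf (nat_lit 5389))))) (.node (.node (.node (.node (.leaf (nat_lit 326)) (.leaf (nat_lit 7031))) (.leaf (nat_lit 3147))) (.node (.node (.leaf (nat_lit 1657)) (.leaf (nat_lit 9291))) (.leaf (nat_lit 5015)))) (.node (.node (.node (.leaf (nat_lit 996)) (.leaf (nat_lit 8175))) (.leaf (nat_lit 3896))) (.node (.node (.leaf (nat_lit 2335)) (.leaf (nat_lit 10581))) (.leaf (nat_lit 5917)))))) (.node (.node (.node (.node (.node (.leaf (nat_lit 202)) (.leaf (nat_lit 6783))) (.leaf (nat_lit 2901))) (.node (.node (.leaf (nat_lit 1485)) (.leaf (nat_lit 8973))) (.leaf (nat_lit 4627)))) (.node (.node (.node (.leaf (nat_lit 821)) (.leaf (nat_lit 7847))) (.leaf (nat_lit 3703))) (.node (.node (.leaf (nat_lit 2172))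 (.leaf (nat_lit 10220))) (.leaf (nat_lit 5607))))) (.node (.node (.node (.node (.leaf (nat_lit 467)) (.leaf (nat_lit 7326))) (.leaf (nat_lit 3380))) (.node (.node (.leaf (nat_lit 1817)) (.leaf (nat_lit 9500))) (.leaf (nat_lit 5165)))) (.node (.node (.node (.leaf (nat_lit 1148)) (.leaf (nat_lit 8498))) (.leaf (nat_lit 4162))) (.node (.node (.leaf (nat_lit 2535)) (.leaf (nat_lit 10941))) (.leaf (nat_lit 6159)))))))) (.node (.node (.node (.node (.node (.node (.node (.leaf (nat_lit 34)) (.leaf (nat_lit 6383))) (.node (.leaf (nat_lit 2666)) (.leaf (nat_lit 11489)))) (.node (.node (.leaf (nat_lit 1300)) (.leaf (nat_lit 8679))) (.leaf (nat_lit 4332)))) (.node (.node (.node (.leaf (nat_lit 597)) (.leaf (nat_lit 7519))) (.leaf (nat_lit 3490))) (.node (.node (.leaf (nat_lit 1961)) (.leaf (nat_lit 9757))) (.leaf (nat_lit 5325))))) (.node (.node (.node (.node (.leaf (nat_lit 299)) (.leaf (nat_lit 6971))) (.leaf (nat_lit 3068))) (.node (.node (.leaf (nat_lit 1628)) (.leaf (nat_lit 9220))) (.leaf (nat_lit 4965)))) (.node (.node (.node (.leaf (nat_lit 975)) (.leaf (nat_lit 8101))) (.leaf (nat_lit 3846))) (.node (.node (.leaf (nat_lit 2293))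 (.leaf (nat_lit 10517))) (.leaf (nat_lit 5807)))))) (.node (.node (.node (.node (.node (.leaf (nat_lit 159)) (.leaf (nat_lit 6749))) (.leaf (nat_lit 2845))) (.node (.node (.leaf (nat_lit 1436)) (.leaf (nat_lit 8915))) (.leaf (nat_lit 4575)))) (.node (.node (.node (.leaf (nat_lit 789)) (.leaf (nat_lit 7733))) (.leaf (nat_lit 3663))) (.node (.node (.leaf (nat_lit 2133)) (.leaf (nat_lit 10117))) (.leaf (nat_lit 5570))))) (.node (.node (.node (.node (.leaf (nat_lit 427)) (.leaf (nat_lit 7261))) (.leaf (nat_lit 3325))) (.node (.node (.leaf (nat_lit 1769)) (.leaf (nat_lit 9434))) (.leaf (nat_lit 5108)))) (.node (.node (.node (.leaf (nat_lit 1097)) (.leaf (nat_lit 8373))) (.leaf (nat_lit 4113))) (.node (.node (.leaf (nat_lit 2483)) (.leaf (nat_lit 10872))) (.leaf (nat_lit 6103))))))) (.node (.node (.node (.node (.node (.node (.leaf (nat_lit 95)) (.leaf (nat_lit 6511))) (.node (.leaf (nat_lit 2759)) (.leaf (nat_lit 11757)))) (.node (.node (.leaf (nat_lit 1375)) (.leaf (nat_lit 8789))) (.leaf (nat_lit 4487)))) (.node (.node (.node (.leaf (nat_lit 684)) (.leaf (nat_lit 7627))) (.leaf (nat_lit 3580))) (.node (.node (.leaf (nat_lit 2041))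 (.leaf (nat_lit 9948))) (.leaf (nat_lit 5450))))) (.node (.node (.node (.node (.leaf (nat_lit 361)) (.leaf (nat_lit 7081))) (.leaf (nat_lit 3184))) (.node (.node (.leaf (nat_lit 1701)) (.leaf (nat_lit 9361))) (.leaf (nat_lit 5039)))) (.node (.node (.node (.leaf (nat_lit 1036)) (.leaf (nat_lit 8287))) (.leaf (nat_lit 3995))) (.node (.node (.leaf (nat_lit 2370)) (.leaf (nat_lit 10694))) (.leaf (nat_lit 5982)))))) (.node (.node (.node (.node (.node (.leaf (nat_lit 226)) (.leaf (nat_lit 6820))) (.leaf (nat_lit 2965))) (.node (.node (.leaf (nat_lit 1528)) (.leaf (nat_lit 9050))) (.leaf (nat_lit 4748)))) (.node (.node (.node (.leaf (nat_lit 853)) (.leaf (nat_lit 7950))) (.leaf (nat_lit 3746))) (.node (.node (.leaf (nat_lit 2202)) (.leaf (nat_lit 10316))) (.leaf (nat_lit 5671))))) (.node (.node (.node (.node (.leaf (nat_lit 535)) (.leaf (nat_lit 7395))) (.leaf (nat_lit 3410))) (.node (.node (.leaf (nat_lit 1877)) (.leaf (nat_lit 9599))) (.leaf (nat_lit 5204)))) (.node (.node (.node (.leaf (nat_lit 1188)) (.leaf (nat_lit 8595))) (.leaf (nat_lit 4218))) (.node (.node (.leaf (nat_lit 2596)) (.leaf (nat_lit 11220))) (.leaf (nat_lit 6278)))))))))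 (.node (.node (.node (.node (.node (.node (.node (.node (.leaf (nat_lit 20)) (.leaf (nat_lit 6343))) (.node (.leaf (nat_lit 2645)) (.leaf (nat_lit 11451)))) (.node (.node (.leaf (nat_lit 1279)) (.leaf (nat_lit 8652))) (.leaf (nat_lit 4295)))) (.node (.node (.node (.leaf (nat_lit 588)) (.leaf (nat_lit 7460))) (.leaf (nat_lit 3477))) (.node (.node (.leaf (nat_lit 1928)) (.leaf (nat_lit 9733))) (.leaf (nat_lit 5292))))) (.node (.node (.node (.node (.leaf (nat_lit 277)) (.leaf (nat_lit 6957))) (.leaf (nat_lit 3038))) (.node (.node (.leaf (nat_lit 1619)) (.leaf (nat_lit 9172))) (.leaf (nat_lit 4892)))) (.node (.node (.node (.leaf (nat_lit 921)) (.leaf (nat_lit 8073))) (.leaf (nat_lit 3821))) (.node (.node (.leaf (nat_lit 2273)) (.leaf (nat_lit 10429))) (.leaf (nat_lit 5736)))))) (.node (.node (.node (.node (.node (.leaf (nat_lit 133)) (.leaf (nat_lit 6733))) (.node (.leaf (nat_lit 2826)) (.leaf (nat_lit 12133)))) (.node (.node (.leaf (nat_lit 1413)) (.leaf (nat_lit 8895))) (.leaf (nat_lit 4562)))) (.node (.node (.node (.leaf (nat_lit 773)) (.leaf (nat_lit 7713))) (.leaf (nat_lit 3642))) (.node (.node (.leaf (nat_lit 2120)) (.leaf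 (nat_lit 10098))) (.leaf (nat_lit 5524))))) (.node (.node (.node (.node (.leaf (nat_lit 415)) (.leaf (nat_lit 7173))) (.leaf (nat_lit 3300))) (.node (.node (.leaf (nat_lit 1749)) (.leaf (nat_lit 9409))) (.leaf (nat_lit 5093)))) (.node (.node (.node (.leaf (nat_lit 1077)) (.leaf (nat_lit 8344))) (.leaf (nat_lit 4093))) (.node (.node (.leaf (nat_lit 2466)) (.leaf (nat_lit 10828))) (.leaf (nat_lit 6079))))))) (.node (.node (.node (.node (.node (.node (.leaf (nat_lit 79)) (.leaf (nat_lit 6479))) (.node (.leaf (nat_lit 2738)) (.leaf (nat_lit 11693)))) (.node (.node (.leaf (nat_lit 1341)) (.leaf (nat_lit 8775))) (.leaf (nat_lit 4450)))) (.node (.node (.node (.leaf (nat_lit 668)) (.leaf (nat_lit 7608))) (.leaf (nat_lit 3571))) (.node (.node (.leaf (nat_lit 2020)) (.leaf (nat_lit 9937))) (.leaf (nat_lit 5407))))) (.node (.node (.node (.node (.leaf (nat_lit 340)) (.leaf (nat_lit 7063))) (.leaf (nat_lit 3157))) (.node (.node (.leaf (nat_lit 1677)) (.leaf (nat_lit 9344))) (.leaf (nat_lit 5027)))) (.node (.node (.node (.leaf (nat_lit 1010)) (.leaf (nat_lit 8234))) (.leaf (nat_lit 3933))) (.node (.node (.leaf (nat_lit 2345)) (.leaf (nat_lit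 10637))) (.leaf (nat_lit 5938)))))) (.node (.node (.node (.node (.node (.leaf (nat_lit 211)) (.leaf (nat_lit 6799))) (.leaf (nat_lit 2922))) (.node (.node (.leaf (nat_lit 1522)) (.leaf (nat_lit 9015))) (.leaf (nat_lit 4663)))) (.node (.node (.node (.leaf (nat_lit 833)) (.leaf (nat_lit 7891))) (.leaf (nat_lit 3729))) (.node (.node (.leaf (nat_lit 2181)) (.leaf (nat_lit 10252))) (.leaf (nat_lit 5642))))) (.node (.node (.node (.node (.leaf (nat_lit 481)) (.leaf (nat_lit 7367))) (.leaf (nat_lit 3389))) (.node (.node (.leaf (nat_lit 1842)) (.leaf (nat_lit 9526))) (.leaf (nat_lit 5179)))) (.node (.node (.node (.leaf (nat_lit 1175)) (.leaf (nat_lit 8541))) (.leaf (nat_lit 4193))) (.node (.node (.leaf (nat_lit 2561)) (.leaf (nat_lit 11100))) (.leaf (nat_lit 6197)))))))) (.node (.node (.node (.node (.node (.node (.node (.leaf (nat_lit 49)) (.leaf (nat_lit 6430))) (.node (.leaf (nat_lit 2689)) (.leaf (nat_lit 11582)))) (.node (.node (.leaf (nat_lit 1309)) (.leaf (nat_lit 8690))) (.leaf (nat_lit 4360)))) (.node (.node (.node (.leaf (nat_lit 622)) (.leaf (nat_lit 7530))) (.leaf (nat_lit 3506))) (.node (.node (.leaf (nat_lit 1971)) (.leaf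 (nat_lit 9790))) (.leaf (nat_lit 5373))))) (.node (.node (.node (.node (.leaf (nat_lit 310)) (.leaf (nat_lit 7006))) (.leaf (nat_lit 3090))) (.node (.node (.leaf (nat_lit 1642)) (.leaf (nat_lit 9260))) (.leaf (nat_lit 4989)))) (.node (.node (.node (.leaf (nat_lit 987)) (.leaf (nat_lit 8134))) (.leaf (nat_lit 3863))) (.node (.node (.leaf (nat_lit 2306)) (.leaf (nat_lit 10557))) (.leaf (nat_lit 5853)))))) (.node (.node (.node (.node (.node (.leaf (nat_lit 179)) (.leaf (nat_lit 6759))) (.leaf (nat_lit 2879))) (.node (.node (.leaf (nat_lit 1445)) (.leaf (nat_lit 8959))) (.leaf (nat_lit 4607)))) (.node (.node (.node (.leaf (nat_lit 812)) (.leaf (nat_lit 7814))) (.leaf (nat_lit 3685))) (.node (.node (.leaf (nat_lit 2149)) (.leaf (nat_lit 10177))) (.leaf (nat_lit 5591))))) (.node (.node (.node (.node (.leaf (nat_lit 450)) (.leaf (nat_lit 7287))) (.leaf (nat_lit 3357))) (.node (.node (.leaf (nat_lit 1794)) (.leaf (nat_lit 9476))) (.leaf (nat_lit 5126)))) (.node (.node (.node (.leaf (nat_lit 1122)) (.leaf (nat_lit 8392))) (.leaf (nat_lit 4141))) (.node (.node (.leaf (nat_lit 2497)) (.leaf (nat_lit 10889))) (.leaf (nat_lit 6135)))))))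 (.node (.node (.node (.node (.node (.node (.leaf (nat_lit 107)) (.leaf (nat_lit 6539))) (.node (.leaf (nat_lit 2795)) (.leaf (nat_lit 11862)))) (.node (.node (.leaf (nat_lit 1384)) (.leaf (nat_lit 8828))) (.leaf (nat_lit 4503)))) (.node (.node (.node (.leaf (nat_lit 728)) (.leaf (nat_lit 7679))) (.leaf (nat_lit 3602))) (.node (.node (.leaf (nat_lit 2087)) (.leaf (nat_lit 9966))) (.leaf (nat_lit 5475))))) (.node (.node (.node (.node (.leaf (nat_lit 386)) (.leaf (nat_lit 7094))) (.leaf (nat_lit 3223))) (.node (.node (.leaf (nat_lit 1730)) (.leaf (nat_lit 9382))) (.leaf (nat_lit 5055)))) (.node (.node (.node (.leaf (nat_lit 1045)) (.leaf (nat_lit 8300))) (.leaf (nat_lit 4027))) (.node (.node (.leaf (nat_lit 2394)) (.leaf (nat_lit 10728))) (.leaf (nat_lit 6007)))))) (.node (.node (.node (.node (.node (.leaf (nat_lit 236)) (.leaf (nat_lit 6869))) (.leaf (nat_lit 2986))) (.node (.node (.leaf (nat_lit 1553)) (.leaf (nat_lit 9076))) (.leaf (nat_lit 4800)))) (.node (.node (.node (.leaf (nat_lit 887)) (.leaf (nat_lit 7975))) (.leaf (nat_lit 3774))) (.node (.node (.leaf (nat_lit 2247)) (.leaf (nat_lit 10341))) (.leaf (nat_lit 5682)))))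 (.node (.node (.node (.node (.leaf (nat_lit 549)) (.leaf (nat_lit 7417))) (.leaf (nat_lit 3431))) (.node (.node (.leaf (nat_lit 1898)) (.leaf (nat_lit 9659))) (.leaf (nat_lit 5223)))) (.node (.node (.node (.leaf (nat_lit 1208)) (.leaf (nat_lit 8614))) (.leaf (nat_lit 4261))) (.node (.node (.leaf (nat_lit 2613)) (.leaf (nat_lit 11262))) (.leaf (nat_lit 6294))))))))))) (.node (.node (.node (.node (.node (.node (.node (.node (.node (.node (.leaf (nat_lit 7)) (.leaf (nat_lit 6311))) (.node (.leaf (nat_lit 2626)) (.leaf (nat_lit 11427)))) (.node (.node (.leaf (nat_lit 1228)) (.leaf (nat_lit 8627))) (.leaf (nat_lit 4270)))) (.node (.node (.node (.leaf (nat_lit 575)) (.leaf (nat_lit 7436))) (.leaf (nat_lit 3442))) (.node (.node (.leaf (nat_lit 1916)) (.leaf (nat_lit 9676))) (.leaf (nat_lit 5239))))) (.node (.node (.node (.node (.leaf (nat_lit 258)) (.leaf (nat_lit 6887))) (.leaf (nat_lit 3014))) (.node (.node (.leaf (nat_lit 1577)) (.leaf (nat_lit 9135))) (.leaf (nat_lit 4853)))) (.node (.node (.node (.leaf (nat_lit 893)) (.leaf (nat_lit 8015))) (.leaf (nat_lit 3805))) (.node (.node (.leaf (nat_lit 2260)) (.leaf (nat_lit 10381)))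 (.leaf (nat_lit 5711)))))) (.node (.node (.node (.node (.node (.leaf (nat_lit 117)) (.leaf (nat_lit 6560))) (.node (.leaf (nat_lit 2803)) (.leaf (nat_lit 11966)))) (.node (.node (.leaf (nat_lit 1393)) (.leaf (nat_lit 8870))) (.leaf (nat_lit 4535)))) (.node (.node (.node (.leaf (nat_lit 758)) (.leaf (nat_lit 7692))) (.leaf (nat_lit 3615))) (.node (.node (.leaf (nat_lit 2096)) (.leaf (nat_lit 9979))) (.leaf (nat_lit 5494))))) (.node (.node (.node (.node (.leaf (nat_lit 392)) (.leaf (nat_lit 7143))) (.leaf (nat_lit 3261))) (.node (.node (.leaf (nat_lit 1733)) (.leaf (nat_lit 9388))) (.leaf (nat_lit 5065)))) (.node (.node (.node (.leaf (nat_lit 1058)) (.leaf (nat_lit 8315))) (.leaf (nat_lit 4068))) (.node (.node (.leaf (nat_lit 2418)) (.leaf (nat_lit 10774))) (.leaf (nat_lit 6044))))))) (.node (.node (.node (.node (.node (.node (.leaf (nat_lit 58)) (.leaf (nat_lit 6443))) (.node (.leaf (nat_lit 2709)) (.leaf (nat_lit 11606)))) (.node (.node (.leaf (nat_lit 1317)) (.leaf (nat_lit 8708))) (.leaf (nat_lit 4418)))) (.node (.node (.node (.leaf (nat_lit 641)) (.leaf (nat_lit 7567))) (.leaf (nat_lit 3522))) (.node (.node (.leaf (nat_lit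 1984)) (.leaf (nat_lit 9839))) (.leaf (nat_lit 5383))))) (.node (.node (.node (.node (.leaf (nat_lit 321)) (.leaf (nat_lit 7022))) (.leaf (nat_lit 3145))) (.node (.node (.leaf (nat_lit 1653)) (.leaf (nat_lit 9284))) (.leaf (nat_lit 5013)))) (.node (.node (.node (.leaf (nat_lit 992)) (.leaf (nat_lit 8151))) (.leaf (nat_lit 3893))) (.node (.node (.leaf (nat_lit 2322)) (.leaf (nat_lit 10576))) (.leaf (nat_lit 5906)))))) (.node (.node (.node (.node (.node (.leaf (nat_lit 199)) (.leaf (nat_lit 6775))) (.leaf (nat_lit 2890))) (.node (.node (.leaf (nat_lit 1466)) (.leaf (nat_lit 8968))) (.leaf (nat_lit 4623)))) (.node (.node (.node (.leaf (nat_lit 820)) (.leaf (nat_lit 7839))) (.leaf (nat_lit 3695))) (.node (.node (.leaf (nat_lit 2162)) (.leaf (nat_lit 10219))) (.leaf (nat_lit 5606))))) (.node (.node (.node (.node (.leaf (nat_lit 460)) (.leaf (nat_lit 7322))) (.leaf (nat_lit 3370))) (.node (.node (.leaf (nat_lit 1813)) (.leaf (nat_lit 9494))) (.leaf (nat_lit 5143)))) (.node (.node (.node (.leaf (nat_lit 1147)) (.leaf (nat_lit 8493))) (.leaf (nat_lit 4151))) (.node (.node (.leaf (nat_lit 2533)) (.leaf (nat_lit 10937))) (.leaf (nat_lit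 6151)))))))) (.node (.node (.node (.node (.node (.node (.node (.leaf (nat_lit 29)) (.leaf (nat_lit 6375))) (.node (.leaf (nat_lit 2663)) (.leaf (nat_lit 11480)))) (.node (.node (.leaf (nat_lit 1299)) (.leaf (nat_lit 8671))) (.leaf (nat_lit 4331)))) (.node (.node (.node (.leaf (nat_lit 596)) (.leaf (nat_lit 7511))) (.leaf (nat_lit 3487))) (.node (.node (.leaf (nat_lit 1959)) (.leaf (nat_lit 9750))) (.leaf (nat_lit 5320))))) (.node (.node (.node (.node (.leaf (nat_lit 295)) (.leaf (nat_lit 6967))) (.leaf (nat_lit 3067))) (.node (.node (.leaf (nat_lit 1624)) (.leaf (nat_lit 9216))) (.leaf (nat_lit 4964)))) (.node (.node (.node (.leaf (nat_lit 951)) (.leaf (nat_lit 8097))) (.leaf (nat_lit 3842))) (.node (.node (.leaf (nat_lit 2292)) (.leaf (nat_lit 10485))) (.leaf (nat_lit 5805)))))) (.node (.node (.node (.node (.node (.leaf (nat_lit 154)) (.leaf (nat_lit 6743))) (.leaf (nat_lit 2841))) (.node (.node (.leaf (nat_lit 1426)) (.leaf (nat_lit 8905))) (.leaf (nat_lit 4574)))) (.node (.node (.node (.leaf (nat_lit 781)) (.leaf (nat_lit 7725))) (.leaf (nat_lit 3661))) (.node (.node (.leaf (nat_lit 2129)) (.leaf (nat_lit 10108))) (.leaf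 (nat_lit 5567))))) (.node (.node (.node (.node (.leaf (nat_lit 421)) (.leaf (nat_lit 7245))) (.leaf (nat_lit 3323))) (.node (.node (.leaf (nat_lit 1765)) (.leaf (nat_lit 9424))) (.leaf (nat_lit 5103)))) (.node (.node (.node (.leaf (nat_lit 1093)) (.leaf (nat_lit 8366))) (.leaf (nat_lit 4111))) (.node (.node (.leaf (nat_lit 2469)) (.leaf (nat_lit 10854))) (.leaf (nat_lit 6102))))))) (.node (.node (.node (.node (.node (.node (.leaf (nat_lit 93)) (.leaf (nat_lit 6503))) (.node (.leaf (nat_lit 2758)) (.leaf (nat_lit 11723)))) (.node (.node (.leaf (nat_lit 1362)) (.leaf (nat_lit 8781))) (.leaf (nat_lit 4486)))) (.node (.node (.node (.leaf (nat_lit 680)) (.leaf (nat_lit 7624))) (.leaf (nat_lit 3579))) (.node (.node (.leaf (nat_lit 2039)) (.leaf (nat_lit 9947))) (.leaf (nat_lit 5447))))) (.node (.node (.node (.node (.leaf (nat_lit 354)) (.leaf (nat_lit 7079))) (.leaf (nat_lit 3180))) (.node (.node (.leaf (nat_lit 1690)) (.leaf (nat_lit 9356))) (.leaf (nat_lit 5037)))) (.node (.node (.node (.leaf (nat_lit 1035)) (.leaf (nat_lit 8286))) (.leaf (nat_lit 3989))) (.node (.node (.leaf (nat_lit 2365)) (.leaf (nat_lit 10682))) (.leaf (nat_lit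 5978)))))) (.node (.node (.node (.node (.node (.leaf (nat_lit 223)) (.leaf (nat_lit 6819))) (.leaf (nat_lit 2954))) (.node (.node (.leaf (nat_lit 1525)) (.leaf (nat_lit 9030))) (.leaf (nat_lit 4747)))) (.node (.node (.node (.leaf (nat_lit 848)) (.leaf (nat_lit 7919))) (.leaf (nat_lit 3743))) (.node (.node (.leaf (nat_lit 2199)) (.leaf (nat_lit 10303))) (.leaf (nat_lit 5663))))) (.node (.node (.node (.node (.leaf (nat_lit 534)) (.leaf (nat_lit 7391))) (.leaf (nat_lit 3407))) (.node (.node (.leaf (nat_lit 1866)) (.leaf (nat_lit 9570))) (.leaf (nat_lit 5196)))) (.node (.node (.node (.leaf (nat_lit 1187)) (.leaf (nat_lit 8587))) (.leaf (nat_lit 4213))) (.node (.node (.leaf (nat_lit 2595)) (.leaf (nat_lit 11174))) (.leaf (nat_lit 6274))))))))) (.node (.node (.node (.node (.node (.node (.node (.node (.leaf (nat_lit 16)) (.leaf (nat_lit 6335))) (.node (.leaf (nat_lit 2641)) (.leaf (nat_lit 11444)))) (.node (.node (.leaf (nat_lit 1271)) (.leaf (nat_lit 8642))) (.leaf (nat_lit 4294)))) (.node (.node (.node (.leaf (nat_lit 587)) (.leaf (nat_lit 7456))) (.leaf (nat_lit 3473))) (.node (.node (.leaf (nat_lit 1925)) (.leaf (nat_lit 9717)))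 (.leaf (nat_lit 5291))))) (.node (.node (.node (.node (.leaf (nat_lit 272)) (.leaf (nat_lit 6939))) (.leaf (nat_lit 3031))) (.node (.node (.leaf (nat_lit 1611)) (.leaf (nat_lit 9168))) (.leaf (nat_lit 4891)))) (.node (.node (.node (.leaf (nat_lit 916)) (.leaf (nat_lit 8071))) (.leaf (nat_lit 3815))) (.node (.node (.leaf (nat_lit 2269)) (.leaf (nat_lit 10424))) (.leaf (nat_lit 5735)))))) (.node (.node (.node (.node (.node (.leaf (nat_lit 127)) (.leaf (nat_lit 6729))) (.node (.leaf (nat_lit 2817)) (.leaf (nat_lit 12115)))) (.node (.node (.leaf (nat_lit 1412)) (.leaf (nat_lit 8893))) (.leaf (nat_lit 4551)))) (.node (.node (.node (.leaf (nat_lit 772)) (.leaf (nat_lit 7708))) (.leaf (nat_lit 3637))) (.node (.node (.leaf (nat_lit 2117)) (.leaf (nat_lit 10097))) (.leaf (nat_lit 5511))))) (.node (.node (.node (.node (.leaf (nat_lit 407)) (.leaf (nat_lit 7162))) (.leaf (nat_lit 3299))) (.node (.node (.leaf (nat_lit 1745)) (.leaf (nat_lit 9400))) (.leaf (nat_lit 5089)))) (.node (.node (.node (.leaf (nat_lit 1073)) (.leaf (nat_lit 8343))) (.leaf (nat_lit 4082))) (.node (.node (.leaf (nat_lit 2450)) (.leaf (nat_lit 10820))) (.leaf (nat_lit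 6078))))))) (.node (.node (.node (.node (.node (.node (.leaf (nat_lit 74)) (.leaf (nat_lit 6468))) (.node (.leaf (nat_lit 2733)) (.leaf (nat_lit 11692)))) (.node (.node (.leaf (nat_lit 1336)) (.leaf (nat_lit 8759))) (.leaf (nat_lit 4439)))) (.node (.node (.node (.leaf (nat_lit 667)) (.leaf (nat_lit 7607))) (.leaf (nat_lit 3570))) (.node (.node (.leaf (nat_lit 2001)) (.leaf (nat_lit 9936))) (.leaf (nat_lit 5406))))) (.node (.node (.node (.node (.leaf (nat_lit 339)) (.leaf (nat_lit 7062))) (.leaf (nat_lit 3156))) (.node (.node (.leaf (nat_lit 1676)) (.leaf (nat_lit 9343))) (.leaf (nat_lit 5024)))) (.node (.node (.node (.leaf (nat_lit 1005)) (.leaf (nat_lit 8231))) (.leaf (nat_lit 3929))) (.node (.node (.leaf (nat_lit 2343)) (.leaf (nat_lit 10629))) (.leaf (nat_lit 5927)))))) (.node (.node (.node (.node (.node (.leaf (nat_lit 209)) (.leaf (nat_lit 6798))) (.leaf (nat_lit 2911))) (.node (.node (.leaf (nat_lit 1506)) (.leaf (nat_lit 9007))) (.leaf (nat_lit 4647)))) (.node (.node (.node (.leaf (nat_lit 829)) (.leaf (nat_lit 7887))) (.leaf (nat_lit 3727))) (.node (.node (.leaf (nat_lit 2177)) (.leaf (nat_lit 10248))) (.leaf (nat_lit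 5623))))) (.node (.node (.node (.node (.leaf (nat_lit 476)) (.leaf (nat_lit 7362))) (.leaf (nat_lit 3385))) (.node (.node (.leaf (nat_lit 1837)) (.leaf (nat_lit 9518))) (.leaf (nat_lit 5175)))) (.node (.node (.node (.leaf (nat_lit 1167)) (.leaf (nat_lit 8530))) (.leaf (nat_lit 4183))) (.node (.node (.leaf (nat_lit 2557)) (.leaf (nat_lit 11005))) (.leaf (nat_lit 6191)))))))) (.node (.node (.node (.node (.node (.node (.node (.leaf (nat_lit 47)) (.leaf (nat_lit 6423))) (.node (.leaf (nat_lit 2685)) (.leaf (nat_lit 11571)))) (.node (.node (.leaf (nat_lit 1308)) (.leaf (nat_lit 8685))) (.leaf (nat_lit 4354)))) (.node (.node (.node (.leaf (nat_lit 610)) (.leaf (nat_lit 7525))) (.leaf (nat_lit 3503))) (.node (.node (.leaf (nat_lit 1969)) (.leaf (nat_lit 9781))) (.leaf (nat_lit 5369))))) (.node (.node (.node (.node (.leaf (nat_lit 306)) (.leaf (nat_lit 7002))) (.leaf (nat_lit 3081))) (.node (.node (.leaf (nat_lit 1637)) (.leaf (nat_lit 9246))) (.leaf (nat_lit 4978)))) (.node (.node (.node (.leaf (nat_lit 981)) (.leaf (nat_lit 8130))) (.leaf (nat_lit 3855))) (.node (.node (.leaf (nat_lit 2301)) (.leaf (nat_lit 10549))) (.leaf (nat_lit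 5824)))))) (.node (.node (.node (.node (.node (.leaf (nat_lit 175)) (.leaf (nat_lit 6758))) (.leaf (nat_lit 2866))) (.node (.node (.leaf (nat_lit 1441)) (.leaf (nat_lit 8925))) (.leaf (nat_lit 4606)))) (.node (.node (.node (.leaf (nat_lit 811)) (.leaf (nat_lit 7810))) (.leaf (nat_lit 3677))) (.node (.node (.leaf (nat_lit 2148)) (.leaf (nat_lit 10162))) (.leaf (nat_lit 5581))))) (.node (.node (.node (.node (.leaf (nat_lit 437)) (.leaf (nat_lit 7286))) (.leaf (nat_lit 3356))) (.node (.node (.leaf (nat_lit 1789)) (.leaf (nat_lit 9469))) (.leaf (nat_lit 5122)))) (.node (.node (.node (.leaf (nat_lit 1117)) (.leaf (nat_lit 8391))) (.leaf (nat_lit 4128))) (.node (.node (.leaf (nat_lit 2488)) (.leaf (nat_lit 10877))) (.leaf (nat_lit 6130))))))) (.node (.node (.node (.node (.node (.node (.leaf (nat_lit 104)) (.leaf (nat_lit 6529))) (.node (.leaf (nat_lit 2794)) (.leaf (nat_lit 11858)))) (.node (.node (.leaf (nat_lit 1381)) (.leaf (nat_lit 8827))) (.leaf (nat_lit 4502)))) (.node (.node (.node (.leaf (nat_lit 723)) (.leaf (nat_lit 7671))) (.leaf (nat_lit 3593))) (.node (.node (.leaf (nat_lit 2068)) (.leaf (nat_lit 9960))) (.leaf (nat_lit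 5461))))) (.node (.node (.node (.node (.leaf (nat_lit 374)) (.leaf (nat_lit 7085))) (.leaf (nat_lit 3221))) (.node (.node (.leaf (nat_lit 1727)) (.leaf (nat_lit 9378))) (.leaf (nat_lit 5047)))) (.node (.node (.node (.leaf (nat_lit 1044)) (.leaf (nat_lit 8299))) (.leaf (nat_lit 4000))) (.node (.node (.leaf (nat_lit 2391)) (.leaf (nat_lit 10717))) (.leaf (nat_lit 6002)))))) (.node (.node (.node (.node (.node (.leaf (nat_lit 229)) (.leaf (nat_lit 6863))) (.leaf (nat_lit 2975))) (.node (.node (.leaf (nat_lit 1541)) (.leaf (nat_lit 9075))) (.leaf (nat_lit 4768)))) (.node (.node (.node (.leaf (nat_lit 874)) (.leaf (nat_lit 7974))) (.leaf (nat_lit 3770))) (.node (.node (.leaf (nat_lit 2234)) (.leaf (nat_lit 10337))) (.leaf (nat_lit 5677))))) (.node (.node (.node (.node (.leaf (nat_lit 548)) (.leaf (nat_lit 7414))) (.leaf (nat_lit 3429))) (.node (.node (.leaf (nat_lit 1887)) (.leaf (nat_lit 9643))) (.leaf (nat_lit 5222)))) (.node (.node (.node (.leaf (nat_lit 1196)) (.leaf (nat_lit 8607))) (.leaf (nat_lit 4234))) (.node (.node (.leaf (nat_lit 2612)) (.leaf (nat_lit 11248))) (.leaf (nat_lit 6290)))))))))) (.node (.node (.node (.node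 (.node (.node (.node (.node (.node (.leaf (nat_lit 12)) (.leaf (nat_lit 6330))) (.node (.leaf (nat_lit 2637)) (.leaf (nat_lit 11436)))) (.node (.node (.leaf (nat_lit 1233)) (.leaf (nat_lit 8629))) (.leaf (nat_lit 4282)))) (.node (.node (.node (.leaf (nat_lit 580)) (.leaf (nat_lit 7444))) (.leaf (nat_lit 3455))) (.node (.node (.leaf (nat_lit 1923)) (.leaf (nat_lit 9711))) (.leaf (nat_lit 5263))))) (.node (.node (.node (.node (.leaf (nat_lit 270)) (.leaf (nat_lit 6915))) (.leaf (nat_lit 3026))) (.node (.node (.leaf (nat_lit 1593)) (.leaf (nat_lit 9152))) (.leaf (nat_lit 4860)))) (.node (.node (.node (.leaf (nat_lit 905)) (.leaf (nat_lit 8047))) (.leaf (nat_lit 3810))) (.node (.node (.leaf (nat_lit 2264)) (.leaf (nat_lit 10411))) (.leaf (nat_lit 5720)))))) (.node (.node (.node (.node (.node (.leaf (nat_lit 122)) (.leaf (nat_lit 6652))) (.node (.leaf (nat_lit 2805)) (.leaf (nat_lit 11991)))) (.node (.node (.leaf (nat_lit 1402)) (.leaf (nat_lit 8880))) (.leaf (nat_lit 4546)))) (.node (.node (.node (.leaf (nat_lit 767)) (.leaf (nat_lit 7696))) (.leaf (nat_lit 3621))) (.node (.node (.leaf (nat_lit 2115)) (.leaf (nat_lit 9992))) (.leaf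 (nat_lit 5502))))) (.node (.node (.node (.node (.leaf (nat_lit 397)) (.leaf (nat_lit 7152))) (.leaf (nat_lit 3272))) (.node (.node (.leaf (nat_lit 1740)) (.leaf (nat_lit 9395))) (.leaf (nat_lit 5079)))) (.node (.node (.node (.leaf (nat_lit 1068)) (.leaf (nat_lit 8328))) (.leaf (nat_lit 4073))) (.node (.node (.leaf (nat_lit 2423)) (.leaf (nat_lit 10781))) (.leaf (nat_lit 6071))))))) (.node (.node (.node (.node (.node (.node (.leaf (nat_lit 69)) (.leaf (nat_lit 6455))) (.node (.leaf (nat_lit 2714)) (.leaf (nat_lit 11665)))) (.node (.node (.leaf (nat_lit 1325)) (.leaf (nat_lit 8732))) (.leaf (nat_lit 4434)))) (.node (.node (.node (.leaf (nat_lit 655)) (.leaf (nat_lit 7583))) (.leaf (nat_lit 3530))) (.node (.node (.leaf (nat_lit 1996)) (.leaf (nat_lit 9850))) (.leaf (nat_lit 5397))))) (.node (.node (.node (.node (.leaf (nat_lit 335)) (.leaf (nat_lit 7051))) (.leaf (nat_lit 3149))) (.node (.node (.leaf (nat_lit 1661)) (.leaf (nat_lit 9293))) (.leaf (nat_lit 5018)))) (.node (.node (.node (.leaf (nat_lit 997)) (.leaf (nat_lit 8183))) (.leaf (nat_lit 3905))) (.node (.node (.leaf (nat_lit 2340)) (.leaf (nat_lit 10597))) (.leaf (nat_lit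 5922)))))) (.node (.node (.node (.node (.node (.leaf (nat_lit 206)) (.leaf (nat_lit 6789))) (.leaf (nat_lit 2906))) (.node (.node (.leaf (nat_lit 1490)) (.leaf (nat_lit 8976))) (.leaf (nat_lit 4638)))) (.node (.node (.node (.leaf (nat_lit 824)) (.leaf (nat_lit 7866))) (.leaf (nat_lit 3706))) (.node (.node (.leaf (nat_lit 2173)) (.leaf (nat_lit 10235))) (.leaf (nat_lit 5614))))) (.node (.node (.node (.node (.leaf (nat_lit 468)) (.leaf (nat_lit 7335))) (.leaf (nat_lit 3381))) (.node (.node (.leaf (nat_lit 1821)) (.leaf (nat_lit 9505))) (.leaf (nat_lit 5170)))) (.node (.node (.node (.leaf (nat_lit 1149)) (.leaf (nat_lit 8509))) (.leaf (nat_lit 4167))) (.node (.node (.leaf (nat_lit 2553)) (.leaf (nat_lit 10946))) (.leaf (nat_lit 6161)))))))) (.node (.node (.node (.node (.node (.node (.node (.leaf (nat_lit 44)) (.leaf (nat_lit 6418))) (.node (.leaf (nat_lit 2679)) (.leaf (nat_lit 11536)))) (.node (.node (.leaf (nat_lit 1301)) (.leaf (nat_lit 8683))) (.leaf (nat_lit 4333)))) (.node (.node (.node (.leaf (nat_lit 601)) (.leaf (nat_lit 7523))) (.leaf (nat_lit 3492))) (.node (.node (.leaf (nat_lit 1963)) (.leaf (nat_lit 9764))) (.leaf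 (nat_lit 5329))))) (.node (.node (.node (.node (.leaf (nat_lit 300)) (.leaf (nat_lit 6973))) (.leaf (nat_lit 3069))) (.node (.node (.leaf (nat_lit 1629)) (.leaf (nat_lit 9236))) (.leaf (nat_lit 4969)))) (.node (.node (.node (.leaf (nat_lit 979)) (.leaf (nat_lit 8109))) (.leaf (nat_lit 3847))) (.node (.node (.leaf (nat_lit 2295)) (.leaf (nat_lit 10523))) (.leaf (nat_lit 5819)))))) (.node (.node (.node (.node (.node (.leaf (nat_lit 161)) (.leaf (nat_lit 6751))) (.leaf (nat_lit 2850))) (.node (.node (.leaf (nat_lit 1437)) (.leaf (nat_lit 8917))) (.leaf (nat_lit 4583)))) (.node (.node (.node (.leaf (nat_lit 794)) (.leaf (nat_lit 7742))) (.leaf (nat_lit 3666))) (.node (.node (.leaf (nat_lit 2138)) (.leaf (nat_lit 10122))) (.leaf (nat_lit 5574))))) (.node (.node (.node (.node (.leaf (nat_lit 429)) (.leaf (nat_lit 7277))) (.leaf (nat_lit 3339))) (.node (.node (.leaf (nat_lit 1773)) (.leaf (nat_lit 9464))) (.leaf (nat_lit 5117)))) (.node (.node (.node (.leaf (nat_lit 1101)) (.leaf (nat_lit 8378))) (.leaf (nat_lit 4117))) (.node (.node (.leaf (nat_lit 2484)) (.leaf (nat_lit 10875))) (.leaf (nat_lit 6111))))))) (.node (.node (.node (.node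 (.node (.node (.leaf (nat_lit 98)) (.leaf (nat_lit 6514))) (.node (.leaf (nat_lit 2770)) (.leaf (nat_lit 11821)))) (.node (.node (.leaf (nat_lit 1379)) (.leaf (nat_lit 8794))) (.leaf (nat_lit 4495)))) (.node (.node (.node (.leaf (nat_lit 689)) (.leaf (nat_lit 7629))) (.leaf (nat_lit 3581))) (.node (.node (.leaf (nat_lit 2057)) (.leaf (nat_lit 9955))) (.leaf (nat_lit 5454))))) (.node (.node (.node (.node (.leaf (nat_lit 363)) (.leaf (nat_lit 7083))) (.leaf (nat_lit 3192))) (.node (.node (.leaf (nat_lit 1703)) (.leaf (nat_lit 9366))) (.leaf (nat_lit 5042)))) (.node (.node (.node (.leaf (nat_lit 1037)) (.leaf (nat_lit 8295))) (.leaf (nat_lit 3996))) (.node (.node (.leaf (nat_lit 2385)) (.leaf (nat_lit 10695))) (.leaf (nat_lit 5983)))))) (.node (.node (.node (.node (.node (.leaf (nat_lit 227)) (.leaf (nat_lit 6858))) (.leaf (nat_lit 2970))) (.node (.node (.leaf (nat_lit 1532)) (.leaf (nat_lit 9063))) (.leaf (nat_lit 4749)))) (.node (.node (.node (.leaf (nat_lit 858)) (.leaf (nat_lit 7954))) (.leaf (nat_lit 3751))) (.node (.node (.leaf (nat_lit 2215)) (.leaf (nat_lit 10317))) (.leaf (nat_lit 5675))))) (.node (.node (.node (.node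 (.leaf (nat_lit 543)) (.leaf (nat_lit 7396))) (.leaf (nat_lit 3423))) (.node (.node (.leaf (nat_lit 1882)) (.leaf (nat_lit 9631))) (.leaf (nat_lit 5205)))) (.node (.node (.node (.leaf (nat_lit 1189)) (.leaf (nat_lit 8602))) (.leaf (nat_lit 4222))) (.node (.node (.leaf (nat_lit 2600)) (.leaf (nat_lit 11221))) (.leaf (nat_lit 6279))))))))) (.node (.node (.node (.node (.node (.node (.node (.node (.leaf (nat_lit 21)) (.leaf (nat_lit 6351))) (.node (.leaf (nat_lit 2650)) (.leaf (nat_lit 11453)))) (.node (.node (.leaf (nat_lit 1280)) (.leaf (nat_lit 8657))) (.leaf (nat_lit 4303)))) (.node (.node (.node (.leaf (nat_lit 589)) (.leaf (nat_lit 7490))) (.leaf (nat_lit 3479))) (.node (.node (.leaf (nat_lit 1937)) (.leaf (nat_lit 9741))) (.leaf (nat_lit 5296))))) (.node (.node (.node (.node (.leaf (nat_lit 286)) (.leaf (nat_lit 6962))) (.leaf (nat_lit 3039))) (.node (.node (.leaf (nat_lit 1620)) (.leaf (nat_lit 9207))) (.leaf (nat_lit 4923)))) (.node (.node (.node (.leaf (nat_lit 932)) (.leaf (nat_lit 8077))) (.leaf (nat_lit 3831))) (.node (.node (.leaf (nat_lit 2277)) (.leaf (nat_lit 10450))) (.leaf (nat_lit 5741)))))) (.node (.node (.node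 (.node (.node (.leaf (nat_lit 143)) (.leaf (nat_lit 6735))) (.leaf (nat_lit 2836))) (.node (.node (.leaf (nat_lit 1417)) (.leaf (nat_lit 8897))) (.leaf (nat_lit 4566)))) (.node (.node (.node (.leaf (nat_lit 779)) (.leaf (nat_lit 7718))) (.leaf (nat_lit 3655))) (.node (.node (.leaf (nat_lit 2124)) (.leaf (nat_lit 10099))) (.leaf (nat_lit 5535))))) (.node (.node (.node (.node (.leaf (nat_lit 419)) (.leaf (nat_lit 7175))) (.leaf (nat_lit 3312))) (.node (.node (.leaf (nat_lit 1754)) (.leaf (nat_lit 9419))) (.leaf (nat_lit 5095)))) (.node (.node (.node (.leaf (nat_lit 1082)) (.leaf (nat_lit 8356))) (.leaf (nat_lit 4095))) (.node (.node (.leaf (nat_lit 2467)) (.leaf (nat_lit 10838))) (.leaf (nat_lit 6090))))))) (.node (.node (.node (.node (.node (.node (.leaf (nat_lit 87)) (.leaf (nat_lit 6485))) (.node (.leaf (nat_lit 2749)) (.leaf (nat_lit 11715)))) (.node (.node (.leaf (nat_lit 1349)) (.leaf (nat_lit 8779))) (.leaf (nat_lit 4477)))) (.node (.node (.node (.leaf (nat_lit 675)) (.leaf (nat_lit 7611))) (.leaf (nat_lit 3572))) (.node (.node (.leaf (nat_lit 2023)) (.leaf (nat_lit 9938))) (.leaf (nat_lit 5418))))) (.node (.node (.node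 (.node (.leaf (nat_lit 341)) (.leaf (nat_lit 7070))) (.leaf (nat_lit 3160))) (.node (.node (.leaf (nat_lit 1681)) (.leaf (nat_lit 9348))) (.leaf (nat_lit 5028)))) (.node (.node (.node (.leaf (nat_lit 1018)) (.leaf (nat_lit 8242))) (.leaf (nat_lit 3985))) (.node (.node (.leaf (nat_lit 2349)) (.leaf (nat_lit 10642))) (.leaf (nat_lit 5973)))))) (.node (.node (.node (.node (.node (.leaf (nat_lit 212)) (.leaf (nat_lit 6803))) (.leaf (nat_lit 2945))) (.node (.node (.leaf (nat_lit 1523)) (.leaf (nat_lit 9021))) (.leaf (nat_lit 4680)))) (.node (.node (.node (.leaf (nat_lit 837)) (.leaf (nat_lit 7895))) (.leaf (nat_lit 3737))) (.node (.node (.leaf (nat_lit 2186)) (.leaf (nat_lit 10253))) (.leaf (nat_lit 5647))))) (.node (.node (.node (.node (.leaf (nat_lit 497)) (.leaf (nat_lit 7382))) (.leaf (nat_lit 3394))) (.node (.node (.leaf (nat_lit 1857)) (.leaf (nat_lit 9541))) (.leaf (nat_lit 5181)))) (.node (.node (.node (.leaf (nat_lit 1177)) (.leaf (nat_lit 8559))) (.leaf (nat_lit 4197))) (.node (.node (.leaf (nat_lit 2577)) (.leaf (nat_lit 11101))) (.leaf (nat_lit 6216)))))))) (.node (.node (.node (.node (.node (.node (.node (.leaf (nat_lit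 53)) (.leaf (nat_lit 6431))) (.node (.leaf (nat_lit 2693)) (.leaf (nat_lit 11588)))) (.node (.node (.leaf (nat_lit 1312)) (.leaf (nat_lit 8703))) (.leaf (nat_lit 4409)))) (.node (.node (.node (.leaf (nat_lit 623)) (.leaf (nat_lit 7558))) (.leaf (nat_lit 3510))) (.node (.node (.leaf (nat_lit 1979)) (.leaf (nat_lit 9805))) (.leaf (nat_lit 5375))))) (.node (.node (.node (.node (.leaf (nat_lit 312)) (.leaf (nat_lit 7007))) (.leaf (nat_lit 3096))) (.node (.node (.leaf (nat_lit 1648)) (.leaf (nat_lit 9279))) (.leaf (nat_lit 4994)))) (.node (.node (.node (.leaf (nat_lit 988)) (.leaf (nat_lit 8135))) (.leaf (nat_lit 3891))) (.node (.node (.leaf (nat_lit 2317)) (.leaf (nat_lit 10562))) (.leaf (nat_lit 5897)))))) (.node (.node (.node (.node (.node (.leaf (nat_lit 186)) (.leaf (nat_lit 6767))) (.leaf (nat_lit 2881))) (.node (.node (.leaf (nat_lit 1450)) (.leaf (nat_lit 8965))) (.leaf (nat_lit 4614)))) (.node (.node (.node (.leaf (nat_lit 813)) (.leaf (nat_lit 7826))) (.leaf (nat_lit 3690))) (.node (.node (.leaf (nat_lit 2153)) (.leaf (nat_lit 10206))) (.leaf (nat_lit 5596))))) (.node (.node (.node (.node (.leaf (nat_lit 456)) (.leaf (nat_lit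 7293))) (.leaf (nat_lit 3361))) (.node (.node (.leaf (nat_lit 1807)) (.leaf (nat_lit 9477))) (.leaf (nat_lit 5127)))) (.node (.node (.node (.leaf (nat_lit 1143)) (.leaf (nat_lit 8393))) (.leaf (nat_lit 4146))) (.node (.node (.leaf (nat_lit 2506)) (.leaf (nat_lit 10924))) (.leaf (nat_lit 6138))))))) (.node (.node (.node (.node (.node (.node (.leaf (nat_lit 108)) (.leaf (nat_lit 6550))) (.node (.leaf (nat_lit 2796)) (.leaf (nat_lit 11902)))) (.node (.node (.leaf (nat_lit 1388)) (.leaf (nat_lit 8829))) (.leaf (nat_lit 4511)))) (.node (.node (.node (.leaf (nat_lit 742)) (.leaf (nat_lit 7687))) (.leaf (nat_lit 3612))) (.node (.node (.leaf (nat_lit 2088)) (.leaf (nat_lit 9969))) (.leaf (nat_lit 5476))))) (.node (.node (.node (.node (.leaf (nat_lit 390)) (.leaf (nat_lit 7098))) (.leaf (nat_lit 3256))) (.node (.node (.leaf (nat_lit 1731)) (.leaf (nat_lit 9384))) (.leaf (nat_lit 5058)))) (.node (.node (.node (.leaf (nat_lit 1049)) (.leaf (nat_lit 8311))) (.leaf (nat_lit 4028))) (.node (.node (.leaf (nat_lit 2399)) (.leaf (nat_lit 10732))) (.leaf (nat_lit 6015)))))) (.node (.node (.node (.node (.node (.leaf (nat_lit 237)) (.leaf (nat_lit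 6878))) (.leaf (nat_lit 3005))) (.node (.node (.leaf (nat_lit 1567)) (.leaf (nat_lit 9077))) (.leaf (nat_lit 4848)))) (.node (.node (.node (.leaf (nat_lit 891)) (.leaf (nat_lit 7983))) (.leaf (nat_lit 3775))) (.node (.node (.leaf (nat_lit 2258)) (.leaf (nat_lit 10359))) (.leaf (nat_lit 5697))))) (.node (.node (.node (.node (.leaf (nat_lit 557)) (.leaf (nat_lit 7430))) (.leaf (nat_lit 3433))) (.node (.node (.leaf (nat_lit 1914)) (.leaf (nat_lit 9664))) (.leaf (nat_lit 5229)))) (.node (.node (.node (.leaf (nat_lit 1212)) (.leaf (nat_lit 8615))) (.leaf (nat_lit 4263))) (.node (.node (.leaf (nat_lit 2617)) (.leaf (nat_lit 11285))) (.leaf (nat_lit 6295))))))))))))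

noncomputable def dI : NT := (.node (.node (.node (.node (.node (.node (.node (.node (.node (.node (.node (.leaf (nat_lit 691)) (.leaf (nat_lit 499))) (.leaf (nat_lit 0))) (.node (.node (.node (.leaf (nat_lit 0)) (.node (.leaf (nat_lit 10)) (.node (.leaf (nat_lit 1487)) (.leaf (nat_lit 1333))))) (.leaf (nat_lit 0))) (.leaf (nat_lit 727)))) (.node (.node (.node (.node (.leaf (nat_lit 312)) (.leaf (nat_lit 169))) (.leaf (nat_lit 0))) (.node (.leaf (nat_lit 0)) (.node (.leaf (nat_lit 0)) (.node (.leaf (nat_lit 0)) (.node (.node (.leaf (nat_lit 1470)) (.leaf (nat_lit 1058))) (.leaf (nat_lit 0))))))) (.node (.node (.leaf (nat_lit 1088)) (.leaf (nat_lit 1549))) (.node (.node (.leaf (nat_lit 0)) (.node (.leaf (nat_lit 498)) (.leaf (nat_lit 1394)))) (.leaf (nat_lit 0)))))) (.node (.node (.node (.leaf (nat_lit 1501)) (.node (.node (.leaf (nat_lit 0)) (.node (.leaf (nat_lit 0)) (.node (.leaf (nat_lit 394)) (.leaf (nat_lit 130))))) (.leaf (nat_lit 0)))) (.node (.leaf (nat_lit 1158)) (.leaf (nat_lit 811)))) (.node (.node (.leaf (nat_lit 0)) (.node (.leaf (nat_lit 958)) (.node (.leaf (nat_lit 0)) (.node (.node (.node (.leaf (nat_lit 0))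 (.node (.leaf (nat_lit 0)) (.node (.leaf (nat_lit 1521)) (.leaf (nat_lit 8))))) (.leaf (nat_lit 0))) (.leaf (nat_lit 0)))))) (.node (.node (.node (.leaf (nat_lit 0)) (.node (.leaf (nat_lit 1403)) (.node (.leaf (nat_lit 0)) (.node (.leaf (nat_lit 1558)) (.leaf (nat_lit 393)))))) (.node (.node (.leaf (nat_lit 0)) (.node (.node (.leaf (nat_lit 0)) (.node (.leaf (nat_lit 789)) (.leaf (nat_lit 1038)))) (.leaf (nat_lit 0)))) (.leaf (nat_lit 0)))) (.leaf (nat_lit 1148)))))) (.node (.node (.node (.node (.leaf (nat_lit 418)) (.leaf (nat_lit 1271))) (.node (.leaf (nat_lit 1438)) (.leaf (nat_lit 879)))) (.node (.node (.node (.node (.leaf (nat_lit 166)) (.leaf (nat_lit 398))) (.leaf (nat_lit 0))) (.leaf (nat_lit 1334))) (.node (.leaf (nat_lit 1017)) (.node (.leaf (nat_lit 635)) (.leaf (nat_lit 64)))))) (.node (.node (.node (.node (.node (.leaf (nat_lit 0)) (.node (.node (.leaf (nat_lit 891)) (.leaf (nat_lit 1103))) (.leaf (nat_lit 0)))) (.leaf (nat_lit 550))) (.leaf (nat_lit 282))) (.node (.leaf (nat_lit 0)) (.node (.leaf (nat_lit 1062)) (.leaf (nat_lit 179))))) (.node (.node (.node (.leaf (nat_lit 0)) (.node (.leaf (nat_lit 1513)) (.leaf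 (nat_lit 1475)))) (.node (.leaf (nat_lit 1347)) (.leaf (nat_lit 351)))) (.node (.leaf (nat_lit 0)) (.node (.leaf (nat_lit 0)) (.node (.leaf (nat_lit 0)) (.node (.leaf (nat_lit 705)) (.leaf (nat_lit 854)))))))))) (.node (.node (.node (.node (.node (.node (.leaf (nat_lit 1508)) (.leaf (nat_lit 254))) (.leaf (nat_lit 0))) (.node (.node (.node (.node (.leaf (nat_lit 426)) (.leaf (nat_lit 1065))) (.leaf (nat_lit 0))) (.leaf (nat_lit 604))) (.node (.node (.leaf (nat_lit 278)) (.leaf (nat_lit 512))) (.node (.leaf (nat_lit 576)) (.node (.leaf (nat_lit 599)) (.leaf (nat_lit 1448))))))) (.leaf (nat_lit 853))) (.node (.node (.node (.leaf (nat_lit 333)) (.leaf (nat_lit 1378))) (.node (.leaf (nat_lit 835)) (.node (.node (.leaf (nat_lit 0)) (.node (.leaf (nat_lit 1016)) (.leaf (nat_lit 1450)))) (.leaf (nat_lit 0))))) (.node (.node (.node (.leaf (nat_lit 479)) (.node (.leaf (nat_lit 645)) (.leaf (nat_lit 978)))) (.node (.leaf (nat_lit 0)) (.node (.leaf (nat_lit 927)) (.leaf (nat_lit 491))))) (.node (.leaf (nat_lit 0)) (.node (.leaf (nat_lit 0)) (.node (.leaf (nat_lit 624)) (.leaf (nat_lit 321)))))))) (.node (.node (.node (.node (.leaf (nat_lit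 812)) (.leaf (nat_lit 272))) (.leaf (nat_lit 0))) (.node (.node (.leaf (nat_lit 591)) (.node (.leaf (nat_lit 926)) (.leaf (nat_lit 1078)))) (.node (.node (.leaf (nat_lit 617)) (.leaf (nat_lit 842))) (.leaf (nat_lit 389))))) (.node (.node (.leaf (nat_lit 1410)) (.node (.leaf (nat_lit 1112)) (.node (.node (.leaf (nat_lit 0)) (.node (.node (.leaf (nat_lit 1443)) (.leaf (nat_lit 402))) (.leaf (nat_lit 0)))) (.leaf (nat_lit 0))))) (.node (.node (.node (.leaf (nat_lit 0)) (.node (.node (.node (.leaf (nat_lit 322)) (.leaf (nat_lit 778))) (.leaf (nat_lit 0))) (.leaf (nat_lit 0)))) (.leaf (nat_lit 1174))) (.node (.leaf (nat_lit 0)) (.node (.node (.leaf (nat_lit 0)) (.node (.leaf (nat_lit 1518)) (.leaf (nat_lit 371)))) (.leaf (nat_lit 1191))))))))) (.node (.node (.node (.node (.node (.node (.leaf (nat_lit 656)) (.node (.leaf (nat_lit 0)) (.node (.leaf (nat_lit 265)) (.leaf (nat_lit 552))))) (.node (.leaf (nat_lit 596)) (.node (.leaf (nat_lit 597)) (.leaf (nat_lit 900))))) (.node (.node (.node (.leaf (nat_lit 0)) (.node (.node (.node (.node (.leaf (nat_lit 1386)) (.leaf (nat_lit 1107))) (.leaf (nat_lit 0))) (.leaf (nat_lit 0))) (.leaf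 (nat_lit 0)))) (.node (.leaf (nat_lit 1496)) (.leaf (nat_lit 277)))) (.leaf (nat_lit 0)))) (.node (.node (.node (.node (.node (.leaf (nat_lit 718)) (.leaf (nat_lit 1259))) (.leaf (nat_lit 1162))) (.leaf (nat_lit 794))) (.node (.node (.leaf (nat_lit 114)) (.leaf (nat_lit 1311))) (.leaf (nat_lit 1355)))) (.node (.node (.leaf (nat_lit 1552)) (.leaf (nat_lit 586))) (.node (.leaf (nat_lit 0)) (.node (.node (.leaf (nat_lit 441)) (.leaf (nat_lit 748))) (.leaf (nat_lit 877))))))) (.node (.node (.node (.node (.leaf (nat_lit 0)) (.node (.leaf (nat_lit 883)) (.leaf (nat_lit 94)))) (.node (.leaf (nat_lit 1532)) (.leaf (nat_lit 598)))) (.node (.node (.node (.leaf (nat_lit 1132)) (.node (.node (.leaf (nat_lit 0)) (.node (.node (.node (.leaf (nat_lit 558)) (.leaf (nat_lit 895))) (.leaf (nat_lit 0))) (.leaf (nat_lit 0)))) (.leaf (nat_lit 0)))) (.node (.node (.leaf (nat_lit 271)) (.leaf (nat_lit 299))) (.node (.leaf (nat_lit 565)) (.leaf (nat_lit 532))))) (.node (.node (.leaf (nat_lit 777)) (.leaf (nat_lit 899))) (.leaf (nat_lit 1391))))) (.node (.node (.node (.leaf (nat_lit 62)) (.leaf (nat_lit 903))) (.node (.node (.leaf (nat_lit 1181)) (.node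 (.node (.leaf (nat_lit 28)) (.leaf (nat_lit 710))) (.leaf (nat_lit 0)))) (.leaf (nat_lit 0)))) (.node (.node (.leaf (nat_lit 732)) (.node (.leaf (nat_lit 1441)) (.node (.leaf (nat_lit 1352)) (.leaf (nat_lit 995))))) (.node (.node (.leaf (nat_lit 1167)) (.leaf (nat_lit 976))) (.leaf (nat_lit 0))))))) (.node (.node (.node (.node (.leaf (nat_lit 0)) (.node (.node (.node (.node (.node (.leaf (nat_lit 25)) (.leaf (nat_lit 155))) (.leaf (nat_lit 0))) (.leaf (nat_lit 227))) (.leaf (nat_lit 0))) (.node (.node (.leaf (nat_lit 0)) (.node (.node (.node (.leaf (nat_lit 1445)) (.leaf (nat_lit 463))) (.leaf (nat_lit 0))) (.leaf (nat_lit 0)))) (.leaf (nat_lit 0))))) (.node (.node (.leaf (nat_lit 750)) (.node (.node (.leaf (nat_lit 0)) (.node (.leaf (nat_lit 1262)) (.leaf (nat_lit 959)))) (.leaf (nat_lit 1348)))) (.leaf (nat_lit 145)))) (.node (.node (.node (.leaf (nat_lit 1012)) (.node (.node (.leaf (nat_lit 0)) (.node (.node (.leaf (nat_lit 42)) (.node (.node (.node (.leaf (nat_lit 15)) (.leaf (nat_lit 1138))) (.leaf (nat_lit 0))) (.leaf (nat_lit 0)))) (.leaf (nat_lit 0)))) (.leaf (nat_lit 0)))) (.node (.leaf (nat_lit 220)) (.node (.node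 (.leaf (nat_lit 0)) (.node (.leaf (nat_lit 747)) (.leaf (nat_lit 693)))) (.leaf (nat_lit 131))))) (.node (.node (.leaf (nat_lit 994)) (.node (.leaf (nat_lit 0)) (.node (.leaf (nat_lit 0)) (.node (.leaf (nat_lit 268)) (.leaf (nat_lit 284)))))) (.node (.node (.leaf (nat_lit 1517)) (.leaf (nat_lit 77))) (.node (.leaf (nat_lit 0)) (.node (.leaf (nat_lit 121)) (.leaf (nat_lit 505)))))))) (.node (.node (.node (.node (.leaf (nat_lit 1465)) (.node (.leaf (nat_lit 0)) (.node (.leaf (nat_lit 993)) (.node (.node (.leaf (nat_lit 595)) (.leaf (nat_lit 1013))) (.leaf (nat_lit 0)))))) (.node (.node (.node (.leaf (nat_lit 743)) (.leaf (nat_lit 281))) (.leaf (nat_lit 1497))) (.leaf (nat_lit 855)))) (.node (.node (.node (.leaf (nat_lit 431)) (.leaf (nat_lit 1252))) (.leaf (nat_lit 0))) (.node (.leaf (nat_lit 1021)) (.node (.leaf (nat_lit 1212)) (.node (.leaf (nat_lit 518)) (.leaf (nat_lit 276))))))) (.node (.node (.node (.leaf (nat_lit 1458)) (.node (.leaf (nat_lit 0)) (.node (.leaf (nat_lit 0)) (.node (.node (.leaf (nat_lit 0)) (.node (.leaf (nat_lit 0)) (.node (.leaf (nat_lit 1006)) (.leaf (nat_lit 380))))) (.leaf (nat_lit 1331)))))) (.node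 (.node (.leaf (nat_lit 1557)) (.leaf (nat_lit 400))) (.node (.leaf (nat_lit 0)) (.node (.leaf (nat_lit 12)) (.leaf (nat_lit 1069)))))) (.node (.node (.leaf (nat_lit 0)) (.node (.leaf (nat_lit 0)) (.node (.leaf (nat_lit 1193)) (.node (.node (.node (.leaf (nat_lit 1526)) (.leaf (nat_lit 561))) (.leaf (nat_lit 0))) (.leaf (nat_lit 0)))))) (.leaf (nat_lit 729)))))))) (.node (.node (.node (.node (.node (.node (.node (.leaf (nat_lit 0)) (.node (.leaf (nat_lit 1064)) (.node (.leaf (nat_lit 986)) (.leaf (nat_lit 1125))))) (.node (.node (.leaf (nat_lit 0)) (.node (.leaf (nat_lit 0)) (.node (.leaf (nat_lit 466)) (.node (.leaf (nat_lit 0)) (.node (.leaf (nat_lit 177)) (.leaf (nat_lit 955))))))) (.leaf (nat_lit 40)))) (.node (.node (.node (.node (.node (.node (.node (.node (.leaf (nat_lit 1166)) (.leaf (nat_lit 941))) (.leaf (nat_lit 0))) (.leaf (nat_lit 0))) (.leaf (nat_lit 0))) (.leaf (nat_lit 0))) (.leaf (nat_lit 0))) (.leaf (nat_lit 0))) (.node (.node (.node (.leaf (nat_lit 0)) (.node (.leaf (nat_lit 72)) (.leaf (nat_lit 1249)))) (.leaf (nat_lit 0))) (.node (.node (.leaf (nat_lit 0)) (.node (.leaf (nat_lit 1258)) (.leaf (nat_lit 1234))))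 (.leaf (nat_lit 0)))))) (.node (.node (.leaf (nat_lit 249)) (.node (.node (.leaf (nat_lit 1389)) (.leaf (nat_lit 1359))) (.leaf (nat_lit 0)))) (.node (.node (.node (.node (.leaf (nat_lit 1095)) (.leaf (nat_lit 1358))) (.leaf (nat_lit 1169))) (.leaf (nat_lit 0))) (.node (.node (.leaf (nat_lit 60)) (.leaf (nat_lit 1154))) (.node (.leaf (nat_lit 908)) (.leaf (nat_lit 397))))))) (.node (.node (.node (.node (.leaf (nat_lit 683)) (.leaf (nat_lit 1175))) (.node (.leaf (nat_lit 1379)) (.leaf (nat_lit 1217)))) (.node (.node (.node (.leaf (nat_lit 797)) (.leaf (nat_lit 146))) (.leaf (nat_lit 213))) (.node (.node (.node (.leaf (nat_lit 902)) (.leaf (nat_lit 735))) (.leaf (nat_lit 0))) (.leaf (nat_lit 0))))) (.node (.node (.leaf (nat_lit 1045)) (.node (.node (.leaf (nat_lit 1161)) (.node (.leaf (nat_lit 339)) (.leaf (nat_lit 63)))) (.node (.leaf (nat_lit 470)) (.node (.leaf (nat_lit 474)) (.node (.leaf (nat_lit 567)) (.leaf (nat_lit 1547))))))) (.node (.leaf (nat_lit 0)) (.node (.node (.leaf (nat_lit 1059)) (.leaf (nat_lit 1415))) (.node (.node (.node (.node (.node (.leaf (nat_lit 29)) (.leaf (nat_lit 263))) (.leaf (nat_lit 0))) (.leaf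 (nat_lit 0))) (.leaf (nat_lit 0))) (.leaf (nat_lit 889)))))))) (.node (.node (.node (.node (.node (.node (.leaf (nat_lit 154)) (.leaf (nat_lit 161))) (.node (.leaf (nat_lit 187)) (.node (.node (.leaf (nat_lit 1005)) (.leaf (nat_lit 61))) (.leaf (nat_lit 0))))) (.node (.leaf (nat_lit 455)) (.leaf (nat_lit 260)))) (.node (.node (.node (.leaf (nat_lit 875)) (.leaf (nat_lit 414))) (.node (.leaf (nat_lit 1163)) (.leaf (nat_lit 1459)))) (.node (.node (.node (.leaf (nat_lit 1376)) (.node (.node (.leaf (nat_lit 587)) (.leaf (nat_lit 478))) (.leaf (nat_lit 0)))) (.leaf (nat_lit 0))) (.leaf (nat_lit 0))))) (.node (.node (.node (.node (.leaf (nat_lit 487)) (.leaf (nat_lit 1284))) (.leaf (nat_lit 290))) (.leaf (nat_lit 189))) (.node (.node (.leaf (nat_lit 1122)) (.node (.leaf (nat_lit 0)) (.node (.leaf (nat_lit 0)) (.node (.leaf (nat_lit 0)) (.node (.leaf (nat_lit 293)) (.leaf (nat_lit 1538))))))) (.node (.leaf (nat_lit 831)) (.node (.leaf (nat_lit 127)) (.leaf (nat_lit 640))))))) (.node (.node (.node (.node (.leaf (nat_lit 1097)) (.node (.leaf (nat_lit 0)) (.node (.leaf (nat_lit 669)) (.leaf (nat_lit 1469))))) (.node (.node (.leaf (nat_lit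 1510)) (.leaf (nat_lit 763))) (.leaf (nat_lit 399)))) (.node (.node (.leaf (nat_lit 832)) (.leaf (nat_lit 109))) (.node (.node (.leaf (nat_lit 0)) (.node (.node (.node (.leaf (nat_lit 1335)) (.leaf (nat_lit 572))) (.leaf (nat_lit 225))) (.leaf (nat_lit 0)))) (.node (.leaf (nat_lit 1077)) (.leaf (nat_lit 1523)))))) (.node (.node (.node (.node (.node (.leaf (nat_lit 1187)) (.node (.leaf (nat_lit 430)) (.leaf (nat_lit 92)))) (.leaf (nat_lit 0))) (.node (.node (.leaf (nat_lit 0)) (.node (.leaf (nat_lit 0)) (.node (.leaf (nat_lit 684)) (.leaf (nat_lit 594))))) (.leaf (nat_lit 1241)))) (.node (.node (.leaf (nat_lit 0)) (.node (.node (.leaf (nat_lit 0)) (.node (.leaf (nat_lit 188)) (.leaf (nat_lit 95)))) (.leaf (nat_lit 0)))) (.node (.leaf (nat_lit 824)) (.leaf (nat_lit 1365))))) (.node (.node (.node (.leaf (nat_lit 975)) (.leaf (nat_lit 1140))) (.leaf (nat_lit 802))) (.leaf (nat_lit 1087))))))) (.node (.node (.node (.node (.node (.node (.node (.leaf (nat_lit 264)) (.leaf (nat_lit 502))) (.node (.node (.leaf (nat_lit 0)) (.node (.leaf (nat_lit 0)) (.node (.leaf (nat_lit 605)) (.leaf (nat_lit 507))))) (.leaf (nat_lit 0)))) (.node (.node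 (.node (.leaf (nat_lit 1432)) (.leaf (nat_lit 1073))) (.leaf (nat_lit 1041))) (.node (.node (.node (.leaf (nat_lit 1255)) (.node (.leaf (nat_lit 387)) (.leaf (nat_lit 1534)))) (.leaf (nat_lit 0))) (.leaf (nat_lit 0))))) (.node (.leaf (nat_lit 1370)) (.node (.leaf (nat_lit 0)) (.node (.node (.leaf (nat_lit 641)) (.leaf (nat_lit 434))) (.leaf (nat_lit 0)))))) (.node (.node (.node (.node (.node (.node (.leaf (nat_lit 724)) (.leaf (nat_lit 554))) (.leaf (nat_lit 759))) (.leaf (nat_lit 0))) (.node (.leaf (nat_lit 1343)) (.leaf (nat_lit 1121)))) (.leaf (nat_lit 0))) (.node (.node (.leaf (nat_lit 1473)) (.node (.node (.leaf (nat_lit 0)) (.node (.leaf (nat_lit 0)) (.node (.node (.leaf (nat_lit 97)) (.leaf (nat_lit 415))) (.leaf (nat_lit 0))))) (.leaf (nat_lit 0)))) (.leaf (nat_lit 673))))) (.node (.node (.node (.node (.node (.node (.node (.node (.leaf (nat_lit 540)) (.leaf (nat_lit 702))) (.leaf (nat_lit 733))) (.leaf (nat_lit 0))) (.leaf (nat_lit 1139))) (.leaf (nat_lit 208))) (.node (.leaf (nat_lit 123)) (.leaf (nat_lit 1220)))) (.node (.node (.node (.leaf (nat_lit 0)) (.node (.leaf (nat_lit 43)) (.leaf (nat_lit 1419)))) (.leaf (nat_lit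 0))) (.node (.node (.node (.node (.leaf (nat_lit 420)) (.leaf (nat_lit 471))) (.leaf (nat_lit 369))) (.node (.leaf (nat_lit 0)) (.node (.leaf (nat_lit 476)) (.node (.leaf (nat_lit 262)) (.leaf (nat_lit 771)))))) (.leaf (nat_lit 881))))) (.node (.node (.node (.leaf (nat_lit 0)) (.node (.node (.leaf (nat_lit 1055)) (.leaf (nat_lit 16))) (.leaf (nat_lit 1183)))) (.node (.node (.node (.leaf (nat_lit 888)) (.leaf (nat_lit 548))) (.node (.leaf (nat_lit 0)) (.node (.leaf (nat_lit 0)) (.node (.leaf (nat_lit 1420)) (.leaf (nat_lit 323)))))) (.leaf (nat_lit 0)))) (.node (.node (.node (.node (.leaf (nat_lit 0)) (.node (.node (.leaf (nat_lit 660)) (.leaf (nat_lit 1118))) (.leaf (nat_lit 0)))) (.leaf (nat_lit 0))) (.leaf (nat_lit 0))) (.leaf (nat_lit 1178)))))) (.node (.node (.node (.node (.node (.node (.leaf (nat_lit 661)) (.leaf (nat_lit 1248))) (.leaf (nat_lit 721))) (.node (.node (.node (.leaf (nat_lit 601)) (.leaf (nat_lit 1280))) (.leaf (nat_lit 0))) (.node (.leaf (nat_lit 738)) (.leaf (nat_lit 364))))) (.node (.node (.node (.leaf (nat_lit 0)) (.node (.leaf (nat_lit 0)) (.node (.leaf (nat_lit 1047)) (.leaf (nat_lit 344))))) (.leaf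 (nat_lit 1207))) (.node (.node (.leaf (nat_lit 1215)) (.leaf (nat_lit 374))) (.leaf (nat_lit 607))))) (.node (.node (.node (.node (.node (.node (.leaf (nat_lit 1224)) (.leaf (nat_lit 652))) (.leaf (nat_lit 0))) (.leaf (nat_lit 0))) (.leaf (nat_lit 0))) (.leaf (nat_lit 1295))) (.node (.node (.node (.leaf (nat_lit 231)) (.node (.node (.leaf (nat_lit 0)) (.node (.leaf (nat_lit 1564)) (.leaf (nat_lit 872)))) (.leaf (nat_lit 0)))) (.leaf (nat_lit 1519))) (.leaf (nat_lit 522))))) (.node (.node (.node (.node (.node (.node (.leaf (nat_lit 0)) (.node (.leaf (nat_lit 0)) (.node (.node (.node (.leaf (nat_lit 992)) (.leaf (nat_lit 938))) (.leaf (nat_lit 0))) (.leaf (nat_lit 0))))) (.leaf (nat_lit 0))) (.node (.node (.leaf (nat_lit 0)) (.node (.leaf (nat_lit 168)) (.leaf (nat_lit 1392)))) (.leaf (nat_lit 0)))) (.leaf (nat_lit 401))) (.node (.node (.leaf (nat_lit 0)) (.node (.leaf (nat_lit 0)) (.node (.leaf (nat_lit 1446)) (.leaf (nat_lit 665))))) (.node (.node (.node (.leaf (nat_lit 0)) (.node (.leaf (nat_lit 335)) (.leaf (nat_lit 500)))) (.leaf (nat_lit 0))) (.node (.node (.leaf (nat_lit 0)) (.node (.leaf (nat_lit 1153)) (.leaf (nat_lit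 688)))) (.leaf (nat_lit 0)))))) (.node (.node (.node (.leaf (nat_lit 0)) (.node (.leaf (nat_lit 11)) (.leaf (nat_lit 23)))) (.node (.node (.leaf (nat_lit 1426)) (.leaf (nat_lit 473))) (.leaf (nat_lit 0)))) (.node (.node (.leaf (nat_lit 983)) (.leaf (nat_lit 217))) (.node (.node (.leaf (nat_lit 517)) (.node (.leaf (nat_lit 1345)) (.leaf (nat_lit 337)))) (.leaf (nat_lit 582)))))))))) (.node (.node (.node (.node (.node (.node (.node (.node (.node (.leaf (nat_lit 1559)) (.leaf (nat_lit 1053))) (.node (.node (.leaf (nat_lit 0)) (.node (.leaf (nat_lit 896)) (.leaf (nat_lit 744)))) (.leaf (nat_lit 0)))) (.leaf (nat_lit 153))) (.node (.leaf (nat_lit 329)) (.node (.node (.leaf (nat_lit 737)) (.leaf (nat_lit 159))) (.node (.leaf (nat_lit 461)) (.leaf (nat_lit 258)))))) (.node (.node (.node (.node (.leaf (nat_lit 53)) (.node (.leaf (nat_lit 390)) (.leaf (nat_lit 1364)))) (.node (.leaf (nat_lit 649)) (.leaf (nat_lit 795)))) (.node (.leaf (nat_lit 0)) (.node (.node (.leaf (nat_lit 769)) (.leaf (nat_lit 906))) (.leaf (nat_lit 0))))) (.node (.node (.leaf (nat_lit 1498)) (.leaf (nat_lit 1400))) (.node (.node (.leaf (nat_lit 1399)) (.node (.leaf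 (nat_lit 1266)) (.leaf (nat_lit 18)))) (.node (.leaf (nat_lit 1427)) (.leaf (nat_lit 613))))))) (.node (.node (.node (.node (.node (.leaf (nat_lit 0)) (.node (.node (.leaf (nat_lit 692)) (.leaf (nat_lit 1422))) (.leaf (nat_lit 0)))) (.node (.leaf (nat_lit 1298)) (.leaf (nat_lit 376)))) (.leaf (nat_lit 1084))) (.node (.node (.leaf (nat_lit 580)) (.leaf (nat_lit 555))) (.node (.node (.node (.leaf (nat_lit 609)) (.leaf (nat_lit 1134))) (.leaf (nat_lit 672))) (.node (.leaf (nat_lit 291)) (.leaf (nat_lit 423)))))) (.node (.node (.node (.leaf (nat_lit 0)) (.node (.leaf (nat_lit 1390)) (.node (.leaf (nat_lit 991)) (.leaf (nat_lit 252))))) (.node (.node (.node (.leaf (nat_lit 1507)) (.node (.leaf (nat_lit 0)) (.node (.leaf (nat_lit 1171)) (.leaf (nat_lit 298))))) (.leaf (nat_lit 0))) (.node (.leaf (nat_lit 93)) (.leaf (nat_lit 1301))))) (.node (.node (.node (.leaf (nat_lit 720)) (.leaf (nat_lit 1406))) (.node (.node (.leaf (nat_lit 1024)) (.leaf (nat_lit 1393))) (.leaf (nat_lit 0)))) (.node (.node (.leaf (nat_lit 1240)) (.leaf (nat_lit 1556))) (.node (.leaf (nat_lit 884)) (.leaf (nat_lit 1411)))))))) (.node (.node (.node (.node (.leaf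 (nat_lit 0)) (.node (.node (.leaf (nat_lit 820)) (.node (.leaf (nat_lit 1285)) (.leaf (nat_lit 296)))) (.node (.leaf (nat_lit 156)) (.leaf (nat_lit 411))))) (.node (.node (.leaf (nat_lit 1408)) (.leaf (nat_lit 1173))) (.leaf (nat_lit 13)))) (.node (.node (.node (.node (.leaf (nat_lit 0)) (.node (.leaf (nat_lit 0)) (.node (.leaf (nat_lit 71)) (.leaf (nat_lit 633))))) (.node (.leaf (nat_lit 0)) (.node (.node (.leaf (nat_lit 770)) (.leaf (nat_lit 183))) (.leaf (nat_lit 0))))) (.node (.node (.node (.leaf (nat_lit 1545)) (.leaf (nat_lit 382))) (.leaf (nat_lit 1430))) (.leaf (nat_lit 547)))) (.node (.node (.node (.leaf (nat_lit 0)) (.node (.node (.leaf (nat_lit 0)) (.node (.node (.leaf (nat_lit 0)) (.node (.leaf (nat_lit 1119)) (.leaf (nat_lit 1046)))) (.leaf (nat_lit 0)))) (.leaf (nat_lit 0)))) (.node (.node (.leaf (nat_lit 0)) (.node (.leaf (nat_lit 91)) (.node (.leaf (nat_lit 0)) (.node (.node (.leaf (nat_lit 212)) (.leaf (nat_lit 1479))) (.leaf (nat_lit 0)))))) (.leaf (nat_lit 0)))) (.node (.leaf (nat_lit 0)) (.node (.leaf (nat_lit 1505)) (.leaf (nat_lit 7))))))) (.node (.node (.node (.node (.leaf (nat_lit 0)) (.node (.node (.leaf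 (nat_lit 0)) (.node (.node (.leaf (nat_lit 677)) (.leaf (nat_lit 1192))) (.leaf (nat_lit 0)))) (.leaf (nat_lit 815)))) (.node (.node (.node (.leaf (nat_lit 0)) (.node (.node (.leaf (nat_lit 0)) (.node (.node (.leaf (nat_lit 1086)) (.leaf (nat_lit 503))) (.leaf (nat_lit 0)))) (.leaf (nat_lit 0)))) (.leaf (nat_lit 0))) (.node (.leaf (nat_lit 0)) (.node (.node (.node (.leaf (nat_lit 998)) (.leaf (nat_lit 814))) (.leaf (nat_lit 0))) (.leaf (nat_lit 0)))))) (.node (.node (.node (.node (.leaf (nat_lit 803)) (.leaf (nat_lit 101))) (.leaf (nat_lit 791))) (.node (.node (.node (.leaf (nat_lit 1550)) (.leaf (nat_lit 22))) (.leaf (nat_lit 0))) (.leaf (nat_lit 0)))) (.node (.node (.leaf (nat_lit 751)) (.node (.leaf (nat_lit 610)) (.leaf (nat_lit 653)))) (.leaf (nat_lit 622))))) (.node (.node (.node (.leaf (nat_lit 73)) (.leaf (nat_lit 120))) (.node (.node (.node (.leaf (nat_lit 174)) (.node (.leaf (nat_lit 86)) (.leaf (nat_lit 1433)))) (.leaf (nat_lit 0))) (.leaf (nat_lit 0)))) (.node (.node (.node (.leaf (nat_lit 0)) (.node (.node (.leaf (nat_lit 686)) (.leaf (nat_lit 722))) (.leaf (nat_lit 0)))) (.leaf (nat_lit 0))) (.node (.leaf (nat_lit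 0)) (.node (.node (.leaf (nat_lit 0)) (.node (.node (.leaf (nat_lit 341)) (.leaf (nat_lit 378))) (.leaf (nat_lit 0)))) (.node (.leaf (nat_lit 57)) (.node (.leaf (nat_lit 0)) (.node (.leaf (nat_lit 446)) (.leaf (nat_lit 457)))))))))))) (.node (.node (.node (.node (.node (.node (.leaf (nat_lit 0)) (.node (.leaf (nat_lit 1149)) (.node (.leaf (nat_lit 1165)) (.leaf (nat_lit 513))))) (.node (.leaf (nat_lit 0)) (.node (.node (.leaf (nat_lit 1551)) (.leaf (nat_lit 198))) (.leaf (nat_lit 0))))) (.node (.node (.node (.leaf (nat_lit 289)) (.leaf (nat_lit 140))) (.leaf (nat_lit 557))) (.leaf (nat_lit 24)))) (.node (.node (.node (.node (.leaf (nat_lit 706)) (.node (.node (.leaf (nat_lit 1565)) (.leaf (nat_lit 678))) (.leaf (nat_lit 0)))) (.leaf (nat_lit 0))) (.node (.leaf (nat_lit 1020)) (.node (.leaf (nat_lit 1210)) (.node (.leaf (nat_lit 1314)) (.leaf (nat_lit 1039)))))) (.node (.leaf (nat_lit 1128)) (.node (.leaf (nat_lit 52)) (.node (.leaf (nat_lit 1296)) (.leaf (nat_lit 1109))))))) (.node (.node (.node (.node (.node (.leaf (nat_lit 674)) (.leaf (nat_lit 570))) (.node (.leaf (nat_lit 443)) (.leaf (nat_lit 1123)))) (.node (.leaf (nat_lit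 0)) (.node (.leaf (nat_lit 1242)) (.leaf (nat_lit 115))))) (.node (.node (.node (.leaf (nat_lit 1204)) (.node (.node (.leaf (nat_lit 0)) (.node (.leaf (nat_lit 0)) (.node (.leaf (nat_lit 453)) (.leaf (nat_lit 839))))) (.leaf (nat_lit 1150)))) (.leaf (nat_lit 1208))) (.node (.node (.leaf (nat_lit 1361)) (.node (.leaf (nat_lit 1407)) (.leaf (nat_lit 83)))) (.leaf (nat_lit 1025))))) (.node (.node (.node (.node (.node (.leaf (nat_lit 1010)) (.node (.node (.leaf (nat_lit 1492)) (.leaf (nat_lit 82))) (.leaf (nat_lit 1402)))) (.leaf (nat_lit 405))) (.leaf (nat_lit 1226))) (.node (.node (.leaf (nat_lit 143)) (.leaf (nat_lit 1239))) (.node (.leaf (nat_lit 368)) (.leaf (nat_lit 203))))) (.node (.leaf (nat_lit 0)) (.node (.node (.node (.node (.node (.leaf (nat_lit 843)) (.leaf (nat_lit 600))) (.leaf (nat_lit 0))) (.leaf (nat_lit 0))) (.leaf (nat_lit 0))) (.node (.node (.node (.leaf (nat_lit 0)) (.node (.leaf (nat_lit 195)) (.leaf (nat_lit 1023)))) (.leaf (nat_lit 0))) (.leaf (nat_lit 1449)))))))) (.node (.node (.node (.node (.node (.leaf (nat_lit 1081)) (.node (.leaf (nat_lit 0)) (.node (.leaf (nat_lit 762)) (.leaf (nat_lit 1321)))))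 (.node (.leaf (nat_lit 0)) (.node (.leaf (nat_lit 0)) (.node (.node (.node (.leaf (nat_lit 1421)) (.leaf (nat_lit 643))) (.leaf (nat_lit 0))) (.leaf (nat_lit 0)))))) (.node (.node (.leaf (nat_lit 1417)) (.node (.node (.node (.leaf (nat_lit 355)) (.leaf (nat_lit 301))) (.leaf (nat_lit 0))) (.node (.leaf (nat_lit 0)) (.node (.node (.leaf (nat_lit 0)) (.node (.leaf (nat_lit 707)) (.leaf (nat_lit 163)))) (.leaf (nat_lit 0)))))) (.node (.node (.node (.leaf (nat_lit 1268)) (.leaf (nat_lit 726))) (.leaf (nat_lit 0))) (.leaf (nat_lit 0))))) (.node (.node (.node (.node (.node (.leaf (nat_lit 1434)) (.leaf (nat_lit 1273))) (.leaf (nat_lit 0))) (.leaf (nat_lit 138))) (.node (.node (.leaf (nat_lit 1)) (.node (.node (.node (.node (.node (.leaf (nat_lit 1297)) (.leaf (nat_lit 694))) (.leaf (nat_lit 0))) (.leaf (nat_lit 0))) (.leaf (nat_lit 0))) (.leaf (nat_lit 0)))) (.node (.node (.leaf (nat_lit 1462)) (.node (.leaf (nat_lit 0)) (.node (.node (.leaf (nat_lit 850)) (.leaf (nat_lit 360))) (.leaf (nat_lit 0))))) (.leaf (nat_lit 0))))) (.node (.node (.node (.leaf (nat_lit 99)) (.node (.leaf (nat_lit 1289)) (.node (.leaf (nat_lit 1236)) (.leaf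 (nat_lit 1424))))) (.node (.leaf (nat_lit 514)) (.leaf (nat_lit 307)))) (.node (.node (.leaf (nat_lit 1076)) (.leaf (nat_lit 676))) (.leaf (nat_lit 845)))))) (.node (.node (.node (.node (.leaf (nat_lit 0)) (.node (.node (.leaf (nat_lit 0)) (.node (.leaf (nat_lit 1117)) (.leaf (nat_lit 1176)))) (.leaf (nat_lit 766)))) (.node (.node (.leaf (nat_lit 646)) (.node (.leaf (nat_lit 1527)) (.leaf (nat_lit 1536)))) (.leaf (nat_lit 1369)))) (.node (.node (.node (.node (.leaf (nat_lit 663)) (.leaf (nat_lit 460))) (.leaf (nat_lit 0))) (.leaf (nat_lit 0))) (.node (.node (.leaf (nat_lit 717)) (.node (.leaf (nat_lit 0)) (.node (.node (.node (.leaf (nat_lit 58)) (.leaf (nat_lit 708))) (.leaf (nat_lit 0))) (.leaf (nat_lit 0))))) (.node (.leaf (nat_lit 878)) (.node (.leaf (nat_lit 0)) (.node (.leaf (nat_lit 162)) (.leaf (nat_lit 950)))))))) (.node (.node (.node (.node (.leaf (nat_lit 395)) (.leaf (nat_lit 1034))) (.node (.node (.leaf (nat_lit 49)) (.leaf (nat_lit 564))) (.leaf (nat_lit 0)))) (.node (.node (.leaf (nat_lit 1312)) (.leaf (nat_lit 133))) (.node (.leaf (nat_lit 1485)) (.node (.node (.node (.leaf (nat_lit 309)) (.leaf (nat_lit 69)))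 (.leaf (nat_lit 0))) (.leaf (nat_lit 0)))))) (.node (.node (.leaf (nat_lit 0)) (.node (.node (.leaf (nat_lit 122)) (.node (.leaf (nat_lit 946)) (.leaf (nat_lit 447)))) (.leaf (nat_lit 0)))) (.node (.leaf (nat_lit 819)) (.node (.node (.leaf (nat_lit 1520)) (.leaf (nat_lit 644))) (.leaf (nat_lit 711)))))))))) (.node (.node (.node (.node (.node (.node (.node (.leaf (nat_lit 1491)) (.leaf (nat_lit 158))) (.node (.leaf (nat_lit 0)) (.node (.leaf (nat_lit 0)) (.node (.node (.leaf (nat_lit 0)) (.node (.leaf (nat_lit 922)) (.leaf (nat_lit 549)))) (.node (.leaf (nat_lit 200)) (.leaf (nat_lit 210))))))) (.node (.node (.node (.leaf (nat_lit 786)) (.leaf (nat_lit 27))) (.node (.leaf (nat_lit 904)) (.leaf (nat_lit 126)))) (.node (.leaf (nat_lit 404)) (.node (.leaf (nat_lit 1106)) (.leaf (nat_lit 191)))))) (.node (.node (.node (.node (.node (.leaf (nat_lit 620)) (.leaf (nat_lit 270))) (.leaf (nat_lit 956))) (.node (.node (.leaf (nat_lit 0)) (.node (.leaf (nat_lit 559)) (.leaf (nat_lit 805)))) (.leaf (nat_lit 0)))) (.leaf (nat_lit 1481))) (.node (.node (.leaf (nat_lit 1305)) (.node (.node (.leaf (nat_lit 180)) (.leaf (nat_lit 739))) (.leaf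 (nat_lit 1001)))) (.node (.node (.leaf (nat_lit 1543)) (.leaf (nat_lit 615))) (.node (.leaf (nat_lit 0)) (.node (.leaf (nat_lit 1464)) (.leaf (nat_lit 520)))))))) (.node (.node (.node (.node (.leaf (nat_lit 1141)) (.leaf (nat_lit 1397))) (.leaf (nat_lit 41))) (.node (.node (.node (.leaf (nat_lit 910)) (.node (.node (.leaf (nat_lit 930)) (.leaf (nat_lit 320))) (.leaf (nat_lit 0)))) (.leaf (nat_lit 0))) (.node (.node (.leaf (nat_lit 0)) (.node (.node (.node (.leaf (nat_lit 2)) (.leaf (nat_lit 569))) (.leaf (nat_lit 0))) (.leaf (nat_lit 0)))) (.node (.leaf (nat_lit 971)) (.node (.leaf (nat_lit 0)) (.node (.leaf (nat_lit 844)) (.leaf (nat_lit 1341)))))))) (.node (.node (.node (.leaf (nat_lit 0)) (.node (.leaf (nat_lit 1170)) (.node (.node (.leaf (nat_lit 0)) (.node (.node (.leaf (nat_lit 354)) (.leaf (nat_lit 35))) (.leaf (nat_lit 0)))) (.leaf (nat_lit 0))))) (.leaf (nat_lit 448))) (.node (.node (.node (.node (.leaf (nat_lit 961)) (.node (.leaf (nat_lit 287)) (.leaf (nat_lit 224)))) (.leaf (nat_lit 0))) (.node (.leaf (nat_lit 327)) (.leaf (nat_lit 1323)))) (.node (.node (.node (.node (.leaf (nat_lit 0)) (.node (.leaf (nat_lit 700))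 (.leaf (nat_lit 583)))) (.leaf (nat_lit 0))) (.leaf (nat_lit 521))) (.leaf (nat_lit 822))))))) (.node (.node (.node (.node (.node (.leaf (nat_lit 841)) (.node (.node (.node (.node (.leaf (nat_lit 1244)) (.leaf (nat_lit 408))) (.leaf (nat_lit 0))) (.leaf (nat_lit 0))) (.leaf (nat_lit 0)))) (.node (.leaf (nat_lit 6)) (.node (.leaf (nat_lit 954)) (.node (.leaf (nat_lit 367)) (.leaf (nat_lit 304)))))) (.node (.node (.leaf (nat_lit 1195)) (.node (.leaf (nat_lit 679)) (.leaf (nat_lit 867)))) (.node (.node (.leaf (nat_lit 0)) (.node (.leaf (nat_lit 0)) (.node (.node (.leaf (nat_lit 44)) (.leaf (nat_lit 124))) (.leaf (nat_lit 0))))) (.leaf (nat_lit 776))))) (.node (.node (.node (.node (.node (.leaf (nat_lit 0)) (.node (.leaf (nat_lit 1004)) (.leaf (nat_lit 575)))) (.leaf (nat_lit 981))) (.node (.leaf (nat_lit 1213)) (.leaf (nat_lit 630)))) (.node (.node (.leaf (nat_lit 0)) (.node (.node (.leaf (nat_lit 0)) (.node (.leaf (nat_lit 207)) (.leaf (nat_lit 943)))) (.leaf (nat_lit 1102)))) (.leaf (nat_lit 1342)))) (.node (.node (.node (.leaf (nat_lit 0)) (.node (.leaf (nat_lit 984)) (.leaf (nat_lit 1561)))) (.node (.leaf (nat_lit 511)) (.leaf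 (nat_lit 0)))) (.node (.node (.leaf (nat_lit 535)) (.leaf (nat_lit 75))) (.leaf (nat_lit 682)))))) (.node (.node (.node (.node (.node (.node (.leaf (nat_lit 0)) (.node (.leaf (nat_lit 545)) (.leaf (nat_lit 589)))) (.leaf (nat_lit 0))) (.leaf (nat_lit 0))) (.node (.leaf (nat_lit 779)) (.node (.node (.leaf (nat_lit 1237)) (.node (.leaf (nat_lit 106)) (.leaf (nat_lit 176)))) (.node (.node (.node (.leaf (nat_lit 1344)) (.leaf (nat_lit 539))) (.leaf (nat_lit 0))) (.leaf (nat_lit 0)))))) (.node (.node (.node (.leaf (nat_lit 989)) (.node (.leaf (nat_lit 388)) (.leaf (nat_lit 796)))) (.node (.leaf (nat_lit 1256)) (.node (.leaf (nat_lit 0)) (.node (.leaf (nat_lit 222)) (.leaf (nat_lit 657)))))) (.node (.leaf (nat_lit 788)) (.node (.leaf (nat_lit 939)) (.node (.leaf (nat_lit 1294)) (.leaf (nat_lit 428))))))) (.node (.node (.leaf (nat_lit 0)) (.node (.node (.leaf (nat_lit 238)) (.node (.node (.leaf (nat_lit 767)) (.leaf (nat_lit 119))) (.node (.node (.node (.leaf (nat_lit 838)) (.leaf (nat_lit 436))) (.leaf (nat_lit 0))) (.leaf (nat_lit 0))))) (.leaf (nat_lit 1197)))) (.node (.leaf (nat_lit 731)) (.node (.leaf (nat_lit 0)) (.node (.leaf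 (nat_lit 860)) (.leaf (nat_lit 980))))))))) (.node (.node (.node (.node (.node (.node (.leaf (nat_lit 449)) (.node (.node (.leaf (nat_lit 0)) (.node (.leaf (nat_lit 0)) (.node (.leaf (nat_lit 761)) (.leaf (nat_lit 1493))))) (.leaf (nat_lit 0)))) (.node (.node (.node (.leaf (nat_lit 0)) (.node (.leaf (nat_lit 0)) (.node (.node (.leaf (nat_lit 1185)) (.leaf (nat_lit 1530))) (.leaf (nat_lit 0))))) (.leaf (nat_lit 0))) (.leaf (nat_lit 67)))) (.node (.leaf (nat_lit 1142)) (.node (.node (.leaf (nat_lit 1279)) (.node (.node (.node (.leaf (nat_lit 0)) (.node (.node (.node (.leaf (nat_lit 574)) (.leaf (nat_lit 85))) (.leaf (nat_lit 0))) (.leaf (nat_lit 0)))) (.leaf (nat_lit 0))) (.leaf (nat_lit 0)))) (.leaf (nat_lit 1326))))) (.node (.node (.node (.node (.node (.leaf (nat_lit 562)) (.leaf (nat_lit 475))) (.leaf (nat_lit 0))) (.leaf (nat_lit 0))) (.leaf (nat_lit 0))) (.node (.node (.leaf (nat_lit 386)) (.node (.node (.leaf (nat_lit 508)) (.leaf (nat_lit 1196))) (.leaf (nat_lit 81)))) (.node (.node (.leaf (nat_lit 865)) (.leaf (nat_lit 1245))) (.leaf (nat_lit 0)))))) (.node (.node (.node (.node (.node (.node (.leaf (nat_lit 0)) (.node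 (.leaf (nat_lit 0)) (.node (.node (.leaf (nat_lit 319)) (.leaf (nat_lit 1540))) (.leaf (nat_lit 0))))) (.node (.leaf (nat_lit 70)) (.leaf (nat_lit 836)))) (.node (.node (.leaf (nat_lit 300)) (.leaf (nat_lit 236))) (.leaf (nat_lit 0)))) (.node (.leaf (nat_lit 0)) (.node (.leaf (nat_lit 1490)) (.leaf (nat_lit 979))))) (.node (.node (.leaf (nat_lit 209)) (.leaf (nat_lit 999))) (.leaf (nat_lit 631)))) (.node (.node (.node (.node (.leaf (nat_lit 0)) (.node (.node (.leaf (nat_lit 1009)) (.leaf (nat_lit 292))) (.leaf (nat_lit 0)))) (.leaf (nat_lit 862))) (.node (.node (.leaf (nat_lit 0)) (.node (.node (.leaf (nat_lit 0)) (.node (.leaf (nat_lit 626)) (.leaf (nat_lit 830)))) (.leaf (nat_lit 244)))) (.leaf (nat_lit 0)))) (.node (.node (.node (.leaf (nat_lit 787)) (.leaf (nat_lit 139))) (.node (.leaf (nat_lit 634)) (.leaf (nat_lit 256)))) (.node (.node (.leaf (nat_lit 0)) (.node (.leaf (nat_lit 330)) (.leaf (nat_lit 1398)))) (.leaf (nat_lit 1137))))))) (.node (.node (.node (.node (.leaf (nat_lit 1336)) (.leaf (nat_lit 1436))) (.node (.node (.node (.node (.leaf (nat_lit 536)) (.leaf (nat_lit 1061))) (.leaf (nat_lit 0))) (.leaf (nat_lit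 0))) (.node (.node (.leaf (nat_lit 201)) (.leaf (nat_lit 214))) (.node (.leaf (nat_lit 311)) (.leaf (nat_lit 1482)))))) (.node (.node (.node (.node (.leaf (nat_lit 1243)) (.leaf (nat_lit 481))) (.node (.node (.leaf (nat_lit 0)) (.node (.leaf (nat_lit 1509)) (.leaf (nat_lit 590)))) (.leaf (nat_lit 0)))) (.leaf (nat_lit 128))) (.node (.node (.leaf (nat_lit 987)) (.node (.leaf (nat_lit 546)) (.node (.leaf (nat_lit 417)) (.leaf (nat_lit 680))))) (.leaf (nat_lit 1096))))) (.node (.node (.node (.node (.leaf (nat_lit 0)) (.node (.node (.leaf (nat_lit 427)) (.leaf (nat_lit 429))) (.leaf (nat_lit 0)))) (.leaf (nat_lit 753))) (.node (.node (.node (.leaf (nat_lit 1100)) (.node (.node (.leaf (nat_lit 218)) (.leaf (nat_lit 444))) (.leaf (nat_lit 0)))) (.node (.leaf (nat_lit 1328)) (.node (.leaf (nat_lit 1054)) (.leaf (nat_lit 911))))) (.node (.node (.node (.leaf (nat_lit 0)) (.node (.leaf (nat_lit 0)) (.node (.node (.leaf (nat_lit 947)) (.leaf (nat_lit 1502))) (.leaf (nat_lit 0))))) (.leaf (nat_lit 0))) (.node (.node (.node (.node (.leaf (nat_lit 825)) (.leaf (nat_lit 113))) (.leaf (nat_lit 0))) (.leaf (nat_lit 0))) (.leaf (nat_lit 0))))))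 (.node (.node (.node (.leaf (nat_lit 585)) (.node (.leaf (nat_lit 560)) (.leaf (nat_lit 936)))) (.leaf (nat_lit 964))) (.node (.node (.leaf (nat_lit 0)) (.node (.leaf (nat_lit 637)) (.leaf (nat_lit 294)))) (.node (.leaf (nat_lit 510)) (.node (.node (.leaf (nat_lit 792)) (.node (.leaf (nat_lit 108)) (.leaf (nat_lit 1225)))) (.leaf (nat_lit 0)))))))))))) (.node (.node (.node (.node (.node (.node (.node (.node (.node (.node (.node (.leaf (nat_lit 821)) (.leaf (nat_lit 846))) (.leaf (nat_lit 0))) (.leaf (nat_lit 1522))) (.leaf (nat_lit 1324))) (.node (.node (.node (.leaf (nat_lit 1037)) (.node (.leaf (nat_lit 1057)) (.leaf (nat_lit 267)))) (.node (.node (.leaf (nat_lit 243)) (.leaf (nat_lit 749))) (.leaf (nat_lit 0)))) (.node (.node (.leaf (nat_lit 0)) (.node (.leaf (nat_lit 1554)) (.leaf (nat_lit 1026)))) (.node (.leaf (nat_lit 0)) (.node (.node (.leaf (nat_lit 348)) (.leaf (nat_lit 563))) (.leaf (nat_lit 0))))))) (.node (.node (.node (.node (.node (.leaf (nat_lit 116)) (.node (.leaf (nat_lit 0)) (.node (.leaf (nat_lit 1457)) (.leaf (nat_lit 892))))) (.leaf (nat_lit 0))) (.leaf (nat_lit 568))) (.node (.node (.node (.leaf (nat_lit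 1194)) (.leaf (nat_lit 1116))) (.leaf (nat_lit 0))) (.node (.node (.leaf (nat_lit 0)) (.node (.leaf (nat_lit 893)) (.leaf (nat_lit 1260)))) (.leaf (nat_lit 346))))) (.node (.node (.node (.node (.leaf (nat_lit 801)) (.leaf (nat_lit 703))) (.leaf (nat_lit 849))) (.node (.leaf (nat_lit 1028)) (.node (.node (.leaf (nat_lit 79)) (.node (.leaf (nat_lit 440)) (.leaf (nat_lit 538)))) (.leaf (nat_lit 0))))) (.leaf (nat_lit 949))))) (.node (.node (.node (.leaf (nat_lit 0)) (.node (.node (.node (.leaf (nat_lit 1105)) (.leaf (nat_lit 698))) (.leaf (nat_lit 0))) (.node (.node (.leaf (nat_lit 1179)) (.leaf (nat_lit 80))) (.leaf (nat_lit 0))))) (.node (.node (.leaf (nat_lit 0)) (.node (.node (.leaf (nat_lit 0)) (.node (.leaf (nat_lit 1099)) (.leaf (nat_lit 175)))) (.leaf (nat_lit 0)))) (.leaf (nat_lit 932)))) (.node (.node (.node (.leaf (nat_lit 544)) (.leaf (nat_lit 223))) (.node (.node (.leaf (nat_lit 1451)) (.leaf (nat_lit 328))) (.leaf (nat_lit 869)))) (.node (.node (.node (.node (.leaf (nat_lit 675)) (.leaf (nat_lit 416))) (.leaf (nat_lit 482))) (.leaf (nat_lit 0))) (.node (.leaf (nat_lit 1412)) (.node (.node (.leaf (nat_lit 125)) (.leaf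 (nat_lit 26))) (.leaf (nat_lit 876)))))))) (.node (.node (.node (.node (.node (.node (.node (.leaf (nat_lit 247)) (.node (.node (.leaf (nat_lit 392)) (.leaf (nat_lit 1261))) (.leaf (nat_lit 0)))) (.leaf (nat_lit 37))) (.leaf (nat_lit 1281))) (.leaf (nat_lit 1544))) (.node (.node (.leaf (nat_lit 962)) (.node (.node (.leaf (nat_lit 0)) (.node (.leaf (nat_lit 1031)) (.leaf (nat_lit 1032)))) (.node (.leaf (nat_lit 235)) (.leaf (nat_lit 1015))))) (.node (.leaf (nat_lit 0)) (.node (.leaf (nat_lit 816)) (.node (.leaf (nat_lit 0)) (.node (.node (.leaf (nat_lit 0)) (.node (.leaf (nat_lit 0)) (.node (.leaf (nat_lit 0)) (.node (.node (.leaf (nat_lit 1143)) (.leaf (nat_lit 246))) (.leaf (nat_lit 0)))))) (.leaf (nat_lit 0)))))))) (.node (.node (.node (.node (.node (.leaf (nat_lit 1238)) (.leaf (nat_lit 1275))) (.node (.node (.node (.leaf (nat_lit 1092)) (.leaf (nat_lit 1484))) (.leaf (nat_lit 1052))) (.leaf (nat_lit 0)))) (.node (.node (.node (.node (.leaf (nat_lit 848)) (.leaf (nat_lit 362))) (.leaf (nat_lit 0))) (.leaf (nat_lit 0))) (.leaf (nat_lit 450)))) (.leaf (nat_lit 1276))) (.node (.node (.node (.leaf (nat_lit 755)) (.leaf (nat_lit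 924))) (.node (.leaf (nat_lit 0)) (.node (.leaf (nat_lit 216)) (.leaf (nat_lit 1488))))) (.node (.leaf (nat_lit 288)) (.leaf (nat_lit 577)))))) (.node (.node (.node (.node (.node (.node (.node (.leaf (nat_lit 255)) (.leaf (nat_lit 800))) (.leaf (nat_lit 0))) (.leaf (nat_lit 1452))) (.leaf (nat_lit 566))) (.leaf (nat_lit 33))) (.node (.node (.leaf (nat_lit 1147)) (.node (.node (.leaf (nat_lit 873)) (.leaf (nat_lit 1130))) (.leaf (nat_lit 0)))) (.node (.leaf (nat_lit 316)) (.node (.leaf (nat_lit 0)) (.node (.leaf (nat_lit 1533)) (.leaf (nat_lit 912))))))) (.node (.node (.node (.node (.leaf (nat_lit 1351)) (.leaf (nat_lit 197))) (.leaf (nat_lit 810))) (.node (.node (.leaf (nat_lit 204)) (.leaf (nat_lit 639))) (.node (.node (.node (.leaf (nat_lit 413)) (.leaf (nat_lit 667))) (.leaf (nat_lit 0))) (.leaf (nat_lit 0))))) (.node (.node (.leaf (nat_lit 603)) (.node (.node (.leaf (nat_lit 921)) (.leaf (nat_lit 1418))) (.leaf (nat_lit 274)))) (.node (.node (.node (.leaf (nat_lit 746)) (.leaf (nat_lit 506))) (.node (.leaf (nat_lit 0)) (.node (.leaf (nat_lit 1525)) (.leaf (nat_lit 1337))))) (.leaf (nat_lit 0)))))))) (.node (.node (.node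 (.node (.node (.node (.leaf (nat_lit 798)) (.leaf (nat_lit 868))) (.leaf (nat_lit 313))) (.node (.node (.leaf (nat_lit 190)) (.node (.node (.leaf (nat_lit 0)) (.node (.leaf (nat_lit 103)) (.leaf (nat_lit 54)))) (.leaf (nat_lit 629)))) (.node (.leaf (nat_lit 650)) (.node (.node (.leaf (nat_lit 1463)) (.leaf (nat_lit 361))) (.leaf (nat_lit 0)))))) (.node (.node (.leaf (nat_lit 0)) (.node (.leaf (nat_lit 1531)) (.leaf (nat_lit 1036)))) (.node (.node (.node (.node (.leaf (nat_lit 0)) (.node (.node (.leaf (nat_lit 0)) (.node (.leaf (nat_lit 1363)) (.leaf (nat_lit 1357)))) (.leaf (nat_lit 0)))) (.leaf (nat_lit 0))) (.leaf (nat_lit 1257))) (.node (.node (.leaf (nat_lit 1264)) (.leaf (nat_lit 1277))) (.leaf (nat_lit 840)))))) (.node (.node (.node (.node (.node (.leaf (nat_lit 492)) (.leaf (nat_lit 1322))) (.leaf (nat_lit 823))) (.node (.node (.leaf (nat_lit 0)) (.node (.leaf (nat_lit 1388)) (.leaf (nat_lit 1155)))) (.leaf (nat_lit 0)))) (.node (.node (.node (.leaf (nat_lit 1098)) (.leaf (nat_lit 1574))) (.leaf (nat_lit 0))) (.node (.node (.leaf (nat_lit 483)) (.leaf (nat_lit 1199))) (.node (.leaf (nat_lit 1090)) (.node (.leaf (nat_lit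 347)) (.leaf (nat_lit 456))))))) (.node (.node (.node (.node (.leaf (nat_lit 1049)) (.node (.leaf (nat_lit 1483)) (.leaf (nat_lit 165)))) (.node (.leaf (nat_lit 1209)) (.leaf (nat_lit 1066)))) (.node (.leaf (nat_lit 890)) (.node (.leaf (nat_lit 915)) (.leaf (nat_lit 1089))))) (.node (.node (.leaf (nat_lit 1159)) (.leaf (nat_lit 1074))) (.node (.leaf (nat_lit 537)) (.leaf (nat_lit 515))))))) (.node (.node (.node (.node (.node (.node (.leaf (nat_lit 173)) (.node (.node (.node (.leaf (nat_lit 685)) (.leaf (nat_lit 897))) (.leaf (nat_lit 0))) (.leaf (nat_lit 0)))) (.node (.node (.leaf (nat_lit 132)) (.leaf (nat_lit 775))) (.leaf (nat_lit 377)))) (.node (.leaf (nat_lit 0)) (.node (.node (.node (.node (.node (.leaf (nat_lit 886)) (.leaf (nat_lit 715))) (.leaf (nat_lit 0))) (.leaf (nat_lit 0))) (.leaf (nat_lit 34))) (.leaf (nat_lit 1019))))) (.node (.node (.node (.leaf (nat_lit 1120)) (.leaf (nat_lit 338))) (.node (.node (.node (.leaf (nat_lit 1349)) (.leaf (nat_lit 1135))) (.leaf (nat_lit 0))) (.leaf (nat_lit 0)))) (.leaf (nat_lit 370)))) (.node (.node (.node (.leaf (nat_lit 0)) (.node (.leaf (nat_lit 730)) (.leaf (nat_lit 1216))))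 (.node (.leaf (nat_lit 870)) (.node (.node (.node (.leaf (nat_lit 0)) (.node (.leaf (nat_lit 0)) (.node (.leaf (nat_lit 1177)) (.leaf (nat_lit 1040))))) (.leaf (nat_lit 0))) (.node (.leaf (nat_lit 0)) (.node (.node (.leaf (nat_lit 230)) (.leaf (nat_lit 1126))) (.leaf (nat_lit 0))))))) (.node (.node (.node (.leaf (nat_lit 424)) (.node (.leaf (nat_lit 806)) (.leaf (nat_lit 1042)))) (.leaf (nat_lit 112))) (.node (.leaf (nat_lit 764)) (.leaf (nat_lit 383)))))) (.node (.node (.node (.node (.leaf (nat_lit 847)) (.node (.node (.node (.leaf (nat_lit 0)) (.node (.leaf (nat_lit 0)) (.node (.leaf (nat_lit 0)) (.node (.leaf (nat_lit 1429)) (.leaf (nat_lit 96)))))) (.leaf (nat_lit 0))) (.leaf (nat_lit 1568)))) (.leaf (nat_lit 758))) (.node (.node (.leaf (nat_lit 1472)) (.node (.node (.node (.leaf (nat_lit 628)) (.leaf (nat_lit 1516))) (.node (.leaf (nat_lit 1022)) (.leaf (nat_lit 1471)))) (.node (.leaf (nat_lit 84)) (.leaf (nat_lit 318))))) (.node (.leaf (nat_lit 365)) (.leaf (nat_lit 9))))) (.node (.node (.node (.node (.leaf (nat_lit 0)) (.node (.leaf (nat_lit 0)) (.node (.leaf (nat_lit 90)) (.leaf (nat_lit 1287))))) (.leaf (nat_lit 1535)))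 (.leaf (nat_lit 0))) (.node (.leaf (nat_lit 864)) (.node (.leaf (nat_lit 0)) (.node (.leaf (nat_lit 303)) (.leaf (nat_lit 1562)))))))))) (.node (.node (.node (.node (.node (.node (.node (.node (.leaf (nat_lit 0)) (.node (.node (.node (.leaf (nat_lit 1385)) (.leaf (nat_lit 1029))) (.leaf (nat_lit 0))) (.leaf (nat_lit 0)))) (.leaf (nat_lit 1315))) (.leaf (nat_lit 0))) (.node (.leaf (nat_lit 785)) (.node (.leaf (nat_lit 1306)) (.node (.leaf (nat_lit 0)) (.node (.leaf (nat_lit 0)) (.node (.leaf (nat_lit 105)) (.leaf (nat_lit 887)))))))) (.node (.node (.node (.leaf (nat_lit 0)) (.node (.leaf (nat_lit 0)) (.node (.leaf (nat_lit 948)) (.leaf (nat_lit 462))))) (.node (.leaf (nat_lit 1231)) (.node (.node (.leaf (nat_lit 581)) (.leaf (nat_lit 1083))) (.leaf (nat_lit 689))))) (.node (.node (.leaf (nat_lit 1416)) (.node (.leaf (nat_lit 901)) (.leaf (nat_lit 829)))) (.node (.node (.leaf (nat_lit 871)) (.leaf (nat_lit 241))) (.node (.leaf (nat_lit 1228)) (.leaf (nat_lit 728))))))) (.node (.node (.node (.node (.leaf (nat_lit 181)) (.node (.node (.node (.leaf (nat_lit 0)) (.node (.leaf (nat_lit 0)) (.node (.leaf (nat_lit 0)) (.node (.node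 (.leaf (nat_lit 866)) (.leaf (nat_lit 1375))) (.leaf (nat_lit 0)))))) (.leaf (nat_lit 0))) (.leaf (nat_lit 0)))) (.node (.leaf (nat_lit 250)) (.node (.leaf (nat_lit 1157)) (.leaf (nat_lit 331))))) (.node (.node (.leaf (nat_lit 0)) (.node (.node (.leaf (nat_lit 1444)) (.node (.node (.node (.node (.leaf (nat_lit 1115)) (.leaf (nat_lit 1346))) (.leaf (nat_lit 0))) (.leaf (nat_lit 0))) (.leaf (nat_lit 0)))) (.leaf (nat_lit 1307)))) (.node (.leaf (nat_lit 340)) (.leaf (nat_lit 542))))) (.node (.node (.node (.leaf (nat_lit 0)) (.node (.leaf (nat_lit 716)) (.leaf (nat_lit 286)))) (.node (.node (.leaf (nat_lit 651)) (.leaf (nat_lit 215))) (.node (.node (.leaf (nat_lit 251)) (.leaf (nat_lit 523))) (.leaf (nat_lit 1360))))) (.node (.node (.leaf (nat_lit 490)) (.leaf (nat_lit 467))) (.node (.leaf (nat_lit 129)) (.node (.node (.leaf (nat_lit 136)) (.leaf (nat_lit 1474))) (.leaf (nat_lit 1542)))))))) (.node (.node (.node (.node (.node (.node (.leaf (nat_lit 56)) (.leaf (nat_lit 465))) (.leaf (nat_lit 0))) (.leaf (nat_lit 1144))) (.node (.node (.leaf (nat_lit 0)) (.node (.leaf (nat_lit 944)) (.node (.leaf (nat_lit 1511)) (.leaf (nat_lit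 297))))) (.leaf (nat_lit 1367)))) (.node (.node (.node (.node (.node (.leaf (nat_lit 0)) (.node (.leaf (nat_lit 1512)) (.leaf (nat_lit 882)))) (.leaf (nat_lit 0))) (.node (.leaf (nat_lit 366)) (.leaf (nat_lit 670)))) (.node (.node (.leaf (nat_lit 38)) (.leaf (nat_lit 606))) (.node (.node (.node (.leaf (nat_lit 0)) (.node (.leaf (nat_lit 880)) (.leaf (nat_lit 809)))) (.leaf (nat_lit 0))) (.leaf (nat_lit 0))))) (.node (.node (.node (.leaf (nat_lit 0)) (.node (.leaf (nat_lit 283)) (.leaf (nat_lit 141)))) (.leaf (nat_lit 0))) (.node (.node (.node (.leaf (nat_lit 1401)) (.leaf (nat_lit 381))) (.leaf (nat_lit 1340))) (.leaf (nat_lit 0)))))) (.node (.node (.node (.node (.node (.leaf (nat_lit 1303)) (.node (.leaf (nat_lit 1477)) (.leaf (nat_lit 36)))) (.leaf (nat_lit 0))) (.leaf (nat_lit 504))) (.node (.node (.leaf (nat_lit 0)) (.node (.node (.leaf (nat_lit 1270)) (.leaf (nat_lit 46))) (.node (.node (.leaf (nat_lit 419)) (.leaf (nat_lit 229))) (.leaf (nat_lit 0))))) (.node (.leaf (nat_lit 0)) (.node (.node (.node (.node (.leaf (nat_lit 0)) (.node (.leaf (nat_lit 0)) (.node (.node (.leaf (nat_lit 358)) (.leaf (nat_lit 1202))) (.leaf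 (nat_lit 0))))) (.leaf (nat_lit 194))) (.leaf (nat_lit 0))) (.leaf (nat_lit 0)))))) (.node (.node (.node (.leaf (nat_lit 1051)) (.node (.node (.node (.leaf (nat_lit 525)) (.leaf (nat_lit 438))) (.leaf (nat_lit 317))) (.leaf (nat_lit 0)))) (.node (.node (.leaf (nat_lit 524)) (.node (.leaf (nat_lit 0)) (.node (.node (.node (.node (.node (.leaf (nat_lit 578)) (.leaf (nat_lit 1113))) (.leaf (nat_lit 0))) (.leaf (nat_lit 0))) (.leaf (nat_lit 0))) (.leaf (nat_lit 671))))) (.node (.leaf (nat_lit 0)) (.node (.leaf (nat_lit 0)) (.node (.node (.node (.leaf (nat_lit 725)) (.leaf (nat_lit 1553))) (.leaf (nat_lit 0))) (.leaf (nat_lit 0))))))) (.node (.node (.node (.leaf (nat_lit 1524)) (.leaf (nat_lit 690))) (.node (.node (.node (.node (.node (.node (.node (.leaf (nat_lit 1067)) (.leaf (nat_lit 51))) (.leaf (nat_lit 0))) (.leaf (nat_lit 0))) (.leaf (nat_lit 0))) (.leaf (nat_lit 0))) (.leaf (nat_lit 963))) (.leaf (nat_lit 0)))) (.node (.node (.leaf (nat_lit 1573)) (.node (.leaf (nat_lit 240)) (.node (.node (.leaf (nat_lit 929)) (.leaf (nat_lit 1223))) (.leaf (nat_lit 0))))) (.leaf (nat_lit 1439)))))))) (.node (.node (.node (.node (.node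 (.node (.node (.node (.node (.leaf (nat_lit 0)) (.node (.leaf (nat_lit 1205)) (.leaf (nat_lit 898)))) (.leaf (nat_lit 0))) (.leaf (nat_lit 0))) (.node (.leaf (nat_lit 494)) (.leaf (nat_lit 110)))) (.leaf (nat_lit 1014))) (.node (.leaf (nat_lit 0)) (.node (.node (.node (.leaf (nat_lit 0)) (.node (.leaf (nat_lit 1383)) (.node (.leaf (nat_lit 186)) (.leaf (nat_lit 1310))))) (.leaf (nat_lit 0))) (.node (.leaf (nat_lit 0)) (.node (.node (.node (.leaf (nat_lit 0)) (.node (.leaf (nat_lit 406)) (.leaf (nat_lit 1350)))) (.leaf (nat_lit 0))) (.leaf (nat_lit 957))))))) (.node (.node (.node (.node (.node (.leaf (nat_lit 1371)) (.leaf (nat_lit 1253))) (.leaf (nat_lit 302))) (.node (.leaf (nat_lit 1537)) (.node (.leaf (nat_lit 0)) (.node (.leaf (nat_lit 1229)) (.leaf (nat_lit 658)))))) (.node (.node (.node (.leaf (nat_lit 1384)) (.leaf (nat_lit 1293))) (.node (.node (.node (.leaf (nat_lit 997)) (.leaf (nat_lit 1060))) (.leaf (nat_lit 0))) (.leaf (nat_lit 0)))) (.node (.leaf (nat_lit 0)) (.node (.leaf (nat_lit 611)) (.leaf (nat_lit 1274)))))) (.node (.node (.leaf (nat_lit 74)) (.node (.leaf (nat_lit 0)) (.node (.node (.leaf (nat_lit 1152))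 (.leaf (nat_lit 55))) (.leaf (nat_lit 0))))) (.node (.node (.leaf (nat_lit 1570)) (.leaf (nat_lit 804))) (.leaf (nat_lit 1372)))))) (.node (.node (.node (.node (.node (.leaf (nat_lit 1300)) (.node (.leaf (nat_lit 0)) (.node (.node (.leaf (nat_lit 1528)) (.leaf (nat_lit 533))) (.leaf (nat_lit 1218))))) (.leaf (nat_lit 0))) (.node (.leaf (nat_lit 0)) (.node (.leaf (nat_lit 1151)) (.leaf (nat_lit 233))))) (.node (.node (.node (.leaf (nat_lit 1291)) (.node (.leaf (nat_lit 1235)) (.leaf (nat_lit 588)))) (.node (.leaf (nat_lit 0)) (.node (.leaf (nat_lit 253)) (.node (.leaf (nat_lit 837)) (.node (.node (.leaf (nat_lit 988)) (.leaf (nat_lit 781))) (.leaf (nat_lit 0))))))) (.node (.leaf (nat_lit 1571)) (.leaf (nat_lit 1504))))) (.node (.node (.node (.leaf (nat_lit 0)) (.node (.leaf (nat_lit 1186)) (.node (.leaf (nat_lit 666)) (.leaf (nat_lit 790))))) (.node (.leaf (nat_lit 445)) (.node (.node (.node (.leaf (nat_lit 0)) (.node (.leaf (nat_lit 1184)) (.leaf (nat_lit 618)))) (.leaf (nat_lit 818))) (.leaf (nat_lit 773))))) (.node (.node (.leaf (nat_lit 573)) (.node (.node (.leaf (nat_lit 0)) (.node (.node (.leaf (nat_lit 239)) (.leaf (nat_lit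 1201))) (.node (.leaf (nat_lit 259)) (.leaf (nat_lit 363))))) (.leaf (nat_lit 0)))) (.leaf (nat_lit 852)))))) (.node (.node (.node (.node (.leaf (nat_lit 0)) (.node (.node (.node (.leaf (nat_lit 0)) (.node (.leaf (nat_lit 0)) (.node (.node (.node (.node (.leaf (nat_lit 464)) (.leaf (nat_lit 488))) (.leaf (nat_lit 0))) (.leaf (nat_lit 0))) (.leaf (nat_lit 0))))) (.leaf (nat_lit 1180))) (.node (.node (.leaf (nat_lit 851)) (.leaf (nat_lit 1539))) (.leaf (nat_lit 0))))) (.node (.node (.leaf (nat_lit 0)) (.node (.leaf (nat_lit 0)) (.node (.leaf (nat_lit 784)) (.leaf (nat_lit 184))))) (.leaf (nat_lit 1413)))) (.node (.node (.node (.leaf (nat_lit 0)) (.node (.leaf (nat_lit 0)) (.node (.leaf (nat_lit 0)) (.node (.leaf (nat_lit 918)) (.leaf (nat_lit 1000)))))) (.node (.leaf (nat_lit 237)) (.leaf (nat_lit 1002)))) (.node (.node (.node (.leaf (nat_lit 551)) (.node (.node (.leaf (nat_lit 1339)) (.leaf (nat_lit 967))) (.leaf (nat_lit 0)))) (.node (.node (.leaf (nat_lit 0)) (.node (.node (.node (.leaf (nat_lit 47)) (.leaf (nat_lit 1188))) (.leaf (nat_lit 0))) (.leaf (nat_lit 647)))) (.leaf (nat_lit 0)))) (.node (.node (.leaf (nat_lit 1320))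 (.leaf (nat_lit 1495))) (.node (.node (.node (.leaf (nat_lit 1104)) (.leaf (nat_lit 1560))) (.leaf (nat_lit 0))) (.leaf (nat_lit 519))))))) (.node (.node (.node (.node (.leaf (nat_lit 0)) (.node (.node (.node (.leaf (nat_lit 0)) (.node (.leaf (nat_lit 1381)) (.leaf (nat_lit 1011)))) (.leaf (nat_lit 0))) (.leaf (nat_lit 0)))) (.leaf (nat_lit 0))) (.node (.node (.leaf (nat_lit 990)) (.node (.leaf (nat_lit 0)) (.node (.leaf (nat_lit 996)) (.leaf (nat_lit 1050))))) (.node (.node (.leaf (nat_lit 1072)) (.node (.leaf (nat_lit 480)) (.leaf (nat_lit 76)))) (.leaf (nat_lit 0))))) (.node (.node (.node (.node (.node (.leaf (nat_lit 0)) (.node (.leaf (nat_lit 295)) (.leaf (nat_lit 757)))) (.leaf (nat_lit 0))) (.node (.node (.leaf (nat_lit 221)) (.leaf (nat_lit 627))) (.leaf (nat_lit 528)))) (.node (.leaf (nat_lit 1373)) (.node (.leaf (nat_lit 0)) (.node (.node (.leaf (nat_lit 925)) (.leaf (nat_lit 526))) (.leaf (nat_lit 0)))))) (.node (.node (.node (.leaf (nat_lit 859)) (.leaf (nat_lit 185))) (.leaf (nat_lit 433))) (.node (.node (.leaf (nat_lit 1172)) (.leaf (nat_lit 668))) (.leaf (nat_lit 1246)))))))))) (.node (.node (.node (.node (.node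 (.node (.node (.node (.leaf (nat_lit 0)) (.node (.leaf (nat_lit 334)) (.node (.leaf (nat_lit 0)) (.node (.leaf (nat_lit 1461)) (.leaf (nat_lit 1567)))))) (.node (.leaf (nat_lit 452)) (.leaf (nat_lit 385)))) (.node (.node (.leaf (nat_lit 432)) (.leaf (nat_lit 1442))) (.node (.node (.leaf (nat_lit 1003)) (.node (.leaf (nat_lit 1251)) (.node (.leaf (nat_lit 625)) (.node (.leaf (nat_lit 1033)) (.leaf (nat_lit 167)))))) (.leaf (nat_lit 496))))) (.node (.node (.node (.leaf (nat_lit 1044)) (.node (.node (.leaf (nat_lit 1129)) (.leaf (nat_lit 1111))) (.leaf (nat_lit 206)))) (.node (.leaf (nat_lit 118)) (.leaf (nat_lit 1211)))) (.node (.node (.leaf (nat_lit 687)) (.leaf (nat_lit 774))) (.node (.node (.node (.leaf (nat_lit 0)) (.node (.leaf (nat_lit 275)) (.leaf (nat_lit 372)))) (.leaf (nat_lit 14))) (.node (.leaf (nat_lit 1233)) (.node (.leaf (nat_lit 0)) (.node (.leaf (nat_lit 373)) (.leaf (nat_lit 315))))))))) (.node (.node (.node (.leaf (nat_lit 353)) (.node (.leaf (nat_lit 310)) (.node (.node (.leaf (nat_lit 211)) (.leaf (nat_lit 458))) (.node (.leaf (nat_lit 199)) (.leaf (nat_lit 336)))))) (.node (.node (.node (.leaf (nat_lit 1354))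 (.leaf (nat_lit 1145))) (.node (.leaf (nat_lit 1515)) (.leaf (nat_lit 1221)))) (.leaf (nat_lit 1008)))) (.node (.node (.node (.node (.node (.node (.node (.leaf (nat_lit 117)) (.leaf (nat_lit 960))) (.leaf (nat_lit 0))) (.leaf (nat_lit 0))) (.leaf (nat_lit 349))) (.leaf (nat_lit 1387))) (.node (.leaf (nat_lit 135)) (.node (.node (.node (.leaf (nat_lit 1299)) (.leaf (nat_lit 885))) (.leaf (nat_lit 741))) (.leaf (nat_lit 765))))) (.node (.node (.leaf (nat_lit 1156)) (.node (.node (.leaf (nat_lit 1453)) (.leaf (nat_lit 913))) (.leaf (nat_lit 1254)))) (.leaf (nat_lit 857)))))) (.node (.node (.node (.node (.leaf (nat_lit 1110)) (.node (.node (.leaf (nat_lit 0)) (.node (.node (.leaf (nat_lit 935)) (.leaf (nat_lit 172))) (.leaf (nat_lit 756)))) (.node (.leaf (nat_lit 0)) (.node (.leaf (nat_lit 160)) (.node (.leaf (nat_lit 87)) (.leaf (nat_lit 1043))))))) (.node (.node (.leaf (nat_lit 257)) (.leaf (nat_lit 379))) (.node (.leaf (nat_lit 713)) (.leaf (nat_lit 1265))))) (.node (.node (.node (.node (.leaf (nat_lit 0)) (.node (.node (.leaf (nat_lit 0)) (.node (.leaf (nat_lit 0)) (.node (.leaf (nat_lit 412)) (.leaf (nat_lit 111))))) (.leaf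 (nat_lit 0)))) (.leaf (nat_lit 0))) (.leaf (nat_lit 909))) (.node (.node (.leaf (nat_lit 375)) (.leaf (nat_lit 534))) (.leaf (nat_lit 793))))) (.node (.node (.node (.leaf (nat_lit 0)) (.node (.node (.leaf (nat_lit 459)) (.node (.node (.leaf (nat_lit 0)) (.node (.node (.leaf (nat_lit 0)) (.node (.leaf (nat_lit 192)) (.leaf (nat_lit 228)))) (.leaf (nat_lit 0)))) (.leaf (nat_lit 1569)))) (.leaf (nat_lit 982)))) (.node (.node (.leaf (nat_lit 1190)) (.node (.leaf (nat_lit 1467)) (.leaf (nat_lit 343)))) (.node (.leaf (nat_lit 0)) (.node (.node (.leaf (nat_lit 0)) (.node (.leaf (nat_lit 0)) (.node (.leaf (nat_lit 1263)) (.leaf (nat_lit 1007))))) (.leaf (nat_lit 0)))))) (.node (.node (.leaf (nat_lit 1548)) (.node (.leaf (nat_lit 0)) (.node (.node (.leaf (nat_lit 856)) (.leaf (nat_lit 451))) (.leaf (nat_lit 0))))) (.node (.node (.leaf (nat_lit 226)) (.node (.leaf (nat_lit 942)) (.node (.node (.leaf (nat_lit 0)) (.node (.leaf (nat_lit 0)) (.node (.leaf (nat_lit 31)) (.leaf (nat_lit 1094))))) (.leaf (nat_lit 0))))) (.node (.leaf (nat_lit 593)) (.node (.node (.node (.leaf (nat_lit 1460)) (.leaf (nat_lit 1030))) (.leaf (nat_lit 0))) (.node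 (.node (.node (.node (.node (.node (.leaf (nat_lit 391)) (.leaf (nat_lit 306))) (.leaf (nat_lit 0))) (.leaf (nat_lit 0))) (.leaf (nat_lit 0))) (.leaf (nat_lit 0))) (.leaf (nat_lit 0)))))))))) (.node (.node (.node (.node (.node (.node (.leaf (nat_lit 0)) (.node (.leaf (nat_lit 148)) (.leaf (nat_lit 509)))) (.node (.leaf (nat_lit 1405)) (.node (.node (.leaf (nat_lit 714)) (.leaf (nat_lit 619))) (.node (.leaf (nat_lit 484)) (.leaf (nat_lit 89)))))) (.node (.node (.leaf (nat_lit 712)) (.leaf (nat_lit 772))) (.leaf (nat_lit 1466)))) (.node (.node (.node (.leaf (nat_lit 20)) (.leaf (nat_lit 1182))) (.node (.node (.node (.leaf (nat_lit 1503)) (.leaf (nat_lit 88))) (.leaf (nat_lit 0))) (.leaf (nat_lit 134)))) (.node (.node (.node (.leaf (nat_lit 68)) (.leaf (nat_lit 1282))) (.node (.node (.leaf (nat_lit 314)) (.leaf (nat_lit 407))) (.leaf (nat_lit 0)))) (.node (.node (.leaf (nat_lit 696)) (.node (.leaf (nat_lit 701)) (.node (.leaf (nat_lit 0)) (.node (.leaf (nat_lit 782)) (.leaf (nat_lit 937)))))) (.leaf (nat_lit 1278)))))) (.node (.node (.node (.node (.leaf (nat_lit 0)) (.node (.leaf (nat_lit 0)) (.node (.leaf (nat_lit 662)) (.node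 (.leaf (nat_lit 1353)) (.node (.leaf (nat_lit 164)) (.leaf (nat_lit 102))))))) (.node (.leaf (nat_lit 543)) (.leaf (nat_lit 178)))) (.node (.node (.node (.leaf (nat_lit 602)) (.leaf (nat_lit 752))) (.leaf (nat_lit 608))) (.node (.node (.leaf (nat_lit 1267)) (.leaf (nat_lit 953))) (.leaf (nat_lit 907))))) (.node (.node (.node (.leaf (nat_lit 1247)) (.node (.leaf (nat_lit 0)) (.node (.leaf (nat_lit 65)) (.leaf (nat_lit 905))))) (.node (.node (.node (.leaf (nat_lit 1456)) (.leaf (nat_lit 1374))) (.leaf (nat_lit 612))) (.node (.leaf (nat_lit 0)) (.node (.leaf (nat_lit 827)) (.node (.node (.node (.leaf (nat_lit 648)) (.leaf (nat_lit 350))) (.leaf (nat_lit 0))) (.leaf (nat_lit 0))))))) (.node (.node (.leaf (nat_lit 0)) (.node (.leaf (nat_lit 1133)) (.leaf (nat_lit 1164)))) (.node (.node (.leaf (nat_lit 0)) (.node (.leaf (nat_lit 0)) (.node (.node (.leaf (nat_lit 1437)) (.leaf (nat_lit 1056))) (.leaf (nat_lit 0))))) (.leaf (nat_lit 422))))))) (.node (.node (.node (.node (.node (.node (.leaf (nat_lit 1048)) (.leaf (nat_lit 934))) (.node (.leaf (nat_lit 308)) (.leaf (nat_lit 409)))) (.node (.node (.leaf (nat_lit 1396)) (.leaf (nat_lit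 768))) (.node (.node (.leaf (nat_lit 553)) (.leaf (nat_lit 1362))) (.leaf (nat_lit 1563))))) (.node (.node (.leaf (nat_lit 59)) (.node (.leaf (nat_lit 1160)) (.leaf (nat_lit 50)))) (.node (.node (.leaf (nat_lit 0)) (.node (.node (.leaf (nat_lit 0)) (.node (.leaf (nat_lit 1325)) (.leaf (nat_lit 396)))) (.leaf (nat_lit 273)))) (.node (.node (.node (.node (.leaf (nat_lit 0)) (.node (.leaf (nat_lit 1136)) (.leaf (nat_lit 973)))) (.leaf (nat_lit 0))) (.leaf (nat_lit 0))) (.leaf (nat_lit 1425)))))) (.node (.node (.node (.leaf (nat_lit 1131)) (.leaf (nat_lit 1269))) (.node (.node (.leaf (nat_lit 0)) (.node (.leaf (nat_lit 592)) (.leaf (nat_lit 951)))) (.node (.leaf (nat_lit 1428)) (.node (.leaf (nat_lit 501)) (.leaf (nat_lit 202)))))) (.node (.leaf (nat_lit 968)) (.node (.leaf (nat_lit 0)) (.node (.leaf (nat_lit 1283)) (.node (.node (.leaf (nat_lit 1085)) (.leaf (nat_lit 659))) (.leaf (nat_lit 0)))))))) (.node (.node (.node (.node (.leaf (nat_lit 1127)) (.node (.node (.node (.leaf (nat_lit 0)) (.node (.leaf (nat_lit 742)) (.leaf (nat_lit 1338)))) (.leaf (nat_lit 0))) (.leaf (nat_lit 151)))) (.node (.leaf (nat_lit 0)) (.node (.leaf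 (nat_lit 0)) (.node (.node (.node (.node (.leaf (nat_lit 325)) (.leaf (nat_lit 1414))) (.leaf (nat_lit 0))) (.leaf (nat_lit 0))) (.leaf (nat_lit 0)))))) (.node (.node (.leaf (nat_lit 0)) (.node (.node (.leaf (nat_lit 403)) (.leaf (nat_lit 826))) (.leaf (nat_lit 920)))) (.node (.node (.leaf (nat_lit 359)) (.leaf (nat_lit 205))) (.node (.node (.leaf (nat_lit 1124)) (.leaf (nat_lit 1232))) (.leaf (nat_lit 107)))))) (.node (.node (.node (.leaf (nat_lit 1290)) (.node (.leaf (nat_lit 384)) (.leaf (nat_lit 1071)))) (.node (.node (.leaf (nat_lit 933)) (.leaf (nat_lit 736))) (.node (.leaf (nat_lit 0)) (.node (.leaf (nat_lit 1377)) (.leaf (nat_lit 425)))))) (.node (.node (.node (.node (.node (.node (.leaf (nat_lit 0)) (.node (.leaf (nat_lit 1546)) (.leaf (nat_lit 78)))) (.leaf (nat_lit 0))) (.leaf (nat_lit 137))) (.leaf (nat_lit 1250))) (.node (.node (.leaf (nat_lit 1356)) (.node (.leaf (nat_lit 0)) (.node (.leaf (nat_lit 0)) (.node (.node (.leaf (nat_lit 0)) (.node (.leaf (nat_lit 0)) (.node (.leaf (nat_lit 1317)) (.leaf (nat_lit 530))))) (.leaf (nat_lit 0)))))) (.leaf (nat_lit 0)))) (.node (.node (.leaf (nat_lit 527)) (.node (.leaf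 (nat_lit 66)) (.leaf (nat_lit 261)))) (.leaf (nat_lit 1189))))))))) (.node (.node (.node (.node (.node (.node (.node (.leaf (nat_lit 1454)) (.node (.node (.node (.leaf (nat_lit 5)) (.leaf (nat_lit 928))) (.leaf (nat_lit 614))) (.leaf (nat_lit 1146)))) (.node (.leaf (nat_lit 1308)) (.node (.leaf (nat_lit 486)) (.node (.node (.node (.leaf (nat_lit 485)) (.leaf (nat_lit 917))) (.leaf (nat_lit 0))) (.leaf (nat_lit 0)))))) (.node (.node (.node (.node (.leaf (nat_lit 1409)) (.node (.node (.leaf (nat_lit 1541)) (.leaf (nat_lit 144))) (.leaf (nat_lit 0)))) (.node (.node (.leaf (nat_lit 0)) (.node (.leaf (nat_lit 0)) (.node (.leaf (nat_lit 681)) (.leaf (nat_lit 100))))) (.leaf (nat_lit 493)))) (.leaf (nat_lit 0))) (.leaf (nat_lit 1079)))) (.node (.node (.node (.node (.leaf (nat_lit 0)) (.node (.leaf (nat_lit 1489)) (.leaf (nat_lit 1382)))) (.leaf (nat_lit 285))) (.node (.leaf (nat_lit 489)) (.node (.node (.node (.leaf (nat_lit 704)) (.leaf (nat_lit 977))) (.leaf (nat_lit 0))) (.leaf (nat_lit 1506))))) (.node (.node (.node (.node (.leaf (nat_lit 0)) (.node (.leaf (nat_lit 469)) (.leaf (nat_lit 98)))) (.leaf (nat_lit 1478))) (.leaf (nat_lit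 1070))) (.node (.node (.leaf (nat_lit 0)) (.node (.node (.leaf (nat_lit 1500)) (.leaf (nat_lit 1494))) (.leaf (nat_lit 1555)))) (.node (.leaf (nat_lit 1329)) (.leaf (nat_lit 584))))))) (.node (.node (.node (.node (.node (.node (.leaf (nat_lit 1075)) (.leaf (nat_lit 1214))) (.node (.node (.node (.leaf (nat_lit 0)) (.node (.leaf (nat_lit 421)) (.leaf (nat_lit 45)))) (.leaf (nat_lit 0))) (.leaf (nat_lit 0)))) (.node (.node (.leaf (nat_lit 1435)) (.leaf (nat_lit 817))) (.leaf (nat_lit 0)))) (.node (.node (.leaf (nat_lit 0)) (.node (.leaf (nat_lit 642)) (.leaf (nat_lit 468)))) (.leaf (nat_lit 0)))) (.node (.node (.leaf (nat_lit 437)) (.node (.leaf (nat_lit 182)) (.leaf (nat_lit 1302)))) (.node (.leaf (nat_lit 529)) (.node (.leaf (nat_lit 531)) (.leaf (nat_lit 1395)))))) (.node (.node (.node (.node (.leaf (nat_lit 0)) (.node (.node (.leaf (nat_lit 0)) (.node (.leaf (nat_lit 965)) (.leaf (nat_lit 1206)))) (.leaf (nat_lit 0)))) (.leaf (nat_lit 833))) (.node (.leaf (nat_lit 1423)) (.leaf (nat_lit 1063)))) (.node (.node (.node (.leaf (nat_lit 632)) (.leaf (nat_lit 516))) (.node (.leaf (nat_lit 152)) (.leaf (nat_lit 1168)))) (.node (.node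 (.leaf (nat_lit 0)) (.node (.node (.leaf (nat_lit 0)) (.node (.leaf (nat_lit 1431)) (.leaf (nat_lit 232)))) (.leaf (nat_lit 0)))) (.leaf (nat_lit 342))))))) (.node (.node (.node (.node (.node (.node (.node (.node (.leaf (nat_lit 326)) (.leaf (nat_lit 1440))) (.leaf (nat_lit 0))) (.leaf (nat_lit 697))) (.leaf (nat_lit 0))) (.node (.node (.leaf (nat_lit 0)) (.node (.leaf (nat_lit 0)) (.node (.leaf (nat_lit 1313)) (.leaf (nat_lit 740))))) (.node (.leaf (nat_lit 1514)) (.leaf (nat_lit 808))))) (.node (.leaf (nat_lit 248)) (.node (.node (.leaf (nat_lit 1272)) (.leaf (nat_lit 616))) (.node (.node (.leaf (nat_lit 48)) (.node (.leaf (nat_lit 1566)) (.leaf (nat_lit 149)))) (.leaf (nat_lit 0)))))) (.node (.node (.node (.leaf (nat_lit 0)) (.node (.node (.leaf (nat_lit 242)) (.leaf (nat_lit 719))) (.leaf (nat_lit 799)))) (.leaf (nat_lit 1332))) (.node (.leaf (nat_lit 783)) (.node (.leaf (nat_lit 780)) (.node (.leaf (nat_lit 579)) (.leaf (nat_lit 1304))))))) (.node (.node (.node (.node (.node (.node (.node (.leaf (nat_lit 0)) (.node (.leaf (nat_lit 0)) (.node (.leaf (nat_lit 0)) (.node (.leaf (nat_lit 357)) (.leaf (nat_lit 266)))))) (.leaf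 (nat_lit 170))) (.leaf (nat_lit 0))) (.leaf (nat_lit 0))) (.leaf (nat_lit 30))) (.node (.node (.leaf (nat_lit 1499)) (.leaf (nat_lit 807))) (.node (.leaf (nat_lit 0)) (.node (.leaf (nat_lit 410)) (.leaf (nat_lit 863)))))) (.node (.node (.leaf (nat_lit 654)) (.node (.leaf (nat_lit 1091)) (.leaf (nat_lit 280)))) (.node (.node (.leaf (nat_lit 745)) (.node (.node (.node (.leaf (nat_lit 0)) (.node (.leaf (nat_lit 754)) (.leaf (nat_lit 345)))) (.leaf (nat_lit 0))) (.leaf (nat_lit 279)))) (.leaf (nat_lit 1222))))))) (.node (.node (.node (.node (.node (.node (.node (.node (.leaf (nat_lit 571)) (.leaf (nat_lit 1114))) (.node (.node (.leaf (nat_lit 0)) (.node (.leaf (nat_lit 1080)) (.leaf (nat_lit 638)))) (.leaf (nat_lit 0)))) (.leaf (nat_lit 0))) (.node (.node (.node (.node (.leaf (nat_lit 0)) (.node (.leaf (nat_lit 0)) (.node (.leaf (nat_lit 1027)) (.leaf (nat_lit 332))))) (.leaf (nat_lit 636))) (.node (.leaf (nat_lit 0)) (.node (.leaf (nat_lit 1203)) (.leaf (nat_lit 1227))))) (.node (.leaf (nat_lit 1330)) (.leaf (nat_lit 1476))))) (.node (.node (.node (.leaf (nat_lit 1200)) (.node (.node (.leaf (nat_lit 623)) (.leaf (nat_lit 664)))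 (.leaf (nat_lit 0)))) (.leaf (nat_lit 1198))) (.node (.node (.node (.leaf (nat_lit 454)) (.leaf (nat_lit 356))) (.leaf (nat_lit 0))) (.node (.leaf (nat_lit 104)) (.leaf (nat_lit 709)))))) (.node (.node (.leaf (nat_lit 1082)) (.node (.node (.leaf (nat_lit 0)) (.node (.leaf (nat_lit 541)) (.leaf (nat_lit 196)))) (.leaf (nat_lit 952)))) (.node (.node (.node (.node (.leaf (nat_lit 914)) (.leaf (nat_lit 234))) (.leaf (nat_lit 0))) (.leaf (nat_lit 0))) (.node (.node (.node (.leaf (nat_lit 0)) (.node (.node (.leaf (nat_lit 0)) (.node (.leaf (nat_lit 269)) (.leaf (nat_lit 1018)))) (.leaf (nat_lit 0)))) (.leaf (nat_lit 1309))) (.leaf (nat_lit 1288)))))) (.node (.node (.node (.node (.leaf (nat_lit 1108)) (.node (.leaf (nat_lit 1468)) (.node (.leaf (nat_lit 1292)) (.node (.leaf (nat_lit 858)) (.leaf (nat_lit 985)))))) (.node (.node (.leaf (nat_lit 945)) (.node (.leaf (nat_lit 477)) (.leaf (nat_lit 931)))) (.node (.leaf (nat_lit 1368)) (.node (.leaf (nat_lit 0)) (.node (.node (.node (.leaf (nat_lit 305)) (.leaf (nat_lit 1455))) (.leaf (nat_lit 0))) (.leaf (nat_lit 0))))))) (.node (.node (.leaf (nat_lit 0)) (.node (.leaf (nat_lit 0)) (.node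 (.node (.leaf (nat_lit 974)) (.leaf (nat_lit 442))) (.leaf (nat_lit 0))))) (.node (.node (.node (.leaf (nat_lit 32)) (.leaf (nat_lit 966))) (.leaf (nat_lit 1480))) (.node (.leaf (nat_lit 0)) (.node (.node (.leaf (nat_lit 0)) (.node (.leaf (nat_lit 0)) (.node (.node (.leaf (nat_lit 861)) (.leaf (nat_lit 1101))) (.leaf (nat_lit 1219))))) (.leaf (nat_lit 0))))))) (.node (.node (.node (.node (.node (.leaf (nat_lit 940)) (.leaf (nat_lit 655))) (.leaf (nat_lit 0))) (.node (.leaf (nat_lit 0)) (.node (.leaf (nat_lit 0)) (.node (.leaf (nat_lit 0)) (.node (.leaf (nat_lit 39)) (.leaf (nat_lit 760))))))) (.leaf (nat_lit 439))) (.node (.leaf (nat_lit 923)) (.node (.leaf (nat_lit 1486)) (.leaf (nat_lit 1319))))))) (.node (.node (.node (.node (.node (.node (.leaf (nat_lit 919)) (.leaf (nat_lit 556))) (.leaf (nat_lit 0))) (.node (.node (.leaf (nat_lit 21)) (.leaf (nat_lit 497))) (.leaf (nat_lit 1286)))) (.node (.node (.node (.leaf (nat_lit 0)) (.node (.leaf (nat_lit 0)) (.node (.node (.node (.leaf (nat_lit 1447)) (.leaf (nat_lit 4))) (.leaf (nat_lit 0))) (.leaf (nat_lit 0))))) (.leaf (nat_lit 0))) (.node (.leaf (nat_lit 1093)) (.node (.leaf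 (nat_lit 1327)) (.node (.leaf (nat_lit 1318)) (.node (.leaf (nat_lit 1366)) (.leaf (nat_lit 1316)))))))) (.node (.node (.node (.leaf (nat_lit 0)) (.node (.node (.node (.leaf (nat_lit 0)) (.node (.leaf (nat_lit 3)) (.leaf (nat_lit 245)))) (.leaf (nat_lit 0))) (.leaf (nat_lit 723)))) (.node (.leaf (nat_lit 1035)) (.node (.node (.leaf (nat_lit 19)) (.leaf (nat_lit 874))) (.leaf (nat_lit 0))))) (.node (.leaf (nat_lit 695)) (.node (.node (.node (.leaf (nat_lit 142)) (.leaf (nat_lit 972))) (.leaf (nat_lit 1529))) (.leaf (nat_lit 1572)))))) (.node (.node (.node (.node (.node (.leaf (nat_lit 0)) (.node (.leaf (nat_lit 1404)) (.leaf (nat_lit 147)))) (.node (.leaf (nat_lit 969)) (.node (.leaf (nat_lit 0)) (.node (.node (.leaf (nat_lit 1068)) (.leaf (nat_lit 916))) (.leaf (nat_lit 0)))))) (.leaf (nat_lit 699))) (.node (.leaf (nat_lit 813)) (.node (.node (.node (.leaf (nat_lit 0)) (.node (.leaf (nat_lit 219)) (.leaf (nat_lit 970)))) (.leaf (nat_lit 0))) (.node (.leaf (nat_lit 150)) (.leaf (nat_lit 621)))))) (.node (.node (.node (.node (.node (.node (.node (.leaf (nat_lit 894)) (.node (.leaf (nat_lit 435)) (.leaf (nat_lit 17)))) (.leaf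 (nat_lit 0))) (.node (.node (.node (.leaf (nat_lit 1380)) (.leaf (nat_lit 352))) (.leaf (nat_lit 0))) (.leaf (nat_lit 0)))) (.leaf (nat_lit 0))) (.node (.node (.node (.leaf (nat_lit 828)) (.leaf (nat_lit 734))) (.leaf (nat_lit 0))) (.leaf (nat_lit 193)))) (.node (.leaf (nat_lit 324)) (.node (.leaf (nat_lit 157)) (.node (.leaf (nat_lit 171)) (.leaf (nat_lit 472)))))) (.node (.leaf (nat_lit 0)) (.node (.node (.leaf (nat_lit 0)) (.node (.leaf (nat_lit 834)) (.leaf (nat_lit 495)))) (.leaf (nat_lit 1230))))))))))))

theorem d_tree_0 : allR 0 400 (orbF 8 dT dP) = true := by decide +kernel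

theorem d_tree_1 : allR 400 400 (orbF 8 dT dP) = true := by decide +kernel

theorem d_tree_2 : allR 800 400 (orbF 8 dT dP) = true := by decide +kernel

theorem d_tree_3 : allR 1200 375 (orbF 8 dT dP) = true := by decide +kernel

theorem d_tree : allLt 1575 (orbF 8 dT dP) = true := by
  have h0 := d_tree_0
  have h1 : allR 0 800 (orbF 8 dT dP) = true := allR_append (lo := 0) (a := 400) (b := 400) h0 d_tree_1
  have h2 : allR 0 1200 (orbF 8 dT dP) = true := allR_append (lo := 0) (a := 800) (b := 400) h1 d_tree_2
  have h3 : allR 0 1575 (orbF 8 dT dP) = true := allR_append (lo := 0) (a := 1200) (b := 375) h2 d_tree_3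
  exact allLt_of_allR_zero h3

theorem d_look_0 : allR 0 800 (fun j => Nat.beq (dI.get (Nat.mod (dT.get j) 300047)) j) = true := by decide +kernel

theorem d_look_1 : allR 800 775 (fun j => Nat.beq (dI.get (Nat.mod (dT.get j) 300047)) j) = true := by decide +kernel

theorem d_look : allLt 1575 (fun j => Nat.beq (dI.get (Nat.mod (dT.get j) 300047)) j) = true := by
  have h0 := d_look_0
  have h1 : allR 0 1575 (fun j => Nat.beq (dI.get (Nat.mod (dT.get j) 300047)) j) = true := allR_append (lo := 0) (a := 800) (b := 775) h0 d_look_1
  exact allLt_of_allR_zero h1


/-- a long root element -/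
noncomputable def z0 : Om := ext vH 8

/-- its class -/
def D0 : Set Om := {y | ∃ g, g * z0 * g⁻¹ = y}

theorem d_mem : ∀ j, j < 1575 → ∃ g ∈ Gen 8 vH, oM.enc (g * z0 * g⁻¹) = dT.get j :=
  orb_mem (by norm_num) le_rfl ((enc_ext 8 (by norm_num)).trans (by decide +kernel)) d_tree

theorem gen7_le : Gen 7 vH ≤ C1 z0 :=
  Gen_C1 (w := [8]) le_rfl (by decide) (by decide +kernel)

theorem om_facts : (C1 z0).relIndex ⊤ = 1575 ∧ C1 z0 = Gen 7 vH ∧
    Nat.card Om = 1575 * 110592 := by
  have h1 := orb_le d_mem d_look
  have h2 := (boundG vH_sat).2
  have h3 := card_inf_mul_relIndex (C1 z0) ⊤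
  have h4 := card_le_of_le gen7_le
  rw [gen_top] at h1 h2
  rw [inf_top_eq] at h3
  rw [card_gen7] at h4
  have h5 : Nat.card (C1 z0) ≤ 110592 := by nlinarith
  have h6 : (C1 z0).relIndex ⊤ ≤ 1575 := by nlinarith
  refine ⟨by omega, (eq_of_le_of_card_le gen7_le (by rw [card_gen7]; exact h5)).symm, ?_⟩
  rw [← card_top, ← h3, le_antisymm h5 h4, le_antisymm h6 h1]

/-- membership test -/
noncomputable def inD (c : ℕ) : Bool :=
  frcA (dI.get (Nat.mod c 300047)) fun k => band (Nat.blt k 1575) (Nat.beq (dT.get k) c)

theorem D0_idx {y : Om} (hy : y ∈ D0) : ∃ j, j < 1575 ∧ oM.enc y = dT.get j := by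
  choose! g hg eg using d_mem
  have h1 : (fun j => g j * z0 * (g j)⁻¹) '' Set.Iio 1575 = D0 := by
    refine Set.eq_of_subset_of_ncard_le (by rintro _ ⟨j, -, rfl⟩; exact ⟨_, rfl⟩) ?_
    rw [Set.InjOn.ncard_image fun i hi j hj e => by
      rw [← Nat.eq_of_beq_eq_true (allLt_iff.1 d_look i hi), ← eg i hi,
        show g i * z0 * (g i)⁻¹ = _ from e, eg j hj]
      exact Nat.eq_of_beq_eq_true (allLt_iff.1 d_look j hj)]
    have := om_facts.1
    rw [rel_C1] at this
    simp only [mem_top, true_and] at this
    rw [D0, this]; simp
  obtain ⟨j, hj, rfl⟩ := h1.ge hy
  exact ⟨j, hj, eg j hj⟩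

theorem mem_D0 {y : Om} : y ∈ D0 ↔ inD (oM.enc y) = true := by
  rw [inD, frcA_eq', band_iff]
  constructor
  · intro hy
    obtain ⟨j, hj, e⟩ := D0_idx hy
    rw [e, Nat.eq_of_beq_eq_true (allLt_iff.1 d_look j hj)]
    exact ⟨Nat.blt_eq.mpr hj, Nat.beq_refl _⟩
  · rintro ⟨h1, h2⟩
    obtain ⟨g, -, e⟩ := d_mem _ (Nat.blt_eq.mp h1)
    exact ⟨g, oM.enc_inj (e.trans (Nat.eq_of_beq_eq_true h2))⟩

/-- implication -/
noncomputable def bimp (a b : Bool) : Bool := Bool.rec true b a

theorem bimp_iff {a b : Bool} : bimp a b = true ↔ (a = true → b = true) := by
  cases a <;> cases b <;> simp [bimp]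

noncomputable def m2W : NT := (.node (.node (.node (.node (.node (.node (.node (.node (.leaf (nat_lit 397484322)) (.leaf (nat_lit 107066))) (.node (.leaf (nat_lit 27637729)) (.leaf (nat_lit 469841602)))) (.leaf (nat_lit 0))) (.node (.node (.node (.leaf (nat_lit 2)) (.leaf (nat_lit 95632))) (.node (.leaf (nat_lit 5626)) (.leaf (nat_lit 469841401)))) (.node (.leaf (nat_lit 0)) (.node (.leaf (nat_lit 27642121)) (.leaf (nat_lit 449339452)))))) (.node (.node (.leaf (nat_lit 1554808)) (.node (.node (.leaf (nat_lit 19)) (.leaf (nat_lit 542253443))) (.leaf (nat_lit 0)))) (.node (.node (.node (.leaf (nat_lit 8942127452)) (.node (.leaf (nat_lit 23381625)) (.leaf (nat_lit 21922464)))) (.leaf (nat_lit 0))) (.leaf (nat_lit 6497))))) (.node (.node (.node (.node (.node (.node (.leaf (nat_lit 397693995)) (.leaf (nat_lit 1289544))) (.leaf (nat_lit 0))) (.leaf (nat_lit 469840675))) (.leaf (nat_lit 0))) (.node (.node (.node (.leaf (nat_lit 0)) (.node (.node (.leaf (nat_lit 6760801251)) (.leaf (nat_lit 8942127203))) (.leaf (nat_lit 23393775)))) (.leaf (nat_lit 1375431))) (.node (.leaf (nat_lit 7638699394)) (.node (.leaf (nat_lit 27637687)) (.leaf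 (nat_lit 1554793)))))) (.node (.leaf (nat_lit 31897259)) (.node (.node (.leaf (nat_lit 95698)) (.node (.node (.node (.leaf (nat_lit 261)) (.leaf (nat_lit 372681912))) (.leaf (nat_lit 0))) (.leaf (nat_lit 0)))) (.node (.node (.node (.leaf (nat_lit 5632)) (.leaf (nat_lit 7638699595))) (.node (.leaf (nat_lit 1876310)) (.leaf (nat_lit 526010813)))) (.leaf (nat_lit 372682110))))))) (.node (.node (.node (.node (.leaf (nat_lit 1626007)) (.node (.leaf (nat_lit 110387)) (.node (.node (.node (.leaf (nat_lit 31900829)) (.leaf (nat_lit 372678585))) (.leaf (nat_lit 0))) (.leaf (nat_lit 0))))) (.node (.node (.node (.leaf (nat_lit 1)) (.node (.leaf (nat_lit 5380)) (.leaf (nat_lit 6335536170)))) (.leaf (nat_lit 331))) (.node (.leaf (nat_lit 31897247)) (.leaf (nat_lit 27641197))))) (.node (.node (.leaf (nat_lit 0)) (.node (.node (.leaf (nat_lit 80907)) (.leaf (nat_lit 1876520))) (.leaf (nat_lit 31900574)))) (.node (.node (.node (.leaf (nat_lit 110438)) (.node (.leaf (nat_lit 80958)) (.leaf (nat_lit 23393763)))) (.leaf (nat_lit 1375377))) (.node (.node (.node (.leaf (nat_lit 1626862)) (.leaf (nat_lit 7987303819))) (.leaf (nat_lit 1876505)))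 (.leaf (nat_lit 397750545)))))) (.node (.node (.node (.node (.leaf (nat_lit 0)) (.node (.leaf (nat_lit 6494)) (.leaf (nat_lit 1554901)))) (.leaf (nat_lit 23))) (.node (.node (.node (.node (.leaf (nat_lit 0)) (.leaf (nat_lit 31900577))) (.node (.leaf (nat_lit 23397285)) (.leaf (nat_lit 21922476)))) (.leaf (nat_lit 1375389))) (.node (.leaf (nat_lit 1876517)) (.node (.leaf (nat_lit 91465)) (.leaf (nat_lit 449335258)))))) (.node (.node (.node (.leaf (nat_lit 6299)) (.leaf (nat_lit 383))) (.node (.leaf (nat_lit 15)) (.leaf (nat_lit 107069)))) (.node (.leaf (nat_lit 75855)) (.node (.leaf (nat_lit 26431744)) (.leaf (nat_lit 1289598)))))))) (.node (.node (.node (.node (.node (.node (.leaf (nat_lit 1289556)) (.node (.leaf (nat_lit 26431732)) (.leaf (nat_lit 469841599)))) (.leaf (nat_lit 9218308469))) (.node (.node (.leaf (nat_lit 91459)) (.leaf (nat_lit 316))) (.node (.leaf (nat_lit 542313980)) (.node (.leaf (nat_lit 27642118)) (.leaf (nat_lit 449335270)))))) (.node (.leaf (nat_lit 542253440)) (.node (.node (.node (.leaf (nat_lit 30941828)) (.leaf (nat_lit 75858))) (.leaf (nat_lit 0))) (.node (.node (.leaf (nat_lit 469916008)) (.leaf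 (nat_lit 542253188))) (.leaf (nat_lit 397694196)))))) (.node (.node (.node (.node (.leaf (nat_lit 0)) (.node (.leaf (nat_lit 1876313)) (.leaf (nat_lit 1625995)))) (.leaf (nat_lit 526007483))) (.node (.node (.node (.leaf (nat_lit 9218304236)) (.node (.leaf (nat_lit 23397288)) (.leaf (nat_lit 6760797930)))) (.leaf (nat_lit 4764))) (.node (.node (.node (.leaf (nat_lit 1877231)) (.leaf (nat_lit 30941618))) (.leaf (nat_lit 0))) (.leaf (nat_lit 95647))))) (.node (.node (.leaf (nat_lit 371)) (.node (.leaf (nat_lit 80904)) (.node (.leaf (nat_lit 110384)) (.leaf (nat_lit 6335535969))))) (.node (.node (.leaf (nat_lit 80946)) (.node (.node (.node (.leaf (nat_lit 279)) (.leaf (nat_lit 372678597))) (.leaf (nat_lit 0))) (.leaf (nat_lit 0)))) (.node (.node (.node (.leaf (nat_lit 5629)) (.leaf (nat_lit 27637741))) (.node (.leaf (nat_lit 1820108)) (.leaf (nat_lit 526007498)))) (.leaf (nat_lit 1376310))))))) (.node (.node (.node (.node (.node (.leaf (nat_lit 1376103)) (.node (.leaf (nat_lit 26431486)) (.leaf (nat_lit 449339647)))) (.leaf (nat_lit 31900823))) (.node (.node (.leaf (nat_lit 23397090)) (.leaf (nat_lit 397753863))) (.node (.leaf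 (nat_lit 30941813)) (.leaf (nat_lit 95740))))) (.node (.node (.leaf (nat_lit 0)) (.node (.leaf (nat_lit 526011059)) (.leaf (nat_lit 110426)))) (.node (.node (.node (.leaf (nat_lit 0)) (.node (.leaf (nat_lit 23381430)) (.leaf (nat_lit 21922269)))) (.leaf (nat_lit 4761))) (.node (.node (.node (.leaf (nat_lit 1625953)) (.leaf (nat_lit 27641923))) (.node (.leaf (nat_lit 1820150)) (.leaf (nat_lit 542253191)))) (.leaf (nat_lit 397694190)))))) (.node (.node (.node (.leaf (nat_lit 1625749)) (.node (.node (.leaf (nat_lit 95644)) (.leaf (nat_lit 542309798))) (.leaf (nat_lit 0)))) (.node (.node (.node (.leaf (nat_lit 31897262)) (.leaf (nat_lit 81000))) (.node (.leaf (nat_lit 4758)) (.leaf (nat_lit 1820096)))) (.leaf (nat_lit 6500)))) (.node (.node (.leaf (nat_lit 1625746)) (.leaf (nat_lit 7987307188))) (.node (.leaf (nat_lit 4461)) (.node (.leaf (nat_lit 469912693)) (.node (.leaf (nat_lit 110372)) (.leaf (nat_lit 1376298))))))))))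


/-- check of the commuting root elements -/
noncomputable def m2F (j : ℕ) : Bool :=
  frcA (dT.get j) fun c => frcA (oM.mul c (cE.get 8)) fun cz =>
    bimp (Nat.beq cz (oM.mul (cE.get 8) c)) (bor (Nat.beq c (cE.get 8)) (bor (inD cz)
      (frcA (m2W.get j) fun k => frcA (oM.wordN 16 cE 20 (Nat.div k 3)) fun g =>
        Nat.beq (oM.mul g (cE.get (Nat.succ (Nat.mod k 3)))) (oM.mul c g))))

theorem m2_chk_0 : allR 0 400 m2F = true := by decide +kernel

theorem m2_chk_1 : allR 400 400 m2F = true := by decide +kernel

theorem m2_chk_2 : allR 800 400 m2F = true := by decide +kernel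

theorem m2_chk_3 : allR 1200 375 m2F = true := by decide +kernel

theorem m2_chk : allLt 1575 m2F = true := by
  have h0 := m2_chk_0
  have h1 : allR 0 800 m2F = true := allR_append (lo := 0) (a := 400) (b := 400) h0 m2_chk_1
  have h2 : allR 0 1200 m2F = true := allR_append (lo := 0) (a := 800) (b := 400) h1 m2_chk_2
  have h3 : allR 0 1575 m2F = true := allR_append (lo := 0) (a := 1200) (b := 375) h2 m2_chk_3
  exact allLt_of_allR_zero h3


theorem comm_D0 {y : Om} (hy : y ∈ D0) (hc : y ∈ C1 z0) :
    y = z0 ∨ y * z0 ∈ D0 ∨ ∃ i, i < 3 ∧ ∃ g ∈ C1 z0, y = g * ext vH (i + 1) * g⁻¹ := by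
  obtain ⟨j, hj, e⟩ := D0_idx hy
  have h := allLt_iff.1 m2_chk j hj
  have ez : oM.enc z0 = cE.get 8 := enc_ext 8 (by norm_num)
  simp only [m2F, frcA_eq', bimp_iff, bor_iff] at h
  rw [← e, ← ez, ← oM.enc_mul, ← oM.enc_mul, ← mem_C1.1 hc] at h
  rcases h (Nat.beq_refl _) with h | h | h
  · exact Or.inl (oM.enc_inj (Nat.eq_of_beq_eq_true h))
  · exact Or.inr (Or.inl (mem_D0.2 h))
  · obtain ⟨g, hg, eg⟩ := Model.mem_wordN (M := oM) (r := 16) (s := cE) (K := Gen 7 vH)
      (by norm_num) (fun a ha => ⟨_, ext_mem7 vH_sat.1 ha, enc_ext a (by omega)⟩) 20
      (Nat.div (m2W.get j) 3)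
    have h3 : m2W.get j % 3 < 3 := Nat.mod_lt _ (by norm_num)
    refine Or.inr (Or.inr ⟨_, h3, g, gen7_le hg, ?_⟩)
    rw [eq_mul_inv_iff_mul_eq]
    refine oM.enc_inj ?_
    rw [oM.enc_mul, oM.enc_mul, eg, enc_ext _ (by omega)]
    exact (Nat.eq_of_beq_eq_true h).symm

/-- singular vectors of a six-dimensional space -/
def sing (a : ℕ) : Bool :=
  (!Nat.beq a 0) && Nat.beq (Nat.mod (Nat.add (Nat.add (Nat.land a (Nat.shiftRight a 1))
    (Nat.shiftRight (Nat.land a (Nat.shiftRight a 1)) 2))
    (Nat.shiftRight (Nat.land a (Nat.shiftRight a 1)) 4)) 2) 0

/-- `w` is a non-singular vector of an orthogonal space inside `H` -/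
def Good {G : Type*} [Group G] (D : Set G) (H : Subgroup G) (w : G) : Prop :=
  ∃ φ : ℕ → G, (∀ a < 64, φ a ∈ H) ∧ (∀ a < 64, ∀ b < 64, φ (a ^^^ b) = φ a * φ b) ∧
    (∀ a < 64, φ a ∈ D ↔ sing a = true) ∧ φ 3 = w ∧
    ∀ y ∈ D, y ∈ H → y * w ∈ D → ∃ a < 64, φ a = y

noncomputable def vT : NT := (.node (.node (.node (.node (.node (.node (.node (.node (.leaf (nat_lit 0x1000000001000000001000000001000000001000000001000000001000000001)) (.leaf (nat_lit 0x1000000001000000001000000001000000001000000001000000001000000001))) (.leaf (nat_lit 0x1000000001000000001000000001000000001000000001000000001000000001))) (.node (.node (.leaf (nat_lit 0x1001000001000000001000000001000000001000000001000000001000001001)) (.leaf (nat_lit 0x1000000001000000001000000001000000011000000001000000001010000001))) (.leaf (nat_lit 0x1001000001000000001000000001000000001000000001000000001000001001)))) (.node (.node (.node (.leaf (nat_lit 0x1000000001000000001000000001000000011000000001000000001010000001)) (.leaf (nat_lit 0x1000000001000000001000000001000000001000001001000100001000000001))) (.leaf (nat_lit 0x1000000001000000001000000001000000001000001001000100001000000001)))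 (.node (.node (.leaf (nat_lit 0x1001000001000000001000000001000000011000000001000000001010011001)) (.leaf (nat_lit 0x1000000001000000001000000001000000011000001001000100001010000001))) (.leaf (nat_lit 0x1001000001000000001000000001000000001000001001000100001000001001))))) (.node (.node (.node (.node (.leaf (nat_lit 0x1000000001010000001000000001000000001000000001000000001000000101)) (.leaf (nat_lit 0x1000000001000000001000000001000000101000000001001000001000000001))) (.leaf (nat_lit 0x1010000001000000001000000001000000001000000001000000101000000001))) (.node (.node (.leaf (nat_lit 0x1001000001010000001000000001000000001000000001000000001000001101)) (.leaf (nat_lit 0x1000000001000000001000000001000000111000000001001000001010000001))) (.leaf (nat_lit 0x1011000001000000001000000001000000001000000001000000101000001001)))) (.node (.node (.node (.leaf (nat_lit 0x1000000001010000001000000001000000011000000001000000001010000101)) (.leaf (nat_lit 0x1000000001000000001000000001000000101000001001001100001000000001))) (.leaf (nat_lit 0x1010000001000000001000000001000000001000001001000100101000000001))) (.node (.node (.leaf (nat_lit 0x1001000001010000001000000001000000011000000001000000001010011101))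 (.leaf (nat_lit 0x1000000001000000001000000001000000111000001001001100001010000001))) (.leaf (nat_lit 0x1011000001000000001000000001000000001000001001000100101000001001)))))) (.node (.node (.node (.node (.node (.leaf (nat_lit 0x1000000001000000001000000001000000001000000101000000001001000001)) (.leaf (nat_lit 0x1000000001000000001000000001000000001000000101000000001001000001))) (.leaf (nat_lit 0x1000000001000000001000000001000000001000000101000000001001000001))) (.node (.node (.leaf (nat_lit 0x1001000001000000001000000001000000001000000101000000001001001001)) (.leaf (nat_lit 0x1000000001000000001000000001000000011000000101000000001011000001))) (.leaf (nat_lit 0x1001000001000000001000000001000000001000000101000000001001001001)))) (.node (.node (.node (.leaf (nat_lit 0x1000000001000000001000000001000000011000000101000000001011000001)) (.leaf (nat_lit 0x1000000001000000001000000001000000001000001101000100001001000001))) (.leaf (nat_lit 0x1000000001000000001000000001000000001000001101000100001001000001))) (.node (.node (.leaf (nat_lit 0x1001000001000000001000000001000000011000000101000000001011011001)) (.leaf (nat_lit 0x1000000001000000001000000001000000011000001101000100001011000001)))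 (.leaf (nat_lit 0x1001000001000000001000000001000000001000001101000100001001001001))))) (.node (.node (.node (.node (.leaf (nat_lit 0x1000000001010000001000000001000000001000000101000000001001010101)) (.leaf (nat_lit 0x1000000001000000001000000001000000101000000101001000001001000001))) (.leaf (nat_lit 0x1010000001000000001000000001000000001000000101000000101001000001))) (.node (.node (.leaf (nat_lit 0x1001000001010000001000000001000000001000000101000000001001011101)) (.leaf (nat_lit 0x1000000001000000001000000001000000111000000101001000001011000001))) (.leaf (nat_lit 0x1011000001000000001000000001000000001000000101000000101001001001)))) (.node (.node (.node (.leaf (nat_lit 0x1000000001010000001000000001000000011000000101000000001011010101)) (.leaf (nat_lit 0x1000000001000000001000000001000000101000001101001100001001000001))) (.leaf (nat_lit 0x1010000001000000001000000001000000001000001101000100101001000001))) (.node (.node (.leaf (nat_lit 0x1001000001010000001000000001000000011000000101000000001011001101)) (.leaf (nat_lit 0x1000000001000000001000000001000000111000001101001100001011000001))) (.leaf (nat_lit 0x1011000001000000001000000001000000001000001101000100101001001001)))))))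 (.node (.node (.node (.node (.node (.node (.leaf (nat_lit 0x1000000001000000001100000001000000001000000001000000001000000011)) (.leaf (nat_lit 0x1000000001000000001000000001000001001000100001000000001000000001))) (.leaf (nat_lit 0x1100000001000000001000000001000000001000000011000000001000000001))) (.node (.node (.leaf (nat_lit 0x1001000001000000001100000001000000001000000001000000001000001011)) (.leaf (nat_lit 0x1000000001000000001000000001000001011000100001000000001010000001))) (.leaf (nat_lit 0x1101000001000000001000000001000000001000000011000000001000001001)))) (.node (.node (.node (.leaf (nat_lit 0x1000000001000000001100000001000000011000000001000000001010000011)) (.leaf (nat_lit 0x1000000001000000001000000001000001001000101001000100001000000001))) (.leaf (nat_lit 0x1100000001000000001000000001000000001000001011000100001000000001))) (.node (.node (.leaf (nat_lit 0x1001000001000000001100000001000000011000000001000000001010011011)) (.leaf (nat_lit 0x1000000001000000001000000001000001011000101001000100001010000001))) (.leaf (nat_lit 0x1101000001000000001000000001000000001000001011000100001000001001))))) (.node (.node (.node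 (.node (.leaf (nat_lit 0x1000000001010000001100000001000000001000000001000000001000000111)) (.leaf (nat_lit 0x1000000001000000001000000001000001101000100001001000001000000001))) (.leaf (nat_lit 0x1110000001000000001000000001000000001000000011000000101000000001))) (.node (.node (.leaf (nat_lit 0x1001000001010000001100000001000000001000000001000000001000001111)) (.leaf (nat_lit 0x1000000001000000001000000001000001111000100001001000001010000001))) (.leaf (nat_lit 0x1111000001000000001000000001000000001000000011000000101000001001)))) (.node (.node (.node (.leaf (nat_lit 0x1000000001010000001100000001000000011000000001000000001010000111)) (.leaf (nat_lit 0x1000000001000000001000000001000001101000101001001100001000000001))) (.leaf (nat_lit 0x1110000001000000001000000001000000001000001011000100101000000001))) (.node (.node (.leaf (nat_lit 0x1001000001010000001100000001000000011000000001000000001010011111)) (.leaf (nat_lit 0x1000000001000000001000000001000001111000101001001100001010000001))) (.leaf (nat_lit 0x1111000001000000001000000001000000001000001011000100101000001001)))))) (.node (.node (.node (.node (.node (.leaf (nat_lit 0x1000000001000000001100000001000000001000000101000000001001000011))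 (.leaf (nat_lit 0x1000000001000000001000000001000001001000100101000000001001000001))) (.leaf (nat_lit 0x1100000001000000001000000001000000001000000111000000001001000001))) (.node (.node (.leaf (nat_lit 0x1001000001000000001100000001000000001000000101000000001001001011)) (.leaf (nat_lit 0x1000000001000000001000000001000001011000100101000000001011000001))) (.leaf (nat_lit 0x1101000001000000001000000001000000001000000111000000001001001001)))) (.node (.node (.node (.leaf (nat_lit 0x1000000001000000001100000001000000011000000101000000001011000011)) (.leaf (nat_lit 0x1000000001000000001000000001000001001000101101000100001001000001))) (.leaf (nat_lit 0x1100000001000000001000000001000000001000001111000100001001000001))) (.node (.node (.leaf (nat_lit 0x1001000001000000001100000001000000011000000101000000001011011011)) (.leaf (nat_lit 0x1000000001000000001000000001000001011000101101000100001011000001))) (.leaf (nat_lit 0x1101000001000000001000000001000000001000001111000100001001001001))))) (.node (.node (.node (.node (.leaf (nat_lit 0x1000000001010000001100000001000000001000000101000000001001010111)) (.leaf (nat_lit 0x1000000001000000001000000001000001101000100101001000001001000001)))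 (.leaf (nat_lit 0x1110000001000000001000000001000000001000000111000000101001000001))) (.node (.node (.leaf (nat_lit 0x1001000001010000001100000001000000001000000101000000001001011111)) (.leaf (nat_lit 0x1000000001000000001000000001000001111000100101001000001011000001))) (.leaf (nat_lit 0x1111000001000000001000000001000000001000000111000000101001001001)))) (.node (.node (.node (.leaf (nat_lit 0x1000000001010000001100000001000000011000000101000000001011010111)) (.leaf (nat_lit 0x1000000001000000001000000001000001101000101101001100001001000001))) (.leaf (nat_lit 0x1110000001000000001000000001000000001000001111000100101001000001))) (.node (.node (.leaf (nat_lit 0x1001000001010000001100000001000000011000000101000000001011001111)) (.leaf (nat_lit 0x1000000001000000001000000001000001111000101101001100001011000001))) (.leaf (nat_lit 0x1111000001000000001000000001000000001000001111000100101001001001)))))))) (.node (.node (.node (.node (.node (.node (.node (.leaf (nat_lit 0x1000000001000000001000000001000000001000000001000001001000100001)) (.leaf (nat_lit 0x1000000001000000001000000001000000001000000001000001001000100001))) (.leaf (nat_lit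 0x1000000001000000001000000001000000001000000001000001001000100001))) (.node (.node (.leaf (nat_lit 0x1001000001000000001000000001000000001000000001000001001000101001)) (.leaf (nat_lit 0x1000000001000000001000000001000000011000000001000001001010100001))) (.leaf (nat_lit 0x1001000001000000001000000001000000001000000001000001001000101001)))) (.node (.node (.node (.leaf (nat_lit 0x1000000001000000001000000001000000011000000001000001001010100001)) (.leaf (nat_lit 0x1000000001000000001000000001000000001000001001000101001000100001))) (.leaf (nat_lit 0x1000000001000000001000000001000000001000001001000101001000100001))) (.node (.node (.leaf (nat_lit 0x1001000001000000001000000001000000011000000001000001001010111001)) (.leaf (nat_lit 0x1000000001000000001000000001000000011000001001000101001010100001))) (.leaf (nat_lit 0x1001000001000000001000000001000000001000001001000101001000101001))))) (.node (.node (.node (.node (.leaf (nat_lit 0x1000000001010000001000000001000000001000000001000001001000100101)) (.leaf (nat_lit 0x1000000001000000001000000001000000101000000001001001001000100001))) (.leaf (nat_lit 0x1010000001000000001000000001000000001000000001000001101000100001)))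 (.node (.node (.leaf (nat_lit 0x1001000001010000001000000001000000001000000001000001001000101101)) (.leaf (nat_lit 0x1000000001000000001000000001000000111000000001001001001010100001))) (.leaf (nat_lit 0x1011000001000000001000000001000000001000000001000001101000101001)))) (.node (.node (.node (.leaf (nat_lit 0x1000000001010000001000000001000000011000000001000001001010100101)) (.leaf (nat_lit 0x1000000001000000001000000001000000101000001001001101001000100001))) (.leaf (nat_lit 0x1010000001000000001000000001000000001000001001000101101000100001))) (.node (.node (.leaf (nat_lit 0x1001000001010000001000000001000000011000000001000001001010111101)) (.leaf (nat_lit 0x1000000001000000001000000001000000111000001001001101001010100001))) (.leaf (nat_lit 0x1011000001000000001000000001000000001000001001000101101000101001)))))) (.node (.node (.node (.node (.node (.leaf (nat_lit 0x1000000001000000001000000001000000001000000101000001001001100001)) (.leaf (nat_lit 0x1000000001000000001000000001000000001000000101000001001001100001))) (.leaf (nat_lit 0x1000000001000000001000000001000000001000000101000001001001100001))) (.node (.node (.leaf (nat_lit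 0x1001000001000000001000000001000000001000000101000001001001101001)) (.leaf (nat_lit 0x1000000001000000001000000001000000011000000101000001001011100001))) (.leaf (nat_lit 0x1001000001000000001000000001000000001000000101000001001001101001)))) (.node (.node (.node (.leaf (nat_lit 0x1000000001000000001000000001000000011000000101000001001011100001)) (.leaf (nat_lit 0x1000000001000000001000000001000000001000001101000101001001100001))) (.leaf (nat_lit 0x1000000001000000001000000001000000001000001101000101001001100001))) (.node (.node (.leaf (nat_lit 0x1001000001000000001000000001000000011000000101000001001011111001)) (.leaf (nat_lit 0x1000000001000000001000000001000000011000001101000101001011100001))) (.leaf (nat_lit 0x1001000001000000001000000001000000001000001101000101001001101001))))) (.node (.node (.node (.node (.leaf (nat_lit 0x1000000001010000001000000001000000001000000101000001001001110101)) (.leaf (nat_lit 0x1000000001000000001000000001000000101000000101001001001001100001))) (.leaf (nat_lit 0x1010000001000000001000000001000000001000000101000001101001100001))) (.node (.node (.leaf (nat_lit 0x1001000001010000001000000001000000001000000101000001001001111101))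 (.leaf (nat_lit 0x1000000001000000001000000001000000111000000101001001001011100001))) (.leaf (nat_lit 0x1011000001000000001000000001000000001000000101000001101001101001)))) (.node (.node (.node (.leaf (nat_lit 0x1000000001010000001000000001000000011000000101000001001011110101)) (.leaf (nat_lit 0x1000000001000000001000000001000000101000001101001101001001100001))) (.leaf (nat_lit 0x1010000001000000001000000001000000001000001101000101101001100001))) (.node (.node (.leaf (nat_lit 0x1001000001010000001000000001000000011000000101000001001011101101)) (.leaf (nat_lit 0x1000000001000000001000000001000000111000001101001101001011100001))) (.leaf (nat_lit 0x1011000001000000001000000001000000001000001101000101101001101001))))))) (.node (.node (.node (.node (.node (.node (.leaf (nat_lit 0x1000000001000000001100000001000000001000000001000001001000110011)) (.leaf (nat_lit 0x1000000001000000001000000001000001001000100001000001001000100001))) (.leaf (nat_lit 0x1100000001000000001000000001000000001000000011000001001000100001))) (.node (.node (.leaf (nat_lit 0x1001000001000000001100000001000000001000000001000001001000111011)) (.leaf (nat_lit 0x1000000001000000001000000001000001011000100001000001001010100001)))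 (.leaf (nat_lit 0x1101000001000000001000000001000000001000000011000001001000101001)))) (.node (.node (.node (.leaf (nat_lit 0x1000000001000000001100000001000000011000000001000001001010110011)) (.leaf (nat_lit 0x1000000001000000001000000001000001001000101001000101001000100001))) (.leaf (nat_lit 0x1100000001000000001000000001000000001000001011000101001000100001))) (.node (.node (.leaf (nat_lit 0x1001000001000000001100000001000000011000000001000001001010101011)) (.leaf (nat_lit 0x1000000001000000001000000001000001011000101001000101001010100001))) (.leaf (nat_lit 0x1101000001000000001000000001000000001000001011000101001000101001))))) (.node (.node (.node (.node (.leaf (nat_lit 0x1000000001010000001100000001000000001000000001000001001000110111)) (.leaf (nat_lit 0x1000000001000000001000000001000001101000100001001001001000100001))) (.leaf (nat_lit 0x1110000001000000001000000001000000001000000011000001101000100001))) (.node (.node (.leaf (nat_lit 0x1001000001010000001100000001000000001000000001000001001000111111)) (.leaf (nat_lit 0x1000000001000000001000000001000001111000100001001001001010100001))) (.leaf (nat_lit 0x1111000001000000001000000001000000001000000011000001101000101001))))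 (.node (.node (.node (.leaf (nat_lit 0x1000000001010000001100000001000000011000000001000001001010110111)) (.leaf (nat_lit 0x1000000001000000001000000001000001101000101001001101001000100001))) (.leaf (nat_lit 0x1110000001000000001000000001000000001000001011000101101000100001))) (.node (.node (.leaf (nat_lit 0x1001000001010000001100000001000000011000000001000001001010101111)) (.leaf (nat_lit 0x1000000001000000001000000001000001111000101001001101001010100001))) (.leaf (nat_lit 0x1111000001000000001000000001000000001000001011000101101000101001)))))) (.node (.node (.node (.node (.node (.leaf (nat_lit 0x1000000001000000001100000001000000001000000101000001001001110011)) (.leaf (nat_lit 0x1000000001000000001000000001000001001000100101000001001001100001))) (.leaf (nat_lit 0x1100000001000000001000000001000000001000000111000001001001100001))) (.node (.node (.leaf (nat_lit 0x1001000001000000001100000001000000001000000101000001001001111011)) (.leaf (nat_lit 0x1000000001000000001000000001000001011000100101000001001011100001))) (.leaf (nat_lit 0x1101000001000000001000000001000000001000000111000001001001101001)))) (.node (.node (.node (.leaf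 (nat_lit 0x1000000001000000001100000001000000011000000101000001001011110011)) (.leaf (nat_lit 0x1000000001000000001000000001000001001000101101000101001001100001))) (.leaf (nat_lit 0x1100000001000000001000000001000000001000001111000101001001100001))) (.node (.node (.leaf (nat_lit 0x1001000001000000001100000001000000011000000101000001001011101011)) (.leaf (nat_lit 0x1000000001000000001000000001000001011000101101000101001011100001))) (.leaf (nat_lit 0x1101000001000000001000000001000000001000001111000101001001101001))))) (.node (.node (.node (.node (.leaf (nat_lit 0x1000000001010000001100000001000000001000000101000001001001100111)) (.leaf (nat_lit 0x1000000001000000001000000001000001101000100101001001001001100001))) (.leaf (nat_lit 0x1110000001000000001000000001000000001000000111000001101001100001))) (.node (.node (.leaf (nat_lit 0x1001000001010000001100000001000000001000000101000001001001101111)) (.leaf (nat_lit 0x1000000001000000001000000001000001111000100101001001001011100001))) (.leaf (nat_lit 0x1111000001000000001000000001000000001000000111000001101001101001)))) (.node (.node (.node (.leaf (nat_lit 0x1000000001010000001100000001000000011000000101000001001011100111))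 (.leaf (nat_lit 0x1000000001000000001000000001000001101000101101001101001001100001))) (.leaf (nat_lit 0x1110000001000000001000000001000000001000001111000101101001100001))) (.node (.node (.leaf (nat_lit 0x1001000001010000001100000001000000011000000101000001001011111111)) (.leaf (nat_lit 0x1000000001000000001000000001000001111000101101001101001011100001))) (.leaf (nat_lit 0x1111000001000000001000000001000000001000001111000101101001101001)))))))))

noncomputable def vW : NT := (.node (.node (.node (.node (.node (.node (.node (.node (.leaf (nat_lit 0)) (.leaf (nat_lit 0))) (.leaf (nat_lit 0))) (.node (.node (.leaf (nat_lit 12)) (.leaf (nat_lit 11))) (.leaf (nat_lit 12)))) (.node (.node (.node (.leaf (nat_lit 11)) (.leaf (nat_lit 10))) (.leaf (nat_lit 10))) (.node (.node (.leaf (nat_lit 227)) (.leaf (nat_lit 208))) (.leaf (nat_lit 226))))) (.node (.node (.node (.node (.leaf (nat_lit 13)) (.leaf (nat_lit 15))) (.leaf (nat_lit 14))) (.node (.node (.leaf (nat_lit 229)) (.leaf (nat_lit 213))) (.leaf (nat_lit 230)))) (.node (.node (.node (.leaf (nat_lit 211)) (.leaf (nat_lit 195))) (.leaf (nat_lit 194))) (.node (.node (.leaf (nat_lit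 4099)) (.leaf (nat_lit 3759))) (.leaf (nat_lit 4082)))))) (.node (.node (.node (.node (.node (.leaf (nat_lit 8)) (.leaf (nat_lit 8))) (.leaf (nat_lit 8))) (.node (.node (.leaf (nat_lit 224)) (.leaf (nat_lit 206))) (.leaf (nat_lit 224)))) (.node (.node (.node (.leaf (nat_lit 206)) (.leaf (nat_lit 188))) (.leaf (nat_lit 188))) (.node (.node (.leaf (nat_lit 4094)) (.leaf (nat_lit 3752))) (.leaf (nat_lit 4076))))) (.node (.node (.node (.node (.leaf (nat_lit 242)) (.leaf (nat_lit 278))) (.leaf (nat_lit 260))) (.node (.node (.leaf (nat_lit 4130)) (.leaf (nat_lit 3842))) (.leaf (nat_lit 4148)))) (.node (.node (.node (.leaf (nat_lit 3806)) (.leaf (nat_lit 3518))) (.leaf (nat_lit 3500))) (.node (.node (.leaf (nat_lit 73790)) (.leaf (nat_lit 67670))) (.leaf (nat_lit 73484))))))) (.node (.node (.node (.node (.node (.node (.leaf (nat_lit 2)) (.leaf (nat_lit 4))) (.leaf (nat_lit 3))) (.node (.node (.leaf (nat_lit 218)) (.leaf (nat_lit 202))) (.leaf (nat_lit 219)))) (.node (.node (.node (.leaf (nat_lit 200)) (.leaf (nat_lit 184))) (.leaf (nat_lit 183))) (.node (.node (.leaf (nat_lit 4088)) (.leaf (nat_lit 3748))) (.leaf (nat_lit 4071)))))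 (.node (.node (.node (.node (.leaf (nat_lit 236)) (.leaf (nat_lit 274))) (.leaf (nat_lit 255))) (.node (.node (.leaf (nat_lit 4124)) (.leaf (nat_lit 3838))) (.leaf (nat_lit 4143)))) (.node (.node (.node (.leaf (nat_lit 3800)) (.leaf (nat_lit 3514))) (.leaf (nat_lit 3495))) (.node (.node (.leaf (nat_lit 73784)) (.leaf (nat_lit 67666))) (.leaf (nat_lit 73479)))))) (.node (.node (.node (.node (.node (.leaf (nat_lit 146)) (.leaf (nat_lit 148))) (.leaf (nat_lit 147))) (.node (.node (.leaf (nat_lit 4034)) (.leaf (nat_lit 3712))) (.leaf (nat_lit 4035)))) (.node (.node (.node (.leaf (nat_lit 3710)) (.leaf (nat_lit 3388))) (.leaf (nat_lit 3387))) (.node (.node (.leaf (nat_lit 73694)) (.leaf (nat_lit 67540))) (.leaf (nat_lit 73371))))) (.node (.node (.node (.node (.leaf (nat_lit 4358)) (.leaf (nat_lit 5008))) (.leaf (nat_lit 4683))) (.node (.node (.leaf (nat_lit 74342)) (.leaf (nat_lit 69160))) (.leaf (nat_lit 74667)))) (.node (.node (.node (.leaf (nat_lit 68510)) (.leaf (nat_lit 63328))) (.leaf (nat_lit 63003))) (.node (.node (.leaf (nat_lit 1328222)) (.leaf (nat_lit 1218064))) (.leaf (nat_lit 1322715)))))))) (.node (.node (.node (.node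 (.node (.node (.node (.leaf (nat_lit 9)) (.leaf (nat_lit 9))) (.leaf (nat_lit 9))) (.node (.node (.leaf (nat_lit 225)) (.leaf (nat_lit 207))) (.leaf (nat_lit 225)))) (.node (.node (.node (.leaf (nat_lit 207)) (.leaf (nat_lit 189))) (.leaf (nat_lit 189))) (.node (.node (.leaf (nat_lit 4095)) (.leaf (nat_lit 3753))) (.leaf (nat_lit 4077))))) (.node (.node (.node (.node (.leaf (nat_lit 243)) (.leaf (nat_lit 279))) (.leaf (nat_lit 261))) (.node (.node (.leaf (nat_lit 4131)) (.leaf (nat_lit 3843))) (.leaf (nat_lit 4149)))) (.node (.node (.node (.leaf (nat_lit 3807)) (.leaf (nat_lit 3519))) (.leaf (nat_lit 3501))) (.node (.node (.leaf (nat_lit 73791)) (.leaf (nat_lit 67671))) (.leaf (nat_lit 73485)))))) (.node (.node (.node (.node (.node (.leaf (nat_lit 153)) (.leaf (nat_lit 153))) (.leaf (nat_lit 153))) (.node (.node (.leaf (nat_lit 4041)) (.leaf (nat_lit 3717))) (.leaf (nat_lit 4041)))) (.node (.node (.node (.leaf (nat_lit 3717)) (.leaf (nat_lit 3393))) (.leaf (nat_lit 3393))) (.node (.node (.leaf (nat_lit 73701)) (.leaf (nat_lit 67545))) (.leaf (nat_lit 73377))))) (.node (.node (.node (.node (.leaf (nat_lit 4365)) (.leaf (nat_lit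 5013))) (.leaf (nat_lit 4689))) (.node (.node (.leaf (nat_lit 74349)) (.leaf (nat_lit 69165))) (.leaf (nat_lit 74673)))) (.node (.node (.node (.leaf (nat_lit 68517)) (.leaf (nat_lit 63333))) (.leaf (nat_lit 63009))) (.node (.node (.leaf (nat_lit 1328229)) (.leaf (nat_lit 1218069))) (.leaf (nat_lit 1322721))))))) (.node (.node (.node (.node (.node (.node (.leaf (nat_lit 45)) (.leaf (nat_lit 81))) (.leaf (nat_lit 63))) (.node (.node (.leaf (nat_lit 3933)) (.leaf (nat_lit 3645))) (.leaf (nat_lit 3951)))) (.node (.node (.node (.leaf (nat_lit 3609)) (.leaf (nat_lit 3321))) (.leaf (nat_lit 3303))) (.node (.node (.leaf (nat_lit 73593)) (.leaf (nat_lit 67473))) (.leaf (nat_lit 73287))))) (.node (.node (.node (.node (.leaf (nat_lit 4257)) (.leaf (nat_lit 4941))) (.leaf (nat_lit 4599))) (.node (.node (.leaf (nat_lit 74241)) (.leaf (nat_lit 69093))) (.leaf (nat_lit 74583)))) (.node (.node (.node (.leaf (nat_lit 68409)) (.leaf (nat_lit 63261))) (.leaf (nat_lit 62919))) (.node (.node (.leaf (nat_lit 1328121)) (.leaf (nat_lit 1217997))) (.leaf (nat_lit 1322631)))))) (.node (.node (.node (.node (.node (.leaf (nat_lit 2637)) (.leaf (nat_lit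 2673))) (.leaf (nat_lit 2655))) (.node (.node (.leaf (nat_lit 72621)) (.leaf (nat_lit 66825))) (.leaf (nat_lit 72639)))) (.node (.node (.node (.leaf (nat_lit 66789)) (.leaf (nat_lit 60993))) (.leaf (nat_lit 60975))) (.node (.node (.leaf (nat_lit 1326501)) (.leaf (nat_lit 1215729))) (.leaf (nat_lit 1320687))))) (.node (.node (.node (.node (.leaf (nat_lit 78453)) (.leaf (nat_lit 90153))) (.leaf (nat_lit 84303))) (.node (.node (.leaf (nat_lit 1338165)) (.leaf (nat_lit 1244889))) (.leaf (nat_lit 1344015)))) (.node (.node (.node (.leaf (nat_lit 1233189)) (.leaf (nat_lit 1139913))) (.leaf (nat_lit 1134063))) (.node (.node (.leaf (nat_lit 23908005)) (.leaf (nat_lit 21925161))) (.leaf (nat_lit 23808879)))))))))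

noncomputable def vA : NT := (.node (.node (.node (.node (.node (.node (.node (.node (.node (.leaf (nat_lit 1)) (.leaf (nat_lit 62))) (.leaf (nat_lit 0))) (.leaf (nat_lit 0))) (.leaf (nat_lit 0))) (.leaf (nat_lit 18))) (.node (.node (.leaf (nat_lit 0)) (.node (.leaf (nat_lit 0)) (.node (.node (.node (.leaf (nat_lit 34)) (.leaf (nat_lit 25))) (.leaf (nat_lit 0))) (.leaf (nat_lit 0))))) (.node (.node (.leaf (nat_lit 26)) (.leaf (nat_lit 41))) (.leaf (nat_lit 26))))) (.node (.node (.node (.node (.leaf (nat_lit 10)) (.leaf (nat_lit 21))) (.leaf (nat_lit 6))) (.node (.node (.leaf (nat_lit 17)) (.leaf (nat_lit 38))) (.leaf (nat_lit 17)))) (.node (.node (.leaf (nat_lit 41)) (.node (.leaf (nat_lit 9)) (.leaf (nat_lit 5)))) (.leaf (nat_lit 61))))) (.node (.node (.node (.node (.leaf (nat_lit 0)) (.node (.leaf (nat_lit 0)) (.node (.node (.node (.leaf (nat_lit 33)) (.leaf (nat_lit 10))) (.leaf (nat_lit 0))) (.leaf (nat_lit 0))))) (.leaf (nat_lit 0))) (.node (.leaf (nat_lit 34)) (.node (.leaf (nat_lit 22)) (.leaf (nat_lit 42))))) (.node (.node (.leaf (nat_lit 41)) (.node (.node (.leaf (nat_lit 2)) (.node (.node (.node (.leaf (nat_lit 10))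 (.leaf (nat_lit 37))) (.leaf (nat_lit 0))) (.leaf (nat_lit 0)))) (.leaf (nat_lit 22)))) (.node (.node (.node (.leaf (nat_lit 25)) (.node (.node (.node (.leaf (nat_lit 1)) (.leaf (nat_lit 18))) (.leaf (nat_lit 0))) (.leaf (nat_lit 0)))) (.leaf (nat_lit 0))) (.node (.node (.leaf (nat_lit 5)) (.leaf (nat_lit 2))) (.leaf (nat_lit 33))))))) (.node (.node (.node (.leaf (nat_lit 38)) (.node (.leaf (nat_lit 0)) (.node (.node (.leaf (nat_lit 26)) (.leaf (nat_lit 25))) (.node (.leaf (nat_lit 2)) (.leaf (nat_lit 37)))))) (.node (.node (.node (.node (.leaf (nat_lit 6)) (.node (.leaf (nat_lit 5)) (.leaf (nat_lit 61)))) (.leaf (nat_lit 0))) (.leaf (nat_lit 0))) (.node (.node (.leaf (nat_lit 0)) (.node (.leaf (nat_lit 18)) (.leaf (nat_lit 9)))) (.leaf (nat_lit 0))))) (.node (.node (.node (.node (.node (.leaf (nat_lit 38)) (.leaf (nat_lit 34))) (.leaf (nat_lit 0))) (.leaf (nat_lit 22))) (.node (.node (.leaf (nat_lit 0)) (.node (.leaf (nat_lit 21)) (.node (.leaf (nat_lit 21)) (.leaf (nat_lit 62))))) (.node (.node (.node (.leaf (nat_lit 0)) (.node (.node (.leaf (nat_lit 42)) (.leaf (nat_lit 42))) (.leaf (nat_lit 0)))) (.leaf (nat_lit 17))) (.leaf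 (nat_lit 0))))) (.node (.node (.node (.node (.leaf (nat_lit 62)) (.leaf (nat_lit 9))) (.leaf (nat_lit 1))) (.node (.node (.leaf (nat_lit 33)) (.leaf (nat_lit 6))) (.leaf (nat_lit 0)))) (.node (.leaf (nat_lit 37)) (.leaf (nat_lit 61)))))))


/-- check of the spaces -/
noncomputable def vhF (n : ℕ) : Bool :=
  frcA (vT.get n) fun c => frcA (Nat.mul 64 (Nat.div n 64)) fun o => frcA (Nat.mod n 64) fun a =>
    band (band (bimp (inD c) (sing a)) (bimp (sing a) (inD c)))
      (allLt 64 fun b => Nat.beq (vT.get (Nat.add o (Nat.xor a b)))
        (oM.mul c (vT.get (Nat.add o b))))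

/-- check of the partners -/
noncomputable def m1F (n : ℕ) : Bool :=
  frcA (dT.get (Nat.mod n 1575)) fun c => frcA (Nat.mul 64 (Nat.div n 1575)) fun o =>
    bimp (inD (oM.mul c (vT.get (Nat.add o 3))))
      (frcA (vA.get n) fun a => band (Nat.blt a 64) (Nat.beq (vT.get (Nat.add o a)) c))

theorem v_hom_0 : allR 0 16 vhF = true := by decide +kernel

theorem v_hom_1 : allR 16 16 vhF = true := by decide +kernel

theorem v_hom_2 : allR 32 16 vhF = true := by decide +kernel

theorem v_hom_3 : allR 48 16 vhF = true := by decide +kernel

theorem v_hom_4 : allR 64 16 vhF = true := by decide +kernel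

theorem v_hom_5 : allR 80 16 vhF = true := by decide +kernel

theorem v_hom_6 : allR 96 16 vhF = true := by decide +kernel

theorem v_hom_7 : allR 112 16 vhF = true := by decide +kernel

theorem v_hom_8 : allR 128 16 vhF = true := by decide +kernel

theorem v_hom_9 : allR 144 16 vhF = true := by decide +kernel

theorem v_hom_10 : allR 160 16 vhF = true := by decide +kernel

theorem v_hom_11 : allR 176 16 vhF = true := by decide +kernel

theorem v_hom : allLt 192 vhF = true := by
  have h0 := v_hom_0
  have h1 : allR 0 32 vhF = true := allR_append (lo := 0) (a := 16) (b := 16) h0 v_hom_1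
  have h2 : allR 0 48 vhF = true := allR_append (lo := 0) (a := 32) (b := 16) h1 v_hom_2
  have h3 : allR 0 64 vhF = true := allR_append (lo := 0) (a := 48) (b := 16) h2 v_hom_3
  have h4 : allR 0 80 vhF = true := allR_append (lo := 0) (a := 64) (b := 16) h3 v_hom_4
  have h5 : allR 0 96 vhF = true := allR_append (lo := 0) (a := 80) (b := 16) h4 v_hom_5
  have h6 : allR 0 112 vhF = true := allR_append (lo := 0) (a := 96) (b := 16) h5 v_hom_6
  have h7 : allR 0 128 vhF = true := allR_append (lo := 0) (a := 112) (b := 16) h6 v_hom_7
  have h8 : allR 0 144 vhF = true := allR_append (lo := 0) (a := 128) (b := 16) h7 v_hom_8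
  have h9 : allR 0 160 vhF = true := allR_append (lo := 0) (a := 144) (b := 16) h8 v_hom_9
  have h10 : allR 0 176 vhF = true := allR_append (lo := 0) (a := 160) (b := 16) h9 v_hom_10
  have h11 : allR 0 192 vhF = true := allR_append (lo := 0) (a := 176) (b := 16) h10 v_hom_11
  exact allLt_of_allR_zero h11

theorem m1_chk_0 : allR 0 800 m1F = true := by decide +kernel

theorem m1_chk_1 : allR 800 800 m1F = true := by decide +kernel

theorem m1_chk_2 : allR 1600 800 m1F = true := by decide +kernel

theorem m1_chk_3 : allR 2400 800 m1F = true := by decide +kernel

theorem m1_chk_4 : allR 3200 800 m1F = true := by decide +kernel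

theorem m1_chk_5 : allR 4000 725 m1F = true := by decide +kernel

theorem m1_chk : allLt 4725 m1F = true := by
  have h0 := m1_chk_0
  have h1 : allR 0 1600 m1F = true := allR_append (lo := 0) (a := 800) (b := 800) h0 m1_chk_1
  have h2 : allR 0 2400 m1F = true := allR_append (lo := 0) (a := 1600) (b := 800) h1 m1_chk_2
  have h3 : allR 0 3200 m1F = true := allR_append (lo := 0) (a := 2400) (b := 800) h2 m1_chk_3
  have h4 : allR 0 4000 m1F = true := allR_append (lo := 0) (a := 3200) (b := 800) h3 m1_chk_4
  have h5 : allR 0 4725 m1F = true := allR_append (lo := 0) (a := 4000) (b := 725) h4 m1_chk_5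
  exact allLt_of_allR_zero h5


theorem good0 {i : ℕ} (hi : i < 3) : Good D0 ⊤ (ext vH (i + 1) * z0) := by
  have h := Model.mem_of_subCheck (M := oM) (r := 17) (s := cE) (K := ⊤) (r' := 192) (s' := vT)
    (ws := vW) (fuel := 7) (by norm_num) (fun a ha => ⟨_, mem_top _, enc_ext a ha⟩)
    (by decide +kernel)
  choose! ψ hψ eψ using h
  have k : ∀ a < 64, oM.enc (ψ (64 * i + a)) = vT.get (64 * i + a) := fun a ha => eψ _ (by omega)
  have v : ∀ a < 64, vhF (64 * i + a) = true := fun a ha => allLt_iff.1 v_hom _ (by omega)
  have e1 : ∀ a < 64, Nat.div (64 * i + a) 64 = i := fun a ha => by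
    change (64 * i + a) / 64 = i; omega
  have e2 : ∀ a < 64, Nat.mod (64 * i + a) 64 = a := fun a ha => by
    change (64 * i + a) % 64 = a; omega
  have e3 : ψ (64 * i + 3) = ext vH (i + 1) * z0 := oM.enc_inj (by
    rw [k 3 (by norm_num), oM.enc_mul, enc_ext _ (by omega), z0, enc_ext 8 (by norm_num)]
    interval_cases i <;> decide +kernel)
  refine ⟨fun a => ψ (64 * i + a), fun _ _ => mem_top _, fun a ha b hb => oM.enc_inj ?_,
    fun a ha => ?_, e3, fun y hy _ hw => ?_⟩
  · have := v a ha
    simp only [vhF, frcA_eq', band_iff, e1 a ha, e2 a ha] at this
    rw [oM.enc_mul, k a ha, k b hb, k _ (Nat.xor_lt_two_pow (n := 6) ha hb)]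
    exact Nat.eq_of_beq_eq_true (allLt_iff.1 this.2 b hb)
  · have := v a ha
    simp only [vhF, frcA_eq', band_iff, bimp_iff, e2 a ha] at this
    rw [mem_D0, k a ha]
    exact ⟨this.1.1, this.1.2⟩
  · obtain ⟨j, hj, e⟩ := D0_idx hy
    have := allLt_iff.1 m1_chk (1575 * i + j) (by omega)
    have e4 : Nat.div (1575 * i + j) 1575 = i := by change (1575 * i + j) / 1575 = i; omega
    have e5 : Nat.mod (1575 * i + j) 1575 = j := by change (1575 * i + j) % 1575 = j; omega
    simp only [m1F, frcA_eq', band_iff, bimp_iff, e4, e5] at this
    rw [mem_D0, ← e3, oM.enc_mul, e, k 3 (by norm_num)] at hw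
    obtain ⟨h1, h2⟩ := this hw
    have h3 := Nat.blt_eq.mp h1
    exact ⟨_, h3, oM.enc_inj ((k _ h3).trans ((Nat.eq_of_beq_eq_true h2).trans e.symm))⟩

theorem Good.conj {G : Type*} [Group G] {D : Set G} (hD : ∀ y ∈ D, ∀ g, g * y * g⁻¹ ∈ D)
    {H : Subgroup G} {w : G} (h : Good D H w) (g : G) :
    Good D (CfsgH5.cj g H) (g * w * g⁻¹) := by
  obtain ⟨φ, h1, h2, h3, h4, h5⟩ := h
  have hD' : ∀ y, g * y * g⁻¹ ∈ D → y ∈ D := fun y hy => by simpa [mul_assoc] using hD _ hy g⁻¹
  refine ⟨fun a => g * φ a * g⁻¹, fun a ha => CfsgH5.conj_mem_cj.2 (h1 a ha), fun a ha b hb => ?_,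
    fun a ha => ⟨fun e => (h3 a ha).1 (hD' _ e), fun e => hD _ ((h3 a ha).2 e) g⟩,
    by simp only [h4], fun y hy hH hw => ?_⟩
  · simp only [h2 a ha b hb]; group
  · obtain ⟨a, ha, e⟩ := h5 (g⁻¹ * y * g) (hD' _ (by simpa [mul_assoc] using hy))
      (CfsgH5.mem_cj.1 hH) (hD' _ (by simpa [mul_assoc] using hw))
    exact ⟨a, ha, by simp only [e]; group⟩

theorem good_D0 {y : Om} (hy : y ∈ D0) (hc : y ∈ C1 z0) (h1 : y ≠ z0) (h2 : y * z0 ∉ D0) :
    Good D0 ⊤ (y * z0) := by
  obtain ⟨i, hi, g, hg, rfl⟩ := ((comm_D0 hy hc).resolve_left h1).resolve_left h2
  have := (good0 hi).conj (by rintro _ ⟨k, rfl⟩ g; exact ⟨g * k, by group⟩) g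
  rw [cj_eq_top.2 rfl] at this
  convert this using 1
  conv_lhs => rw [← mem_C1_iff_conj.1 hg]
  group

end CfsgH2.O8
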