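import Cfsg.Agent.H2.OB
import Cfsg.Agent.H8.OB1
import Cfsg.Agent.H4.OA5

set_option autoImplicit false

namespace CfsgOA

universe u v
variable {G : Type u} {Ω : Type v} [Group G] [Finite G] [MulAction G Ω]

/-- components at different points cannot all meet trivially -/
theorem CF.betaAll [FaithfulSMul G Ω] [Nontrivial Ω] {C : Ω → Set (Subgroup G)} (two : Two G Ω)
    (hC : CF C) (ti : ∀ x y, x ≠ y → ∀ T ∈ C x, ∀ U ∈ C y, T ⊓ U = ⊥) : False := by
  refine hC.sA fun x T hT t ht tt t1 y ty => ?_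
  by_contra ne
  refine CF.caseI two hC ti ⟨x, T, hT, t, ht, tt, t1, y, ne, ty⟩ ?_
  intro a b ab T' hT' k hk kk kb U hU
  by_contra mv
  exact CF.caseII two hC ti ab hT' hk kk kb hU mv

end CfsgOA
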