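import Cfsg.Agent.H7.ASL2

/-! The prime graph of an affine group `V ⋊ H`. -/

set_option autoImplicit false

namespace CfsgH2

open CfsgH7

variable {H V : Type*} [Group H] [AddCommGroup V] [DistribMulAction H V]

theorem card_aff : Nat.card (Aff H V) = Nat.card V * Nat.card H := by
  rw [SemidirectProduct.card]
  rfl

theorem prime_dvd_card_aff_iff [Finite H] [Finite V] [Nontrivial V] {l : ℕ} (hl : l.Prime)
    (hV : ∀ v : V, l • v = 0) {p : ℕ} (hp : p.Prime) :
    p ∣ Nat.card (Aff H V) ↔ p = l ∨ p ∣ Nat.card H := by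
  rw [card_aff, hp.dvd_mul]
  apply or_congr_left
  have := Fact.mk hp
  constructor
  · intro h
    obtain ⟨v, hv⟩ := exists_prime_addOrderOf_dvd_card' p h
    have := addOrderOf_dvd_of_nsmul_eq_zero (hV v)
    rw [hv] at this
    exact (Nat.prime_dvd_prime_iff_eq hp hl).mp this
  · rintro rfl
    obtain ⟨v, hv⟩ := exists_ne (0 : V)
    have : addOrderOf v = p := addOrderOf_eq_prime (hV v) hv
    rw [← this]
    exact addOrderOf_dvd_natCard v

theorem exists_aff_orderOf_mul {l : ℕ} (hl : l.Prime) (hV : ∀ v : V, l • v = 0) {h : H} {v : V}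
    (hv : v ≠ 0) (hfix : h • v = v) (hcop : Nat.Coprime l (orderOf h)) :
    ∃ x : Aff H V, orderOf x = l * orderOf h := by
  have := Fact.mk hl
  let a : Aff H V := SemidirectProduct.inl (Multiplicative.ofAdd v)
  let b : Aff H V := SemidirectProduct.inr h
  have ha : orderOf a = l := by
    rw [orderOf_injective _ SemidirectProduct.inl_injective, orderOf_ofAdd_eq_addOrderOf]
    exact addOrderOf_eq_prime (hV v) hv
  have hb : orderOf b = orderOf h := orderOf_injective _ SemidirectProduct.inr_injective h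
  have hc : Commute a b := by
    change a * b = b * a
    ext <;> simp [a, b, hfix]
  exact ⟨a * b, by rw [hc.orderOf_mul_eq_mul_orderOf_of_coprime (by rwa [ha, hb]), ha, hb]⟩

theorem aff_edge_aux {l : ℕ} (hl : l.Prime) (hV : ∀ v : V, l • v = 0) {p q : ℕ} (hp : p.Prime)
    (hq : q.Prime) (hpq : p ≠ q) {x : Aff H V} (hx : orderOf x = p * q)
    (h : x.right ^ q = 1) :
    p = l ∧ ∃ h : H, orderOf h = q ∧ ∃ v : V, v ≠ 0 ∧ h • v = v := by
  have := Fact.mk hq
  have hpl : p = l := by
    have h1 : (x ^ q) ^ l = 1 := aff_pow_eq_one_of_right _ (by rw [aff_pow_right, h]) l hV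
    rw [← pow_mul, ← orderOf_dvd_iff_pow_eq_one, hx, mul_comm q] at h1
    exact (Nat.prime_dvd_prime_iff_eq hp hl).mp (Nat.dvd_of_mul_dvd_mul_right hq.pos h1)
  refine ⟨hpl, x.right, ?_, ?_⟩
  · apply orderOf_eq_prime h
    intro h1
    have h2 : x ^ l = 1 := aff_pow_eq_one_of_right _ h1 l hV
    rw [← orderOf_dvd_iff_pow_eq_one, hx, ← hpl] at h2
    have h3 : p * q ∣ p * 1 := by simpa using h2
    exact hq.one_lt.ne' (Nat.dvd_one.mp (Nat.dvd_of_mul_dvd_mul_left hp.pos h3))
  · by_contra hne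
    push Not at hne
    have h2 : x ^ q = 1 := aff_pow_eq_one x (fun v hv => by
      by_contra h0
      exact hne v h0 hv) q h
    rw [← orderOf_dvd_iff_pow_eq_one, hx] at h2
    have h3 : p * q ∣ 1 * q := by simpa using h2
    exact hp.one_lt.ne' (Nat.dvd_one.mp (Nat.dvd_of_mul_dvd_mul_right hq.pos h3))

/-- The edges of the prime graph of an affine group. -/
theorem aff_edge_iff {l : ℕ} (hl : l.Prime) (hV : ∀ v : V, l • v = 0) {p q : ℕ} (hp : p.Prime)
    (hq : q.Prime) (hpq : p ≠ q) :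
    (∃ x : Aff H V, orderOf x = p * q) ↔ (∃ h : H, orderOf h = p * q) ∨
      (p = l ∧ ∃ h : H, orderOf h = q ∧ ∃ v : V, v ≠ 0 ∧ h • v = v) ∨
      (q = l ∧ ∃ h : H, orderOf h = p ∧ ∃ v : V, v ≠ 0 ∧ h • v = v) := by
  constructor
  · rintro ⟨x, hx⟩
    by_cases h1 : x.right ^ q = 1
    · exact Or.inr (Or.inl (aff_edge_aux hl hV hp hq hpq hx h1))
    by_cases h2 : x.right ^ p = 1
    · exact Or.inr (Or.inr (aff_edge_aux hl hV hq hp hpq.symm (by rw [hx, mul_comm]) h2))
    left
    refine ⟨x.right, ?_⟩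
    have h3 : x.right ^ (p * q) = 1 := by rw [← aff_pow_right, ← hx, pow_orderOf_eq_one]; rfl
    apply orderOf_eq_of_pow_and_pow_div_prime (mul_pos hp.pos hq.pos) h3
    intro r hr hrd
    rcases hr.dvd_mul.mp hrd with h | h
    · obtain rfl := (Nat.prime_dvd_prime_iff_eq hr hp).mp h
      rwa [Nat.mul_div_cancel_left _ hr.pos]
    · obtain rfl := (Nat.prime_dvd_prime_iff_eq hr hq).mp h
      rwa [Nat.mul_div_cancel _ hr.pos]
  · rintro (⟨h, hh⟩ | ⟨rfl, h, hh, v, hv, hfix⟩ | ⟨rfl, h, hh, v, hv, hfix⟩)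
    · rw [← hh]
      exact exists_aff_orderOf_right h
    · rw [← hh]
      exact exists_aff_orderOf_mul hl hV hv hfix (by rw [hh]; exact (Nat.coprime_primes hp hq).mpr hpq)
    · rw [← hh, mul_comm]
      exact exists_aff_orderOf_mul hl hV hv hfix
        (by rw [hh]; exact (Nat.coprime_primes hq hp).mpr hpq.symm)

/-- If a group `L` has the same prime graph as an affine group, then there are groups of unbounded
order with the prime graph of `L`. -/
theorem exists_large_primeGraph [Finite H] [Finite V] [Nontrivial V] {L : Type*} [Group L]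
    (h1 : ∀ p : ℕ, p.Prime → (p ∣ Nat.card L ↔ p ∣ Nat.card (Aff H V)))
    (h2 : ∀ p q : ℕ, p.Prime → q.Prime → p ≠ q →
      ((∃ g : L, orderOf g = p * q) ↔ ∃ g : Aff H V, orderOf g = p * q)) (N : ℕ) :
    ∃ (G : Type) (_ : Group G) (_ : Fintype G), N < Fintype.card G ∧
      (∀ p : ℕ, p.Prime → (p ∣ Nat.card L ↔ p ∣ Nat.card G)) ∧
      (∀ p q : ℕ, p.Prime → q.Prime → p ≠ q →
        ((∃ g : L, orderOf g = p * q) ↔ ∃ g : G, orderOf g = p * q)) := by
  obtain ⟨G, _, _, hN, hspec⟩ := exists_large_isospectral_aff (H := H) (V := V) N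
  obtain ⟨e1, e2⟩ := primeGraph_of_spec_eq hspec
  exact ⟨G, inferInstance, inferInstance, hN, fun p hp => (h1 p hp).trans (e1 p hp).symm,
    fun p q hp hq hpq => (h2 p q hp hq hpq).trans (e2 p q hp hq hpq).symm⟩

/-- If every element of prime order `r ≠ l` with a non-zero fixed vector witnesses an edge already
present in `H`, there are groups of unbounded order with the prime graph of `H`. -/
theorem exists_large_primeGraph_self [Finite H] [Finite V] [Nontrivial V] {l : ℕ} (hl : l.Prime)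
    (hV : ∀ v : V, l • v = 0) (hlH : l ∣ Nat.card H)
    (hfix : ∀ (h : H) (v : V), (orderOf h).Prime → orderOf h ≠ l → v ≠ 0 → h • v = v →
      ∃ g : H, orderOf g = l * orderOf h) (N : ℕ) :
    ∃ (G : Type) (_ : Group G) (_ : Fintype G), N < Fintype.card G ∧
      (∀ p : ℕ, p.Prime → (p ∣ Nat.card H ↔ p ∣ Nat.card G)) ∧
      (∀ p q : ℕ, p.Prime → q.Prime → p ≠ q →
        ((∃ g : H, orderOf g = p * q) ↔ ∃ g : G, orderOf g = p * q)) := by
  apply exists_large_primeGraph (H := H) (V := V)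
  · intro p hp
    rw [prime_dvd_card_aff_iff hl hV hp]
    constructor
    · exact Or.inr
    · rintro (rfl | h)
      · exact hlH
      · exact h
  · intro p q hp hq hpq
    rw [aff_edge_iff hl hV hp hq hpq]
    constructor
    · exact Or.inl
    · rintro (h | ⟨rfl, h, rfl, v, hv, hf⟩ | ⟨rfl, h, rfl, v, hv, hf⟩)
      · exact h
      · exact hfix h v hq hpq.symm hv hf
      · rw [mul_comm]
        exact hfix h v hp hpq hv hf

end CfsgH2
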