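import Cfsg.Agent.H2.Q97Ar
import Cfsg.Agent.H4.B0h
import Cfsg.Agent.H4.B1a
import Cfsg.Agent.L.Zass4

/-! Groups with a self-centralising Sylow subgroup of order `p` and order dividing
`p ^ 2 * (p ^ 4 - 1) / 2`. -/

set_option autoImplicit false
set_option linter.unusedSectionVars false

namespace CfsgQ97

open Cfsg CfsgL CfsgH3 CfsgH5 CfsgH6 CfsgFT CfsgSZ CfsgB0 Subgroup MulAction
open scoped MatrixGroups

universe u

variable {G : Type u} [Group G] [Finite G]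

theorem psl2_cc [IsSimpleGroup G] {P : Subgroup G}
    (hti : ∀ k ∈ P, k ≠ 1 → ∀ g : G, g * k * g⁻¹ ∈ P → g ∈ normalizer (P : Set G))
    (hc : ∀ k ∈ P, k ≠ 1 → ∀ x : G, x * k = k * x → x ∈ P) (h4 : 2 ≤ Nat.card P)
    (ho : Odd (Nat.card P)) (hi : (normalizer (P : Set G)).index = Nat.card P + 1)
    (hN : ¬ normalizer (P : Set G) ≤ P) :
    ∃ (F : Type) (_ : Field F) (_ : Fintype F),
      Fintype.card F = Nat.card P ∧ Nonempty (G ≃* PSL(2, F)) := by
  have T := ccf_of_subgroup hti hc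
  set Ω := G ⧸ normalizer (P : Set G)
  have hΩ : Nat.card Ω = Nat.card P + 1 := hi
  have hn : ∀ a : Ω, Nat.card Ω ≤ Nat.card (cj a.out P) + 1 := fun a => by rw [card_cj, hΩ]
  have Z := T.zt hn
  haveI : Nontrivial Ω := Finite.one_lt_card_iff_nontrivial.mp (by omega)
  set a : Ω := ((1 : G) : Ω) with ha
  obtain ⟨b, hb⟩ := exists_ne a
  have h1 := T.card_stabilizer (hn a) hb
  rw [card_cj, ha, stabilizer_quotient, ← ha] at h1
  have h2 : st2 G a b ≠ ⊥ := fun e => hN (by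
    rw [e, card_bot, mul_one] at h1
    exact (eq_of_le_of_card_le (le_N P) h1).ge)
  obtain ⟨⟨g, hg⟩, g1⟩ := ne_bot_iff_exists_ne_one.mp h2
  have g1' : g ≠ 1 := fun e => g1 (Subtype.ext e)
  haveI : FaithfulSMul G Ω := by
    refine ⟨fun {g g'} h => ?_⟩
    obtain ⟨⟨z, h1⟩, h2⟩ := ne_bot_iff_exists_ne_one.mp
      ((one_lt_card_iff_ne_bot (cj a.out P)).mp (by rw [card_cj]; omega))
    have h2' : z ≠ 1 := fun e => h2 (Subtype.ext e)
    have h3 : ∀ x : Ω, (g'⁻¹ * g) • x = x := fun x => by rw [mul_smul, h, inv_smul_smul]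
    have := Z.three (g'⁻¹ * g) a b (z • b) hb.symm (fun e => h2' (T.eq_one_of_fix hb h1 e.symm))
      (fun e => hb.symm (smul_left_cancel z ((T.fix a z h1).trans e))) (h3 _) (h3 _) (h3 _)
    exact (inv_mul_eq_one.1 this).symm
  have hZ : Cfsg.IsZassenhausGroup G Ω := by
    refine ⟨inferInstance, is_two_pretransitive_iff.2 Z.two, Z.three,
      ⟨g, g1', a, b, hb.symm, hg.1, hg.2⟩, fun N hN hNt => ⟨a, ?_⟩⟩
    have e : N = ⊤ := hN.eq_bot_or_eq_top.resolve_left fun e => by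
      obtain ⟨n, hn⟩ := hNt.exists_smul_eq a b
      have : n.1 = 1 := (mem_bot.mp (e ▸ n.2))
      exact hb (by rw [← hn, Subgroup.smul_def, this, one_smul])
    refine ne_bot_iff_exists_ne_one.mpr ⟨⟨⟨g, e ▸ mem_top g⟩, hg.1⟩, fun e => g1' ?_⟩
    exact congrArg (fun x => x.1.1) e
  rcases zass_cases hZ hb.symm with h | ⟨h, -⟩
  · obtain ⟨F, i1, i2, e1, e2⟩ := zass_psl2_of_card hZ hb.symm h
    exact ⟨F, i1, i2, by omega, e2⟩
  · obtain ⟨k, hk⟩ := h.exists_card_eq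
    have := (zt_of_zassenhaus hZ).card_K hb
    have e : Nat.card P = 2 ^ k := by omega
    rw [e] at ho h4
    rcases k with _ | k
    · omega
    · exact absurd ho (by simp [pow_succ])

variable {p : ℕ} [hp : Fact p.Prime] {x : G}

theorem dvd_of_cop {n m : ℕ} (h : 2 * m ∣ p ^ 2 * (p ^ 4 - 1)) (h1 : n ∣ m) (h2 : ¬ p ∣ n)
    (h5 : 5 < p) : 2 * n ∣ p ^ 4 - 1 := by
  refine Nat.Coprime.dvd_of_dvd_mul_left ?_ ((Nat.mul_dvd_mul_left 2 h1).trans h)
  refine Nat.Coprime.pow_right 2 (Nat.Coprime.symm ((Nat.Prime.coprime_iff_not_dvd hp.out).mpr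
    fun e => ?_))
  rcases (Nat.Prime.dvd_mul hp.out).mp e with e | e
  · have := Nat.le_of_dvd two_pos e; omega
  · exact h2 e

theorem card_fpf (hd : 2 * Nat.card G ∣ p ^ 2 * (p ^ 4 - 1)) (h5 : 5 < p) (ho : orderOf x = p)
    {X : Subgroup G} (hn : x ∈ N X) (hc : X ⊓ C1 x = ⊥) (hX : ¬ p ∣ Nat.card X) (h0 : X ≠ ⊥) :
    Nat.card X = p + 1 ∧ ∀ v ∈ X, v * v = 1 := by
  have xp : x ^ p = 1 := ho ▸ pow_orderOf_eq_one x
  have cop : (Nat.card X).Coprime (Nat.card (zpowers x)) := by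
    rw [Nat.card_zpowers, ho]; exact ((Nat.Prime.coprime_iff_not_dvd hp.out).mpr hX).symm
  have key : ∀ r, r.Prime → r ∣ Nat.card X → r = 2 ∧ ∃ R, SylIn r R X ∧ Nat.card R = p + 1 :=
      fun r hr hd' => by
    have := Fact.mk hr
    obtain ⟨R, hR, hRn⟩ := exists_sylIn_nrm_of_coprime (nrm_zpowers_iff.mpr hn) cop
      (Or.inr inferInstance) hr
    obtain ⟨i, hi⟩ := hR.isPGroup.exists_card_eq
    have e := CfsgH8.Mat.card_modEq_C1 hp.out xp (nrm_zpowers_iff.mp hRn)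
    rw [show R ⊓ C1 x = ⊥ from eq_bot_iff.mpr (hc ▸ inf_le_inf_right _ hR.le), card_bot, hi] at e
    have := ar_pow hp.out h5 hr (hi ▸ one_lt_card.mpr (hR.ne_bot hr hd')) e (hi ▸ dvd_of_cop hd
      (card_subgroup_dvd_card R) (fun f => hX (f.trans (card_dvd_of_le' hR.le))) h5)
    exact ⟨this.1, R, hR, hi.trans this.2⟩
  have h2 : IsPGroup 2 X := by
    have := Fact.mk Nat.prime_two
    exact IsPGroup.iff_card.mpr ⟨_, Nat.eq_prime_pow_of_unique_prime_dvd (card_ne_zero X)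
      fun {r} hr hd => (key r hr hd).1⟩
  obtain ⟨r, hr, hrd⟩ := exists_prime_dvd_card h0
  obtain ⟨rfl, R, hR, hc'⟩ := key r hr hrd
  have e := hR.eq_of_le le_rfl h2 hR.le
  subst e
  refine ⟨hc', fun v hv => ?_⟩
  obtain ⟨w, hw, ow⟩ := exists_mem_orderOf_eq hr hrd
  have w1 : w ≠ 1 := by rintro rfl; simp at ow
  by_cases v1 : v = 1
  · simp [v1]
  have c1 := CfsgH8.Mat.card_ne_one X
  have c2 : (C1 w).relIndex (zpowers x) = p := by
    rw [relIndex_of_inf_eq_bot, Nat.card_zpowers, ho]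
    refine (eq_bot_or_eq_of_prime_card (by rw [Nat.card_zpowers, ho]; exact hp.out)
      inf_le_right).resolve_right fun e => w1 (mem_bot.mp (hc ▸ ⟨hw, ?_⟩))
    exact mem_C1_comm.mp (e.ge (mem_zpowers x)).1
  obtain ⟨g, -, rfl⟩ := CfsgH8.Mat.conj_of_le_relIndex (H := zpowers x) (a := w)
    (p := fun b => b ∈ X ∧ b ≠ 1) (fun g hg => ⟨conj_mem_of_mem_N (zpowers_le.mpr hn hg) hw,
      conj_ne_one w1⟩) (by omega) (b := v) ⟨hv, v1⟩
  rw [← sq, conj_pow, ← ow, pow_orderOf_eq_one]; simp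

theorem memN {g : G} : g ∈ N (zpowers x) ↔ g * x * g⁻¹ ∈ zpowers x :=
  ⟨fun h => conj_mem_of_mem_N h (mem_zpowers x),
    fun h => mem_N_of_cj_le (by rw [cj_zpowers]; exact zpowers_le.mpr h)⟩

theorem mem_zp_sub {S : Subgroup G} {a b : S} : a ∈ zpowers b ↔ a.1 ∈ zpowers b.1 := by
  simp only [mem_zpowers_iff, Subtype.ext_iff, Subgroup.coe_zpow]

theorem N_sub {S : Subgroup G} (b : S) : N (zpowers b) = (N (zpowers b.1)).subgroupOf S := by
  ext g
  rw [mem_subgroupOf, memN, memN, mem_zp_sub]; rfl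

/-- a self-centralising non-normal Sylow subgroup of order `p` -/
structure KG (p : ℕ) (x : G) : Prop where
  p1 : P1 p x
  sc : C1 x ≤ zpowers x
  dv : 2 * Nat.card G ∣ p ^ 2 * (p ^ 4 - 1)
  nn : N (zpowers x) ≠ ⊤
  h5 : 5 < p

/-- the Mersenne configuration -/
def MT (p : ℕ) (X : Subgroup G) : Prop := Nrm ⊤ X ∧ Nat.card X = p + 1 ∧ ∀ v ∈ X, v * v = 1

theorem pg_sq {X : Subgroup G} (h : ∀ v ∈ X, v * v = 1) : IsPGroup 2 X :=
  fun g => ⟨1, Subtype.ext (by simpa [sq] using h g.1 g.2)⟩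

theorem MT.four {X : Subgroup G} (h : MT p X) (h5 : 5 < p) : 4 ∣ p + 1 := by
  obtain ⟨k, hk⟩ := (pg_sq h.2.2).exists_card_eq
  rw [← h.2.1, hk]
  refine pow_dvd_pow 2 (show 2 ≤ k from ?_)
  by_contra c
  have := h.2.1
  rw [hk] at this
  interval_cases k <;> omega

namespace KG

variable (h : KG p x)
include h

theorem hk : Nat.card (Opc p (C1 x)) = 1 := by
  have := h.p1.card_C1
  rw [le_antisymm h.sc (zpowers_le.mpr (self_mem_C1 x)), h.p1.card_zp] at this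
  rw [le_antisymm h.sc (zpowers_le.mpr (self_mem_C1 x))]
  exact Nat.eq_of_mul_eq_mul_right hp.out.pos (by rw [this, one_mul])

theorem sub {S : Subgroup G} (hx : x ∈ S) (hn : ¬ S ≤ N (zpowers x)) : KG p (⟨x, hx⟩ : S) :=
  ⟨⟨(Subgroup.orderOf_coe _).symm.trans h.p1.ord,
    fun e => h.p1.nsq (e.trans (card_subgroup_dvd_card S))⟩,
    fun g hg => mem_zp_sub.mpr (h.sc (mem_C1.mpr (congrArg Subtype.val (mem_C1.mp hg)))),
    (Nat.mul_dvd_mul_left 2 (card_subgroup_dvd_card S)).trans h.dv,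
    by rw [N_sub]; exact fun e => hn (subgroupOf_eq_top.mp e), h.h5⟩

theorem mt {X : Subgroup G} (hn : Nrm ⊤ X) (hX : ¬ p ∣ Nat.card X) (h0 : X ≠ ⊥) : MT p X :=
  ⟨hn, card_fpf h.dv h.h5 h.p1.ord (hn.le_N (mem_top x)) (eq_bot_iff.mpr
    ((inf_le_inf_left _ h.sc).trans (inf_eq_bot_of_coprime' (by
      rw [h.p1.card_zp]; exact ((Nat.Prime.coprime_iff_not_dvd hp.out).mpr hX).symm)).le)) hX h0⟩

theorem cases : (∃ X : Subgroup G, MT p X) ∨
    (IsSimpleGroup (KK G p) ∧ commutator (KK G p) = ⊤) := by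
  have hK := normalIn_Ores {p}ᶜ (⊤ : Subgroup G)
  by_cases e : Opc p (KK G p) = ⊥
  · have hs : IsSimpleGroup (KK G p) := simple_iff.2 ⟨fun f => h.p1.ne_one
      (mem_bot.mp (f ▸ h.p1.mem_KK)), fun K hK' => (h.p1.cases hK').imp_left
        fun f => eq_bot_iff.mpr (e ▸ f)⟩
    refine Or.inr ⟨hs, perfect_of_nab fun f => h.nn (eq_top_iff.mpr ?_)⟩
    have : KK G p = zpowers x := le_antisymm
      (fun g hg => h.sc (mem_C1.mpr (f.comm hg h.p1.mem_KK))) (zpowers_le.mpr h.p1.mem_KK)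
    exact this ▸ hK.nrm.le_N
  · exact Or.inl ⟨_, h.mt (hK.nrm.Opi _) (not_dvd_card_Opc hp.out _) e⟩

theorem index_KK : (N (zpowers x)).relIndex (KK G p) = (N (zpowers x)).index := by
  have hK := normalIn_Ores {p}ᶜ (⊤ : Subgroup G)
  have e := frattini_arg hp.out (h.p1.syl h.p1.mem_KK) hK
  rw [top_inf_eq] at e
  rw [← relIndex_sup' (Or.inr (hK.nrm.mono le_top)), e, relIndex_top_right]

theorem sub_KK : KG p (⟨x, h.p1.mem_KK⟩ : KK G p) := h.sub _ fun e => h.nn (by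
  rw [← index_eq_one, ← h.index_KK, relIndex_eq_one]; exact e)

theorem card_N : Nat.card (N (zpowers x)) = p * Nat.card h.p1.U := by
  have hCN : C1 x ≤ N (zpowers x) := C_zpowers x ▸ C_le_N _
  rw [← card_mul_relIndex hCN, h.p1.card_U, ← h.p1.card_C1, h.hk, one_mul]

theorem card_eq : Nat.card G = p * Nat.card h.p1.U * (N (zpowers x)).index := by
  rw [← h.card_N, card_mul_index]

theorem four_dvd : 4 ∣ Nat.card G := by
  rcases h.cases with ⟨X, hX⟩ | ⟨hs, hc⟩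
  · exact (hX.four h.h5).trans (hX.2.1 ▸ card_subgroup_dvd_card X)
  refine Dvd.dvd.trans ?_ (card_subgroup_dvd_card (KK G p))
  have h2 := two_dvd hc
  by_contra e
  obtain ⟨x, hx⟩ := exists_P1 2 h2 e
  obtain ⟨P, hP⟩ := (hx.syl (mem_top x)).exists_sylow
  exact CfsgH2.not_cyclic_sylow_two hc h2 P (hP ▸ inferInstance)

theorem simple_card [IsSimpleGroup G] (hc : commutator G = ⊤)
    (ht : (N (zpowers x)).index = p + 1) : 2 * Nat.card G = p * (p ^ 2 - 1) := by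
  have hz : ∀ k ∈ zpowers x, k ≠ 1 → ∃ i : ZMod p, i ≠ 0 ∧ x ^ i.val = k := fun k hk h1 => by
    obtain ⟨i, rfl⟩ := h.p1.mem_zp.mp hk
    exact ⟨i, fun e => h1 (by simp [e]), rfl⟩
  have h5 := h.h5
  obtain ⟨F, _, _, hF, ⟨f⟩⟩ := psl2_cc (P := zpowers x) (fun k hk h1 g hg => by
      obtain ⟨i, hi, rfl⟩ := hz k hk h1
      obtain ⟨l, hl, e⟩ := hz _ hg (by simpa using h1)
      rw [CfsgFT.mem_N, ← h.p1.zp_pw hi, cj_zpowers, ← e, h.p1.zp_pw hl, h.p1.zp_pw hi])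
    (fun k hk' h1 g hg => by
      obtain ⟨i, hi, rfl⟩ := hz k hk' h1
      exact h.sc (h.p1.C1_pw hi ▸ mem_C1.mpr hg))
    (by rw [h.p1.card_zp]; omega) (by rw [h.p1.card_zp]; exact hp.out.odd_of_ne_two (by omega))
    (by rw [h.p1.card_zp]; exact ht) fun e => (h.p1.sylow hc).1 (by
      have := h.card_N
      rw [show N (zpowers x) = zpowers x from le_antisymm e (le_N _), h.p1.card_zp] at this
      exact Nat.eq_of_mul_eq_mul_left hp.out.pos (by rw [← this, mul_one]))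
  rw [h.p1.card_zp] at hF
  rw [Nat.card_congr f.toEquiv, two_mul_card_psl2_odd F
    (hF ▸ hp.out.odd_of_ne_two (by omega)), hF]

theorem index_eq : ∃ k, 1 ≤ k ∧ (N (zpowers x)).index = k * p + 1 := by
  have n1 := CfsgH8.Mat.sylIn_modEq hp.out (h.p1.syl (mem_top x))
  rw [relIndex_top_right] at n1
  refine ge_of_modEq n1 ?_
  have := (N (zpowers x)).index_ne_zero_of_finite
  have : _ ≠ 1 := fun e => h.nn (index_eq_one.mp e)
  omega

theorem dvd_deg {k : ℕ} (hk : (N (zpowers x)).index = k * p + 1) (χ : IrrCharacter G)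
    (hd : ¬ p ∣ dg χ) : ∃ w, 0 < w ∧ dg χ * w = Nat.card h.p1.U * (k * p + 1) := by
  have := irr_deg_dvd_card χ.2 (dg_cast χ)
  rw [h.card_eq, hk, mul_assoc] at this
  obtain ⟨w, hw⟩ := ((Nat.Prime.coprime_iff_not_dvd hp.out).mpr hd).symm.dvd_of_dvd_mul_left this
  refine ⟨w, Nat.pos_of_ne_zero ?_, hw.symm⟩
  rintro rfl
  have : 0 < Nat.card h.p1.U * (k * p + 1) := Nat.mul_pos Nat.card_pos (by omega)
  omega

theorem simple_t [IsSimpleGroup G] (hc : commutator G = ⊤) (hb : 2 * Nat.card G ^ 2 ≤ p ^ 6) :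
    (N (zpowers x)).index = p + 1 := by
  obtain ⟨k, k1, hk⟩ := h.index_eq
  by_contra hne
  have k2 : 2 ≤ k := by
    by_contra c
    exact hne (by rw [hk, show k = 1 by omega, one_mul])
  have hG := h.card_eq
  have e1 := (h.p1.sylow hc).1
  have e0 : 0 < Nat.card h.p1.U := Nat.card_pos
  have e4 := h.p1.card_mul_index
  have dv := fun χ => h.dvd_deg hk χ
  have h4 := h.four_dvd
  have P := hp.out.pos
  have t1 : k * p + 1 ∣ p ^ 4 - 1 := (Dvd.intro_left _ rfl).trans (dvd_of_cop h.dv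
    (hk ▸ (N (zpowers x)).index_dvd_card) (fun e => hp.out.not_dvd_one
      ((Nat.dvd_add_right (Dvd.intro_left _ rfl)).mp e)) h.h5)
  obtain ⟨L, c, E, χ0, μ, r, B⟩ := h.p1.exists_BD
  rw [hk] at hG
  generalize Nat.card h.p1.U = e at *
  generalize h.p1.U.index = τ at *
  have b1 : 2 * (e * (k * p + 1)) ^ 2 ≤ p ^ 4 := by
    rw [hG, show 2 * (p * e * (k * p + 1)) ^ 2 = p ^ 2 * (2 * (e * (k * p + 1)) ^ 2) by ring,
      show p ^ 6 = p ^ 2 * p ^ 4 by ring] at hb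
    exact Nat.le_of_mul_le_mul_left hb (by positivity)
  have ek := ar_ek b1 P
  have kp : k < p := lt_of_le_of_lt (Nat.le_mul_of_pos_left _ e0) ek
  have ep : e < p := lt_of_le_of_lt (Nat.le_mul_of_pos_right _ k1) ek
  by_cases c1 : τ ≤ k + 1
  · exact ar_fin hp.out h.h5 e4 (by omega) k2 c1 b1 t1 (hG ▸ h4)
  have b2 := ar_k t1 k2 kp
  have b3 : e * (k + 2) ≤ e * τ := Nat.mul_le_mul_left _ (by omega)
  have b4 : e < k := by
    by_contra c
    have : k * (k + 2) ≤ e * (k + 2) := Nat.mul_le_mul_right _ (by omega)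
    nlinarith
  rcases B.ex with ⟨a, -⟩ | ⟨a1, a2, m, ε, a, hε, a3, a4, a5, -, -⟩
  · nlinarith
  have a6 : E.card = τ := Nat.eq_of_mul_eq_mul_left e0 (by omega)
  have s0 : ∀ y ∈ L.map fun χ => c χ ^ 2, 0 ≤ y := fun y hy => by
    obtain ⟨χ, -, rfl⟩ := List.mem_map.mp hy
    positivity
  have s1 := List.sum_nonneg s0
  have nm := B.norm
  have m0 : m = 0 := by
    by_contra f
    have : 1 ≤ m ^ 2 := by have := sq_pos_of_ne_zero f; omega
    have : ((E.card : ℤ) - 1) * 1 ≤ (E.card - 1) * m ^ 2 :=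
      mul_le_mul_of_nonneg_left this (by omega)
    have := sq_nonneg (m - ε)
    omega
  subst m0
  have r1 : r = 1 := by rcases hε with rfl | rfl <;> simp [a4]
  have cp : ∀ χ ∈ L, 0 < c χ ∧ (p : ℤ) < dg χ := fun χ hχ => by
    obtain ⟨a, ha, ha'⟩ := B.mult χ hχ
    have c2 := List.single_le_sum s0 _ (List.mem_map_of_mem (f := fun χ => c χ ^ 2) hχ)
    have c0 := B.ne χ hχ
    have c3 : |c χ| < p := by
      have : |c χ| ≤ |c χ| ^ 2 := by have := abs_pos.mpr c0; nlinarith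
      rw [sq_abs] at this
      omega
    obtain ⟨w, w0, hw⟩ := dv χ fun f => c0 (Int.eq_zero_of_abs_lt_dvd
      ((dvd_add_right (Dvd.intro _ rfl)).mp (ha ▸ Int.natCast_dvd_natCast.mpr f)) c3)
    have c4 : 0 < c χ := lt_of_le_of_ne (not_lt.mp fun f => by
      have := ar_neg (e := e) (k := k) (w := w) (by exact_mod_cast hw) ha f ha' (by exact_mod_cast w0) (by positivity)
        (by exact_mod_cast P)
      have b5 : (e : ℤ) * (k + 2) + 1 ≤ p := by exact_mod_cast (by omega : e * (k + 2) + 1 ≤ p)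
      nlinarith) c0.symm
    refine ⟨c4, ?_⟩
    have c5 := (abs_lt_dg hc (fun f => B.t1 (f ▸ hχ)) h.p1.ne_one
      (pw_one h.p1.pow_p ▸ B.val χ hχ 1 one_ne_zero)).1
    have : a ≠ 0 := by rintro rfl; simp at ha; exact c5 ha.symm
    have : (p : ℤ) * 1 ≤ p * a := mul_le_mul_of_nonneg_left (by omega) (by omega)
    omega
  obtain ⟨S, W⟩ := B.wb h.p1
  have q := W.rel_int h.p1 reg_one (a := fun χ => dg χ) fun χ => by simp [dg_cast]
  rw [if_neg (by omega)] at q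
  simp only [List.cons_append, List.nil_append, List.map_cons, List.sum_cons, List.map_map,
    Function.comp_def] at q
  obtain ⟨χ, hχ⟩ : ∃ χ, χ ∈ L := List.exists_mem_of_ne_nil _ (by rintro rfl; simp at nm; omega)
  have s2 : ∀ y ∈ L.map fun χ => c χ * dg χ, 0 ≤ y := fun y hy => by
    obtain ⟨χ, f, rfl⟩ := List.mem_map.mp hy
    have := (cp χ f).1
    positivity
  have c2 := List.single_le_sum s2 _ (List.mem_map_of_mem (f := fun χ => c χ * dg χ) hχ)
  have c3 : (p : ℤ) < c χ * dg χ := by have := cp χ hχ; nlinarith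
  rcases hε with rfl | rfl
  · have a7 : dg χ0 = p * a + e := by zify; linarith
    obtain ⟨w, -, hw⟩ := dv χ0 fun f => by
      have := Nat.le_of_dvd e0 ((Nat.dvd_add_right (Dvd.intro _ rfl)).mp (a7 ▸ f))
      omega
    refine ar_theta hp.out hw a7 e0 k1 (by zify; rw [a3] at q; linarith) (hG ▸ dg_sq_le χ0) ek
  · rw [a3] at q
    have : (0 : ℤ) ≤ dg χ0 := by positivity
    linarith

theorem k2 (hb : 2 * Nat.card G ^ 2 ≤ p ^ 6) : (N (zpowers x)).index = p + 1 := by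
  rcases h.cases with ⟨X, hX⟩ | ⟨hs, hc⟩
  swap
  · have := h.sub_KK.simple_t hc (le_trans (Nat.mul_le_mul_left 2 (Nat.pow_le_pow_left
      (card_le_card_group _) 2)) hb)
    rw [N_sub] at this
    exact h.index_KK.symm.trans this
  obtain ⟨k, k1, hk⟩ := h.index_eq
  have h5 := h.h5
  have pX : ¬ p ∣ Nat.card X := fun e => hp.out.not_dvd_one
    ((Nat.dvd_add_right dvd_rfl).mp (hX.2.1 ▸ e))
  have cop : X ⊓ zpowers x = ⊥ := inf_eq_bot_of_coprime' (by
    rw [h.p1.card_zp]; exact ((Nat.Prime.coprime_iff_not_dvd hp.out).mpr pX).symm)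
  have e1 : X ⊓ N (zpowers x) = ⊥ := eq_bot_iff.mpr (cop ▸ le_inf inf_le_left (le_trans ?_ h.sc))
  swap
  · rw [← C_zpowers]
    exact le_C_of_comm_le_of_inf (K := X) (le_trans (commutator_mono inf_le_left le_top)
      hX.1.comm_le_left) (nrm_of_le_N inf_le_right) cop
  have e2 := card_subgroup_dvd_card (X ⊔ N (zpowers x))
  rw [card_sup_of_inf_eq_bot (Or.inr (hX.1.mono le_top)) e1, ← (N (zpowers x)).card_mul_index,
    mul_comm, hX.2.1] at e2
  obtain ⟨s, hs⟩ := Nat.dvd_of_mul_dvd_mul_left (card_pos _) e2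
  have e3 : p * (N (zpowers x)).index ≤ Nat.card G := by
    rw [h.card_eq, mul_assoc]
    exact Nat.mul_le_mul_left _ (Nat.le_mul_of_pos_left _ Nat.card_pos)
  have s1 : s ≡ 1 [MOD p] := by
    have a : p * s + s = p * k + 1 := by rw [hk] at hs; linarith
    have := congrArg (· % p) a
    simp only [Nat.mul_add_mod] at this
    exact this
  rw [hs]
  by_contra f
  obtain ⟨l, l1, hl⟩ := ge_of_modEq s1 (by
    rcases s with _ | _ | s <;> simp at f hs ⊢
    omega)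
  have lp : p ≤ l * p := Nat.le_mul_of_pos_left _ l1
  have : p * (p * p) ≤ p * (N (zpowers x)).index :=
    Nat.mul_le_mul_left _ (hs ▸ Nat.mul_le_mul (by omega) (by omega))
  have := Nat.pow_le_pow_left (this.trans e3) 2
  have : 0 < p ^ 6 := by positivity
  nlinarith

theorem k1 (ht : (N (zpowers x)).index = p + 1) : (∃ X : Subgroup G, MT p X) ∨
    (IsSimpleGroup (KK G p) ∧ commutator (KK G p) = ⊤ ∧
      2 * Nat.card (KK G p) = p * (p ^ 2 - 1)) :=
  h.cases.imp_right fun ⟨hs, hc⟩ => ⟨hs, hc, h.sub_KK.simple_card hc (by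
    rw [N_sub]; exact h.index_KK.trans ht)⟩

end KG

end CfsgQ97
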