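import Cfsg.Agent.H1.QD

set_option autoImplicit false

open scoped commutatorElement Pointwise

namespace CfsgQ

variable {G : Type*} [Group G]

theorem na_grow [Finite G] {r : ℕ} (hr : r.Prime) {Y T : Subgroup G} (hT : IsPGroup r T)
    (hY : Y ≤ T) (hne : ¬ T ≤ Y) : ∃ t ∈ T, t ∉ Y ∧ t ∈ NS (Y : Set G) := by
  haveI := Fact.mk hr
  haveI := hT.isNilpotent
  have hlt : Y.subgroupOf T < ⊤ := by
    rw [lt_top_iff_ne_top]
    intro h
    exact hne (Subgroup.subgroupOf_eq_top.1 h)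
  have h2 := Group.normalizerCondition_of_isNilpotent (G := T) _ hlt
  obtain ⟨t, ht, htn⟩ := SetLike.exists_of_lt h2
  rw [← Subgroup.subgroupOf_normalizer_eq hY] at ht
  exact ⟨t, t.2, htn, ht⟩

theorem na_sup {A B : Subgroup G} (h : A ≤ NS (B : Set G)) {g : G} (hg : g ∈ A ⊔ B) :
    ∃ a ∈ A, ∃ b ∈ B, g = a * b := by
  have : g ∈ ((A ⊔ B : Subgroup G) : Set G) := hg
  rw [Subgroup.coe_mul_of_left_le_normalizer_right A B h] at this
  obtain ⟨a, ha, b, hb, e⟩ := this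
  exact ⟨a, ha, b, hb, e.symm⟩

theorem na_NS [Finite G] {S : Set G} {g : G} (h : ∀ n ∈ S, g * n * g⁻¹ ∈ S) : g ∈ NS S :=
  Subgroup.mem_normalizer_fintype h

theorem na_conj_sup {A B C : Subgroup G} {g : G} (hA : ∀ n ∈ A, g * n * g⁻¹ ∈ C)
    (hB : ∀ n ∈ B, g * n * g⁻¹ ∈ C) : ∀ n ∈ A ⊔ B, g * n * g⁻¹ ∈ C := by
  have : A ⊔ B ≤ C.comap (MulAut.conj g).toMonoidHom :=
    sup_le (fun n hn => by simpa using hA n hn) (fun n hn => by simpa using hB n hn)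
  intro n hn
  simpa using this hn

theorem na_cj {g n : G} (h : Commute n g) : g * n * g⁻¹ = n := by
  rw [← h.eq]; group

section
variable [Finite G] {p r : ℕ} {K : Set G} (h : BK p r K)
include h

theorem BK.na_Dl_NS {U : Set G} (hU : IsBlk r K U) : Dl U ≤ NS U :=
  (Dl_le_cl U).trans (h.cl_le U hU)

theorem BK.na_pt_NS {U : Set G} (hU : IsBlk r K U) {a : G} (ha : a ∈ U) : a ∈ NS U :=
  h.cl_le U hU (Subgroup.subset_closure ha)

theorem BK.na_Zc {U : Set G} (hU : IsBlk r K U) {e g : G} (he : e ∈ ZZ U) (hg : g ∈ Dl U) :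
    Commute e g := h.Z_comm U hU e he g (Dl_le_cl U hg)

theorem BK.na_Zp {U : Set G} (hU : IsBlk r K U) {e g : G} (he : e ∈ ZZ U) (hg : g ∈ U) :
    Commute e g := h.Z_comm U hU e he g (Subgroup.subset_closure hg)

theorem BK.na_P0c {U U1 : Set G} (hU : IsBlk r K U) (hU1 : IsBlk r K U1) (hne : U ≠ U1)
    {g k : G} (hg : g ∈ Dl (U ∩ U1)) (hk : k ∈ Dl (U ∩ U1)) : Commute g k := by
  rw [← commutatorElement_eq_one_iff_commute]
  by_contra hc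
  exact hne (h.Z_inf U U1 hU hU1 _
    (comm_mem_ZZ (Dl_mono Set.inter_subset_left hg) (Dl_mono Set.inter_subset_left hk))
    (comm_mem_ZZ (Dl_mono Set.inter_subset_right hg) (Dl_mono Set.inter_subset_right hk)) hc)

theorem BK.na_aP0 {U U1 : Set G} (hU : IsBlk r K U) (hU1 : IsBlk r K U1) {a : G}
    (ha : a ∈ NS U) (ha1 : a ∈ NS U1) {g : G} (hg : g ∈ Dl (U ∩ U1)) :
    a * g * a⁻¹ ∈ Dl (U ∩ U1) :=
  conj_mem_Dl (S := U ∩ U1)
    (fun x hx => Set.mem_inter ((mem_NS.1 ha x).1 hx.1) ((mem_NS.1 ha1 x).1 hx.2)) hg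

/-- adjacency is symmetric -/
theorem BK.na_symm {U U1 : Set G} (hU : IsBlk r K U) (hU1 : IsBlk r K U1) (hne : U ≠ U1)
    {e : G} (he : e ∈ ZZ U) (e1 : e ≠ 1) (heN : e ∈ NS U1) :
    ∃ f ∈ ZZ U1, f ≠ 1 ∧ f ∈ NS U := by
  set A1 : Subgroup G := ZZ U ⊓ NS U1 with hA1
  have hA1N : A1 ≤ NS (ZZ U1 : Set G) := fun g hg =>
    na_NS fun n hn => conj_mem_ZZ hg.2 hn
  have hT : IsPGroup r (A1 ⊔ ZZ U1 : Subgroup G) :=
    IsPGroup.to_sup_of_normal_right'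
      ((h.pg U hU).to_le (inf_le_left.trans (ZZ_le U))) ((h.pg U1 hU1).to_le (ZZ_le U1)) hA1N
  obtain ⟨t, ht, htn, htN⟩ := na_grow h.hr hT le_sup_left (by
    intro hle
    obtain ⟨z, hz, z1⟩ := h.Z_ne U1 hU1
    exact hne (h.Z_inf U U1 hU hU1 z (hle (Subgroup.mem_sup_right hz)).1 hz z1))
  obtain ⟨b, hb, z, hz, rfl⟩ := na_sup hA1N ht
  have hzN : z ∈ NS (A1 : Set G) := by
    have := Subgroup.mul_mem _ (Subgroup.inv_mem _ (Subgroup.le_normalizer hb)) htN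
    simpa using this
  refine ⟨z, hz, ?_, h.mem_N U hU e he e1 z ((mem_NS.1 hzN e).1 ⟨he, heN⟩).1⟩
  rintro rfl
  exact htn (by simpa using hb)

/-- the growth step -/
theorem BK.na_step {U U1 : Set G} (hU : IsBlk r K U) (hU1 : IsBlk r K U1) (hne : U ≠ U1)
    {a : G} (ha : a ∈ U) (ha1 : a ∈ U1) {e : G} (he : e ∈ ZZ U) (e1 : e ≠ 1) (heN : e ∈ NS U1) :
    ∃ y ∈ U1, y ∉ U ∧
      y ∈ NS ((Dl (U ∩ U1) ⊔ (ZZ U ⊓ NS U1) ⊔ (ZZ U1 ⊓ NS U) : Subgroup G) : Set G) := by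
  set P0 : Subgroup G := Dl (U ∩ U1) with hP0
  set A1 : Subgroup G := ZZ U ⊓ NS U1 with hA1
  set A2 : Subgroup G := ZZ U1 ⊓ NS U with hA2
  set W : Subgroup G := P0 ⊔ ZZ U1 with hW
  have P0R : P0 ≤ Dl U := Dl_mono Set.inter_subset_left
  have P0R1 : P0 ≤ Dl U1 := Dl_mono Set.inter_subset_right
  have aN := h.na_pt_NS hU ha
  have aN1 := h.na_pt_NS hU1 ha1
  have P0Z : P0 ≤ NS (ZZ U1 : Set G) := fun g hg =>
    na_NS fun n hn => conj_mem_ZZ (h.na_Dl_NS hU1 (P0R1 hg)) hn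
  have WR1 : W ≤ Dl U1 := sup_le P0R1 (ZZ_le U1)
  have A1R1 : A1 ≤ NS (Dl U1 : Set G) := fun g hg => NS_le_NS_Dl U1 hg.2
  have A1W : A1 ≤ NS (W : Set G) := fun g hg =>
    na_NS (na_conj_sup
      (fun n hn => Subgroup.mem_sup_left (by
        rw [na_cj (h.na_Zc hU hg.1 (P0R hn)).symm]; exact hn))
      (fun n hn => Subgroup.mem_sup_right (conj_mem_ZZ hg.2 hn)))
  have hT : IsPGroup r (A1 ⊔ Dl U1 : Subgroup G) :=
    IsPGroup.to_sup_of_normal_right'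
      ((h.pg U hU).to_le (inf_le_left.trans (ZZ_le U))) (h.pg U1 hU1) A1R1
  have YU : ∀ t ∈ A1 ⊔ W, t * a * t⁻¹ ∈ U := by
    intro t ht
    obtain ⟨b, hb, w, hw, rfl⟩ := na_sup A1W ht
    obtain ⟨q, hq, z, hz, rfl⟩ := na_sup P0Z hw
    have e2 : b * (q * z) * a * (b * (q * z))⁻¹ = b * (q * (z * a * z⁻¹) * q⁻¹) * b⁻¹ := by group
    rw [e2, na_cj (h.na_Zp hU1 hz ha1).symm]
    exact (mem_NS.1 (h.na_Dl_NS hU (ZZ_le U hb.1)) _).1
      ((mem_NS.1 (h.na_Dl_NS hU (P0R hq)) _).1 ha)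
  obtain ⟨t, ht, htn, htN⟩ := na_grow h.hr hT (sup_le_sup_left WR1 A1) (by
    intro hle
    apply hne
    refine (h.eq_of_sub U1 U hU1 hU ?_).symm
    intro y hy
    obtain ⟨f, hf, rfl⟩ := h.ex_conj U1 hU1 a ha1 y hy
    exact YU f (hle (Subgroup.mem_sup_right hf)))
  obtain ⟨b, hb, x, hx, rfl⟩ := na_sup A1R1 ht
  have hxN : x ∈ NS ((A1 ⊔ W : Subgroup G) : Set G) := by
    have := Subgroup.mul_mem _
      (Subgroup.inv_mem _ (Subgroup.le_normalizer (Subgroup.mem_sup_left hb : b ∈ A1 ⊔ W))) htN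
    simpa using this
  have hxW : x ∉ W := fun hw =>
    htn (Subgroup.mul_mem _ (Subgroup.mem_sup_left hb) (Subgroup.mem_sup_right hw))
  -- the commutators with `A1`
  have key : ∀ c ∈ A1, ∃ q ∈ P0, ∃ z ∈ ZZ U1, x⁻¹ * c * x = c * (q * z) := by
    intro c hc
    have h1 : x⁻¹ * c * x⁻¹⁻¹ ∈ A1 ⊔ W :=
      (mem_NS.1 (Subgroup.inv_mem _ hxN) c).1 (Subgroup.mem_sup_left hc : c ∈ A1 ⊔ W)
    have h2 : c⁻¹ * (x⁻¹ * c * x⁻¹⁻¹) ∈ A1 ⊔ W :=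
      Subgroup.mul_mem _ (Subgroup.inv_mem _ (Subgroup.mem_sup_left hc)) h1
    have h3 : c⁻¹ * (x⁻¹ * c * x⁻¹⁻¹) ∈ Dl U1 := by
      have h4 : c⁻¹ * x⁻¹ * c⁻¹⁻¹ ∈ Dl U1 :=
        (mem_NS.1 (Subgroup.inv_mem _ (A1R1 hc)) x⁻¹).1 (Subgroup.inv_mem _ hx)
      have := Subgroup.mul_mem _ h4 hx
      convert this using 1; group
    obtain ⟨c2, hc2, w, hw, e3⟩ := na_sup A1W h2
    have h5 : c2 ∈ Dl U1 := by
      have := Subgroup.mul_mem _ h3 (Subgroup.inv_mem _ (WR1 hw))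
      rw [e3] at this
      simpa using this
    have h6 : c2 ∈ W :=
      Subgroup.mem_sup_right (h.cent_Z U1 hU1 a ha1 c2 h5 (h.na_Zp hU hc2.1 ha))
    obtain ⟨q, hq, z, hz, e4⟩ := na_sup P0Z (Subgroup.mul_mem _ h6 hw)
    refine ⟨q, hq, z, hz, ?_⟩
    rw [← e4, ← e3]; group
  -- commutators with `P0`
  have L1 : ∀ g ∈ P0, ⁅x, g⁆ ∈ A2 := by
    intro g hg
    have hn : ⁅x, g⁆ ∈ ZZ U1 := comm_mem_ZZ hx (P0R1 hg)
    refine ⟨hn, h.mem_N U hU e he e1 _ ?_⟩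
    obtain ⟨q, hq, z, hz, e5⟩ := key e ⟨he, heN⟩
    have c1 : Commute e g := h.na_Zc hU he (P0R hg)
    have c2 : Commute (q * z) g :=
      Commute.mul_left (h.na_P0c hU hU1 hne hq hg) (h.na_Zc hU1 hz (P0R1 hg))
    have c3 : Commute (x⁻¹ * e * x) g := by
      rw [e5]; exact Commute.mul_left c1 c2
    have c4 : Commute e ⁅x, g⁆ := by
      have c5 : Commute e (x * g * x⁻¹) := by
        have := c3.eq
        show e * (x * g * x⁻¹) = x * g * x⁻¹ * e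
        calc e * (x * g * x⁻¹) = x * (x⁻¹ * e * x * g) * x⁻¹ := by group
          _ = x * (g * (x⁻¹ * e * x)) * x⁻¹ := by rw [this]
          _ = x * g * x⁻¹ * e := by group
      rw [commutatorElement_def]
      exact Commute.mul_right c5 c1.inv_right
    rw [na_cj c4]; exact he
  set B : Subgroup G := P0 ⊔ A1 ⊔ A2 with hB
  have P0B : P0 ≤ B := le_sup_left.trans le_sup_left
  have A1B : A1 ≤ B := le_sup_right.trans le_sup_left
  have A2B : A2 ≤ B := le_sup_right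
  have xP : ∀ g ∈ P0, x * g * x⁻¹ ∈ B := by
    intro g hg
    have := Subgroup.mul_mem _ (A2B (L1 g hg)) (P0B hg)
    convert this using 1
    rw [commutatorElement_def]; group
  refine ⟨x * a * x⁻¹, (mem_NS.1 (h.na_Dl_NS hU1 hx) a).1 ha1, ?_, ?_⟩
  · intro hyU
    have hy1 : x * a * x⁻¹ ∈ U1 := (mem_NS.1 (h.na_Dl_NS hU1 hx) a).1 ha1
    obtain ⟨q, hq, e6⟩ := h.conj_of a (h.sub U hU ha) _ (h.sub U hU hyU) P0
      ((h.pg U hU).to_le P0R) (na_NS fun n hn => h.na_aP0 hU hU1 aN aN1 hn)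
      (mem_Dl ⟨ha, ha1⟩ ⟨hyU, hy1⟩)
    have h7 : q⁻¹ * x ∈ ZZ U1 := by
      refine h.cent_Z U1 hU1 a ha1 _ (Subgroup.mul_mem _ (Subgroup.inv_mem _ (P0R1 hq)) hx) ?_
      show q⁻¹ * x * a = a * (q⁻¹ * x)
      calc q⁻¹ * x * a = q⁻¹ * (x * a * x⁻¹) * x := by group
        _ = q⁻¹ * (q * a * q⁻¹) * x := by rw [e6]
        _ = a * (q⁻¹ * x) := by group
    apply hxW
    have := Subgroup.mul_mem W (Subgroup.mem_sup_left hq) (Subgroup.mem_sup_right h7)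
    simpa using this
  · have hy1 : x * a * x⁻¹ ∈ U1 := (mem_NS.1 (h.na_Dl_NS hU1 hx) a).1 ha1
    refine na_NS (na_conj_sup (na_conj_sup ?_ ?_) ?_)
    · intro g hg
      have hn := L1 g hg
      set n := ⁅x, g⁆ with hndef
      have cx : Commute n x := h.na_Zc hU1 hn.1 hx
      have ca : Commute n a := h.na_Zp hU1 hn.1 ha1
      have e7 : x⁻¹ * g * x = n⁻¹ * g := by
        have e8 : x * g * x⁻¹ = n * g := by rw [hndef, commutatorElement_def]; group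
        calc x⁻¹ * g * x = x⁻¹ * n⁻¹ * (n * g) * x := by group
          _ = x⁻¹ * n⁻¹ * (x * g * x⁻¹) * x := by rw [e8]
          _ = (x⁻¹ * n⁻¹ * x⁻¹⁻¹) * g := by group
          _ = n⁻¹ * g := by rw [na_cj (cx.inv_left.inv_right)]
      have e9 : x * a * x⁻¹ * g * (x * a * x⁻¹)⁻¹ =
          (x * (a * n⁻¹ * a⁻¹) * x⁻¹) * (x * (a * g * a⁻¹) * x⁻¹) := by
        calc x * a * x⁻¹ * g * (x * a * x⁻¹)⁻¹ = x * a * (x⁻¹ * g * x) * a⁻¹ * x⁻¹ := by group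
          _ = x * a * (n⁻¹ * g) * a⁻¹ * x⁻¹ := by rw [e7]
          _ = _ := by group
      rw [e9, na_cj ca.inv_left, na_cj cx.inv_left]
      exact Subgroup.mul_mem _ (Subgroup.inv_mem _ (A2B hn)) (xP _ (h.na_aP0 hU hU1 aN aN1 hg))
    · intro c hc
      obtain ⟨q, hq, z, hz, e5⟩ := key c hc
      have ca : Commute c a := h.na_Zp hU hc.1 ha
      have za : Commute z a := h.na_Zp hU1 hz ha1
      have hq' : a * q * a⁻¹ ∈ P0 := h.na_aP0 hU hU1 aN aN1 hq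
      have hqq : q⁻¹ * (a * q * a⁻¹) ∈ P0 := Subgroup.mul_mem _ (Subgroup.inv_mem _ hq) hq'
      have zq : Commute z (q⁻¹ * (a * q * a⁻¹)) := h.na_Zc hU1 hz (P0R1 hqq)
      have e10 : x * a * x⁻¹ * c * (x * a * x⁻¹)⁻¹ = c * (x * (q⁻¹ * (a * q * a⁻¹)) * x⁻¹) := by
        calc x * a * x⁻¹ * c * (x * a * x⁻¹)⁻¹ = x * a * (x⁻¹ * c * x) * a⁻¹ * x⁻¹ := by group
          _ = x * a * (c * (q * z)) * a⁻¹ * x⁻¹ := by rw [e5]
          _ = x * ((a * c * a⁻¹) * (a * q * a⁻¹) * (a * z * a⁻¹)) * x⁻¹ := by group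
          _ = x * (c * (a * q * a⁻¹) * z) * x⁻¹ := by rw [na_cj ca, na_cj za]
          _ = x * (c * q * ((q⁻¹ * (a * q * a⁻¹)) * z)) * x⁻¹ := by group
          _ = x * (c * q * (z * (q⁻¹ * (a * q * a⁻¹)))) * x⁻¹ := by rw [zq.eq]
          _ = x * (c * (q * z)) * x⁻¹ * (x * (q⁻¹ * (a * q * a⁻¹)) * x⁻¹) := by group
          _ = x * (x⁻¹ * c * x) * x⁻¹ * (x * (q⁻¹ * (a * q * a⁻¹)) * x⁻¹) := by rw [e5]
          _ = _ := by group
      rw [e10]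
      exact Subgroup.mul_mem _ (A1B hc) (xP _ hqq)
    · intro c hc
      rw [na_cj (h.na_Zp hU1 hc.1 hy1)]
      exact A2B hc

theorem BK.na_aux (k : ℕ) : ∀ U U1 : Set G, IsBlk r K U → IsBlk r K U1 →
    Nat.card G - (U ∩ U1).ncard = k → ∀ a ∈ U, a ∈ U1 → ∀ e ∈ ZZ U, e ≠ 1 → e ∈ NS U1 →
    U = U1 := by
  induction k using Nat.strong_induction_on with
  | _ k ih =>
  intro U U1 hU hU1 hk a ha ha1 e he e1 heN
  by_contra hne
  obtain ⟨f, hf, f1, hfN⟩ := h.na_symm hU hU1 hne he e1 heN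
  obtain ⟨y1, hy1, hy1n, hy1N⟩ := h.na_step hU hU1 hne ha ha1 he e1 heN
  obtain ⟨y, hy, hyn, hyN⟩ := h.na_step hU1 hU (Ne.symm hne) ha1 ha hf f1 hfN
  rw [Set.inter_comm U1 U, sup_right_comm] at hyN
  set B : Subgroup G := Dl (U ∩ U1) ⊔ (ZZ U ⊓ NS U1) ⊔ (ZZ U1 ⊓ NS U) with hB
  have eB : e ∈ B := Subgroup.mem_sup_left (Subgroup.mem_sup_right ⟨he, heN⟩)
  have fB : f ∈ B := Subgroup.mem_sup_right ⟨hf, hfN⟩
  have A1R1 : ZZ U ⊓ NS U1 ≤ NS (Dl U1 : Set G) := fun g hg => NS_le_NS_Dl U1 hg.2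
  have hT : IsPGroup r ((ZZ U ⊓ NS U1) ⊔ Dl U1 : Subgroup G) :=
    IsPGroup.to_sup_of_normal_right'
      ((h.pg U hU).to_le (inf_le_left.trans (ZZ_le U))) (h.pg U1 hU1) A1R1
  have hBp : IsPGroup r B := hT.to_le (sup_le (sup_le
    ((Dl_mono Set.inter_subset_right).trans le_sup_right) le_sup_left)
    ((inf_le_left.trans (ZZ_le U1)).trans le_sup_right))
  have ptB : ∀ b ∈ U ∩ U1, b ∈ NS (B : Set G) := by
    intro b hb
    refine na_NS (na_conj_sup (na_conj_sup ?_ ?_) ?_)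
    · intro g hg
      exact Subgroup.mem_sup_left (Subgroup.mem_sup_left
        (h.na_aP0 hU hU1 (h.na_pt_NS hU hb.1) (h.na_pt_NS hU1 hb.2) hg))
    · intro c hc
      rw [na_cj (h.na_Zp hU hc.1 hb.1)]
      exact Subgroup.mem_sup_left (Subgroup.mem_sup_right hc)
    · intro c hc
      rw [na_cj (h.na_Zp hU1 hc.1 hb.2)]
      exact Subgroup.mem_sup_right hc
  have hNne : NS (B : Set G) ≠ ⊤ := by
    intro ht
    have := h.nor B (Subgroup.normalizer_eq_top_iff.1 ht) hBp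
    rw [this] at eB
    exact e1 (Subgroup.mem_bot.1 eB)
  obtain ⟨V, hV, hBV, hKV⟩ := h.fl _ hNne a (h.sub U hU ha) (ptB a ⟨ha, ha1⟩) B hBp
    Subgroup.le_normalizer (ptB a ⟨ha, ha1⟩)
  have SV : U ∩ U1 ⊆ V := fun b hb => hKV ⟨h.sub U hU hb.1, ptB b hb⟩
  have yV : y ∈ V := hKV ⟨h.sub U hU hy, hyN⟩
  have y1V : y1 ∈ V := hKV ⟨h.sub U1 hU1 hy1, hy1N⟩
  have aV : a ∈ V := SV ⟨ha, ha1⟩
  have l1 : (U ∩ U1).ncard < (U ∩ V).ncard := by
    refine Set.ncard_lt_ncard ⟨fun b hb => ⟨hb.1, SV hb⟩, fun hs => hyn (hs ⟨hy, yV⟩).2⟩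
      (Set.toFinite _)
  have l2 : (U ∩ U1).ncard < (U1 ∩ V).ncard := by
    refine Set.ncard_lt_ncard ⟨fun b hb => ⟨hb.2, SV hb⟩, fun hs => hy1n (hs ⟨hy1, y1V⟩).1⟩
      (Set.toFinite _)
  have b1 := Set.ncard_le_card (U ∩ V)
  have b2 := Set.ncard_le_card (U1 ∩ V)
  have E1 : U = V := ih _ (by omega) U V hU hV rfl a ha aV e he e1 (hBV eB)
  have E2 : U1 = V := ih _ (by omega) U1 V hU1 hV rfl a ha1 aV f hf f1 (hBV fB)
  exact hne (E1.trans E2.symm)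

theorem BK.na : NA r K := fun U U1 hU hU1 a ha ha1 e he e1 heN =>
  h.na_aux _ U U1 hU hU1 rfl a ha ha1 e he e1 heN

end

end CfsgQ
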