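import Cfsg.Agent.H2.SpCenter
import Cfsg.Agent.H7.SpecBasic

/-! The prime graph of `PSp(6,3)`. -/

set_option autoImplicit false

namespace CfsgH2

namespace Sp63

open Matrix

/-- six by six matrices over the field with three elements -/
abbrev M6 : Type := Matrix (Fin 3 ⊕ Fin 3) (Fin 3 ⊕ Fin 3) (ZMod 3)

/-- explicit matrix -/
def m30p1 : M6 :=
  Matrix.fromBlocks !![0, 2, 0; 2, 1, 1; 2, 2, 0] !![0, 0, 0; 2, 0, 0; 2, 0, 0]
    !![2, 0, 0; 0, 0, 0; 0, 2, 0] !![0, 2, 2; 0, 0, 1; 2, 0, 2]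

/-- explicit matrix -/
def m30p2 : M6 :=
  Matrix.fromBlocks !![1, 2, 2; 2, 1, 1; 2, 0, 2] !![1, 0, 0; 1, 1, 1; 1, 1, 1]
    !![0, 2, 0; 0, 2, 0; 2, 0, 2] !![1, 0, 0; 2, 0, 2; 2, 1, 2]

/-- explicit matrix -/
def m30p3 : M6 :=
  Matrix.fromBlocks !![1, 2, 2; 0, 0, 1; 0, 1, 0] !![2, 2, 2; 0, 2, 2; 0, 2, 2]
    !![0, 2, 2; 2, 0, 2; 2, 0, 0] !![1, 2, 2; 2, 1, 2; 2, 1, 0]

/-- explicit matrix -/
def m30p5 : M6 :=
  Matrix.fromBlocks !![1, 0, 0; 0, 1, 0; 0, 2, 2] !![0, 0, 0; 0, 0, 0; 0, 0, 0]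
    !![0, 2, 1; 1, 1, 0; 2, 1, 1] !![1, 0, 0; 0, 1, 2; 0, 0, 2]

/-- explicit matrix -/
def m30p6 : M6 :=
  Matrix.fromBlocks !![0, 2, 0; 2, 1, 1; 2, 0, 2] !![0, 0, 0; 2, 0, 0; 2, 0, 0]
    !![2, 1, 2; 2, 1, 1; 1, 2, 1] !![0, 2, 2; 0, 0, 2; 2, 0, 1]

/-- explicit matrix -/
def m30p10 : M6 :=
  Matrix.fromBlocks !![1, 0, 0; 0, 1, 0; 0, 0, 1] !![0, 0, 0; 0, 0, 0; 0, 0, 0]
    !![0, 0, 0; 0, 1, 2; 0, 2, 1] !![1, 0, 0; 0, 1, 0; 0, 0, 1]

/-- explicit matrix -/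
def m30p15 : M6 :=
  Matrix.fromBlocks !![1, 0, 0; 0, 1, 0; 0, 2, 2] !![0, 0, 0; 0, 0, 0; 0, 0, 0]
    !![0, 2, 1; 1, 0, 1; 2, 2, 0] !![1, 0, 0; 0, 1, 2; 0, 0, 2]

/-- explicit matrix -/
def m30p30 : M6 :=
  Matrix.fromBlocks !![1, 0, 0; 0, 1, 0; 0, 0, 1] !![0, 0, 0; 0, 0, 0; 0, 0, 0]
    !![0, 0, 0; 0, 0, 0; 0, 0, 0] !![1, 0, 0; 0, 1, 0; 0, 0, 1]

theorem m30_mem : m30p1 ∈ Matrix.symplecticGroup (Fin 3) (ZMod 3) := by
  rw [SymplecticGroup.mem_iff]
  decide +kernel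

theorem m30_pow1 : m30p1 ^ 1 = m30p1 := pow_one _

theorem m30_pow2 : m30p1 ^ 2 = m30p2 := by
  have h : m30p1 ^ 2 = m30p1 ^ 1 * m30p1 ^ 1 := pow_add _ 1 1
  rw [h, m30_pow1]
  decide +kernel

theorem m30_pow3 : m30p1 ^ 3 = m30p3 := by
  have h : m30p1 ^ 3 = m30p1 ^ 2 * m30p1 ^ 1 := pow_add _ 2 1
  rw [h, m30_pow2, m30_pow1]
  decide +kernel

theorem m30_pow5 : m30p1 ^ 5 = m30p5 := by
  have h : m30p1 ^ 5 = m30p1 ^ 3 * m30p1 ^ 2 := pow_add _ 3 2
  rw [h, m30_pow3, m30_pow2]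
  decide +kernel

theorem m30_pow6 : m30p1 ^ 6 = m30p6 := by
  have h : m30p1 ^ 6 = m30p1 ^ 3 * m30p1 ^ 3 := pow_add _ 3 3
  rw [h, m30_pow3]
  decide +kernel

theorem m30_pow10 : m30p1 ^ 10 = m30p10 := by
  have h : m30p1 ^ 10 = m30p1 ^ 5 * m30p1 ^ 5 := pow_add _ 5 5
  rw [h, m30_pow5]
  decide +kernel

theorem m30_pow15 : m30p1 ^ 15 = m30p15 := by
  have h : m30p1 ^ 15 = m30p1 ^ 10 * m30p1 ^ 5 := pow_add _ 10 5
  rw [h, m30_pow10, m30_pow5]
  decide +kernel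

theorem m30_pow30 : m30p1 ^ 30 = m30p30 := by
  have h : m30p1 ^ 30 = m30p1 ^ 15 * m30p1 ^ 15 := pow_add _ 15 15
  rw [h, m30_pow15]
  decide +kernel

/-- explicit matrix -/
def m14p1 : M6 :=
  Matrix.fromBlocks !![0, 0, 0; 1, 0, 0; 0, 1, 0] !![0, 0, 1; 1, 0, 0; 0, 1, 2]
    !![0, 0, 2; 1, 2, 0; 2, 0, 0] !![0, 1, 2; 2, 2, 1; 2, 1, 0]

/-- explicit matrix -/
def m14p2 : M6 :=
  Matrix.fromBlocks !![2, 0, 0; 0, 0, 2; 0, 2, 0] !![2, 1, 0; 0, 1, 0; 1, 1, 1]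
    !![2, 1, 0; 0, 1, 1; 1, 2, 1] !![0, 0, 2; 2, 1, 1; 2, 1, 1]

/-- explicit matrix -/
def m14p3 : M6 :=
  Matrix.fromBlocks !![1, 2, 1; 1, 1, 0; 2, 2, 2] !![2, 1, 1; 2, 1, 2; 0, 1, 0]
    !![2, 0, 0; 1, 0, 1; 2, 0, 1] !![2, 2, 2; 2, 0, 1; 0, 0, 2]

/-- explicit matrix -/
def m14p4 : M6 :=
  Matrix.fromBlocks !![2, 0, 1; 0, 2, 1; 0, 1, 0] !![0, 0, 2; 1, 0, 0; 1, 1, 1]
    !![0, 1, 1; 2, 1, 1; 1, 1, 0] !![2, 2, 2; 2, 1, 1; 1, 0, 1]

/-- explicit matrix -/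
def m14p7 : M6 :=
  Matrix.fromBlocks !![2, 0, 0; 0, 1, 2; 0, 1, 2] !![1, 0, 0; 0, 2, 0; 0, 0, 1]
    !![1, 0, 0; 0, 1, 0; 0, 0, 2] !![1, 0, 0; 0, 2, 2; 0, 1, 1]

/-- explicit matrix -/
def m14p14 : M6 :=
  Matrix.fromBlocks !![2, 0, 0; 0, 2, 0; 0, 0, 2] !![0, 0, 0; 0, 0, 0; 0, 0, 0]
    !![0, 0, 0; 0, 0, 0; 0, 0, 0] !![2, 0, 0; 0, 2, 0; 0, 0, 2]

theorem m14_mem : m14p1 ∈ Matrix.symplecticGroup (Fin 3) (ZMod 3) := by
  rw [SymplecticGroup.mem_iff]
  decide +kernel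

theorem m14_pow1 : m14p1 ^ 1 = m14p1 := pow_one _

theorem m14_pow2 : m14p1 ^ 2 = m14p2 := by
  have h : m14p1 ^ 2 = m14p1 ^ 1 * m14p1 ^ 1 := pow_add _ 1 1
  rw [h, m14_pow1]
  decide +kernel

theorem m14_pow3 : m14p1 ^ 3 = m14p3 := by
  have h : m14p1 ^ 3 = m14p1 ^ 2 * m14p1 ^ 1 := pow_add _ 2 1
  rw [h, m14_pow2, m14_pow1]
  decide +kernel

theorem m14_pow4 : m14p1 ^ 4 = m14p4 := by
  have h : m14p1 ^ 4 = m14p1 ^ 2 * m14p1 ^ 2 := pow_add _ 2 2
  rw [h, m14_pow2]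
  decide +kernel

theorem m14_pow7 : m14p1 ^ 7 = m14p7 := by
  have h : m14p1 ^ 7 = m14p1 ^ 4 * m14p1 ^ 3 := pow_add _ 4 3
  rw [h, m14_pow4, m14_pow3]
  decide +kernel

theorem m14_pow14 : m14p1 ^ 14 = m14p14 := by
  have h : m14p1 ^ 14 = m14p1 ^ 7 * m14p1 ^ 7 := pow_add _ 7 7
  rw [h, m14_pow7]
  decide +kernel

/-- explicit matrix -/
def m13p1 : M6 :=
  Matrix.fromBlocks !![0, 2, 0; 0, 1, 1; 0, 1, 1] !![1, 2, 1; 0, 0, 0; 1, 0, 0]
    !![0, 0, 2; 1, 2, 0; 2, 0, 1] !![0, 0, 0; 0, 1, 0; 0, 0, 0]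

/-- explicit matrix -/
def m13p2 : M6 :=
  Matrix.fromBlocks !![1, 0, 2; 0, 2, 2; 0, 2, 1] !![0, 2, 0; 1, 0, 0; 1, 0, 0]
    !![0, 2, 2; 1, 0, 2; 0, 2, 1] !![2, 0, 0; 1, 0, 1; 0, 1, 2]

/-- explicit matrix -/
def m13p3 : M6 :=
  Matrix.fromBlocks !![2, 2, 2; 0, 1, 0; 0, 0, 2] !![0, 1, 1; 2, 0, 0; 1, 0, 0]
    !![0, 1, 2; 2, 1, 2; 2, 2, 2] !![2, 0, 0; 0, 2, 1; 1, 1, 0]

/-- explicit matrix -/
def m13p6 : M6 :=
  Matrix.fromBlocks !![2, 0, 0; 0, 0, 1; 0, 1, 0] !![1, 2, 0; 0, 0, 0; 1, 0, 0]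
    !![0, 0, 2; 1, 0, 2; 0, 2, 0] !![2, 0, 0; 2, 1, 1; 2, 1, 0]

/-- explicit matrix -/
def m13p12 : M6 :=
  Matrix.fromBlocks !![0, 0, 0; 0, 1, 0; 0, 0, 0] !![2, 0, 2; 1, 0, 0; 2, 0, 0]
    !![0, 2, 1; 0, 1, 0; 1, 0, 2] !![0, 0, 0; 2, 1, 1; 0, 1, 1]

/-- explicit matrix -/
def m13p13 : M6 :=
  Matrix.fromBlocks !![1, 0, 0; 0, 1, 0; 0, 0, 1] !![0, 0, 0; 0, 0, 0; 0, 0, 0]
    !![0, 0, 0; 0, 0, 0; 0, 0, 0] !![1, 0, 0; 0, 1, 0; 0, 0, 1]

theorem m13_mem : m13p1 ∈ Matrix.symplecticGroup (Fin 3) (ZMod 3) := by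
  rw [SymplecticGroup.mem_iff]
  decide +kernel

theorem m13_pow1 : m13p1 ^ 1 = m13p1 := pow_one _

theorem m13_pow2 : m13p1 ^ 2 = m13p2 := by
  have h : m13p1 ^ 2 = m13p1 ^ 1 * m13p1 ^ 1 := pow_add _ 1 1
  rw [h, m13_pow1]
  decide +kernel

theorem m13_pow3 : m13p1 ^ 3 = m13p3 := by
  have h : m13p1 ^ 3 = m13p1 ^ 2 * m13p1 ^ 1 := pow_add _ 2 1
  rw [h, m13_pow2, m13_pow1]
  decide +kernel

theorem m13_pow6 : m13p1 ^ 6 = m13p6 := by
  have h : m13p1 ^ 6 = m13p1 ^ 3 * m13p1 ^ 3 := pow_add _ 3 3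
  rw [h, m13_pow3]
  decide +kernel

theorem m13_pow12 : m13p1 ^ 12 = m13p12 := by
  have h : m13p1 ^ 12 = m13p1 ^ 6 * m13p1 ^ 6 := pow_add _ 6 6
  rw [h, m13_pow6]
  decide +kernel

theorem m13_pow13 : m13p1 ^ 13 = m13p13 := by
  have h : m13p1 ^ 13 = m13p1 ^ 12 * m13p1 ^ 1 := pow_add _ 12 1
  rw [h, m13_pow12, m13_pow1]
  decide +kernel

variable {F : Type*} [Field F] [Fintype F]

theorem exists_orderOf (hF : Fintype.card F = 3) (A : M6)
    (hA : A ∈ Matrix.symplecticGroup (Fin 3) (ZMod 3)) (N : ℕ) (hN : 0 < N)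
    (h1 : A ^ N = 1 ∨ A ^ N = -1)
    (h2 : ∀ p : ℕ, p.Prime → p ∣ N → ¬ (A ^ (N / p) = 1 ∨ A ^ (N / p) = -1)) :
    ∃ g : Cfsg.PSp 3 F, orderOf g = N := by
  let φ : ZMod 3 ≃+* F := ZMod.ringEquivOfPrime F Nat.prime_three hF
  have hinj : Function.Injective (fun M : M6 => M.map φ) := Matrix.map_injective φ.injective
  let g : Matrix.symplecticGroup (Fin 3) F := ⟨A.map φ, SymplecticGroup.map_mem hA φ⟩
  have key : ∀ k : ℕ, (QuotientGroup.mk g : Cfsg.PSp 3 F) ^ k = 1 ↔ A ^ k = 1 ∨ A ^ k = -1 := by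
    intro k
    rw [psp_mk_pow_eq_one_iff, ← hinj.eq_iff, ← hinj.eq_iff (a := A ^ k)]
    have e1 : g.1 ^ k = (A ^ k).map φ := (Matrix.map_pow A (φ : ZMod 3 →+* F) k).symm
    have e2 : (1 : M6).map φ = 1 := Matrix.map_one _ (map_zero _) (map_one _)
    have e3 : (-1 : M6).map φ = -1 := by rw [Matrix.map_neg _ (map_neg φ), e2]
    simp only [e1, e2, e3]
  exact ⟨QuotientGroup.mk g, orderOf_eq_of_pow_and_pow_div_prime hN ((key N).mpr h1)
    fun p hp hd h => h2 p hp hd ((key _).mp h)⟩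

theorem exists_orderOf_30 (hF : Fintype.card F = 3) : ∃ g : Cfsg.PSp 3 F, orderOf g = 30 := by
  apply exists_orderOf hF m30p1 m30_mem 30 (by norm_num)
  · rw [m30_pow30]; decide +kernel
  · intro p hp hd
    have : p = 2 ∨ p = 3 ∨ p = 5 := by
      have := Nat.le_of_dvd (by norm_num) hd
      interval_cases p <;> first | omega | (exfalso; revert hp; norm_num)
    rcases this with rfl | rfl | rfl
    · rw [show 30 / 2 = 15 from rfl, m30_pow15]; decide +kernel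
    · rw [show 30 / 3 = 10 from rfl, m30_pow10]; decide +kernel
    · rw [show 30 / 5 = 6 from rfl, m30_pow6]; decide +kernel

theorem exists_orderOf_14 (hF : Fintype.card F = 3) : ∃ g : Cfsg.PSp 3 F, orderOf g = 14 := by
  apply exists_orderOf hF m14p1 m14_mem 14 (by norm_num)
  · rw [m14_pow14]; decide +kernel
  · intro p hp hd
    have : p = 2 ∨ p = 7 := by
      have := Nat.le_of_dvd (by norm_num) hd
      interval_cases p <;> first | omega | (exfalso; revert hp; norm_num)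
    rcases this with rfl | rfl
    · rw [show 14 / 2 = 7 from rfl, m14_pow7]; decide +kernel
    · rw [show 14 / 7 = 2 from rfl, m14_pow2]; decide +kernel

theorem exists_orderOf_13 (hF : Fintype.card F = 3) : ∃ g : Cfsg.PSp 3 F, orderOf g = 13 := by
  apply exists_orderOf hF m13p1 m13_mem 13 (by norm_num)
  · rw [m13_pow13]; decide +kernel
  · intro p hp hd
    have : p = 13 := (Nat.prime_dvd_prime_iff_eq hp (by norm_num)).mp hd
    subst this
    rw [show 13 / 13 = 1 from rfl, m13_pow1]; decide +kernel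

theorem natCast_ne_zero (hF : Fintype.card F = 3) {N : ℕ} (hN : ¬ 3 ∣ N) : (N : F) ≠ 0 := by
  have : CharP F 3 := charP_of_card_eq_prime hF
  rwa [Ne, CharP.cast_eq_zero_iff F 3]

/-- Lifting an element of `PSp` to a symplectic matrix. -/
theorem exists_lift (x : Cfsg.PSp 3 F) : ∃ A ∈ Matrix.symplecticGroup (Fin 3) F,
    ∀ k : ℕ, x ^ k = 1 ↔ A ^ k = 1 ∨ A ^ k = -1 := by
  obtain ⟨g, rfl⟩ := QuotientGroup.mk_surjective x
  exact ⟨g.1, g.2, psp_mk_pow_eq_one_iff g⟩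

/-- Lifting an element of odd order. -/
theorem exists_lift_odd (x : Cfsg.PSp 3 F) (hx : Odd (orderOf x)) :
    ∃ A ∈ Matrix.symplecticGroup (Fin 3) F, A ^ orderOf x = 1 ∧
      ∀ k : ℕ, A ^ k = 1 → orderOf x ∣ k := by
  obtain ⟨A, hA, h⟩ := exists_lift x
  refine ⟨A ^ 2, pow_mem hA 2, ?_, ?_⟩
  · rw [← pow_mul, mul_comm, pow_mul]
    rcases (h _).mp (pow_orderOf_eq_one x) with h | h <;> simp [h]
  · intro k hk
    rw [← pow_mul] at hk
    have := orderOf_dvd_of_pow_eq_one ((h _).mpr (Or.inl hk))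
    exact (Nat.coprime_two_right.mpr hx).dvd_of_dvd_mul_left this

theorem exists_eig_orderOf (hF : Fintype.card F = 3) {A : Matrix (Fin 3 ⊕ Fin 3) (Fin 3 ⊕ Fin 3) F}
    {p : ℕ} (hp : p.Prime) (hp3 : p ≠ 3) (h1 : A ^ p = 1) (h2 : A ≠ 1) :
    ∃ x, IsEig (A.map (algebraMap F (AlgebraicClosure F))) x ∧ orderOf x = p := by
  have := Fact.mk hp
  by_contra h
  push Not at h
  apply h2
  have := pow_eq_smul_of_forall_isEig' (A := A) (N := p) (k := 1) (c := 1)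
    (natCast_ne_zero hF (fun h => hp3 ((Nat.prime_dvd_prime_iff_eq Nat.prime_three hp).mp h).symm))
    h1 (fun x hx => by
      rw [pow_one, map_one]
      by_contra hx1
      exact h x hx (orderOf_eq_prime (hx.pow_eq_one (by rw [← Matrix.map_pow, h1]; simp)) hx1))
  simpa using this

theorem prime_orderOf (hF : Fintype.card F = 3) (x : Cfsg.PSp 3 F) {p : ℕ} (hp : p.Prime)
    (hx : orderOf x = p) : p = 2 ∨ p = 3 ∨ p = 5 ∨ p = 7 ∨ p = 13 := by
  classical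
  by_cases h2 : p = 2
  · exact Or.inl h2
  by_cases h3 : p = 3
  · exact Or.inr (Or.inl h3)
  right; right
  obtain ⟨A, hA, h4, h5⟩ := exists_lift_odd x (hx ▸ hp.odd_of_ne_two h2)
  rw [hx] at h4 h5
  obtain ⟨y, hy, hyp⟩ := exists_eig_orderOf hF hp h3 h4 (by
    rintro rfl
    exact hp.one_lt.ne' (Nat.dvd_one.mp (h5 1 (one_pow _))))
  have h11 : p ≠ 11 := by
    rintro rfl
    have := hy.card_orbExp_le hA (by norm_num) hyp
    rw [hF] at this
    revert this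
    decide +kernel
  have hcard := card_le_of_isEig (A := A.map (algebraMap F (AlgebraicClosure F)))
    ((Finset.range 7).image (fun i => y ^ 3 ^ i)) (by
      intro z hz
      obtain ⟨i, -, rfl⟩ := Finset.mem_image.mp hz
      have := hy.pow_card_pow i
      rwa [hF] at this)
  have hninj : ¬ Set.InjOn (fun i => y ^ 3 ^ i) (Finset.range 7) := by
    intro h
    rw [Finset.card_image_of_injOn h] at hcard
    simp at hcard
  have key : ∀ i j : ℕ, i < j → j < 7 → y ^ 3 ^ i = y ^ 3 ^ j → p = 5 ∨ p = 7 ∨ p = 13 := by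
    intro i j hij hj h
    rw [(orderOf_pos_iff.mp (hyp ▸ hp.pos)).pow_eq_pow_iff_modEq, hyp] at h
    obtain ⟨d, rfl⟩ := Nat.exists_eq_add_of_lt hij
    have h6 : p ∣ 3 ^ (i + d + 1) - 3 ^ i :=
      (Nat.modEq_iff_dvd' (Nat.pow_le_pow_right (by norm_num) hij.le)).mp h
    have h7 : 3 ^ (i + d + 1) - 3 ^ i = 3 ^ i * (3 ^ (d + 1) - 1) := by
      rw [Nat.mul_sub_one, ← pow_add, add_assoc]
    rw [h7, hp.dvd_mul] at h6
    rcases h6 with h6 | h6
    · exact absurd ((Nat.prime_dvd_prime_iff_eq hp Nat.prime_three).mp (hp.dvd_of_dvd_pow h6)) h3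
    · have h8 : 3 ^ (d + 1) - 1 ∣ 2 ^ 4 * 5 * 7 * 11 ^ 2 * 13 := by
        have : d < 6 := by omega
        interval_cases d <;> norm_num
      have h9 := h6.trans h8
      simp only [hp.dvd_mul] at h9
      rcases h9 with (((h | h) | h) | h) | h
      · exact absurd ((Nat.prime_dvd_prime_iff_eq hp Nat.prime_two).mp (hp.dvd_of_dvd_pow h)) h2
      · exact Or.inl ((Nat.prime_dvd_prime_iff_eq hp (by norm_num)).mp h)
      · exact Or.inr (Or.inl ((Nat.prime_dvd_prime_iff_eq hp (by norm_num)).mp h))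
      · exact absurd ((Nat.prime_dvd_prime_iff_eq hp (by norm_num)).mp (hp.dvd_of_dvd_pow h)) h11
      · exact Or.inr (Or.inr ((Nat.prime_dvd_prime_iff_eq hp (by norm_num)).mp h))
  by_contra hne
  apply hninj
  intro i hi j hj hij
  simp only [Finset.coe_range, Set.mem_Iio] at hi hj
  rcases lt_trichotomy i j with h | h | h
  · exact absurd (key i j h hj hij) hne
  · exact h
  · exact absurd (key j i h hi hij.symm) hne

theorem not_orderOf_semisimple (hF : Fintype.card F = 3) (x : Cfsg.PSp 3 F) {r s : ℕ}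
    (hr : r.Prime) (hs : s.Prime) (hodd : Odd (r * s)) (h3 : ¬ 3 ∣ r * s)
    (hrs : 6 < (orbExp 3 (r * s)).card) (hs6 : (orbExp 3 s).card = 6) : orderOf x ≠ r * s := by
  intro hx
  obtain ⟨A, hA, h4, h5⟩ := exists_lift_odd x (hx ▸ hodd)
  rw [hx] at h4 h5
  have hN := natCast_ne_zero hF h3
  by_cases hy : ∃ y, IsEig (A.map (algebraMap F (AlgebraicClosure F))) y ∧ orderOf y = s
  · obtain ⟨y, hy, hys⟩ := hy
    have := pow_eq_smul_of_forall_isEig' (k := s) (c := 1) hN h4 (fun z hz => by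
      obtain ⟨e, -, rfl⟩ := hy.exists_eq_pow hA hs.pos hys (by rw [hF, hs6]; simp) hz
      rw [← pow_mul, mul_comm, pow_mul, ← hys, pow_orderOf_eq_one, one_pow, map_one])
    have h6 := h5 s (by simpa using this)
    have h7 : r * s ∣ 1 * s := by simpa using h6
    exact hr.one_lt.ne' (Nat.dvd_one.mp (Nat.dvd_of_mul_dvd_mul_right hs.pos h7))
  · push Not at hy
    have := pow_eq_smul_of_forall_isEig' (k := r) (c := 1) hN h4 (fun z hz => by
      have h6 : orderOf z ∣ r * s :=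
        orderOf_dvd_of_pow_eq_one (hz.pow_eq_one (by rw [← Matrix.map_pow, h4]; simp))
      rw [map_one, ← orderOf_dvd_iff_pow_eq_one]
      obtain ⟨a, b, ha, hb, hab⟩ := (Nat.dvd_mul.mp h6)
      rcases (Nat.dvd_prime hs).mp hb with rfl | rfl
      · rwa [← hab, mul_one]
      · rcases (Nat.dvd_prime hr).mp ha with rfl | rfl
        · exact absurd (by rw [← hab, one_mul]) (hy z hz)
        · have := hz.card_orbExp_le hA (mul_pos hr.pos hs.pos) hab.symm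
          rw [hF] at this
          simp at this
          omega)
    have h6 := h5 r (by simpa using this)
    have h7 : r * s ∣ r * 1 := by simpa using h6
    exact hs.one_lt.ne' (Nat.dvd_one.mp (Nat.dvd_of_mul_dvd_mul_left hr.pos h7))

theorem not_orderOf_three_mul (hF : Fintype.card F = 3) (x : Cfsg.PSp 3 F) {s : ℕ}
    (hs : s.Prime) (hodd : Odd (3 * s)) (h3 : s ≠ 3) (hs6 : (orbExp 3 s).card = 6) :
    orderOf x ≠ 3 * s := by
  intro hx
  have : CharP F 3 := charP_of_card_eq_prime hF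
  have : Fact (Nat.Prime 3) := ⟨Nat.prime_three⟩
  obtain ⟨A, hA, h4, h5⟩ := exists_lift_odd x (hx ▸ hodd)
  rw [hx] at h4 h5
  obtain ⟨y, hy, hys⟩ := exists_eig_orderOf hF (A := A ^ 3) hs h3 (by rw [← pow_mul, h4]) (by
    intro h
    have h7 : 3 * s ∣ 3 * 1 := by simpa using h5 3 h
    exact hs.one_lt.ne' (Nat.dvd_one.mp (Nat.dvd_of_mul_dvd_mul_left (by norm_num) h7)))
  have h6 := hy.eq_zero_of_commute (pow_mem hA 3) hs.pos hys (by rw [hF, hs6]; simp)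
    (B := A ^ s - 1) (by rw [mul_sub, sub_mul, mul_one, one_mul, ← pow_add, ← pow_add, add_comm])
    (j := 3) (by
      rw [sub_pow_char_of_commute 3 (Commute.one_right _), ← pow_mul, mul_comm, h4, one_pow,
        sub_self])
  have h7 : 3 * s ∣ 1 * s := by simpa using h5 s (sub_eq_zero.mp h6)
  exact absurd (Nat.dvd_of_mul_dvd_mul_right hs.pos h7) (by norm_num)

theorem not_orderOf_26 (hF : Fintype.card F = 3) (x : Cfsg.PSp 3 F) : orderOf x ≠ 26 := by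
  intro hx
  obtain ⟨A, hA, h⟩ := exists_lift x
  have h4 : A ^ 52 = 1 := by
    rw [show 52 = 26 * 2 from rfl, pow_mul]
    rcases (h 26).mp (hx ▸ pow_orderOf_eq_one x) with h | h <;> simp [h]
  have hN := natCast_ne_zero hF (N := 52) (by norm_num)
  by_cases hy : ∃ y, IsEig (A.map (algebraMap F (AlgebraicClosure F))) y ∧
      (orderOf y = 13 ∨ orderOf y = 26)
  · obtain ⟨y, hy, hys | hys⟩ := hy
    · have := pow_eq_smul_of_forall_isEig' (k := 13) (c := 1) hN h4 (fun z hz => by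
        obtain ⟨e, -, rfl⟩ := hy.exists_eq_pow hA (by norm_num) hys
          (by rw [hF]; decide +kernel) hz
        rw [← pow_mul, mul_comm, pow_mul, ← hys, pow_orderOf_eq_one, one_pow, map_one])
      have h6 := orderOf_dvd_of_pow_eq_one ((h 13).mpr (Or.inl (by simpa using this)))
      rw [hx] at h6
      exact absurd h6 (by norm_num)
    · have h13 : y ^ 13 = -1 := by
        have h1 : y ^ 13 * y ^ 13 = 1 := by
          rw [← pow_add, show 13 + 13 = orderOf y from hys.symm, pow_orderOf_eq_one]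
        refine (mul_self_eq_one_iff.mp h1).resolve_left (fun h2 => ?_)
        have := orderOf_dvd_of_pow_eq_one h2
        rw [hys] at this
        exact absurd this (by norm_num)
      have := pow_eq_smul_of_forall_isEig' (k := 13) (c := -1) hN h4 (fun z hz => by
        obtain ⟨e, he, rfl⟩ := hy.exists_eq_pow hA (by norm_num) hys
          (by rw [hF]; decide +kernel) hz
        have hodd : ∀ e ∈ orbExp 3 26, Odd e := by decide +kernel
        rw [hF] at he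
        rw [← pow_mul, mul_comm, pow_mul, h13, (hodd e he).neg_one_pow, map_neg, map_one])
      have h6 := orderOf_dvd_of_pow_eq_one ((h 13).mpr (Or.inr (by simpa using this)))
      rw [hx] at h6
      exact absurd h6 (by norm_num)
  · push Not at hy
    have := pow_eq_smul_of_forall_isEig' (k := 4) (c := 1) hN h4 (fun z hz => by
      have h6 : orderOf z ∣ 52 :=
        orderOf_dvd_of_pow_eq_one (hz.pow_eq_one (by rw [← Matrix.map_pow, h4]; simp))
      rw [map_one, ← orderOf_dvd_iff_pow_eq_one]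
      have h7 := hy z hz
      have h8 : orderOf z ≠ 52 := by
        intro h8
        have := hz.card_orbExp_le hA (by norm_num) h8
        rw [hF] at this
        revert this
        decide +kernel
      have h9 : orderOf z ∈ Nat.divisors 52 := Nat.mem_divisors.mpr ⟨h6, by norm_num⟩
      have h10 : Nat.divisors 52 = {1, 2, 4, 13, 26, 52} := by decide +kernel
      rw [h10] at h9
      simp only [Finset.mem_insert, Finset.mem_singleton] at h9
      rcases h9 with h | h | h | h | h | h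
      · rw [h]; norm_num
      · rw [h]; norm_num
      · rw [h]
      · exact absurd h h7.1
      · exact absurd h h7.2
      · exact absurd h h8)
    have h6 := orderOf_dvd_of_pow_eq_one ((h 4).mpr (Or.inl (by simpa using this)))
    rw [hx] at h6
    exact absurd h6 (by norm_num)

theorem prime_dvd_card_iff (hF : Fintype.card F = 3) {p : ℕ} (hp : p.Prime) :
    p ∣ Nat.card (Cfsg.PSp 3 F) ↔ p = 2 ∨ p = 3 ∨ p = 5 ∨ p = 7 ∨ p = 13 := by
  rw [CfsgH7.prime_dvd_card_iff_mem_spec hp]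
  constructor
  · rintro ⟨x, hx⟩
    exact prime_orderOf hF x hp hx
  · rintro (rfl | rfl | rfl | rfl | rfl)
    · exact CfsgH7.spec_dvd_closed (exists_orderOf_30 hF) (by norm_num)
    · exact CfsgH7.spec_dvd_closed (exists_orderOf_30 hF) (by norm_num)
    · exact CfsgH7.spec_dvd_closed (exists_orderOf_30 hF) (by norm_num)
    · exact CfsgH7.spec_dvd_closed (exists_orderOf_14 hF) (by norm_num)
    · exact exists_orderOf_13 hF

theorem edge_iff (hF : Fintype.card F = 3) {p q : ℕ} (hp : p.Prime) (hq : q.Prime) (hpq : p ≠ q) :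
    (∃ g : Cfsg.PSp 3 F, orderOf g = p * q) ↔
      p * q = 6 ∨ p * q = 10 ∨ p * q = 14 ∨ p * q = 15 := by
  constructor
  · rintro ⟨x, hx⟩
    obtain ⟨y, hy⟩ := CfsgH7.exists_orderOf_of_dvd' x (d := p) (hx ▸ Dvd.intro _ rfl)
    obtain ⟨z, hz⟩ := CfsgH7.exists_orderOf_of_dvd' x (d := q) (hx ▸ Dvd.intro_left _ rfl)
    have h21 := not_orderOf_three_mul hF x (s := 7) (by norm_num) (by decide) (by norm_num)
      (by decide +kernel)
    have h39 := not_orderOf_three_mul hF x (s := 13) (by norm_num) (by decide) (by norm_num)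
      (by decide +kernel)
    have h26 := not_orderOf_26 hF x
    have h35 := not_orderOf_semisimple hF x (r := 5) (s := 7) (by norm_num) (by norm_num)
      (by decide) (by norm_num) (by decide +kernel) (by decide +kernel)
    have h65 := not_orderOf_semisimple hF x (r := 5) (s := 13) (by norm_num) (by norm_num)
      (by decide) (by norm_num) (by decide +kernel) (by decide +kernel)
    have h91 := not_orderOf_semisimple hF x (r := 7) (s := 13) (by norm_num) (by norm_num)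
      (by decide) (by norm_num) (by decide +kernel) (by decide +kernel)
    rw [hx] at h21 h39 h26 h35 h65 h91
    rcases prime_orderOf hF y hp hy with rfl | rfl | rfl | rfl | rfl <;>
      rcases prime_orderOf hF z hq hz with rfl | rfl | rfl | rfl | rfl <;> omega
  · rintro (h | h | h | h) <;> rw [h]
    · exact CfsgH7.spec_dvd_closed (exists_orderOf_30 hF) (by norm_num)
    · exact CfsgH7.spec_dvd_closed (exists_orderOf_30 hF) (by norm_num)
    · exact exists_orderOf_14 hF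
    · exact CfsgH7.spec_dvd_closed (exists_orderOf_30 hF) (by norm_num)

end Sp63

end CfsgH2
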