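import Cfsg.Agent.H1.L43Good
import Cfsg.Agent.H2.T3Def

/-! The symplectic space of `3^{1+4}` with `SL₂(3)` or `SL₂(3) × 2` on top. -/

set_option autoImplicit false
set_option linter.unusedSectionVars false

namespace CfsgH2.T3

open Subgroup CfsgH5 CfsgH6 CfsgFT CfsgH9 CfsgH9.P43 CfsgH7 Matrix
open CfsgH1.L43 hiding Loc0 Sym Pair Gen Loc Co

universe u

variable {G : Type u} [Group G]

/-- `(π, ε)` induces `C(z)/Q ≅ SL₂(3)` or `SL₂(3) × 2` -/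
structure Pi2 (z : G) (π : G → SL23) (ε : G → ℤˣ) : Prop where
  mul : ∀ a ∈ C1 z, ∀ b ∈ C1 z, π (a * b) = π a * π b
  mul' : ∀ a ∈ C1 z, ∀ b ∈ C1 z, ε (a * b) = ε a * ε b
  surj : ∀ s, ∃ g ∈ C1 z, π g = s ∧ ε g = 1
  ker : ∀ g ∈ C1 z, π g = 1 ∧ ε g = 1 ↔ g ∈ Qz z

structure LZ (z : G) : Prop where
  ne : z ≠ 1
  card : Nat.card (Qz z) = 243
  exp : ∀ a ∈ Qz z, a ^ 3 = 1
  mem : z ∈ Qz z
  cen : ∀ a ∈ Qz z, (∀ b ∈ Qz z, a * b = b * a) → a ∈ zpowers z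
  der : ∀ a ∈ Qz z, ∀ b ∈ Qz z, a * b * a⁻¹ * b⁻¹ ∈ zpowers z
  cq : ∀ a, (∀ b ∈ Qz z, a * b = b * a) → a ∈ Qz z
  hom : ∃ π ε, Pi2 z π ε

namespace Pi2

variable {z : G} {π : G → SL23} {ε : G → ℤˣ} (h : Pi2 z π ε)
include h

/-- the homomorphism -/
def hom : C1 z →* SL23 × ℤˣ := MonoidHom.mk' (fun g => (π g, ε g)) fun a b =>
  Prod.ext (h.mul a a.2 b b.2) (h.mul' a a.2 b b.2)

theorem one : π 1 = 1 := ((h.ker 1 (one_mem _)).2 (one_mem _)).1
theorem one' : ε 1 = 1 := ((h.ker 1 (one_mem _)).2 (one_mem _)).2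

theorem inv {a : G} (ha : a ∈ C1 z) : π a⁻¹ = (π a)⁻¹ :=
  eq_inv_of_mul_eq_one_left (by rw [← h.mul _ (inv_mem ha) _ ha, inv_mul_cancel, h.one])
theorem inv' {a : G} (ha : a ∈ C1 z) : ε a⁻¹ = ε a :=
  (eq_inv_of_mul_eq_one_left (by rw [← h.mul' _ (inv_mem ha) _ ha, inv_mul_cancel, h.one'])).trans
    (Int.units_inv_eq_self _)

theorem pow {a : G} (ha : a ∈ C1 z) (n : ℕ) : π (a ^ n) = π a ^ n := by
  induction n with
  | zero => simp [h.one]
  | succ n ih => rw [pow_succ, h.mul _ (pow_mem ha n) _ ha, ih, pow_succ]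
theorem pow' {a : G} (ha : a ∈ C1 z) (n : ℕ) : ε (a ^ n) = ε a ^ n := by
  induction n with
  | zero => simp [h.one']
  | succ n ih => rw [pow_succ, h.mul' _ (pow_mem ha n) _ ha, ih, pow_succ]

theorem cube {a : G} (ha : a ∈ C1 z) (h3 : ε (a ^ 3) = 1) : ε a = 1 := by
  rw [h.pow' ha] at h3
  rcases Int.units_eq_one_or (ε a) with e | e
  · exact e
  · rw [e] at h3; exact absurd h3 (by decide)

theorem cj' {a b : G} (ha : a ∈ C1 z) (hb : b ∈ C1 z) : ε (a * b * a⁻¹) = ε b := by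
  rw [h.mul' _ (mul_mem ha hb) _ (inv_mem ha), h.mul' _ ha _ hb, h.inv' ha, mul_right_comm,
    Int.units_mul_self, one_mul]

theorem cj {a b : G} (ha : a ∈ C1 z) (hb : b ∈ C1 z) : π (a * b * a⁻¹) = π a * π b * (π a)⁻¹ := by
  rw [h.mul _ (mul_mem ha hb) _ (inv_mem ha), h.mul _ ha _ hb, h.inv ha]

theorem conj (k : SL23) : Pi2 z (fun g => k * π g * k⁻¹) ε :=
  ⟨fun a ha b hb => by rw [h.mul a ha b hb]; group, h.mul', fun s => by
    obtain ⟨g, hg, e, e'⟩ := h.surj (k⁻¹ * s * k)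
    exact ⟨g, hg, by rw [e]; group, e'⟩, fun g hg => by rw [← h.ker g hg, conj_eq_one_iff]⟩

theorem eq_iff {a b : G} (ha : a ∈ C1 z) (hb : b ∈ C1 z) :
    π a = π b ∧ ε a = ε b ↔ a * b⁻¹ ∈ Qz z := by
  rw [← h.ker _ (mul_mem ha (inv_mem hb)), h.mul _ ha _ (inv_mem hb), h.inv hb, mul_inv_eq_one,
    h.mul' _ ha _ (inv_mem hb), h.inv' hb, ← Int.units_inv_eq_self (ε b), mul_inv_eq_one,
    Int.units_inv_eq_self]

theorem relIndex : (Qz z).relIndex (C1 z) ∣ 48 := by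
  have h1 : (Qz z).subgroupOf (C1 z) = h.hom.ker := by
    ext g
    rw [mem_subgroupOf, MonoidHom.mem_ker, ← h.ker g g.2, Prod.ext_iff]
    rfl
  rw [Subgroup.relIndex, h1, index_ker]
  have := card_subgroup_dvd_card h.hom.range
  rwa [Nat.card_prod, Nat.card_eq_fintype_card (α := SL23), Nat.card_eq_fintype_card (α := ℤˣ),
    show Fintype.card SL23 * Fintype.card ℤˣ = 48 by decide +kernel] at this

end Pi2

variable [Finite G]

/-- the symplectic space `Q/Z` -/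
structure Sy (z : G) {W : Type u} [AddCommGroup W] [Module F3 W] (pr : G → W)
    (B : W →ₗ[F3] W →ₗ[F3] F3) : Prop where
  loc : LZ z
  add : ∀ a ∈ Qz z, ∀ b ∈ Qz z, pr (a * b) = pr a + pr b
  zero : ∀ a ∈ Qz z, pr a = 0 ↔ a ∈ zpowers z
  surj : ∀ w, ∃ a ∈ Qz z, pr a = w
  comm : ∀ a ∈ Qz z, ∀ b ∈ Qz z, a * b * a⁻¹ * b⁻¹ = z ^ (B (pr a) (pr b)).val
  card : Nat.card W = 81
  act : ∀ g ∈ N (Qz z), ∃ A : W →ₗ[F3] W, ∀ a ∈ Qz z, pr (g * a * g⁻¹) = A (pr a)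

namespace LZ

variable {z : G} (h : LZ z)
include h

theorem cube : z ^ 3 = 1 := h.exp z h.mem

theorem ord : orderOf z = 3 := orderOf_three h.ne h.cube

theorem zp_le : zpowers z ≤ Qz z := zpowers_le.2 h.mem

theorem zp_comm {c a : G} (hc : c ∈ zpowers z) (ha : a ∈ C1 z) : a * c = c * a :=
  mem_C1.1 (C1_le_C1_of_mem_zpowers hc ha)

theorem nrm_zp {g c : G} (hg : g ∈ N (Qz z)) (hc : c ∈ zpowers z) : g * c * g⁻¹ ∈ zpowers z :=
  h.cen _ (conj_mem_of_mem_N hg (h.zp_le hc)) fun b hb => by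
    have := h.zp_comm hc (Qz_le z (conj_mem_of_mem_N (inv_mem hg) hb))
    calc _ = g * (c * (g⁻¹ * b * g⁻¹⁻¹)) * g⁻¹ := by group
      _ = _ := by rw [← this]; group

theorem inv : LZ z⁻¹ := by
  obtain ⟨h1, h2, h3, h4, h5, h6, h0, π, ε, h7, h7', h8, h9⟩ := h
  refine ⟨inv_ne_one.2 h1, ?_, ?_, ?_, ?_, ?_, ?_, π, ε, ?_, ?_, ?_, ?_⟩ <;>
    simp only [Qz_inv, C1_inv, zpowers_inv, inv_mem_iff] <;> assumption

theorem conj (g : G) : LZ (g * z * g⁻¹) := by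
  obtain ⟨h1, h2, h3, h4, h5, h6, h0, π, ε, h7, h7', h8, h9⟩ := h
  have e : ∀ a : G, a ∈ Qz (g * z * g⁻¹) ↔ g⁻¹ * a * g ∈ Qz z := fun a => by rw [← cj_Qz, mem_cj]
  have e1 : ∀ a : G, a ∈ C1 (g * z * g⁻¹) ↔ g⁻¹ * a * g ∈ C1 z := fun a => by rw [← cj_C1, mem_cj]
  have e2 : ∀ a : G, a ∈ zpowers (g * z * g⁻¹) ↔ g⁻¹ * a * g ∈ zpowers z := fun a => by
    rw [← cj_zpowers, mem_cj]
  refine ⟨fun e => h1 (conj_eq_one_iff.1 e), by rw [← cj_Qz, card_cj, h2], fun a ha => ?_,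
    (e _).2 (by simpa [mul_assoc] using h4),
    fun a ha hb => ?_, fun a ha b hb => ?_, fun a hb => ?_, fun a => π (g⁻¹ * a * g),
    fun a => ε (g⁻¹ * a * g), fun a ha b hb => ?_, fun a ha b hb => ?_,
    fun s => ?_, fun a ha => ?_⟩
  · have := h3 _ ((e a).1 ha)
    rw [show g⁻¹ * a * g = g⁻¹ * a * g⁻¹⁻¹ by group, conj_pow, conj_eq_one_iff] at this
    exact this
  · refine (e2 a).2 (h5 _ ((e a).1 ha) fun b hb' => ?_)
    have := hb (g * b * g⁻¹) ((e _).2 (by simpa [mul_assoc] using hb'))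
    calc _ = g⁻¹ * (a * (g * b * g⁻¹)) * g := by group
      _ = _ := by rw [this]; group
  · rw [e2]
    convert h6 _ ((e a).1 ha) _ ((e b).1 hb) using 1
    group
  · refine (e a).2 (h0 _ fun b hb' => ?_)
    have := hb (g * b * g⁻¹) ((e _).2 (by simpa [mul_assoc] using hb'))
    calc _ = g⁻¹ * (a * (g * b * g⁻¹)) * g := by group
      _ = _ := by rw [this]; group
  · rw [← h7 _ ((e1 a).1 ha) _ ((e1 b).1 hb)]
    congr 1; group
  · rw [← h7' _ ((e1 a).1 ha) _ ((e1 b).1 hb)]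
    congr 1; group
  · obtain ⟨a, ha, rfl, e⟩ := h8 s
    exact ⟨g * a * g⁻¹, (e1 _).2 (by simpa [mul_assoc] using ha), by simp [mul_assoc],
      by simpa [mul_assoc] using e⟩
  · rw [h9 _ ((e1 a).1 ha), e]

theorem exists_sym : ∃ (W : Type u) (_ : AddCommGroup W) (_ : Module F3 W) (pr : G → W)
    (B : W →ₗ[F3] W →ₗ[F3] F3), Sy z pr B := by
  classical
  let Z' := (zpowers z).subgroupOf (Qz z)
  haveI : Z'.Normal := ⟨fun a ha g => h.nrm_zp (le_N _ g.2) ha⟩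
  letI : CommGroup (Qz z ⧸ Z') := { QuotientGroup.Quotient.group Z' with
    mul_comm := fun a b => by
      obtain ⟨a, rfl⟩ := QuotientGroup.mk_surjective a
      obtain ⟨b, rfl⟩ := QuotientGroup.mk_surjective b
      rw [← QuotientGroup.mk_mul, ← QuotientGroup.mk_mul, QuotientGroup.eq]
      have := h.der _ (inv_mem b.2) _ (inv_mem a.2)
      rw [mem_subgroupOf]
      convert this using 1
      push_cast; group }
  let W := Additive (Qz z ⧸ Z')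
  let pr : G → W := fun g => if hg : g ∈ Qz z then Additive.ofMul (QuotientGroup.mk ⟨g, hg⟩) else 0
  have hadd : ∀ a ∈ Qz z, ∀ b ∈ Qz z, pr (a * b) = pr a + pr b := fun a ha b hb => by
    simp only [pr, dif_pos ha, dif_pos hb, dif_pos (mul_mem ha hb)]
    rfl
  have hzero : ∀ a ∈ Qz z, pr a = 0 ↔ a ∈ zpowers z := fun a ha => by
    simp only [pr, dif_pos ha]
    exact QuotientGroup.eq_one_iff (N := Z') _
  have hsurj : ∀ w, ∃ a ∈ Qz z, pr a = w := fun w => by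
    obtain ⟨a, e⟩ := QuotientGroup.mk_surjective (Additive.toMul w)
    exact ⟨a, a.2, by simp only [pr, dif_pos a.2]; exact congrArg Additive.ofMul e⟩
  choose o ho hpo using hsurj
  have heq : ∀ a ∈ Qz z, ∀ b ∈ Qz z, pr a = pr b → a * b⁻¹ ∈ zpowers z := fun a ha b hb e => by
    have := hadd _ (mul_mem ha (inv_mem hb)) _ hb
    rw [inv_mul_cancel_right, e, right_eq_add] at this
    exact (hzero _ (mul_mem ha (inv_mem hb))).1 this
  letI : Module F3 W := AddCommGroup.zmodModule (n := 3) fun w => by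
    have h1 : pr 1 = 0 := (hzero 1 (one_mem _)).2 (one_mem _)
    rw [← hpo w, ← h1, ← h.exp _ (ho w), pow_three', hadd _ (mul_mem (ho w) (ho w)) _ (ho w),
      hadd _ (ho w) _ (ho w), three_nsmul, add_assoc]
  have hl : ∀ w w', ∃ c : F3, o w * o w' * (o w)⁻¹ * (o w')⁻¹ = z ^ c.val := fun w w' =>
    exists_val h.cube (h.der _ (ho w) _ (ho w'))
  choose β hβ using hl
  have hc : ∀ a ∈ Qz z, ∀ b ∈ Qz z, a * b * a⁻¹ * b⁻¹ = z ^ (β (pr a) (pr b)).val := by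
    intro a ha b hb
    rw [← hβ]
    have h1 := heq _ ha _ (ho (pr a)) (hpo _).symm
    have h2 := heq _ hb _ (ho (pr b)) (hpo _).symm
    have ha' := Qz_le z (ho (pr a))
    have hb' := Qz_le z (ho (pr b))
    generalize o (pr a) = a' at *
    generalize o (pr b) = b' at *
    obtain ⟨c, rfl⟩ : ∃ c, a = c * a' := ⟨a * a'⁻¹, by group⟩
    obtain ⟨d, rfl⟩ : ∃ d, b = d * b' := ⟨b * b'⁻¹, by group⟩
    rw [mul_inv_cancel_right] at h1 h2
    have e1 := h.zp_comm h1 (mul_mem (mul_mem ha' (Qz_le z hb)) (inv_mem ha'))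
    have e2 := h.zp_comm h2 ha'
    have e3 := h.zp_comm h2 (mul_mem (mul_mem (mul_mem ha' hb') (inv_mem ha')) (inv_mem hb'))
    calc _ = c * (a' * (d * b') * a'⁻¹) * c⁻¹ * (d * b')⁻¹ := by group
      _ = (a' * d) * b' * a'⁻¹ * b'⁻¹ * d⁻¹ := by rw [← e1]; group
      _ = d * (a' * b' * a'⁻¹ * b'⁻¹) * d⁻¹ := by rw [e2]; group
      _ = _ := by rw [← e3]; group
  have hz : ∀ (c : F3) {a : G}, a ∈ Qz z → a * z ^ c.val = z ^ c.val * a := fun c a ha =>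
    h.zp_comm (pow_mem (mem_zpowers z) _) (Qz_le z ha)
  have b1 : ∀ w w' v, β (w + w') v = β w v + β w' v := fun w w' v => by
    refine pow_val_inj h.ne h.cube ?_
    rw [← hpo w, ← hpo w', ← hpo v, ← hadd _ (ho w) _ (ho w'), pow_val_add h.cube,
      ← hc _ (mul_mem (ho w) (ho w')) _ (ho v), ← hc _ (ho w) _ (ho v)]
    have e := hc _ (ho w') _ (ho v)
    have e1 := hz (β (pr (o w')) (pr (o v))) (ho w)
    have e2 := hz (β (pr (o w')) (pr (o v)))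
      (mul_mem (mul_mem (mul_mem (ho w) (ho v)) (inv_mem (ho w))) (inv_mem (ho v)))
    rw [e2]
    calc _ = o w * (o w' * o v * (o w')⁻¹ * (o v)⁻¹) * o v * (o w)⁻¹ * (o v)⁻¹ := by group
      _ = _ := by rw [e, e1]; group
  have b2 : ∀ v w w', β v (w + w') = β v w + β v w' := fun v w w' => by
    refine pow_val_inj h.ne h.cube ?_
    rw [← hpo w, ← hpo w', ← hpo v, ← hadd _ (ho w) _ (ho w'), pow_val_add h.cube,
      ← hc _ (ho v) _ (mul_mem (ho w) (ho w')), ← hc _ (ho v) _ (ho w)]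
    have e := hc _ (ho v) _ (ho w')
    have e1 := hz (β (pr (o v)) (pr (o w'))) (ho w)
    calc _ = o v * o w * (o v)⁻¹ * (o v * o w' * (o v)⁻¹ * (o w')⁻¹) * (o w)⁻¹ := by group
      _ = o v * o w * (o v)⁻¹ * (o w)⁻¹ * (o w * z ^ (β (pr (o v)) (pr (o w'))).val) *
          (o w)⁻¹ := by rw [e]; group
      _ = _ := by rw [e1]; group
  let B : W →ₗ[F3] W →ₗ[F3] F3 := AddMonoidHom.toZModLinearMap 3 (AddMonoidHom.mk'
    (fun w => AddMonoidHom.toZModLinearMap 3 (AddMonoidHom.mk' (β w) (b2 w)))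
      fun w w' => LinearMap.ext fun v => b1 w w' v)
  refine ⟨W, inferInstance, inferInstance, pr, B, h, hadd, hzero, fun w => ⟨_, ho w, hpo w⟩, hc, ?_,
    fun g hg => ?_⟩
  · have h1 := card_eq_card_quotient_mul_card_subgroup Z'
    rw [h.card, Nat.card_congr (subgroupOfEquivOfLe h.zp_le).toEquiv, Nat.card_zpowers, h.ord] at h1
    change Nat.card (Qz z ⧸ Z') = 81
    omega
  · have hw : ∀ a ∈ Qz z, pr (g * o (pr a) * g⁻¹) = pr (g * a * g⁻¹) := fun a ha => by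
      have h1 := h.nrm_zp hg (heq _ (ho (pr a)) _ ha (hpo _))
      rw [show g * o (pr a) * g⁻¹ = g * (o (pr a) * a⁻¹) * g⁻¹ * (g * a * g⁻¹) by group,
        hadd _ (h.zp_le h1) _ (conj_mem_of_mem_N hg ha), (hzero _ (h.zp_le h1)).2 h1, zero_add]
    refine ⟨AddMonoidHom.toZModLinearMap 3 (AddMonoidHom.mk' (fun w => pr (g * o w * g⁻¹))
      fun w w' => ?_), fun a ha => (hw a ha).symm⟩
    conv_lhs => rw [← hpo w, ← hpo w', ← hadd _ (ho w) _ (ho w'), hw _ (mul_mem (ho w) (ho w'))]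
    rw [← hadd _ (conj_mem_of_mem_N hg (ho w)) _ (conj_mem_of_mem_N hg (ho w'))]
    congr 1; group

end LZ

namespace Sy

variable {z : G} {W : Type u} [AddCommGroup W] [Module F3 W] {pr : G → W}
  {B : W →ₗ[F3] W →ₗ[F3] F3} (h : Sy z pr B)
include h

theorem one : pr 1 = 0 := (h.zero 1 (one_mem _)).2 (one_mem _)

theorem inv {a : G} (ha : a ∈ Qz z) : pr a⁻¹ = -pr a := by
  rw [eq_neg_iff_add_eq_zero, ← h.add _ (inv_mem ha) _ ha, inv_mul_cancel, h.one]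

theorem pow {a : G} (ha : a ∈ Qz z) (n : ℕ) : pr (a ^ n) = (n : F3) • pr a := by
  induction n with
  | zero => simp [h.one]
  | succ n ih => rw [pow_succ, h.add _ (pow_mem ha n) _ ha, ih, Nat.cast_succ, add_smul, one_smul]

theorem pow_val {a : G} (ha : a ∈ Qz z) (c : F3) : pr (a ^ c.val) = c • pr a := by
  rw [h.pow ha, ZMod.natCast_zmod_val]

theorem eq_iff {a b : G} (ha : a ∈ Qz z) (hb : b ∈ Qz z) : pr a = pr b ↔ a * b⁻¹ ∈ zpowers z := by
  rw [← h.zero _ (mul_mem ha (inv_mem hb)), h.add _ ha _ (inv_mem hb), h.inv hb, add_neg_eq_zero]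

theorem comm_iff {a b : G} (ha : a ∈ Qz z) (hb : b ∈ Qz z) :
    a * b = b * a ↔ B (pr a) (pr b) = 0 := by
  have := h.comm a ha b hb
  constructor
  · intro e
    refine pow_val_inj h.loc.ne h.loc.cube ?_
    rw [← this, e]; simp
  · intro e
    rw [e, ZMod.val_zero, pow_zero, mul_inv_eq_one, mul_inv_eq_iff_eq_mul] at this
    exact this

theorem alt (w : W) : B w w = 0 := by
  obtain ⟨a, ha, rfl⟩ := h.surj w
  exact (h.comm_iff ha ha).1 rfl

theorem skew (w w' : W) : B w w' = -B w' w := by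
  have := h.alt (w + w')
  simp only [map_add, LinearMap.add_apply, h.alt] at this
  linear_combination this

theorem nondeg {w : W} (hw : ∀ w', B w w' = 0) : w = 0 := by
  obtain ⟨a, ha, rfl⟩ := h.surj w
  exact (h.zero a ha).2 (h.loc.cen a ha fun b hb => (h.comm_iff ha hb).2 (hw _))

theorem ac_mul {g k : G} {A A' : W →ₗ[F3] W} (hk : k ∈ N (Qz z)) (h1 : Ac z pr g A)
    (h2 : Ac z pr k A') : Ac z pr (g * k) (A ∘ₗ A') := fun a ha => by
  rw [LinearMap.comp_apply, ← h2 a ha, ← h1 _ (conj_mem_of_mem_N hk ha)]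
  congr 1; group

theorem ac_Q {g : G} {A : W →ₗ[F3] W} (hg : g ∈ Qz z) (h1 : Ac z pr g A) (w : W) : A w = w := by
  obtain ⟨a, ha, rfl⟩ := h.surj w
  rw [← h1 a ha, h.add _ (mul_mem hg ha) _ (inv_mem hg), h.add _ hg _ ha, h.inv hg]; abel

theorem ac_eq {g k : G} {A A' : W →ₗ[F3] W} (hk : k ∈ N (Qz z)) (e : g * k⁻¹ ∈ Qz z)
    (h1 : Ac z pr g A) (h2 : Ac z pr k A') (w : W) : A w = A' w := by
  obtain ⟨a, ha, rfl⟩ := h.surj w
  obtain ⟨A'', h3⟩ := h.act _ (le_N _ e)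
  have := h.ac_mul hk h3 h2 a ha
  rw [inv_mul_cancel_right, h1 a ha, LinearMap.comp_apply, h.ac_Q e h3] at this
  exact this

theorem B_act {g : G} {A : W →ₗ[F3] W} (hg : g ∈ C1 z) (h1 : Ac z pr g A) (w w' : W) :
    B (A w) (A w') = B w w' := by
  obtain ⟨a, ha, rfl⟩ := h.surj w
  obtain ⟨b, hb, rfl⟩ := h.surj w'
  refine pow_val_inj h.loc.ne h.loc.cube ?_
  rw [← h1 a ha, ← h1 b hb, ← h.comm _ (conj_mem_Qz hg ha) _ (conj_mem_Qz hg hb),
    ← mem_C1_iff_conj.1 (C1_le_C1_pow z (B (pr a) (pr b)).val hg), ← h.comm a ha b hb]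
  group

theorem B_act_inv {g : G} {A : W →ₗ[F3] W} (hg : g * z * g⁻¹ = z⁻¹) (h1 : Ac z pr g A) (w w' : W) :
    B (A w) (A w') = -B w w' := by
  obtain ⟨a, ha, rfl⟩ := h.surj w
  obtain ⟨b, hb, rfl⟩ := h.surj w'
  have hn := mem_NQ_of_inv hg
  refine pow_val_inj h.loc.ne h.loc.cube ?_
  rw [← h1 a ha, ← h1 b hb, ← h.comm _ (conj_mem_of_mem_N hn ha) _ (conj_mem_of_mem_N hn hb),
    pow_val_neg h.loc.cube, ← inv_pow, ← hg, conj_pow, ← h.comm a ha b hb]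
  group

theorem conj_eq {a b : G} (ha : a ∈ Qz z) (hb : b ∈ Qz z) :
    a * b * a⁻¹ = b * z ^ (B (pr a) (pr b)).val := by
  rw [h.loc.zp_comm (pow_mem (mem_zpowers z) _) (Qz_le z hb), ← h.comm a ha b hb]; group

end Sy

namespace LZ

variable {z : G} (h : LZ z)
include h

theorem card_C {a : G} (ha : a ∈ Qz z) (h1 : a ∉ zpowers z) :
    Nat.card (Qz z ⊓ C1 a : Subgroup G) = 81 := by
  obtain ⟨W, _, _, pr, B, hs⟩ := h.exists_sym
  have := (card_ker3 (A := Qz z) (K := Qz z ⊓ C1 a) (fun b => B (pr b) (pr a))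
    (fun b hb c hc => by simp [hs.add b hb c hc]) (fun b => by
      rw [mem_inf, mem_C1]
      exact and_congr_right fun hb => hs.comm_iff hb ha)).2 (by
    by_contra hc
    push Not at hc
    exact h1 (h.cen a ha fun b hb => ((hs.comm_iff hb ha).2 (hc b hb)).symm))
  rw [h.card] at this
  omega

theorem ab_le {A : Subgroup G} (hA : A ≤ Qz z) (hab : Ab A) : Nat.card A ≤ 27 := by
  obtain ⟨W, _, _, pr, B, hs⟩ := h.exists_sym
  by_contra hc
  have h0 : ∀ K : Subgroup G, K ≤ Qz z → K ≤ C (Qz z) → Nat.card K ≤ 3 := fun K h1 h2 => by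
    rw [← h.ord, ← Nat.card_zpowers]
    exact card_le_of_le fun k hk => h.cen k (h1 hk) fun b hb => (mem_C.1 (h2 hk) b hb).symm
  have h1 : A ≠ Qz z := fun e => by
    have := h0 A hA (e ▸ hab)
    omega
  have h2 := card_mul_relIndex hA
  rw [h.card] at h2
  have h3 : A.relIndex (Qz z) = 3 := by
    have h4 : A.relIndex (Qz z) ≠ 1 := fun e => h1 (le_antisymm hA (relIndex_eq_one.1 e))
    have h5 : A.relIndex (Qz z) ∣ 3 ^ 5 := Dvd.intro_left _ h2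
    obtain ⟨i, hi, e⟩ := (Nat.dvd_prime_pow Nat.prime_three).1 h5
    rw [e] at h2 h4 ⊢
    interval_cases i <;> omega
  obtain ⟨b, hb, hbA⟩ := SetLike.exists_of_lt (lt_of_le_of_ne hA h1)
  have h4 := (eq_or_eq_of_prime_relIndex (h3 ▸ Nat.prime_three) (le_sup_left (b := zpowers b))
    (sup_le hA (zpowers_le.2 hb))).resolve_left fun e => hbA (e.le (mem_sup_right (mem_zpowers b)))
  have h5 := (card_ker3 (A := A) (K := A ⊓ C1 b) (fun c => B (pr c) (pr b))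
    (fun b hb c hc => by simp [hs.add b (hA hb) c (hA hc)]) (fun c => by
      rw [mem_inf, mem_C1]
      exact and_congr_right fun hc => hs.comm_iff (hA hc) hb)).1
  have h6 := h0 (A ⊓ C1 b) (inf_le_left.trans hA) (by
    rw [← h4, C_sup, C_zpowers]
    exact inf_le_inf_right _ hab)
  omega

theorem mem_of_comm {A : Subgroup G} (hA : A ≤ Qz z) (hab : Ab A) (hc : Nat.card A = 27) {s : G}
    (hs : s ∈ Qz z) (h1 : A ≤ C1 s) : s ∈ A := by
  have := h.ab_le (sup_le hA (zpowers_le.2 hs)) (hab.sup (ab_zpowers s) (by rwa [C_zpowers]))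
  rw [eq_of_le_of_card_le (le_sup_left (a := A) (b := zpowers s)) (hc ▸ this)]
  exact mem_sup_right (mem_zpowers s)

end LZ

structure Pr (z y s : G) : Prop where
  hz : LZ z
  hy : LZ y
  yQ : y ∈ Qz z
  yZ : y ∉ zpowers z
  zQ : z ∈ Qz y
  card : Nat.card (Qz z ⊓ Qz y : Subgroup G) = 27
  sQ : s ∈ Qz y
  sC : s ∈ C1 z
  sn : s ∉ Qz z

theorem ab_inf {z y : G} (hz : LZ z) (hy : LZ y) (yZ : y ∉ zpowers z) : Ab (Qz z ⊓ Qz y) :=
  ab_iff.2 fun a ha b hb => by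
    have := zp_inf hz.cube hy.cube yZ (hz.der a ha.1 b hb.1) (hy.der a ha.2 b hb.2)
    rwa [mul_inv_eq_one, mul_inv_eq_iff_eq_mul] at this

theorem exists_pair {z y : G} (hz : LZ z) (hy : LZ y) (yQ : y ∈ Qz z) (yZ : y ∉ zpowers z) :
    ∃ s, Pr z y s := by
  obtain ⟨π, ε, hπ⟩ := hy.hom
  have h1 := hz.card_C yQ yZ
  have zQ : z ∈ Qz y := by
    obtain ⟨a, ha, b, hb, e⟩ : ∃ a ∈ Qz z ⊓ C1 y, ∃ b ∈ Qz z ⊓ C1 y, a * b ≠ b * a := by
      by_contra hc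
      push Not at hc
      have := hz.ab_le inf_le_left (ab_iff.2 hc)
      omega
    have k : ∀ c ∈ Qz z ⊓ C1 y, π c ^ 3 = 1 := fun c hc => by
      rw [← hπ.pow hc.2, hz.exp c hc.1, hπ.one]
    have h2 : a * b * a⁻¹ * b⁻¹ ∈ Qz y := by
      rw [← hπ.ker _ (mul_mem (mul_mem (mul_mem ha.2 hb.2) (inv_mem ha.2)) (inv_mem hb.2)),
        hπ.mul _ (mul_mem (mul_mem ha.2 hb.2) (inv_mem ha.2)) _ (inv_mem hb.2),
        hπ.mul _ (mul_mem ha.2 hb.2) _ (inv_mem ha.2), hπ.mul _ ha.2 _ hb.2, hπ.inv ha.2, hπ.inv hb.2,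
        hπ.mul' _ (mul_mem (mul_mem ha.2 hb.2) (inv_mem ha.2)) _ (inv_mem hb.2), hπ.cj' ha.2 hb.2,
        hπ.inv' hb.2]
      refine ⟨sl_comm _ _ (k a ha) (k b hb) ?_ ?_, Int.units_mul_self _⟩
      · rw [← hπ.mul _ ha.2 _ hb.2]; exact k _ (mul_mem ha hb)
      · rw [← hπ.inv hb.2, ← hπ.mul _ ha.2 _ (inv_mem hb.2)]; exact k _ (mul_mem ha (inv_mem hb))
    rcases CfsgH8.mem_zpowers_three hz.cube (hz.der a ha.1 b hb.1) with e1 | e1 | e1
    · exact absurd (by rwa [mul_inv_eq_one, mul_inv_eq_iff_eq_mul] at e1) e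
    · exact e1 ▸ h2
    · exact inv_mem_iff.1 (e1 ▸ h2)
  have h2 := hz.ab_le inf_le_left (ab_inf hz hy yZ)
  have h3 : Nat.card (Qz z ⊓ Qz y : Subgroup G) = 27 := by
    have h4 := card_inf_mul_relIndex (Qz y) (Qz z ⊓ C1 y)
    have h5 := relIndex_dvd_of_nrm' (A := Qz z ⊓ C1 y) inf_le_right (nrm_of_le_N (C1_le_NQ y))
    have h6 := relIndex_dvd_card' (Qz y) (Qz z ⊓ C1 y)
    rw [h1] at h4 h6
    have h7 := Nat.le_of_dvd (by norm_num) (Nat.dvd_gcd (h5.trans hπ.relIndex) h6)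
    rw [← inf_assoc, inf_comm (Qz y), inf_assoc, inf_eq_left.2 (Qz_le y)] at h4
    have : Nat.gcd 48 81 = 3 := by norm_num
    nlinarith
  have h4 := hy.card_C zQ fun e => hz.ne (zp_inf hz.cube hy.cube yZ (mem_zpowers z) e)
  obtain ⟨s, hs, hn⟩ : ∃ s ∈ Qz y ⊓ C1 z, s ∉ Qz z := by
    by_contra hc
    push Not at hc
    have := card_le_of_le (show Qz y ⊓ C1 z ≤ Qz z ⊓ Qz y from fun s hs => ⟨hc s hs, hs.1⟩)
    omega
  exact ⟨s, hz, hy, yQ, yZ, zQ, h3, hs.1, hs.2, hn⟩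

namespace Pr

variable {z y s : G} (h : Pr z y s)
include h

theorem inv : Pr z y s⁻¹ :=
  ⟨h.hz, h.hy, h.yQ, h.yZ, h.zQ, h.card, inv_mem h.sQ, inv_mem h.sC, fun e => h.sn (inv_mem_iff.1 e)⟩

theorem ab : Ab (Qz z ⊓ Qz y) := ab_inf h.hz h.hy h.yZ

theorem exists_e : ∃ e ∈ Qz z ⊓ Qz y, e * s ≠ s * e := by
  by_contra hc
  push Not at hc
  exact h.sn (h.hy.mem_of_comm inf_le_right h.ab h.card h.sQ fun e he => mem_C1.2 (hc e he)).1

theorem mem_D9 {e : G} (he : e ∈ Qz z ⊓ Qz y) (h1 : e * s = s * e) : e ∈ D9 z y := by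
  have hb : B9 z y := ⟨h.hz.cube, h.hy.cube, (mem_C1.1 (Qz_le z h.yQ)).symm, h.hz.ne, h.yZ⟩
  have h2 : D9 z y ≤ Qz z ⊓ Qz y ⊓ C1 s := D9_le ⟨⟨h.hz.mem, h.zQ⟩, mem_C1_comm.1 h.sC⟩
    ⟨⟨h.yQ, h.hy.mem⟩, mem_C1_comm.1 (Qz_le y h.sQ)⟩
  have h3 := card_dvd_of_le' (inf_le_left : Qz z ⊓ Qz y ⊓ C1 s ≤ _)
  obtain ⟨f, hf, hn⟩ := h.exists_e
  have h4 : Nat.card (Qz z ⊓ Qz y ⊓ C1 s : Subgroup G) ≠ 27 := fun e =>
    hn (mem_C1.1 ((eq_of_le_of_card_eq inf_le_left (e.trans h.card.symm)).ge hf).2)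
  rw [h.card] at h3
  obtain ⟨i, hi, e⟩ := (Nat.dvd_prime_pow Nat.prime_three (m := 3)).1 h3
  rw [eq_of_le_of_card_le h2 (by rw [hb.card]; rw [e] at h4 ⊢; interval_cases i <;> omega)]
  exact ⟨he, mem_C1.2 h1⟩

variable {W : Type u} [AddCommGroup W] [Module F3 W] {pr : G → W}
  {B : W →ₗ[F3] W →ₗ[F3] F3} (hs : Sy z pr B) {A : W →ₗ[F3] W} (hA : Ac z pr s A)
include hs hA

theorem A_y : A (pr y) = pr y := by rw [← hA y h.yQ, mem_C1_iff_conj.1 (Qz_le y h.sQ)]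

theorem A_E {e : G} (he : e ∈ Qz z ⊓ Qz y) : ∃ c : F3, A (pr e) - pr e = c • pr y ∧
    (c = 0 → e * s = s * e) := by
  obtain ⟨c, hc⟩ := exists_val h.hy.cube (h.hy.der s h.sQ e he.2)
  refine ⟨c, ?_, fun e0 => ?_⟩
  · rw [← hA e he.1, ← hs.pow_val h.yQ, ← hc, hs.add _ (conj_mem_Qz h.sC he.1) _ (inv_mem he.1),
      hs.inv he.1, sub_eq_add_neg]
  · rw [e0, ZMod.val_zero, pow_zero, mul_inv_eq_one, mul_inv_eq_iff_eq_mul] at hc
    exact hc.symm

theorem y_ne : pr y ≠ 0 := fun e => h.yZ ((hs.zero y h.yQ).1 e)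

theorem quad0 (w : W) : A (A w) + A w + w = 0 := by
  have hN := C1_le_NQ z h.sC
  have h3 : ∀ w, A (A (A w)) = w := fun w => by
    have := hs.ac_mul hN (hs.ac_mul hN hA hA) hA
    rw [← pow_three', h.hy.exp s h.sQ] at this
    exact hs.ac_Q (one_mem _) this w
  have k : ∀ w, B (pr y) w ≠ 0 → A (A w) + A w + w = 0 := fun w hw => by
    obtain ⟨q, hq, e⟩ := hs.surj (A w - w)
    have h1 : q ∈ C1 y := mem_C1.2 ((hs.comm_iff hq h.yQ).2 (by
      rw [e, map_sub, LinearMap.sub_apply, sub_eq_zero]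
      conv_lhs => rw [← h.A_y hs hA, hs.B_act h.sC hA]))
    have h2 : s * q * s⁻¹ * q⁻¹ ∈ Qz z ⊓ Qz y := mem_inf.2 ⟨mul_mem (conj_mem_Qz h.sC hq) (inv_mem hq), by
      rw [show s * q * s⁻¹ * q⁻¹ = s * (q * s⁻¹ * q⁻¹) by group]
      exact mul_mem h.sQ (conj_mem_Qz h1 (inv_mem h.sQ))⟩
    have h4 : pr (s * q * s⁻¹ * q⁻¹) = A (A w) + A w + w := by
      rw [hs.add _ (conj_mem_Qz h.sC hq) _ (inv_mem hq), hA q hq, hs.inv hq, e, map_sub]
      linear_combination (norm := abel) -three (A w)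
    obtain ⟨c, h5, h6⟩ := h.A_E hs hA h2
    have h7 := h6 ((smul_eq_zero.1 (by
      rw [← h5, h4]; simp only [map_add, h3]; abel)).resolve_right (h.y_ne hs hA))
    obtain ⟨a, ha, b, hb, e2⟩ := (mem_sup_nrm (nrm_of_le_C (by
      rw [C_zpowers, zpowers_le]; exact Qz_le y h.zQ))).1 (h.mem_D9 h2 h7)
    obtain ⟨d, rfl⟩ := exists_val h.hy.cube hb
    rw [e2, hs.add _ (h.hz.zp_le ha) _ (pow_mem h.yQ _), (hs.zero _ (h.hz.zp_le ha)).2 ha, zero_add,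
      hs.pow_val h.yQ] at h4
    have h8 : B (A (A w) + A w + w) w = 0 := by
      simp only [map_add, LinearMap.add_apply, hs.alt]
      rw [← hs.B_act h.sC hA (A (A w)), h3, hs.skew w]; ring
    rw [← h4, map_smul, LinearMap.smul_apply, smul_eq_mul, mul_eq_zero] at h8
    rw [← h4, h8.resolve_right hw, zero_smul]
  by_cases hw : B (pr y) w = 0
  · obtain ⟨v, hv⟩ : ∃ v, B (pr y) v ≠ 0 := by
      by_contra hc
      push Not at hc
      exact h.y_ne hs hA (hs.nondeg hc)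
    have h1 := k v hv
    have h2 := k (w + v) (by simpa [hw] using hv)
    simp only [map_add] at h2
    linear_combination (norm := abel) h2 - h1
  · exact k w hw

omit hs hA in
theorem quad : Qd z s := fun a ha => by
  obtain ⟨W, _, _, pr, B, hs⟩ := h.hz.exists_sym
  obtain ⟨A, hA⟩ := hs.act s (C1_le_NQ z h.sC)
  have h1 := conj_mem_Qz h.sC ha
  have h2 := conj_mem_Qz h.sC h1
  rw [← hs.zero _ (mul_mem (mul_mem h2 h1) ha), hs.add _ (mul_mem h2 h1) _ ha, hs.add _ h2 _ h1,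
    hA _ h1, hA _ ha]
  exact h.quad0 hs hA _

end Pr

namespace Sy

variable {z : G} {W : Type u} [AddCommGroup W] [Module F3 W] {pr : G → W}
  {B : W →ₗ[F3] W →ₗ[F3] F3} (h : Sy z pr B)

/-- preimage of a submodule -/
def pre (Y : Submodule F3 W) : Subgroup G where
  carrier := {a | a ∈ Qz z ∧ pr a ∈ Y}
  mul_mem' := fun {a b} ha hb => ⟨mul_mem ha.1 hb.1, h.add a ha.1 b hb.1 ▸ add_mem ha.2 hb.2⟩
  one_mem' := ⟨one_mem _, h.one ▸ zero_mem _⟩
  inv_mem' := fun {a} ha => ⟨inv_mem ha.1, h.inv ha.1 ▸ neg_mem ha.2⟩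

include h in
theorem sq_zero {g : G} (hg : g ∈ C1 z) (hq : Qd z g) {A : W →ₗ[F3] W} (hA : Ac z pr g A) (w : W) :
    (A - LinearMap.id : W →ₗ[F3] W) ((A - LinearMap.id : W →ₗ[F3] W) w) = 0 := by
  obtain ⟨a, ha, rfl⟩ := h.surj w
  have h1 := conj_mem_Qz hg ha
  have h2 := conj_mem_Qz hg h1
  have := hq a ha
  rw [← h.zero _ (mul_mem (mul_mem h2 h1) ha), h.add _ (mul_mem h2 h1) _ ha, h.add _ h2 _ h1,
    hA _ h1, hA _ ha] at this
  simp only [LinearMap.sub_apply, LinearMap.id_apply, map_sub]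
  linear_combination (norm := abel) this - three (A (pr a))

end Sy

end CfsgH2.T3
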