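import Cfsg.Agent.H2.T3A

/-! Coordinates on the symplectic space. -/

set_option autoImplicit false
set_option linter.unusedSectionVars false

namespace CfsgH2.T3

open Subgroup CfsgH5 CfsgH6 CfsgFT CfsgH9 CfsgH9.P43 CfsgH7 Matrix
open CfsgH1.L43 hiding Loc0 Sym Pair Gen Loc Co

universe u

section module

variable {W : Type u} [AddCommGroup W] [Module F3 W]

theorem half0 {w : W} (h : w + w = 0) : w = 0 := by
  have := three w
  rwa [h, zero_add] at this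

variable {σ τ T : W →ₗ[F3] W} (hσ : ∀ w, σ (σ w) = 0) (hτ : ∀ w, τ (τ w) = 0)
  (hT : ∀ w, T w = (w + τ w + σ (w + τ w)) + τ (w + τ w + σ (w + τ w)) +
    σ ((w + τ w + σ (w + τ w)) + τ (w + τ w + σ (w + τ w))))
  (h3 : ∀ w, σ (T w) = T (σ w)) (h4 : ∀ w, τ (T w) = T (τ w))
include hσ hτ hT h3 h4

theorem plus_rel {w : W} (h : T w = w) : τ w = -σ w := by
  have k1 : ∀ w, T w = w → σ w + σ w + τ w + τ w + σ (τ w) - τ (σ w) = 0 := fun w hw => by
    have a4 := gi_T hσ hτ hT w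
    rw [hw] at a4
    simp only [map_add, map_sub] at a4
    linear_combination (norm := abel) -a4
  have hs : T (σ w) = σ w := by rw [← h3, h]
  have k2 : σ (τ (σ w)) = 0 := half0 (by simpa [hσ] using congrArg σ (k1 _ hs))
  have k3 : σ (τ w) = 0 := half0 (by simpa [hσ, k2] using congrArg σ (k1 _ h))
  have k4 : τ (σ w) = 0 := half0 (by simpa [hσ, k2] using k1 _ hs)
  have := k1 w h
  rw [k3, k4] at this
  exact eq_neg_of_add_eq_zero_left (half0 (by linear_combination (norm := abel) this))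

variable {B : W →ₗ[F3] W →ₗ[F3] F3} (alt : ∀ w, B w w = 0) (skew : ∀ w w', B w w' = -B w' w)
include alt skew

theorem ind4 {v p p' : W} (v0 : v ≠ 0) (v1 : T v = -v) (v2 : σ v = 0) (p1 : T p = p)
    (p2 : T p' = p') (p3 : B p' p ≠ 0) (i j k l : F3)
    (e : i • v + j • τ v + k • p + l • p' = 0) : i = 0 ∧ j = 0 ∧ k = 0 ∧ l = 0 := by
  have r : σ (τ v) = v := by simpa [v2] using rel_of_neg hσ hτ hT v1
  have e1 := congrArg T e
  simp only [map_add, map_smul, ← h4, v1, p1, p2, map_neg, map_zero, smul_neg] at e1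
  have e2 : i • v + j • τ v = 0 := half0 (by linear_combination (norm := abel) e - e1)
  have e3 : k • p + l • p' = 0 := half0 (by linear_combination (norm := abel) e + e1)
  have j0 : j = 0 := by simpa [v2, r, v0] using congrArg σ e2
  have l0 : l = 0 := by simpa [alt, p3] using congrArg (fun w => B w p) e3
  have k0 : k = 0 := by simpa [alt, p3] using congrArg (B p') e3
  exact ⟨by simpa [j0, v0] using e2, j0, k0, l0⟩

variable (hB : ∀ a b, B (T a) (T b) = B a b) (h2 : ∀ w, T (T w) = w)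
include hB

omit hσ hτ hT h3 h4 alt skew in
theorem orth {a b : W} (ha : T a = -a) (hb : T b = b) : B a b = 0 := by
  have := hB a b
  rw [ha, hb, map_neg, LinearMap.neg_apply] at this
  exact (by decide : ∀ c : F3, -c = c → c = 0) _ this

include h2 in
theorem dim2 (hc : Nat.card W = 81) (nd : ∀ w, (∀ w', B w w' = 0) → w = 0)
    (n1 : ∃ w, T w ≠ w) (n2 : ∃ w, T w ≠ -w) {u u' : W}
    (hu : T u = u ∧ T u' = u' ∨ T u = -u ∧ T u' = -u') (u0 : u' ≠ 0) (e : B u u' = 0) :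
    ∃ k : F3, u = k • u' := by
  obtain ⟨v, v0, v1, v2⟩ : ∃ v, v ≠ 0 ∧ T v = -v ∧ σ v = 0 := by
    obtain ⟨w, hw⟩ := n1
    have a : T (w - T w) = -(w - T w) := by simp [h2]
    by_cases b : σ (w - T w) = 0
    · exact ⟨_, sub_ne_zero.2 hw.symm, a, b⟩
    · exact ⟨_, b, by rw [← h3, a, map_neg], hσ _⟩
  obtain ⟨p, p', p1, p2, p3⟩ : ∃ p p', T p = p ∧ T p' = p' ∧ B p' p ≠ 0 := by
    obtain ⟨w, hw⟩ := n2
    have a : ∀ w, T (w + T w) = w + T w := fun w => by simp [h2, add_comm]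
    obtain ⟨w', b⟩ : ∃ w', B (w + T w) w' ≠ 0 := by
      by_contra hc
      push Not at hc
      exact hw (eq_neg_of_add_eq_zero_right (nd _ hc))
    refine ⟨w' + T w', _, a _, a w, fun e => b ?_⟩
    have c := hB (w + T w) w'
    rw [a] at c
    rw [map_add, c] at e
    exact half0 (W := F3) e
  have sp := span4 hc (ind4 hσ hτ hT h3 h4 alt skew v0 v1 v2 p1 p2 p3)
  have t1 : T (τ v) = -τ v := by rw [← h4, v1, map_neg]
  have b0 : B v (τ v) ≠ 0 := fun b => v0 (nd v fun w => by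
    obtain ⟨i, j, k, l, rfl⟩ := sp w
    simp [alt, b, orth hB v1 p1, orth hB v1 p2])
  have k : ∀ {a b u u' : W}, B a b ≠ 0 → ∀ i j i' j' : F3, u = i • a + j • b → u' = i' • a + j' • b →
      u' ≠ 0 → B u u' = 0 → ∃ k : F3, u = k • u' := by
    rintro a b _ _ ab i j i' j' rfl rfl u0 e
    simp only [map_add, map_smul, LinearMap.add_apply, LinearMap.smul_apply, smul_eq_mul, alt,
      skew b a] at e
    obtain ⟨c, rfl, rfl⟩ := (by decide : ∀ i j i' j' c : F3, c ≠ 0 → ¬ (i' = 0 ∧ j' = 0) →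
      i' * (i * 0 + j * -c) + j' * (i * c + j * 0) = 0 → ∃ k, i = k * i' ∧ j = k * j')
      i j i' j' _ ab (by rintro ⟨rfl, rfl⟩; simp at u0) e
    exact ⟨c, by rw [smul_add, mul_smul, mul_smul]⟩
  obtain ⟨i, j, m, l, e1⟩ := sp u
  obtain ⟨i', j', m', l', e2⟩ := sp u'
  have q : ∀ i j m l : F3, T (i • v + j • τ v + m • p + l • p') =
      -(i • v + j • τ v) + (m • p + l • p') := fun i j m l => by
    simp only [map_add, map_smul, v1, t1, p1, p2, smul_neg]; abel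
  have a1 := e1 ▸ q i j m l
  have a2 := e2 ▸ q i' j' m' l'
  rcases hu with ⟨b1, b2⟩ | ⟨b1, b2⟩ <;> rw [b1] at a1 <;> rw [b2] at a2
  · refine k (fun e => p3 (by rw [skew, e, neg_zero])) m l m' l' (sub_eq_zero.1 (half0 ?_))
      (sub_eq_zero.1 (half0 ?_)) u0 e
    · linear_combination (norm := abel) a1 + e1
    · linear_combination (norm := abel) a2 + e2
  · refine k b0 i j i' j' (sub_eq_zero.1 (half0 ?_)) (sub_eq_zero.1 (half0 ?_)) u0 e
    · linear_combination (norm := abel) e1 - a1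
    · linear_combination (norm := abel) e2 - a2

end module

variable {G : Type u} [Group G] [Finite G]

/-- if the central involution inverts `Q/Z` then `Q/Z` is irreducible -/
def Red (z : G) (ε : G → ℤˣ) : Prop :=
  (∀ t ∈ C1 z, ε t = 1 → t ∉ Qz z → t * t ∈ Qz z → ∀ q ∈ Qz z, t * q * t⁻¹ * q ∈ zpowers z) →
    ∀ X, zpowers z < X → X < Qz z → ∃ k ∈ C1 z, ε k = 1 ∧ ∃ b ∈ X, k * b * k⁻¹ ∉ X

structure Gn (z y s s' : G) (π : G → SL23) (ε : G → ℤˣ) : Prop extends Pr z y s where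
  pi : Pi2 z π ε
  ps : π s = uM
  sC' : s' ∈ C1 z
  ps' : π s' = lM
  es' : ε s' = 1
  q' : Qd z s'

theorem Pr.es {z y s : G} (h : Pr z y s) {π : G → SL23} {ε : G → ℤˣ} (hπ : Pi2 z π ε) : ε s = 1 :=
  hπ.cube h.sC (by rw [h.hy.exp s h.sQ, hπ.one'])

theorem exists_gn {z y : G} (hz : LZ z) (hy : LZ y) (yQ : y ∈ Qz z) (yZ : y ∉ zpowers z)
    {π : G → SL23} {ε : G → ℤˣ} (hπ : Pi2 z π ε) : ∃ s s' π, Gn z y s s' π ε := by
  obtain ⟨s, π, h, hπ, e⟩ : ∃ s π, Pr z y s ∧ Pi2 z π ε ∧ π s = uM := by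
    obtain ⟨s, h⟩ := exists_pair hz hy yQ yZ
    obtain ⟨k, e | e⟩ := sl_u (π s) (by rw [← hπ.pow h.sC, hy.exp s h.sQ, hπ.one])
      fun e => h.sn ((hπ.ker s h.sC).1 ⟨e, h.es hπ⟩)
    · exact ⟨s, _, h, hπ.conj k, e⟩
    · exact ⟨s⁻¹, _, h.inv, hπ.conj k, by rw [← e, hπ.inv h.sC]⟩
  obtain ⟨w, hw⟩ := sl_l
  obtain ⟨g, hg, rfl, -⟩ := hπ.surj w
  have h1 := inv_mem h.sC
  exact ⟨s, g * s⁻¹ * g⁻¹, π, h, hπ, e, mul_mem (mul_mem hg h1) (inv_mem hg), by
    rw [hπ.cj hg h1, hπ.inv h.sC, e, hw], by rw [hπ.cj' hg h1, h.inv.es hπ], h.inv.quad.conj hg⟩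

theorem Sy.triv {z : G} {W : Type u} [AddCommGroup W] [Module F3 W] {pr : G → W}
    {B : W →ₗ[F3] W →ₗ[F3] F3} (hs : Sy z pr B) {g : G} (hg : g ∈ C1 z) {A : W →ₗ[F3] W}
    (hA : Ac z pr g A) (h : ∀ w, A w = w) : g ^ 3 ∈ Qz z := hs.loc.cq _ fun b hb => by
  have h1 := (hs.eq_iff (conj_mem_Qz hg hb) hb).1 ((hA b hb).trans (h _))
  have h2 := hs.loc.zp_comm h1 hg
  have h3 := hs.loc.zp_comm h1 (Qz_le z hb)
  have h4 := hs.loc.exp _ (hs.loc.zp_le h1)
  generalize hc : g * b * g⁻¹ * b⁻¹ = c at h2 h3 h4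
  have e : g * b = c * b * g := by rw [← hc]; group
  calc g ^ 3 * b = g * g * (g * b) := by rw [pow_three', mul_assoc]
    _ = g * (g * c) * b * g := by rw [e]; group
    _ = g * (c * g) * b * g := by rw [h2]
    _ = (g * c) * (g * b) * g := by group
    _ = (c * g) * (c * b * g) * g := by rw [e, h2]
    _ = c * (g * c) * b * g * g := by group
    _ = c * c * (g * b) * g * g := by rw [h2]; group
    _ = c ^ 3 * b * g ^ 3 := by rw [e, pow_three', pow_three']; group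
    _ = _ := by rw [h4, one_mul]

/-- coordinates on the symplectic space -/
structure Co (z y s : G) (π : G → SL23) (ε : G → ℤˣ) {W : Type u} [AddCommGroup W] [Module F3 W]
    (pr : G → W) (B : W →ₗ[F3] W →ₗ[F3] F3) (v v' p p' : W) (β : F3) : Prop where
  sy : Sy z pr B
  pi : Pi2 z π ε
  ind : ∀ i j k l : F3, i • v + j • v' + k • p + l • p' = 0 → i = 0 ∧ j = 0 ∧ k = 0 ∧ l = 0
  ne : β ≠ 0
  b1 : B v v' = β
  b2 : B p' p = β
  b3 : B v p = 0
  b4 : B v p' = 0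
  b5 : B v' p = 0
  b6 : B v' p' = 0
  act : ∀ g ∈ C1 z, ε g = 1 → ∀ A, Ac z pr g A → A v = (π g).1 0 0 • v + (π g).1 1 0 • v' ∧
    A v' = (π g).1 0 1 • v + (π g).1 1 1 • v' ∧ A p = p ∧ ∃ c : F3, A p' = p' + c • p
  real : (∃ g ∈ C1 z, ε g ≠ 1) → ∃ g ∈ C1 z, ε g ≠ 1 ∧ ∀ A, Ac z pr g A →
    A v = v ∧ A v' = v' ∧ A p = -p ∧ A p' = -p'
  both : ∀ y' s', Pr z y' s' → ∀ i j k l : F3, pr y' = i • v + j • v' + k • p + l • p' →
    ¬ (i = 0 ∧ j = 0) ∧ ¬ (k = 0 ∧ l = 0)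
  y : pr y = v + p
  sC : s ∈ C1 z
  ps : π s = uM
  es : ε s = 1
  sp : ∀ A, Ac z pr s A → A p' = p' + p

namespace Gn

variable {z y s s' : G} {π : G → SL23} {ε : G → ℤˣ} (h : Gn z y s s' π ε)
include h

theorem ind (P : G → Prop) (hQ : ∀ q ∈ Qz z, P q) (h1 : P s) (h2 : P s')
    (hm : ∀ a ∈ C1 z, ∀ b ∈ C1 z, P a → P b → P (a * b)) : ∀ g ∈ C1 z, ε g = 1 → P g := by
  have hp : ∀ a ∈ C1 z, P a → ∀ n : ℕ, P (a ^ n) := fun a ha e n => by
    induction n with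
    | zero => simpa using hQ 1 (one_mem _)
    | succ n ih => rw [pow_succ]; exact hm _ (pow_mem ha n) _ ha ih e
  intro g hg eg
  obtain ⟨i, j, k, l, e⟩ := sl_gen (π g)
  have a1 := pow_mem h.sC i.val
  have a2 := pow_mem h.sC' j.val
  have a3 := pow_mem h.sC k.val
  have a4 := pow_mem h.sC' l.val
  have a5 := mul_mem a1 a2
  have a6 := mul_mem a5 a3
  rw [← h.ps, ← h.ps', ← h.pi.pow h.sC, ← h.pi.pow h.sC, ← h.pi.pow h.sC', ← h.pi.pow h.sC',
    ← h.pi.mul _ a1 _ a2, ← h.pi.mul _ a5 _ a3, ← h.pi.mul _ a6 _ a4] at e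
  replace e := (h.pi.eq_iff hg (mul_mem a6 a4)).1 ⟨e, by
    rw [h.pi.mul' _ a6 _ a4, h.pi.mul' _ a5 _ a3, h.pi.mul' _ a1 _ a2, h.pi.pow' h.sC,
      h.pi.pow' h.sC, h.pi.pow' h.sC', h.pi.pow' h.sC', h.es', h.es h.pi, eg]; simp⟩
  have := hm _ (Qz_le z e) _ (mul_mem a6 a4) (hQ _ e) (hm _ a6 _ a4 (hm _ a5 _ a3 (hm _ a1 _ a2
    (hp _ h.sC h1 _) (hp _ h.sC' h2 _)) (hp _ h.sC h1 _)) (hp _ h.sC' h2 _))
  rwa [inv_mul_cancel_right] at this

theorem tC : s * s' * (s * s') ∈ C1 z := mul_mem (mul_mem h.sC h.sC') (mul_mem h.sC h.sC')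

theorem pt : π (s * s' * (s * s')) = nM := by
  rw [h.pi.mul _ (mul_mem h.sC h.sC') _ (mul_mem h.sC h.sC'), h.pi.mul _ h.sC _ h.sC', h.ps, h.ps',
    sl_n.1]

theorem et : ε (s * s' * (s * s')) = 1 := by
  rw [h.pi.mul' _ (mul_mem h.sC h.sC') _ (mul_mem h.sC h.sC'), Int.units_mul_self]

variable {W : Type u} [AddCommGroup W] [Module F3 W] {pr : G → W}
  {B : W →ₗ[F3] W →ₗ[F3] F3} (hs : Sy z pr B)
include hs

theorem cm {g k : G} (hg : g ∈ C1 z) (hk : k ∈ C1 z) (e : π g * π k = π k * π g)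
    {M M' : W →ₗ[F3] W} (hM : Ac z pr g M) (hM' : Ac z pr k M') (w : W) : M (M' w) = M' (M w) :=
  hs.ac_eq (C1_le_NQ z (mul_mem hk hg)) ((h.pi.eq_iff (mul_mem hg hk) (mul_mem hk hg)).1
    ⟨by rw [h.pi.mul _ hg _ hk, h.pi.mul _ hk _ hg, e], by
      rw [h.pi.mul' _ hg _ hk, h.pi.mul' _ hk _ hg, mul_comm]⟩)
    (hs.ac_mul (C1_le_NQ z hk) hM hM') (hs.ac_mul (C1_le_NQ z hg) hM' hM) w

theorem sq {g : G} (hg : g ∈ C1 z) (e : π g * π g = 1) {M : W →ₗ[F3] W} (hM : Ac z pr g M)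
    (w : W) : M (M w) = w :=
  hs.ac_Q ((h.pi.ker _ (mul_mem hg hg)).1 ⟨by rw [h.pi.mul _ hg _ hg, e], by
    rw [h.pi.mul' _ hg _ hg, Int.units_mul_self]⟩) (hs.ac_mul (C1_le_NQ z hg) hM hM) w

theorem exists_co (hr : Red z ε) : ∃ v v' p p' β, Co z y s π ε pr B v v' p p' β := by
  obtain ⟨A, hA⟩ := hs.act s (C1_le_NQ z h.sC)
  obtain ⟨A', hA'⟩ := hs.act s' (C1_le_NQ z h.sC')
  replace hA : Ac z pr s A := hA
  replace hA' : Ac z pr s' A' := hA'
  have aT : Ac z pr (s * s' * (s * s')) ((A ∘ₗ A') ∘ₗ (A ∘ₗ A')) :=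
    hs.ac_mul (C1_le_NQ z (mul_mem h.sC h.sC')) (hs.ac_mul (C1_le_NQ z h.sC') hA hA')
      (hs.ac_mul (C1_le_NQ z h.sC') hA hA')
  have hσ := hs.sq_zero h.sC h.quad hA
  have hτ := hs.sq_zero h.sC' h.q' hA'
  have hT : ∀ w, ((A ∘ₗ A') ∘ₗ (A ∘ₗ A')) w = (w + (A' - LinearMap.id : W →ₗ[F3] W) w +
      (A - LinearMap.id : W →ₗ[F3] W) (w + (A' - LinearMap.id : W →ₗ[F3] W) w)) +
      (A' - LinearMap.id : W →ₗ[F3] W) (w + (A' - LinearMap.id : W →ₗ[F3] W) w +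
      (A - LinearMap.id : W →ₗ[F3] W) (w + (A' - LinearMap.id : W →ₗ[F3] W) w)) +
      (A - LinearMap.id : W →ₗ[F3] W) ((w + (A' - LinearMap.id : W →ₗ[F3] W) w +
      (A - LinearMap.id : W →ₗ[F3] W) (w + (A' - LinearMap.id : W →ₗ[F3] W) w)) +
      (A' - LinearMap.id : W →ₗ[F3] W) (w + (A' - LinearMap.id : W →ₗ[F3] W) w +
      (A - LinearMap.id : W →ₗ[F3] W) (w + (A' - LinearMap.id : W →ₗ[F3] W) w))) := fun w => by simp
  have cT : ∀ {g : G}, g ∈ C1 z → ∀ {M : W →ₗ[F3] W}, Ac z pr g M → ∀ w,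
      M (((A ∘ₗ A') ∘ₗ (A ∘ₗ A')) w) = ((A ∘ₗ A') ∘ₗ (A ∘ₗ A')) (M w) := fun hg _ hM =>
    h.cm hs hg h.tC (by rw [h.pt, sl_n.2.2.2.1]) hM aT
  have h2 := h.sq hs h.tC (by rw [h.pt, sl_n.2.1]) aT
  have hB := hs.B_act h.tC aT
  have eA : ∀ w, A w = w + (A - LinearMap.id : W →ₗ[F3] W) w := fun w => by simp
  have eA' : ∀ w, A' w = w + (A' - LinearMap.id : W →ₗ[F3] W) w := fun w => by simp
  have y0 : (A - LinearMap.id : W →ₗ[F3] W) (pr y) = 0 := by simp [h.A_y hs hA]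
  have h3 : ∀ w, (A - LinearMap.id : W →ₗ[F3] W) (((A ∘ₗ A') ∘ₗ (A ∘ₗ A')) w) =
      ((A ∘ₗ A') ∘ₗ (A ∘ₗ A')) ((A - LinearMap.id : W →ₗ[F3] W) w) := fun w => by
    rw [LinearMap.sub_apply, LinearMap.sub_apply, map_sub, cT h.sC hA]; rfl
  have h4 : ∀ w, (A' - LinearMap.id : W →ₗ[F3] W) (((A ∘ₗ A') ∘ₗ (A ∘ₗ A')) w) =
      ((A ∘ₗ A') ∘ₗ (A ∘ₗ A')) ((A' - LinearMap.id : W →ₗ[F3] W) w) := fun w => by
    rw [LinearMap.sub_apply, LinearMap.sub_apply, map_sub, cT h.sC' hA']; rfl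
  obtain ⟨e, he, e1⟩ := h.exists_e
  obtain ⟨c, e2, e3⟩ := h.A_E hs hA he
  replace e2 : (A - LinearMap.id : W →ₗ[F3] W) (pr e) = c • pr y := e2
  have e4 : B (pr e) (pr y) = 0 := (hs.comm_iff he.1 h.yQ).1 (mem_C1.1 (Qz_le y he.2))
  have yn := h.y_ne hs hA
  generalize (A ∘ₗ A') ∘ₗ (A ∘ₗ A') = T at *
  generalize (A - LinearMap.id : W →ₗ[F3] W) = σ at *
  generalize (A' - LinearMap.id : W →ₗ[F3] W) = τ at *
  have n1 : ∃ w, T w ≠ w := by
    by_contra hc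
    push Not at hc
    have := ((h.pi.ker _ (pow_mem h.tC 3)).2 (hs.triv h.tC aT hc)).1
    rw [h.pi.pow h.tC, h.pt] at this
    exact absurd this (by decide)
  have n2 : ∃ w, T w ≠ -w := by
    by_contra hc
    push Not at hc
    have r : σ (τ (pr y)) = pr y := by simpa [y0] using rel_of_neg hσ hτ hT (hc (pr y))
    let U : Submodule F3 W := Submodule.span F3 {pr y, τ (pr y)}
    have u1 : pr y ∈ U := Submodule.subset_span (by simp)
    have u2 : τ (pr y) ∈ U := Submodule.subset_span (by simp)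
    obtain ⟨k, hk, ek, b, hb, e⟩ := hr (fun t ht et t1 t2 q hq => by
        obtain ⟨M, hM⟩ := hs.act t (C1_le_NQ z ht)
        have := hs.ac_eq (C1_le_NQ z h.tC) ((h.pi.eq_iff ht h.tC).1 ⟨by
          rw [h.pt]
          exact sl_n.2.2.2.2 _ (by
            rw [← h.pi.mul _ ht _ ht]; exact ((h.pi.ker _ (mul_mem ht ht)).2 t2).1)
            fun e => t1 ((h.pi.ker t ht).1 ⟨e, et⟩), by rw [et, h.et]⟩) hM aT (pr q)
        rw [← hs.zero _ (mul_mem (conj_mem_Qz ht hq) hq), hs.add _ (conj_mem_Qz ht hq) _ hq, hM q hq,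
          this, hc, neg_add_cancel]) (hs.pre U)
      (lt_of_le_of_ne (fun a ha => ⟨h.hz.zp_le ha, by
        rw [(hs.zero a (h.hz.zp_le ha)).2 ha]; exact zero_mem _⟩) fun e => h.yZ (e.ge ⟨h.yQ, u1⟩))
      (lt_of_le_of_ne (fun a ha => ha.1) fun e => by
        have : Function.Surjective fun c : F3 × F3 => c.1 • pr y + c.2 • τ (pr y) := fun w => by
          obtain ⟨a, ha, rfl⟩ := hs.surj w
          obtain ⟨i, j, e⟩ := Submodule.mem_span_pair.1 (e.ge ha).2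
          exact ⟨(i, j), e⟩
        have := Nat.card_le_card_of_surjective _ this
        rw [hs.card] at this
        simp at this)
    refine e (h.ind (fun k => ∀ b ∈ hs.pre U, k * b * k⁻¹ ∈ hs.pre U) (fun q hq b hb => ?_)
      (fun b hb => ⟨conj_mem_Qz h.sC hb.1, ?_⟩) (fun b hb => ⟨conj_mem_Qz h.sC' hb.1, ?_⟩)
      (fun a _ b _ e1 e2 c hc => by simpa [mul_assoc] using e1 _ (e2 c hc)) k hk ek b hb)
    · obtain ⟨M, hM⟩ := hs.act q (le_N _ hq)
      exact ⟨conj_mem_Qz (Qz_le z hq) hb.1, by rw [hM b hb.1, hs.ac_Q hq hM]; exact hb.2⟩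
    · obtain ⟨i, j, e⟩ := Submodule.mem_span_pair.1 hb.2
      rw [hA b hb.1, eA, ← e, map_add, map_smul, map_smul, y0, r, smul_zero, zero_add]
      exact add_mem (add_mem (U.smul_mem _ u1) (U.smul_mem _ u2)) (U.smul_mem _ u1)
    · obtain ⟨i, j, e⟩ := Submodule.mem_span_pair.1 hb.2
      rw [hA' b hb.1, eA', ← e, map_add, map_smul, map_smul, hτ, smul_zero, add_zero]
      exact add_mem (add_mem (U.smul_mem _ u1) (U.smul_mem _ u2)) (U.smul_mem _ u2)
  have d2 := @dim2 _ _ _ _ _ _ hσ hτ hT h3 h4 _ hs.alt hs.skew hB h2 hs.card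
    (fun w => hs.nondeg) n1 n2
  have both : ∀ y' s', Pr z y' s' → T (pr y') ≠ pr y' ∧ T (pr y') ≠ -pr y' := fun y' s' k => by
    obtain ⟨M, hM⟩ := hs.act s' (C1_le_NQ z k.sC)
    obtain ⟨e, he, e1⟩ := k.exists_e
    obtain ⟨c, e2, e3⟩ := k.A_E hs hM he
    have e4 : B (pr e) (pr y') = 0 := (hs.comm_iff he.1 k.yQ).1 (mem_C1.1 (Qz_le y' he.2))
    have e5 := hB (pr e) (pr y')
    have e6 := congrArg T e2
    have y0 := k.A_y hs hM
    have yn := k.y_ne hs hM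
    rw [map_sub, ← cT k.sC hM, map_smul] at e6
    constructor <;> intro e7 <;> rw [e7] at e5 e6 <;> refine e1 (e3 ?_)
    · obtain ⟨m, e8⟩ := d2 (u := pr e + T (pr e)) (Or.inl ⟨by simp [h2, add_comm], e7⟩) yn
        (by simp [e4, e5])
      have e9 := congrArg M e8
      rw [map_smul, y0, ← e8, map_add] at e9
      refine (smul_eq_zero.1 (half0 ?_)).resolve_right yn
      linear_combination (norm := abel) e9 - e2 - e6
    · obtain ⟨m, e8⟩ := d2 (u := pr e - T (pr e)) (Or.inr ⟨by simp [h2], e7⟩) yn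
        (by simpa [e4] using e5)
      have e9 := congrArg M e8
      rw [map_smul, y0, ← e8, map_sub] at e9
      rw [smul_neg] at e6
      refine (smul_eq_zero.1 (half0 ?_)).resolve_right yn
      linear_combination (norm := abel) e9 - e2 + e6
  have c0 : c * c = 1 := (by decide : ∀ c : F3, c ≠ 0 → c * c = 1) c fun e => e1 (e3 e)
  obtain ⟨v, hv⟩ : ∃ v, v = T (pr y) - pr y := ⟨_, rfl⟩
  obtain ⟨p, hp⟩ : ∃ p, p = -(pr y + T (pr y)) := ⟨_, rfl⟩
  obtain ⟨p', hp'⟩ : ∃ p', p' = c • -(pr e + T (pr e)) := ⟨_, rfl⟩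
  have v0 : v ≠ 0 := hv ▸ sub_ne_zero.2 (both y s h.toPr).1
  have p0 : p ≠ 0 := fun e => (both y s h.toPr).2
    (eq_neg_of_add_eq_zero_right (neg_eq_zero.1 (hp ▸ e)))
  have v1 : T v = -v := by simp [hv, h2]
  have v2 : σ v = 0 := by simp [hv, h3, y0]
  have p1 : T p = p := by simp [hp, h2, add_comm]
  have p2 : T p' = p' := by simp [hp', h2, add_comm]
  have p4 : σ p = 0 := by simp [hp, h3, y0]
  have p5 : σ p' = p := by
    rw [hp', map_smul, map_neg, map_add, h3, e2, map_smul, ← smul_add, ← smul_neg, ← mul_smul, c0,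
      one_smul, hp]
  have p3 : B p' p ≠ 0 := fun e => by
    obtain ⟨m, e⟩ := d2 (Or.inl ⟨p2, p1⟩) p0 e
    exact p0 (by rw [← p5, e, map_smul, p4, smul_zero])
  have ind := ind4 hσ hτ hT h3 h4 hs.alt hs.skew v0 v1 v2 p1 p2 p3
  have sp := span4 hs.card ind
  have r : σ (τ v) = v := by simpa [v2] using rel_of_neg hσ hτ hT v1
  have t1 : T (τ v) = -τ v := by rw [← h4, v1, map_neg]
  have t2 : τ p = 0 := by rw [plus_rel hσ hτ hT h3 h4 p1, p4, neg_zero]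
  have t3 : τ p' = -p := by rw [plus_rel hσ hτ hT h3 h4 p2, p5]
  have ey : pr y = v + p := by
    rw [hv, hp]; linear_combination (norm := abel) three (pr y)
  have o1 := orth hB v1 p1
  have o2 := orth hB v1 p2
  have o3 := orth hB t1 p1
  have o4 := orth hB t1 p2
  have qT : ∀ i j m l : F3, T (i • v + j • τ v + m • p + l • p') =
      -(i • v + j • τ v) + (m • p + l • p') := fun i j m l => by
    simp only [map_add, map_smul, v1, t1, p1, p2, smul_neg]; abel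
  have bb : B v (τ v) = B p' p := by
    obtain ⟨i, j, m, l, e5⟩ := sp (pr e)
    have e6 := e2
    rw [e5, ey] at e4 e6
    simp only [map_add, map_smul, v2, r, p4, p5, LinearMap.add_apply, LinearMap.smul_apply, hs.alt,
      o1, o3, hs.skew p v, hs.skew p' v, o2, smul_eq_mul, hs.skew (τ v) v] at e4 e6
    obtain ⟨a1, -, a2, -⟩ := ind (j - c) 0 (l - c) 0 (by
      linear_combination (norm := module) e6)
    rw [sub_eq_zero] at a1 a2
    rw [a1, a2] at e4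
    linear_combination -c * e4 - (B v (τ v) - B p' p) * c0
  have cen : ∀ g ∈ C1 z, (∀ k, π g * k = k * π g) → π g * π g = 1 → ∀ M, Ac z pr g M →
      ∃ a b : F3, a * a = 1 ∧ b * b = 1 ∧ M v = a • v ∧ M (τ v) = a • τ v ∧ M p = b • p ∧
        M p' = b • p' := fun g hg c1 c2 M hM => by
    have m1 : ∀ w, M (σ w) = σ (M w) := fun w => by
      have := h.cm hs hg h.sC (c1 _) hM hA w
      rwa [eA, eA, map_add, add_right_inj] at this
    have m2 : ∀ w, M (τ w) = τ (M w) := fun w => by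
      have := h.cm hs hg h.sC' (c1 _) hM hA' w
      rwa [eA', eA', map_add, add_right_inj] at this
    have m3 := h.sq hs hg c2 hM
    have m4 := cT hg hM
    obtain ⟨a, i, j, k, e1⟩ := sp (M v)
    obtain ⟨i', j', k', b, e2⟩ := sp (M p')
    have a1 := m4 v
    have a2 := m4 p'
    have a3 := m1 v
    rw [v1, map_neg, e1, qT] at a1
    rw [p2, e2, qT] at a2
    rw [v2, map_zero, e1] at a3
    simp only [map_add, map_smul, v2, r, p4, p5] at a3
    obtain ⟨rfl, -, rfl, -⟩ := ind i 0 k 0 (by linear_combination (norm := module) -a3)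
    obtain ⟨-, -, a4, -⟩ := ind 0 0 (j + j) 0 (by linear_combination (norm := module) -a1)
    obtain ⟨a5, a6, -, -⟩ := ind (i' + i') (j' + j') 0 0 (by linear_combination (norm := module) a2)
    rw [half0 (W := F3) a4] at e1
    rw [half0 (W := F3) a5, half0 (W := F3) a6] at e2
    simp only [zero_smul, add_zero, zero_add] at e1 e2
    have e3 : M p = b • p := by rw [← p5, m1, e2]; simp [p4]
    have a7 := m3 v
    have a8 := m3 p'
    rw [e1, map_smul, e1] at a7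
    rw [e2, map_add, map_smul, map_smul, e2, e3] at a8
    obtain ⟨a9, -, -, -⟩ := ind (a * a - 1) 0 0 0 (by linear_combination (norm := module) a7)
    obtain ⟨-, -, b1, b2⟩ := ind 0 0 (k' * b + b * k') (b * b - 1)
      (by linear_combination (norm := module) a8)
    rw [(by decide : ∀ k b : F3, k * b + b * k = 0 → b * b - 1 = 0 → k = 0) _ _ b1 b2] at e2
    exact ⟨a, b, sub_eq_zero.1 a9, sub_eq_zero.1 b2, e1, by rw [m2, e1, map_smul], e3,
      by simpa using e2⟩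
  refine ⟨v, τ v, p, p', _, hs, h.pi, ind, p3, bb, rfl, o1, o2, o3, o4, h.ind _
    (fun q hq M hM => ?_) (fun M hM => ?_) (fun M hM => ?_) (fun a ha b hb e1 e2 M hM => ?_), ?_,
    fun y' s' k i j m l e => ?_, ey, h.sC, h.ps, h.es h.pi, fun M hM => ?_⟩
  · simp only [hs.ac_Q hq hM, ((h.pi.ker q (Qz_le z hq)).2 hq).1]
    exact ⟨by simp, by simp, trivial, 0, by simp⟩
  · simp only [hs.ac_eq (C1_le_NQ z h.sC) (by simp) hM hA, eA, h.ps, v2, r, p4, p5]
    exact ⟨by simp [uM], by simp [uM, add_comm], by simp, 1, by simp⟩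
  · simp only [hs.ac_eq (C1_le_NQ z h.sC') (by simp) hM hA', eA', h.ps', hτ, t2, t3]
    exact ⟨by simp [lM], by simp [lM], by simp, -1, by simp⟩
  · obtain ⟨M1, h1⟩ := hs.act a (C1_le_NQ z ha)
    obtain ⟨M2, h2⟩ := hs.act b (C1_le_NQ z hb)
    obtain ⟨a1, a2, a3, c1, a4⟩ := e1 _ h1
    obtain ⟨b1, b2, b3, c2, b4⟩ := e2 _ h2
    simp only [hs.ac_eq (C1_le_NQ z (mul_mem ha hb)) (by simp) hM (hs.ac_mul (C1_le_NQ z hb) h1 h2),
      LinearMap.comp_apply, b1, b2, b3, b4, map_add, map_smul, a1, a2, a3, a4, h.pi.mul a ha b hb,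
      Matrix.SpecialLinearGroup.coe_mul, Matrix.mul_apply, Fin.sum_univ_two]
    exact ⟨by module, by module, trivial, c1 + c2, by module⟩
  · rintro ⟨g, hg, eg⟩
    obtain ⟨g, hg, eg, c1, c2, c3⟩ : ∃ g ∈ C1 z, ε g ≠ 1 ∧ (∀ k, π g * k = k * π g) ∧
        π g * π g = 1 ∧ ∀ M, Ac z pr g M → M v = v := by
      obtain ⟨k, hk, e1, e2⟩ := h.pi.surj (π g)⁻¹
      have e3 : π (k * g) = 1 := by rw [h.pi.mul _ hk _ hg, e1, inv_mul_cancel]
      have e4 : ε (k * g) ≠ 1 := by rwa [h.pi.mul' _ hk _ hg, e2, one_mul]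
      have hkg := mul_mem hk hg
      generalize k * g = g at e3 e4 hkg
      obtain ⟨M, hM⟩ := hs.act g (C1_le_NQ z hkg)
      obtain ⟨a, -, a1, -, a2, -⟩ := cen g hkg (by simp [e3]) (by simp [e3]) M hM
      rcases (by decide : ∀ a : F3, a * a = 1 → a = 1 ∨ a = -1) a a1 with rfl | rfl
      · exact ⟨g, hkg, e4, by simp [e3], by simp [e3], fun M' hM' => by
          rw [hs.ac_eq (C1_le_NQ z hkg) (by simp) hM' hM, a2, one_smul]⟩
      · have e5 : π (g * (s * s' * (s * s'))) = nM := by rw [h.pi.mul _ hkg _ h.tC, e3, h.pt, one_mul]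
        exact ⟨_, mul_mem hkg h.tC, by rwa [h.pi.mul' _ hkg _ h.tC, h.et, mul_one],
          fun k => by rw [e5, sl_n.2.2.2.1], by rw [e5, sl_n.2.1], fun M' hM' => by
          rw [hs.ac_eq (C1_le_NQ z (mul_mem hkg h.tC)) (mul_inv_cancel (_ : G) ▸ one_mem _) hM'
            (hs.ac_mul (C1_le_NQ z h.tC) hM aT), LinearMap.comp_apply, v1, map_neg, a2]; simp⟩
    refine ⟨g, hg, eg, fun M hM => ?_⟩
    obtain ⟨a, b, -, a1, a2, a3, a4, a5⟩ := cen g hg c1 c2 M hM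
    obtain ⟨a6, -⟩ := ind (a - 1) 0 0 0 (by linear_combination (norm := module) c3 M hM - a2)
    rw [sub_eq_zero.1 a6, one_smul] at a2 a3
    rcases (by decide : ∀ a : F3, a * a = 1 → a = 1 ∨ a = -1) b a1 with rfl | rfl
    · refine absurd (h.pi.cube hg ((h.pi.ker _ (pow_mem hg 3)).2 (hs.triv hg hM fun w => ?_)).2) eg
      obtain ⟨i, j, k, l, rfl⟩ := sp w
      simp [a2, a3, a4, a5]
    · exact ⟨a2, a3, by simpa using a4, by simpa using a5⟩
  · have := both y' s' k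
    rw [e, qT] at this
    constructor <;> rintro ⟨rfl, rfl⟩ <;> simp at this
  · rw [hs.ac_eq (C1_le_NQ z h.sC) (by simp) hM hA, eA, p5]

end Gn

end CfsgH2.T3
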