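import Cfsg.Agent.H2.T3B

/-! The subgroup `J`. -/

set_option autoImplicit false
set_option linter.unusedSectionVars false

namespace CfsgH2.T3

open Subgroup CfsgH5 CfsgH6 CfsgFT CfsgH9 CfsgH7 Matrix
open CfsgH1.L43 hiding Loc0 Sym Pair Gen Loc Co

universe u

variable {G : Type u} [Group G]

theorem j81_add {f : FD G} (a3 : f.a ^ 3 = 1) (b3 : f.b ^ 3 = 1) (c3 : f.c ^ 3 = 1) (d3 : f.d ^ 3 = 1)
    (ab : Commute f.a f.b) (ac : Commute f.a f.c) (ad : Commute f.a f.d) (bc : Commute f.b f.c)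
    (bd : Commute f.b f.d) (cd : Commute f.c f.d) (v v' : V4) :
    f.jv (v + v') = f.jv v * f.jv v' := by
  simp only [FD.jv, Pi.add_apply, P43.pow_val_add a3, P43.pow_val_add b3, P43.pow_val_add c3,
    P43.pow_val_add d3]
  rw [(ab.pow_pow _ _).mul_mul_mul_comm,
    ((ac.pow_pow _ _).mul_left (bc.pow_pow _ _)).mul_mul_mul_comm,
    (((ad.pow_pow _ _).mul_left (bd.pow_pow _ _)).mul_left (cd.pow_pow _ _)).mul_mul_mul_comm]

theorem J81.jv_change {f f' : FD G} (h : J81 f) {P : M4} (h1 : f'.a = f.jv (fun i => P i 0))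
    (h2 : f'.b = f.jv (fun i => P i 1)) (h3 : f'.c = f.jv (fun i => P i 2))
    (h4 : f'.d = f.jv (fun i => P i 3)) (v : V4) : f'.jv v = f.jv (P *ᵥ v) := by
  have e : P *ᵥ v = v 0 • (fun i => P i 0) + v 1 • (fun i => P i 1) + v 2 • (fun i => P i 2) +
      v 3 • (fun i => P i 3) := by
    ext i
    simp [mulVec, dotProduct, Fin.sum_univ_four, mul_comm]
  rw [e, h.add, h.add, h.add, h.smul, h.smul, h.smul, h.smul, ← h1, ← h2, ← h3, ← h4, FD.jv]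

theorem J81.change {f f' : FD G} (h : J81 f) {P P' : M4} (e : ∀ v, f'.jv v = f.jv (P *ᵥ v))
    (hP : P' * P = 1) : J81 f' :=
  ⟨fun v v' => by rw [e, e, e, mulVec_add, h.add], fun v v' e' => by
    have := congrArg (P' *ᵥ ·) (h.inj ((e v).symm.trans (e'.trans (e v'))))
    simpa [mulVec_mulVec, hP] using this⟩

theorem FD.Act.change {f f' : FD G} {P A A' : M4} {g : G} (e : ∀ v, f'.jv v = f.jv (P *ᵥ v))
    (h : f.Act g A) (hP : A * P = P * A') : f'.Act g A' := fun v => by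
  rw [e, e, h, mulVec_mulVec, mulVec_mulVec, hP]

variable [Finite G]

theorem sl_fix : ∀ M : SL23, M.1 0 0 = 1 → M.1 1 0 = 0 → ∃ i : F3, M = uM ^ i.val := by
  decide +kernel

namespace Co

variable {z y s : G} {π : G → SL23} {ε : G → ℤˣ} {W : Type u} [AddCommGroup W] [Module F3 W]
  {pr : G → W} {B : W →ₗ[F3] W →ₗ[F3] F3} {v v' p p' : W} {β : F3}
  (h : Co z y s π ε pr B v v' p p' β)
include h

theorem span (w : W) : ∃ i j k l : F3, w = i • v + j • v' + k • p + l • p' := span4 h.sy.card h.ind w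

theorem coef {i j k l i' j' k' l' : F3}
    (e : i • v + j • v' + k • p + l • p' = i' • v + j' • v' + k' • p + l' • p') :
    i = i' ∧ j = j' ∧ k = k' ∧ l = l' := by
  simpa only [sub_eq_zero] using h.ind (i - i') (j - j') (k - k') (l - l')
    (by linear_combination (norm := module) e)

theorem Bv (i j k l : F3) : B (i • v + j • v' + k • p + l • p') v = -(j * β) := by
  simp [h.sy.alt, h.sy.skew v' v, h.sy.skew p v, h.sy.skew p' v, h.b1, h.b3, h.b4]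

theorem Bp (i j k l : F3) : B (i • v + j • v' + k • p + l • p') p = l * β := by
  simp [h.sy.alt, h.b2, h.b3, h.b5]

theorem Bp' (i j k l : F3) : B (i • v + j • v' + k • p + l • p') p' = -(k * β) := by
  simp [h.sy.alt, h.sy.skew p p', h.b2, h.b4, h.b6]

theorem ex {g : G} (hg : g ∈ C1 z) : ∃ A, Ac z pr g A := h.sy.act g (C1_le_NQ z hg)

theorem ae {g : G} (hg : g ∈ C1 z) {A A' : W →ₗ[F3] W} (h1 : Ac z pr g A) (h2 : Ac z pr g A')
    (w : W) : A w = A' w := h.sy.ac_eq (C1_le_NQ z hg) (mul_inv_cancel g ▸ one_mem _) h1 h2 w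

theorem flip : Co z⁻¹ y s π ε pr (-B) v v' p p' (-β) := by
  obtain ⟨⟨s1, s2, s3, s4, s5, s6, s7⟩, ⟨p1, p2, p3, p4⟩, h1, h2, h3, h4, h5, h6, h7, h8, h9, h10,
    h11, h12, h13, h14, h15, h16⟩ := h
  refine ⟨⟨s1.inv, ?_, ?_, ?_, fun a ha b hb => ?_, s6, ?_⟩, ⟨?_, ?_, ?_, ?_⟩, h1, neg_ne_zero.2 h2,
    by simp [h3], by simp [h4], by simp [h5], by simp [h6], by simp [h7], by simp [h8], ?_, ?_,
    fun y' s' k => h11 y' s' ⟨s1, k.hy, ?_, ?_, ?_, ?_, k.sQ, ?_, ?_⟩, h12, ?_, h14, h15, ?_⟩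
  any_goals simp only [Ac, Qz_inv, C1_inv, zpowers_inv]; assumption
  · rw [Qz_inv] at ha hb
    rw [s5 a ha b hb, LinearMap.neg_apply, LinearMap.neg_apply, pow_val_neg s1.inv.cube, inv_pow,
      inv_inv]
  exacts [Qz_inv z ▸ k.yQ, zpowers_inv (g := z) ▸ k.yZ, inv_mem_iff.1 k.zQ, Qz_inv z ▸ k.card,
    C1_inv z ▸ k.sC, Qz_inv z ▸ k.sn]

theorem reb {s' : G} (e : s' * s⁻¹ ∈ Qz z) : Co z y s' π ε pr B v v' p p' β := by
  have h1 : s' ∈ C1 z := by simpa using mul_mem (Qz_le z e) h.sC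
  have h2 := (h.pi.eq_iff h1 h.sC).2 e
  refine { h with sC := h1, ps := h2.1.trans h.ps, es := h2.2.trans h.es, sp := fun A hA => ?_ }
  obtain ⟨A', hA'⟩ := h.ex h.sC
  rw [h.sy.ac_eq (C1_le_NQ z h.sC) e hA hA', h.sp _ hA']

theorem p_ne : p ≠ -p := fun e => by
  have := (h.ind 0 0 2 0 (by linear_combination (norm := module) e)).2.2.1
  exact absurd this (by decide)

theorem eps {g : G} (hg : g ∈ C1 z) {A : W →ₗ[F3] W} (hA : Ac z pr g A) (e : A p = p) : ε g = 1 := by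
  by_contra hc
  obtain ⟨k, hk, e1, e2⟩ := h.real ⟨g, hg, hc⟩
  obtain ⟨M, hM⟩ := h.ex hk
  have := (h.act _ (mul_mem hg hk) (by
    rw [h.pi.mul' _ hg _ hk, Int.units_ne_iff_eq_neg.1 hc, Int.units_ne_iff_eq_neg.1 e1]; simp) _
    (h.sy.ac_mul (C1_le_NQ z hk) hA hM)).2.2.1
  rw [LinearMap.comp_apply, (e2 M hM).2.2.1, map_neg, e] at this
  exact h.p_ne this.symm

theorem fixv {g : G} (hg : g ∈ C1 z) (eg : ε g = 1) {A : W →ₗ[F3] W} (hA : Ac z pr g A)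
    (e : A v = v) : ∃ i : F3, g * (s ^ i.val)⁻¹ ∈ Qz z := by
  obtain ⟨a1, a2, -⟩ := h.coef (k := 0) (l := 0) (i' := 1) (j' := 0) (k' := 0) (l' := 0)
    (by simpa using (h.act g hg eg A hA).1.symm.trans e)
  obtain ⟨i, hi⟩ := sl_fix _ a1 a2
  exact ⟨i, (h.pi.eq_iff hg (pow_mem h.sC _)).1 ⟨by rw [h.pi.pow h.sC, h.ps, hi], by
    rw [h.pi.pow' h.sC, h.es, eg, one_pow]⟩⟩

theorem act_s {A : W →ₗ[F3] W} (hA : Ac z pr s A) :
    A v = v ∧ A v' = v + v' ∧ A p = p ∧ A p' = p' + p := by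
  obtain ⟨a1, a2, a3, -⟩ := h.act s h.sC h.es A hA
  rw [h.ps] at a1 a2
  exact ⟨by simpa [uM] using a1, by simpa [uM] using a2, a3, h.sp A hA⟩

theorem act_t {t : G} (ht : t ∈ C1 z) (pt : π t = nM) (et : ε t = 1) {A : W →ₗ[F3] W}
    (hA : Ac z pr t A) : A v = -v ∧ A v' = -v' ∧ A p = p ∧ A p' = p' := by
  obtain ⟨a1, a2, a3, c, a4⟩ := h.act t ht et A hA
  rw [pt] at a1 a2
  have a5 := h.sy.ac_Q ((h.pi.ker _ (mul_mem ht ht)).1 ⟨by rw [h.pi.mul _ ht _ ht, pt, sl_n.2.1], by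
    rw [h.pi.mul' _ ht _ ht, et, one_mul]⟩) (h.sy.ac_mul (C1_le_NQ z ht) hA hA) p'
  rw [LinearMap.comp_apply, a4, map_add, map_smul, a4, a3] at a5
  obtain ⟨-, -, a6, -⟩ := h.ind 0 0 (c + c) 0 (by linear_combination (norm := module) a5)
  exact ⟨by simpa [nM] using a1, by simpa [nM] using a2, a3, by simp [a4, half0 (W := F3) a6]⟩

variable {e d : G} (eQ : e ∈ Qz z) (pe : pr e = v) (dQ : d ∈ Qz z) (pd : pr d = p)
include eQ pe dQ pd

theorem memF {q : G} (hq : q ∈ Qz z) (h1 : q ∈ C1 e) (h2 : q ∈ C1 d) :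
    ∃ i k l : F3, q = e ^ i.val * d ^ k.val * z ^ l.val := by
  obtain ⟨i, j, k, l, e1⟩ := h.span (pr q)
  have a1 := (h.sy.comm_iff hq eQ).1 (mem_C1.1 h1)
  have a2 := (h.sy.comm_iff hq dQ).1 (mem_C1.1 h2)
  rw [e1, pe, h.Bv, neg_eq_zero, mul_eq_zero, or_iff_left h.ne] at a1
  rw [e1, pd, h.Bp, mul_eq_zero, or_iff_left h.ne] at a2
  have m := mul_mem (pow_mem eQ i.val) (pow_mem dQ k.val)
  obtain ⟨c, hc⟩ := exists_val h.sy.loc.cube ((h.sy.eq_iff hq m).1 (by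
    rw [h.sy.add _ (pow_mem eQ _) _ (pow_mem dQ _), h.sy.pow_val eQ, h.sy.pow_val dQ, e1, a1, a2,
      pe, pd]; simp))
  exact ⟨i, k, c, by
    rw [h.sy.loc.zp_comm (pow_mem (mem_zpowers z) _) (Qz_le z m), ← hc, inv_mul_cancel_right]⟩

theorem cenF (se : s ∈ C1 e) (sd : s ∈ C1 d) {g : G} (hg : g ∈ C1 z) (h1 : g ∈ C1 e)
    (h2 : g ∈ C1 d) : ∃ m i k l : F3, g = s ^ m.val * e ^ i.val * d ^ k.val * z ^ l.val := by
  obtain ⟨A, hA⟩ := h.ex hg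
  obtain ⟨m, hm⟩ := h.fixv hg (h.eps hg hA (by rw [← pd, ← hA d dQ, mem_C1_iff_conj.1 h2])) hA
    (by rw [← pe, ← hA e eQ, mem_C1_iff_conj.1 h1])
  have := conj_mem_Qz (inv_mem (pow_mem h.sC m.val)) hm
  rw [show (s ^ m.val)⁻¹ * (g * (s ^ m.val)⁻¹) * (s ^ m.val)⁻¹⁻¹ = (s ^ m.val)⁻¹ * g by group] at this
  obtain ⟨i, k, l, e1⟩ := h.memF eQ pe dQ pd this (mul_mem (inv_mem (pow_mem se _)) h1)
    (mul_mem (inv_mem (pow_mem sd _)) h2)
  exact ⟨m, i, k, l, by rw [mul_assoc, mul_assoc, ← mul_assoc (e ^ _), ← e1]; group⟩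

end Co

/-- the structure of the normalizer of `J` in `C(z)` -/
structure Pre (f : FD G) (π : G → SL23) (ε : G → ℤˣ) {W : Type u} [AddCommGroup W] [Module F3 W]
    (pr : G → W) (B : W →ₗ[F3] W →ₗ[F3] F3) (v v' p p' : W) : Prop
    extends J81 f, Co f.z (f.e * f.d) f.a π ε pr B v v' p p' 1 where
  eQ : f.e ∈ Qz f.z
  pe : pr f.e = v
  dQ : f.d ∈ Qz f.z
  pd : pr f.d = p
  xQ : f.x ∈ Qz f.z
  ax : f.Act f.x mX
  τQ : f.τ ∈ Qz f.z
  aτ : f.Act f.τ mR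
  at' : f.Act f.t mT
  tt : f.t * f.t = 1
  hy : ∃ g, g * f.z * g⁻¹ = f.e * f.d ∨ g * f.z * g⁻¹ = (f.e * f.d)⁻¹
  big : ∀ P : Subgroup G, IsPGroup 3 P → Nat.card P ≤ 729

/-- the base change -/
def mP (m n : F3) : M4 := !![1, 1, 1, 0; m, m + 1, m - 1, 0; n, n, n, 1; 0, -1, -1, 0]

set_option synthInstance.maxSize 2000 in
theorem t_chk : ∀ α c0 c1 c2 c3 : F3, (!![c0, 0, 0, 0; c1, -1, 0, 0; c2, 0, 1, 0; c3, 0, 0, 1] : M4) *ᵥ
    (!![c0, 0, 0, 0; c1, -1, 0, 0; c2, 0, 1, 0; c3, 0, 0, 1] : M4) *ᵥ ![1, 0, 0, 0] = ![1, 0, 0, 0] →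
    (!![c0, 0, 0, 0; c1, -1, 0, 0; c2, 0, 1, 0; c3, 0, 0, 1] : M4) *ᵥ
    (!![1, 0, 0, 0; 1, 1, 0, 0; 0, 0, 1, 0; α, 1, 0, 1] : M4) *ᵥ
    (!![c0, 0, 0, 0; c1, -1, 0, 0; c2, 0, 1, 0; c3, 0, 0, 1] : M4) *ᵥ
    (!![1, 0, 0, 0; 1, 1, 0, 0; 0, 0, 1, 0; α, 1, 0, 1] : M4) *ᵥ ![1, 0, 0, 0] = ![1, 0, 0, 0] →
    c0 = 1 ∧ c1 = 1 + α ∧ c2 = 0 ∧ c3 = 0 := by decide +kernel

theorem exists_pre {z y s : G} {π : G → SL23} {ε : G → ℤˣ} {W : Type u} [AddCommGroup W]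
    [Module F3 W] {pr : G → W} {B : W →ₗ[F3] W →ₗ[F3] F3} {v v' p p' : W}
    (h : Co z y s π ε pr B v v' p p' 1) (k : Pr z y s)
    (hy : ∃ g, g * z * g⁻¹ = y ∨ g * z * g⁻¹ = y⁻¹)
    (big : ∀ P : Subgroup G, IsPGroup 3 P → Nat.card P ≤ 729) :
    ∃ f : FD G, Pre f π ε pr B v v' p p' := by
  have hs := h.sy
  have l := hs.loc
  obtain ⟨t, ht, pt, et, tt⟩ : ∃ t ∈ C1 z, π t = nM ∧ ε t = 1 ∧ t * t = 1 := by
    obtain ⟨t, ht, pt, et⟩ := h.pi.surj nM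
    refine ⟨t ^ 3, pow_mem ht 3, by rw [h.pi.pow ht, pt]; decide, by rw [h.pi.pow' ht, et, one_pow], ?_⟩
    rw [← (Commute.refl t).mul_pow]
    exact l.exp _ ((h.pi.ker _ (mul_mem ht ht)).1 ⟨by rw [h.pi.mul _ ht _ ht, pt, sl_n.2.1], by
      rw [h.pi.mul' _ ht _ ht, et, one_mul]⟩)
  have ti : t⁻¹ = t := inv_eq_of_mul_eq_one_right tt
  obtain ⟨T, hT⟩ := h.ex ht
  obtain ⟨t1, t2, t3, t4⟩ := h.act_t ht pt et hT
  obtain ⟨e, d, eQ, pe, dQ, pd, ed, te, td⟩ : ∃ e d, e ∈ Qz z ∧ pr e = v ∧ d ∈ Qz z ∧ pr d = p ∧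
      y = e * d ∧ t * e * t⁻¹ = e⁻¹ ∧ t * d * t⁻¹ = d := by
    have y1 := conj_mem_Qz ht k.yQ
    have y2 : pr (t * y * t⁻¹) = -v + p := by rw [hT y k.yQ, h.y, map_add, t1, t3]
    have y3 : t * (t * y * t⁻¹) * t⁻¹ = y := by
      rw [show t * (t * y * t⁻¹) * t⁻¹ = (t * t) * y * (t * t)⁻¹ by group, tt]; simp
    have y4 := (hs.comm_iff k.yQ y1).2 (by
      rw [y2, h.y]; simp [hs.alt, h.b3, hs.skew p v])
    generalize hy' : t * y * t⁻¹ = y' at y1 y2 y3 y4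
    have m := mul_mem k.yQ y1
    have y5 : t * (y * y') * t⁻¹ = y * y' := by rw [← conj_mul, hy', y3, y4]
    have y6 : pr (y * y')⁻¹ = p := by
      rw [hs.inv m, hs.add _ k.yQ _ y1, y2, h.y]; linear_combination (norm := abel) -three p
    refine ⟨y * (y * y'), (y * y')⁻¹, mul_mem k.yQ m, ?_, inv_mem m, y6, by group, ?_, by
      rw [← conj_inv, y5]⟩
    · rw [hs.add _ k.yQ _ m, ← neg_neg (pr (y * y')), ← hs.inv m, y6, h.y]; abel
    · rw [← conj_mul, y5, hy', eq_inv_iff_mul_eq_one]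
      have := l.exp _ m
      rw [pow_three'] at this
      calc _ = (y' * y) * (y' * y) * (y * y') := by group
        _ = 1 := by rw [← y4, this]
  have ced : e * d = d * e := (hs.comm_iff eQ dQ).2 (by rw [pe, pd, h.b3])
  obtain ⟨a, aQ, ay, ae, ad⟩ : ∃ a, a * s⁻¹ ∈ Qz z ∧ a ∈ Qz y ∧ a ∈ C1 e ∧ a ∈ C1 d := by
    obtain ⟨A, hA⟩ := h.ex h.sC
    obtain ⟨a1, a2, a3, a4⟩ := h.act_s hA
    obtain ⟨g, hg, e1⟩ := k.exists_e
    obtain ⟨c, e2, e3⟩ := k.A_E hs hA hg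
    obtain ⟨i, j, m, n, e4⟩ := h.span (pr g)
    rw [e4, h.y] at e2
    simp only [map_add, map_smul, a1, a2, a3, a4] at e2
    obtain ⟨rfl, -⟩ := h.coef (i := j) (j := 0) (k := n) (l := 0) (i' := c) (j' := 0) (k' := c) (l' := 0)
      (by linear_combination (norm := module) e2)
    obtain ⟨r, hr⟩ := exists_val l.cube ((hs.eq_iff (conj_mem_Qz h.sC eQ) eQ).1
      (by rw [hA e eQ, pe, a1]))
    have m1 := pow_mem hg (r * j).val
    have m2 : g ^ (r * j).val * s ∈ Qz y := mul_mem m1.2 k.sQ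
    have m3 : g ^ (r * j).val * s ∈ C1 e := by
      have c1 := hs.conj_eq m1.1 eQ
      rw [hs.pow_val hg.1, pe, map_smul, LinearMap.smul_apply, e4, h.Bv, smul_eq_mul,
        (by decide : ∀ r j : F3, j ≠ 0 → r * j * -(j * 1) = -r) r j fun e => e1 (e3 e),
        pow_val_neg l.cube] at c1
      have c2 := l.zp_comm (pow_mem (mem_zpowers z) r.val) (Qz_le z m1.1)
      have c3 := l.zp_comm (pow_mem (mem_zpowers z) r.val) (Qz_le z eQ)
      rw [mem_C1_iff_conj]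
      generalize g ^ (r * j).val = q at *
      calc _ = q * (s * e * s⁻¹ * e⁻¹) * e * q⁻¹ := by group
        _ = z ^ r.val * (q * e * q⁻¹) := by rw [hr, c2]; group
        _ = e := by rw [c1, ← mul_assoc, ← c3]; group
    refine ⟨_, by simpa using m1.1, m2, m3, ?_⟩
    rw [show d = e⁻¹ * y by rw [ed]; group, mem_C1_comm]
    exact mul_mem (inv_mem (mem_C1_comm.1 m3)) (mem_C1_comm.1 (Qz_le y m2))
  replace h := h.reb aQ
  have z3 := l.cube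
  have zc : ∀ {g}, g ∈ C1 z → Commute g z := fun hg => mem_C1.1 hg
  let f0 : FD G := ⟨a, e, d, z, 1, 1, 1, 1, 1, 1, 1, 1⟩
  have j0 : J81 f0 := by
    have add := j81_add (f := f0) (k.hy.exp a ay) (l.exp e eQ) (l.exp d dQ) z3 (mem_C1.1 ae)
      (mem_C1.1 ad) (zc h.sC) ced (zc (Qz_le z eQ)) (zc (Qz_le z dQ))
    let φ : Multiplicative V4 →* G := MonoidHom.mk' (fun v => f0.jv v.toAdd) fun a b => add _ _
    refine ⟨add, fun u u' e' => (injective_iff_map_eq_one φ).2 (fun w hw => ?_) (a₁ := .ofAdd u)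
      (a₂ := .ofAdd u') e'⟩
    change a ^ (w.toAdd 0).val * e ^ (w.toAdd 1).val * d ^ (w.toAdd 2).val *
      z ^ (w.toAdd 3).val = 1 at hw
    have m1 := mul_mem (pow_mem eQ (w.toAdd 1).val) (pow_mem dQ (w.toAdd 2).val)
    have m2 := pow_mem l.mem (w.toAdd 3).val
    have w0 : w.toAdd 0 = 0 := by
      have := ((h.pi.ker _ (pow_mem h.sC (w.toAdd 0).val)).2 (by
        rw [mul_assoc, mul_assoc, ← mul_assoc (e ^ _), mul_eq_one_iff_eq_inv] at hw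
        exact hw ▸ inv_mem (mul_mem m1 m2))).1
      rw [h.pi.pow h.sC, h.ps] at this
      exact (by decide : ∀ c : F3, uM ^ c.val = 1 → c = 0) _ this
    rw [w0, ZMod.val_zero, pow_zero, one_mul] at hw
    have := congrArg pr hw
    rw [hs.add _ m1 _ m2, hs.add _ (pow_mem eQ _) _ (pow_mem dQ _), hs.pow_val eQ, hs.pow_val dQ,
      (hs.zero _ m2).2 (pow_mem (mem_zpowers z) _), pe, pd, hs.one] at this
    obtain ⟨w1, -, w2, -⟩ := h.ind (w.toAdd 1) 0 (w.toAdd 2) 0 (by simpa using this)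
    have w3 : w.toAdd 3 = 0 := pow_val_inj l.ne z3 (by simpa [w1, w2] using hw)
    change w.toAdd = 0
    funext i; fin_cases i <;> assumption
  have jv : ∀ i j k l : F3, f0.jv ![i, j, k, l] = a ^ i.val * e ^ j.val * d ^ k.val * z ^ l.val :=
    fun _ _ _ _ => rfl
  have v1 : (1 : F3).val = 1 := rfl
  obtain ⟨A, hA⟩ := h.ex h.sC
  obtain ⟨a1, a2, a3, a4⟩ := h.act_s hA
  have key : ∀ q ∈ Qz z, ∀ r ∈ Qz z, a ∈ C1 r → pr r = pr q - A (pr q) → ∃ c : F3,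
      q * a * q⁻¹ = a * r * z ^ c.val := fun q hq r hr ar e => by
    have m := mul_mem hq (inv_mem (conj_mem_Qz h.sC hq))
    obtain ⟨c, hc⟩ := exists_val z3 ((hs.eq_iff m hr).1 (by
      rw [hs.add _ hq _ (inv_mem (conj_mem_Qz h.sC hq)), hs.inv (conj_mem_Qz h.sC hq), hA q hq, e,
        sub_eq_add_neg]))
    refine ⟨c, ?_⟩
    rw [l.zp_comm (pow_mem (mem_zpowers z) _) (mul_mem h.sC (Qz_le z hr)), mem_C1.1 ar, ← hc]
    group
  obtain ⟨x, xQ, px⟩ := hs.surj (-v')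
  obtain ⟨τ, τQ, pτ⟩ := hs.surj p'
  obtain ⟨α, x1⟩ := key x xQ e eQ ae (by rw [px, map_neg, a2, pe]; abel)
  obtain ⟨γ, τ1⟩ := key τ τQ d⁻¹ (inv_mem dQ) (C1_inv d ▸ ad) (by rw [pτ, a4, hs.inv dQ, pd]; abel)
  have n1 : ∀ {g : G}, g ^ 3 = 1 → g⁻¹ = g ^ 2 := fun h =>
    inv_eq_of_mul_eq_one_right (by rw [← h, ← pow_succ'])
  have ax : f0.Act x !![1, 0, 0, 0; 1, 1, 0, 0; 0, 0, 1, 0; α, 1, 0, 1] := j0.act_of
    (x1.trans (by simp [FD.jv, f0, v1]))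
    ((hs.conj_eq xQ eQ).trans (by simp [FD.jv, f0, v1, px, pe, hs.skew v' v, h.b1]))
    ((hs.conj_eq xQ dQ).trans (by simp [FD.jv, f0, v1, px, pd, h.b5]))
    ((mem_C1_iff_conj.1 (Qz_le z xQ)).trans (by simp [FD.jv, f0, v1]))
  have aτ : f0.Act τ !![1, 0, 0, 0; 0, 1, 0, 0; -1, 0, 1, 0; γ, 0, 1, 1] := j0.act_of
    (τ1.trans (by simp [FD.jv, f0, v1, n1 (l.exp d dQ)]))
    ((hs.conj_eq τQ eQ).trans (by simp [FD.jv, f0, v1, pτ, pe, hs.skew p' v, h.b4]))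
    ((hs.conj_eq τQ dQ).trans (by simp [FD.jv, f0, v1, pτ, pd, h.b2]))
    ((mem_C1_iff_conj.1 (Qz_le z τQ)).trans (by simp [FD.jv, f0, v1]))
  obtain ⟨c0, c1, c2, c3, e1⟩ := h.cenF eQ pe dQ pd ae ad (g := t * a * t⁻¹)
    (mul_mem (mul_mem ht h.sC) (inv_mem ht))
    (by rw [← C1_inv, ← te, ← cj_C1]; exact conj_mem_cj.2 ae)
    (by rw [← td, ← cj_C1]; exact conj_mem_cj.2 ad)
  have at' : f0.Act t !![c0, 0, 0, 0; c1, -1, 0, 0; c2, 0, 1, 0; c3, 0, 0, 1] := j0.act_of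
    e1 (te.trans (by simp [FD.jv, f0, n1 (l.exp e eQ)])) (td.trans (by simp [FD.jv, f0, v1]))
    ((mem_C1_iff_conj.1 ht).trans (by simp [FD.jv, f0, v1]))
  have b1 := j0.act_uniq (at'.mul at') (tt ▸ FD.Act.one)
  have b2 := j0.act_uniq ((at'.mul ax).mul (at'.mul ax)) (j0.act_J (by
    have m := conj_mem_Qz ht xQ
    have := (hs.zero _ (mul_mem m xQ)).1 (by rw [hs.add _ m _ xQ, hT x xQ, px, map_neg, t2]; abel)
    rw [ti, mul_assoc _ t] at this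
    exact zpowers_le.2 f0.d_mem this))
  replace b1 := congrArg (· *ᵥ ![1, 0, 0, 0]) b1
  replace b2 := congrArg (· *ᵥ ![1, 0, 0, 0]) b2
  simp only [← mulVec_mulVec, one_mulVec] at b1 b2
  obtain ⟨rfl, rfl, rfl, rfl⟩ := t_chk α c0 c1 c2 c3 b1 b2
  let f : FD G := ⟨f0.jv fun i => mP (-1 - α) (1 - γ) i 0, f0.jv fun i => mP (-1 - α) (1 - γ) i 1,
    f0.jv fun i => mP (-1 - α) (1 - γ) i 2, d, x, t, 1, 1, 1, 1, τ, 1⟩
  have ch := j0.jv_change (f' := f) (P := mP (-1 - α) (1 - γ)) rfl rfl rfl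
    (by simp [FD.jv, f0, f, mP, v1])
  have j1 : J81 f := j0.change ch (P' := !![1, 0, 0, 1; -1 - α, -1, 0, 1; 1 + α, 1, 0, 1; γ - 1, 0, 1, 0])
    (by clear * -; revert α γ; decide +kernel)
  have fz : f.z = z := by
    rw [← f.jv_z, ch]; refine .trans ?_ f0.jv_d; congr 1; clear * -; revert α γ; decide +kernel
  have fe : f.e = e := by
    rw [← j1.jv_e, ch]; refine .trans ?_ f0.jv_b; congr 1; clear * -; revert α γ; decide +kernel
  have fa : f.a * a⁻¹ ∈ Qz z := by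
    have := conj_mem_Qz h.sC (mul_mem (pow_mem eQ (-1 - α).val) (pow_mem dQ (1 - γ).val))
    convert this using 1
    simp [f, FD.jv, f0, mP, v1, mul_assoc]
  refine ⟨f, j1, ?_, ?_, ?_, ?_, pd, ?_, ax.change ch ?_, ?_, aτ.change ch ?_, at'.change ch ?_, tt,
    ?_, big⟩
  any_goals rw [fz]
  any_goals rw [fe]
  any_goals assumption
  · exact ed ▸ h.reb fa
  any_goals (clear * -; revert α γ; decide +kernel)
  exact ed ▸ hy

end CfsgH2.T3
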