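import Cfsg.Agent.H2.T3C
import Cfsg.Agent.H1.L43Gen

/-! The Sylow 3-subgroup and fusion in `J`. -/

set_option autoImplicit false
set_option linter.unusedSectionVars false

namespace CfsgH2.T3

open Subgroup CfsgH5 CfsgH6 CfsgFT CfsgH9 CfsgH7 Matrix
open CfsgH1.L43 hiding Loc0 Sym Pair Gen Loc Co

universe u

variable {G : Type u} [Group G] [Finite G]

/-- the functional with kernel `z^⊥` -/
def sm3 (u : V4) : F3 := u 0 + u 1 + u 2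

namespace Pre

variable {f : FD G} {π : G → SL23} {ε : G → ℤˣ} {W : Type u} [AddCommGroup W] [Module F3 W]
  {pr : G → W} {B : W →ₗ[F3] W →ₗ[F3] F3} {v v' p p' : W} (h : Pre f π ε pr B v v' p p')
include h

theorem lz : LZ f.z := h.sy.loc

theorem jv0 (i k l : F3) : f.e ^ i.val * f.d ^ k.val * f.z ^ l.val = f.jv ![l, l - i, l + i, k] := by
  rw [← h.jv_e, ← f.jv_d, ← f.jv_z, ← h.smul, ← h.smul, ← h.smul, ← h.add, ← h.add]
  congr 1; clear * -; revert i k l; decide +kernel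

theorem jvC (u : V4) : f.jv u ∈ C1 f.z := mem_C1.2 (f.jv_z ▸ h.comm _ _)

theorem Q0 {u : V4} (hu : sm3 u = 0) : f.jv u ∈ Qz f.z ∧ pr (f.jv u) = (u 0 - u 1) • v + u 3 • p := by
  have e := h.jv0 (u 0 - u 1) (u 3) (u 0)
  rw [show ![u 0, u 0 - (u 0 - u 1), u 0 + (u 0 - u 1), u 3] = u by
    clear * - hu; revert u; decide +kernel] at e
  have m1 := mul_mem (pow_mem h.eQ (u 0 - u 1).val) (pow_mem h.dQ (u 3).val)
  have m2 := pow_mem h.lz.mem (u 0).val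
  rw [← e, h.sy.add _ m1 _ m2, h.sy.add _ (pow_mem h.eQ _) _ (pow_mem h.dQ _), h.sy.pow_val h.eQ,
    h.sy.pow_val h.dQ, (h.sy.zero _ m2).2 (pow_mem (mem_zpowers _) _), h.pe, h.pd, add_zero]
  exact ⟨mul_mem m1 m2, rfl⟩

theorem jv_split (u : V4) : f.jv u = f.a ^ (sm3 u).val * f.jv (u - sm3 u • ![1, 0, 0, 0]) := by
  rw [← f.jv_a, ← h.smul, ← h.add, add_sub_cancel]

theorem a_pow {c : F3} (e : f.a ^ c.val ∈ Qz f.z) : c = 0 := by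
  have := ((h.pi.ker _ (pow_mem h.sC _)).2 e).1
  rw [h.pi.pow h.sC, h.ps] at this
  exact (by decide : ∀ c : F3, uM ^ c.val = 1 → c = 0) _ this

theorem QJ {u : V4} : f.jv u ∈ Qz f.z ↔ sm3 u = 0 := ⟨fun e => h.a_pow (by
  have := (h.Q0 (u := u - sm3 u • ![1, 0, 0, 0]) (by clear * -; revert u; decide +kernel)).1
  rwa [h.jv_split, mul_mem_cancel_right this] at e), fun e => (h.Q0 e).1⟩

theorem cen_ed {g : G} (hg : g ∈ C1 f.z) (h1 : g ∈ C1 f.e) (h2 : g ∈ C1 f.d) : g ∈ f.J := by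
  obtain ⟨m, i, k, l, rfl⟩ := h.cenF h.eQ h.pe h.dQ h.pd
    (mem_C1.2 (f.jv_a ▸ h.jv_e ▸ h.comm _ _)) (mem_C1.2 (f.jv_a ▸ f.jv_d ▸ h.comm _ _)) hg h1 h2
  rw [mul_assoc, mul_assoc, ← mul_assoc (f.e ^ _), h.jv0]
  exact mul_mem (pow_mem f.a_mem _) (f.jv_mem _)

theorem cJ : C f.J ≤ f.J := fun _ hg =>
  h.cen_ed (mem_C1.2 (mem_C.1 hg _ (f.jv_z ▸ f.jv_mem _)).symm)
    (mem_C1.2 (mem_C.1 hg _ (h.jv_e ▸ f.jv_mem _)).symm) (mem_C1.2 (mem_C.1 hg _ f.d_mem).symm)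

theorem mem_J {g : G} (h1 : f.Act g 1) : g ∈ f.J := h.cJ (mem_C.2 fun j hj => by
  obtain ⟨v, rfl⟩ := h.surj hj
  have := h1 v
  rw [one_mulVec, mul_inv_eq_iff_eq_mul] at this
  exact this.symm)

theorem Bq {q : G} (hq : q ∈ Qz f.z) {A : M4} (hA : f.Act q A) {u : V4} (hu : sm3 u = 0) {c : F3}
    (e : A *ᵥ u = u + c • ![1, 1, 1, 0]) : B (pr q) (pr (f.jv u)) = c := by
  have := h.sy.conj_eq hq (h.Q0 hu).1
  rw [hA, e, h.add, h.smul, f.jv_z, mul_right_inj] at this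
  exact (pow_val_inj h.lz.ne h.lz.cube this).symm

theorem px : ∃ i k : F3, pr f.x = i • v + (-1 : F3) • v' + k • p + (0 : F3) • p' := by
  obtain ⟨i, j, k, l, e⟩ := h.span (pr f.x)
  have a1 := h.Bq h.xQ h.ax (u := ![0, -1, 1, 0]) (c := 1) (by decide) (by decide)
  have a2 := h.Bq h.xQ h.ax (u := ![0, 0, 0, 1]) (c := 0) (by decide) (by decide)
  rw [h.jv_e, h.pe, e, h.Bv, mul_one, neg_eq_iff_eq_neg] at a1
  rw [f.jv_d, h.pd, e, h.Bp, mul_one] at a2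
  exact ⟨i, k, a1 ▸ a2 ▸ e⟩

theorem pτ : ∃ i k : F3, pr f.τ = i • v + (0 : F3) • v' + k • p + (1 : F3) • p' := by
  obtain ⟨i, j, k, l, e⟩ := h.span (pr f.τ)
  have a1 := h.Bq h.τQ h.aτ (u := ![0, -1, 1, 0]) (c := 0) (by decide) (by decide)
  have a2 := h.Bq h.τQ h.aτ (u := ![0, 0, 0, 1]) (c := 1) (by decide) (by decide)
  rw [h.jv_e, h.pe, e, h.Bv, mul_one, neg_eq_zero] at a1
  rw [f.jv_d, h.pd, e, h.Bp, mul_one] at a2
  exact ⟨i, k, a1 ▸ a2 ▸ e⟩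

theorem prQ {u : V4} (hu : sm3 u = 0) (m n : ℕ) : f.jv u * f.x ^ m * f.τ ^ n ∈ Qz f.z ∧
    ∃ i k : F3, pr (f.jv u * f.x ^ m * f.τ ^ n) = i • v + (-m : F3) • v' + k • p + (n : F3) • p' := by
  obtain ⟨i, k, e1⟩ := h.px
  obtain ⟨i', k', e2⟩ := h.pτ
  obtain ⟨a1, a2⟩ := h.Q0 hu
  have m1 := mul_mem a1 (pow_mem h.xQ m)
  refine ⟨mul_mem m1 (pow_mem h.τQ n), u 0 - u 1 + m * i + n * i', u 3 + m * k + n * k', ?_⟩
  rw [h.sy.add _ m1 _ (pow_mem h.τQ _), h.sy.add _ a1 _ (pow_mem h.xQ _), h.sy.pow h.xQ,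
    h.sy.pow h.τQ, a2, e1, e2]
  module

theorem decQ {q : G} (hq : q ∈ Qz f.z) : ∃ u, sm3 u = 0 ∧ ∃ m n : F3,
    q = f.jv u * f.x ^ m.val * f.τ ^ n.val := by
  obtain ⟨i, j, k, l, e⟩ := h.span (pr q)
  obtain ⟨m1, i', k', e1⟩ := h.prQ (u := 0) (by decide) (-j).val l.val
  have m2 := mul_mem hq (inv_mem m1)
  have e2 : pr (q * (f.jv 0 * f.x ^ (-j).val * f.τ ^ l.val)⁻¹) = (i - i') • v + (k - k') • p := by
    rw [h.sy.add _ hq _ (inv_mem m1), h.sy.inv m1, e1, e, ZMod.natCast_zmod_val,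
      ZMod.natCast_zmod_val]
    module
  obtain ⟨a, b, c, e3⟩ := h.memF h.eQ h.pe h.dQ h.pd m2
    (mem_C1.2 ((h.sy.comm_iff m2 h.eQ).2 (by rw [e2, h.pe]; simp [h.sy.alt, h.sy.skew p v, h.b3])))
    (mem_C1.2 ((h.sy.comm_iff m2 h.dQ).2 (by rw [e2, h.pd]; simp [h.sy.alt, h.b3])))
  rw [h.jv0, f.jv_zero, one_mul, mul_inv_eq_iff_eq_mul, ← mul_assoc] at e3
  exact ⟨_, by clear * -; revert a b c; decide +kernel, _, _, e3⟩

theorem Q_le_S : Qz f.z ≤ f.S := fun q hq => by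
  obtain ⟨u, -, m, n, rfl⟩ := h.decQ hq
  exact mul_mem (mem_sup_left (mul_mem_sup (f.jv_mem u) (pow_mem (mem_zpowers _) _)))
    (mem_sup_right (pow_mem (mem_zpowers _) _))

theorem S_eq : f.S = Qz f.z ⊔ zpowers f.a := by
  refine le_antisymm (sup_le (sup_le (fun j hj => ?_) (zpowers_le.2 (mem_sup_left h.xQ)))
    (zpowers_le.2 (mem_sup_left h.τQ))) (sup_le h.Q_le_S
      (zpowers_le.2 (mem_sup_left (mem_sup_left f.a_mem))))
  obtain ⟨u, rfl⟩ := h.surj hj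
  rw [h.jv_split]
  exact mul_mem (mem_sup_right (pow_mem (mem_zpowers _) _))
    (mem_sup_left (h.QJ.2 (by clear * -; revert u; decide +kernel)))

theorem a3 : f.a ^ 3 = 1 := h.exp _ f.a_mem

theorem nQ : Nrm (zpowers f.a) (Qz f.z) := nrm_of_le_N (zpowers_le.2 (C1_le_NQ _ h.sC))

theorem memS {g : G} (hg : g ∈ f.S) : ∃ q ∈ Qz f.z, ∃ m : F3, g = q * f.a ^ m.val := by
  rw [h.S_eq] at hg
  obtain ⟨q, hq, b, hb, rfl⟩ := (mem_sup_nrm' h.nQ).1 hg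
  obtain ⟨m, rfl⟩ := exists_val h.a3 hb
  exact ⟨q, hq, m, rfl⟩

theorem S_le_C : f.S ≤ C1 f.z := h.S_eq ▸ sup_le (Qz_le _) (zpowers_le.2 h.sC)

theorem S_le_N : f.S ≤ N f.J :=
  sup_le (sup_le (le_N _) (zpowers_le.2 (h.mem_N h.ax))) (zpowers_le.2 (h.mem_N h.aτ))

theorem isPS : IsPGroup 3 f.S := h.S_eq ▸ isPGroup_sup Nat.prime_three
  (pg_of_exp (n := 1) h.lz.exp) (pg_zp h.a3) (Or.inr h.nQ)

theorem card_S : Nat.card f.S = 729 := by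
  have h1 := card_mul_relIndex h.Q_le_S
  have h2 := h.big _ h.isPS
  have h3 : (Qz f.z).relIndex f.S ≠ 1 := fun e => absurd (h.a_pow (c := 1)
    (by simpa [ZMod.val_one] using relIndex_eq_one.1 e (mem_sup_left (mem_sup_left f.a_mem))))
    (by decide)
  obtain ⟨n, hn⟩ := IsPGroup.iff_card.1 h.isPS
  have h4 : (Qz f.z).relIndex f.S ∣ 3 ^ n := hn ▸ Dvd.intro_left _ h1
  obtain ⟨i, -, e⟩ := (Nat.dvd_prime_pow Nat.prime_three).1 h4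
  rw [h.lz.card, e] at h1
  rw [e] at h3
  rcases i with _ | i
  · exact absurd rfl h3
  · rw [pow_succ] at h1
    have := Nat.pos_of_ne_zero (pow_ne_zero i (by norm_num : (3 : ℕ) ≠ 0))
    omega

theorem syl : SylIn 3 f.S ⊤ := ⟨le_top, h.isPS, fun T _ h2 h3 =>
  (eq_of_le_of_card_le h3 (h.card_S ▸ h.big T h2)).symm⟩

theorem act_pow (n : ℕ) {M : W →ₗ[F3] W} (hM : Ac f.z pr (f.a ^ n) M) :
    M v = v ∧ M v' = (n : F3) • v + v' ∧ M p = p ∧ M p' = p' + (n : F3) • p := by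
  obtain ⟨A, hA⟩ := h.ex h.sC
  obtain ⟨a1, a2, a3, a4⟩ := h.act_s hA
  induction n generalizing M with
  | zero => simp [h.sy.ac_Q (one_mem _) (pow_zero f.a ▸ hM)]
  | succ n ih =>
    obtain ⟨M', hM'⟩ := h.ex (pow_mem h.sC n)
    obtain ⟨b1, b2, b3, b4⟩ := ih hM'
    have := h.sy.ac_mul (C1_le_NQ _ h.sC) hM' hA
    rw [← pow_succ] at this
    simp only [h.ae (pow_mem h.sC _) hM this, LinearMap.comp_apply, a1, a2, a3, a4, map_add, b1, b2,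
      b3, b4, Nat.cast_succ]
    exact ⟨trivial, by module, trivial, by module⟩

theorem eq_J {A : Subgroup G} (hA : A ≤ f.S) (ab : Ab A) (hc : Nat.card A = 81) : A = f.J := by
  have h1 := card_inf_mul_relIndex (Qz f.z) A
  have h2 : (Qz f.z).relIndex f.S = 3 := relIndex_eq_of_mul h.Q_le_S (by rw [h.lz.card, h.card_S])
  have h3 := relIndex_le_of_le_right hA (h2 ▸ by norm_num : (Qz f.z).relIndex f.S ≠ 0)
  obtain ⟨g, hg, gQ⟩ : ∃ g ∈ A, g ∉ Qz f.z := by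
    by_contra hc'
    push Not at hc'
    have := h.lz.ab_le hc' ab
    omega
  obtain ⟨q, hq, m, rfl⟩ := h.memS (hA hg)
  have m0 : m ≠ 0 := fun e => gQ (by simpa [e] using hq)
  have h4 : Qz f.z ⊓ A ≤ Qz f.z ⊓ f.J := fun b hb => by
    obtain ⟨M, hM⟩ := h.ex (pow_mem h.sC m.val)
    obtain ⟨M', hM'⟩ := h.ex (h.S_le_C (hA hg))
    obtain ⟨b1, b2, b3, b4⟩ := h.act_pow _ hM
    have e1 := hM' b hb.1
    rw [ab.comm hg hb.2, mul_inv_cancel_right, h.sy.ac_eq (C1_le_NQ _ (pow_mem h.sC _))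
      (by simpa using hq) hM' hM] at e1
    obtain ⟨i, j, k, l, e⟩ := h.span (pr b)
    rw [e] at e1
    simp only [map_add, map_smul, b1, b2, b3, b4, ZMod.natCast_zmod_val] at e1
    obtain ⟨a1, -, a2, -⟩ := h.ind (j * m) 0 (l * m) 0 (by linear_combination (norm := module) -e1)
    rw [mul_eq_zero, or_iff_left m0] at a1 a2
    exact ⟨hb.1, h.cen_ed (Qz_le _ hb.1)
      (mem_C1.2 ((h.sy.comm_iff hb.1 h.eQ).2 (by rw [e, h.pe, h.Bv, a1]; simp)))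
      (mem_C1.2 ((h.sy.comm_iff hb.1 h.dQ).2 (by rw [e, h.pd, h.Bp, a2]; simp)))⟩
  have h5 := h.lz.ab_le inf_le_left (h.ab.mono (inf_le_right (a := Qz f.z)))
  have h6 := eq_of_le_of_card_le h4 (by nlinarith)
  refine eq_of_le_of_card_eq (fun b hb => h.cen_ed (h.S_le_C (hA hb)) ?_ ?_) (hc.trans h.card.symm)
  · exact mem_C1.2 (ab.comm hb (h6.ge ⟨h.eQ, h.jv_e ▸ f.jv_mem _⟩).2)
  · exact mem_C1.2 (ab.comm hb (h6.ge ⟨h.dQ, f.d_mem⟩).2)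

theorem wcl {g : G} (hg : cj g f.J ≤ f.S) : g ∈ N f.J :=
  mem_N.2 (h.eq_J hg (h.ab.cjj g) (by rw [card_cj, h.card]))

theorem fusJ {y g : G} (hy : y ∈ f.J) (hg : g * y * g⁻¹ ∈ f.J) :
    ∃ n ∈ N f.J, n * y * n⁻¹ = g * y * g⁻¹ := by
  have h1 : f.J ≤ C1 (g * y * g⁻¹) := le_C1_iff.2 (h.ab hg)
  have h2 : cj g f.J ≤ C1 (g * y * g⁻¹) := cj_C1 g y ▸ cj_mono (le_C1_iff.2 (h.ab hy))
  obtain ⟨R, hR, hS⟩ := exists_sylIn_ge h1 h.isP
  obtain ⟨c, hc, h3⟩ := hS.exists_le_cj h2 (isPGroup_cj h.isP g)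
  obtain ⟨m, -, h4⟩ := h.syl.exists_le_cj le_top hS.isPGroup
  rw [le_cj_iff] at h3 h4
  have h5 := h.wcl ((cj_mono hR).trans h4)
  have h6 := h.wcl (g := m⁻¹ * (c⁻¹ * g)) (by rw [← cj_cj, ← cj_cj]; exact (cj_mono h3).trans h4)
  refine ⟨c⁻¹ * g, by simpa using mul_mem (inv_mem h5) h6, ?_⟩
  calc _ = c⁻¹ * (g * y * g⁻¹) * c⁻¹⁻¹ := by group
    _ = _ := mem_C1_iff_conj.1 (inv_mem hc)

theorem fus (g : G) (u u' : V4) (e : g * f.jv u * g⁻¹ = f.jv u') : ∃ n A, f.Act n A ∧ A *ᵥ u = u' := by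
  obtain ⟨n, hn, e1⟩ := h.fusJ (f.jv_mem u) (e ▸ f.jv_mem u')
  obtain ⟨A, hA⟩ := h.exists_act hn
  exact ⟨n, A, hA, h.inj (by rw [← hA, e1, e])⟩

end Pre

end CfsgH2.T3
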