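import Cfsg.Agent.H2.T3D

/-! The conjugates of `z` in `J` and the automizer of `J`. -/

set_option autoImplicit false
set_option linter.unusedSectionVars false

namespace CfsgH2.T3

open Subgroup CfsgH5 CfsgH6 CfsgFT CfsgH9 CfsgH7 Matrix
open CfsgH1.L43 hiding Loc0 Sym Pair Gen Loc Co

universe u

variable {G : Type u} [Group G] [Finite G]

/-- conjugate to `z` or its inverse -/
def FD.Zv (f : FD G) (u : V4) : Prop := IsConj f.z (f.jv u) ∨ IsConj f.z (f.jv u)⁻¹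

theorem FD.Zv.act {f : FD G} {g : G} {A : M4} (hA : f.Act g A) (u : V4) : f.Zv (A *ᵥ u) ↔ f.Zv u := by
  have e : IsConj (f.jv u) (f.jv (A *ᵥ u)) := isConj_iff.2 ⟨g, hA u⟩
  have e' : IsConj (f.jv u)⁻¹ (f.jv (A *ᵥ u))⁻¹ := isConj_iff.2 ⟨g, by rw [← hA u]; group⟩
  exact ⟨fun h => h.imp (·.trans e.symm) (·.trans e'.symm), fun h => h.imp (·.trans e) (·.trans e')⟩

theorem J81.Zv_neg {f : FD G} (h : J81 f) (u : V4) : f.Zv (-u) ↔ f.Zv u := by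
  rw [FD.Zv, FD.Zv, h.neg, inv_inv, or_comm]

theorem J81.act_inv {f : FD G} (h : J81 f) {g : G} {A : M4} (h1 : f.Act g A) :
    ∃ A', f.Act g⁻¹ A' ∧ A' * A = 1 ∧ A * A' = 1 := by
  obtain ⟨A', h2⟩ := h.exists_act (inv_mem (h.mem_N h1))
  exact ⟨A', h2, h.act_uniq (by simpa using h2.mul h1) FD.Act.one,
    h.act_uniq (by simpa using h1.mul h2) FD.Act.one⟩

/-- renaming -/
def mK (κ : F3) : M4 := !![1 + κ, κ, κ, 0; κ, 1 + κ, κ, 0; κ, κ, 1 + κ, 0; 0, 0, 0, 1]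

/-- Eichler transformations -/
def Ei (z u : V4) : M4 := of fun i j =>
  (if i = j then 1 else 0) + u i * z j - z i * u j + u ⬝ᵥ u * z i * z j

theorem Ei_vec (z u w : V4) :
    Ei z u *ᵥ w = w + (z ⬝ᵥ w) • u - (u ⬝ᵥ w) • z + (u ⬝ᵥ u * z ⬝ᵥ w) • z := by
  ext i
  fin_cases i <;> simp [Ei, mulVec, dotProduct, Fin.sum_univ_four] <;> ring

theorem nm_eq (u : V4) : nm u = u ⬝ᵥ u := by simp [nm, dotProduct, Fin.sum_univ_four]

theorem dot_sim {A : M4} {l : F3} (h : Aᵀ * A = l • (1 : M4)) (a b : V4) :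
    (A *ᵥ a) ⬝ᵥ (A *ᵥ b) = l * a ⬝ᵥ b := by
  rw [← vecMul_transpose A a, ← dotProduct_mulVec, mulVec_mulVec, h, smul_mulVec, one_mulVec,
    dotProduct_smul, smul_eq_mul]

theorem Ei_conj {A : M4} {l : F3} (h : Aᵀ * A = l • (1 : M4)) (hl : l * l = 1) (z u : V4) :
    Ei (A *ᵥ z) (l • A *ᵥ u) * A = A * Ei z u := by
  have : ∀ w, (Ei (A *ᵥ z) (l • A *ᵥ u) * A) *ᵥ w = (A * Ei z u) *ᵥ w := fun w => by
    rw [← mulVec_mulVec, ← mulVec_mulVec, Ei_vec, Ei_vec]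
    simp only [smul_dotProduct, dotProduct_smul, dot_sim h, mulVec_add, mulVec_sub, mulVec_smul,
      smul_eq_mul, smul_smul]
    congr 2
    · congr 2; linear_combination z ⬝ᵥ w * hl
    · congr 1; linear_combination u ⬝ᵥ w * hl
    · linear_combination (l * l + 1) * u ⬝ᵥ u * z ⬝ᵥ w * hl
  ext i j
  simpa using congrFun (this (Pi.single j 1)) i

theorem sim_of {A : M4} (h : ∀ u, nm u = 0 → nm (A *ᵥ u) = 0) : ∃ l : F3, Aᵀ * A = l • (1 : M4) := by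
  have k : ∀ a b c d e g : F3, a + b + c + 2 * d + 2 * e + 2 * g = 0 →
      a + b + c + 2 * d - 2 * e - 2 * g = 0 → a + b + c - 2 * d + 2 * e - 2 * g = 0 →
      a + b + c - 2 * d - 2 * e + 2 * g = 0 → d = 0 ∧ e = 0 ∧ g = 0 ∧ a + b + c = 0 := by
    decide +kernel
  have e : ∀ u, nm u = 0 → u ⬝ᵥ (Aᵀ * A) *ᵥ u = 0 := fun u hu => by
    rw [← mulVec_mulVec, dotProduct_mulVec, vecMul_transpose, ← nm_eq, h u hu]
  have s : ∀ i j, (Aᵀ * A) i j = (Aᵀ * A) j i := fun i j => by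
    simp [mul_apply, mul_comm]
  generalize Aᵀ * A = M at e s
  have q : ∀ a b c d : F3, ![a, b, c, d] ⬝ᵥ M *ᵥ ![a, b, c, d] = a * a * M 0 0 + b * b * M 1 1 +
      c * c * M 2 2 + d * d * M 3 3 + 2 * (a * b * M 0 1 + a * c * M 0 2 + a * d * M 0 3 +
      b * c * M 1 2 + b * d * M 1 3 + c * d * M 2 3) := fun a b c d => by
    simp [mulVec, dotProduct, Fin.sum_univ_four, s 1 0, s 2 0, s 3 0, s 2 1, s 3 1, s 3 2]
    ring
  have r : ∀ a b c d : F3, nm ![a, b, c, d] = 0 → _ := fun a b c d hu => (q a b c d).symm.trans (e _ hu)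
  obtain ⟨a1, a2, a3, a4⟩ := k (M 0 0) (M 1 1) (M 2 2) (M 0 1) (M 0 2) (M 1 2)
    (by linear_combination r 1 1 1 0 (by decide)) (by linear_combination r 1 1 (-1) 0 (by decide))
    (by linear_combination r 1 (-1) 1 0 (by decide)) (by linear_combination r (-1) 1 1 0 (by decide))
  obtain ⟨-, b2, b3, b4⟩ := k (M 0 0) (M 1 1) (M 3 3) (M 0 1) (M 0 3) (M 1 3)
    (by linear_combination r 1 1 0 1 (by decide)) (by linear_combination r 1 1 0 (-1) (by decide))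
    (by linear_combination r 1 (-1) 0 1 (by decide)) (by linear_combination r (-1) 1 0 1 (by decide))
  obtain ⟨-, -, c3, c4⟩ := k (M 0 0) (M 2 2) (M 3 3) (M 0 2) (M 0 3) (M 2 3)
    (by linear_combination r 1 0 1 1 (by decide)) (by linear_combination r 1 0 1 (-1) (by decide))
    (by linear_combination r 1 0 (-1) 1 (by decide)) (by linear_combination r (-1) 0 1 1 (by decide))
  obtain ⟨d1, d2, d3⟩ := (by decide : ∀ a b c d : F3, a + b + c = 0 → a + b + d = 0 → a + c + d = 0 →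
    b = a ∧ c = a ∧ d = a) _ _ _ _ a4 b4 c4
  refine ⟨M 0 0, ?_⟩
  ext i j
  fin_cases i <;> fin_cases j <;>
    simp [a1, a2, a3, b2, b3, c3, d1, d2, d3, s 1 0, s 2 0, s 3 0, s 2 1, s 3 1, s 3 2]

/-- index of a vector -/
def ix (u : V4) : ℕ := (u 0).val + 3 * (u 1).val + 9 * (u 2).val + 27 * (u 3).val

theorem orb_ind {f : FD G} {K : Subgroup G} {P : M4 → Prop} (p1 : P 1)
    (pm : ∀ A B, P A → P B → P (A * B)) {L : List M4} (hL : ∀ A ∈ L, P A ∧ ∃ g ∈ K, f.Act g A)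
    (rk : List ℕ) (c : F3) (t : V4)
    (h : ∀ u : V4, u = 0 ∨ nm u ≠ c ∨ u = t ∨
      ∃ A ∈ L, A *ᵥ u ≠ 0 ∧ nm (A *ᵥ u) = c ∧ rk.getD (ix (A *ᵥ u)) 0 < rk.getD (ix u) 0)
    (u : V4) (u0 : u ≠ 0) (hu : nm u = c) : ∃ g ∈ K, ∃ A, P A ∧ f.Act g A ∧ A *ᵥ u = t := by
  induction hn : rk.getD (ix u) 0 using Nat.strong_induction_on generalizing u with
  | _ n ih =>
  rcases h u with e | e | e | ⟨A, hA, a0, a1, a2⟩
  · exact absurd e u0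
  · exact absurd hu e
  · exact ⟨1, one_mem _, 1, p1, FD.Act.one, by simp [e]⟩
  obtain ⟨a3, g, hg, a4⟩ := hL A hA
  obtain ⟨k, hk, A', b1, b2, b3⟩ := ih _ (hn ▸ a2) _ a0 a1 rfl
  exact ⟨k * g, mul_mem hk hg, A' * A, pm _ _ b1 a3, b2.mul a4, by rw [← mulVec_mulVec, b3]⟩

def rk0 : List ℕ := [0, 0, 0, 0, 0, 0, 0, 0, 0, 0, 0, 0, 0, 0, 4, 0, 3, 2, 0, 0, 0, 0, 4, 3, 0, 1, 5, 0,
  0, 0, 0, 1, 4, 0, 2, 3, 0, 2, 3, 3, 0, 0, 4, 0, 0, 0, 3, 4, 4, 0, 0, 4, 0, 0, 0, 0, 0, 0, 3, 4, 0, 2,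
  5, 0, 4, 3, 5, 0, 0, 4, 0, 0, 0, 3, 4, 4, 0, 0, 5, 0, 0]

theorem rk0_ok : ∀ u : V4, u = 0 ∨ nm u ≠ 0 ∨ u = ![1, 1, 1, 0] ∨ ∃ A ∈ [mX, mT, mU, mY],
    A *ᵥ u ≠ 0 ∧ nm (A *ᵥ u) = 0 ∧ rk0.getD (ix (A *ᵥ u)) 0 < rk0.getD (ix u) 0 := by
  decide +kernel

theorem iso_mul (A B : M4) (h1 : Aᵀ * A = 1) (h2 : Bᵀ * B = 1) : (A * B)ᵀ * (A * B) = 1 := by
  rw [transpose_mul, mul_assoc, ← mul_assoc Aᵀ, h1, one_mul, h2]

namespace Pre

variable {f : FD G} {π : G → SL23} {ε : G → ℤˣ} {W : Type u} [AddCommGroup W] [Module F3 W]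
  {pr : G → W} {B : W →ₗ[F3] W →ₗ[F3] F3} {v v' p p' : W} (h : Pre f π ε pr B v v' p p')
include h

theorem Zv_lz {u : V4} (hu : f.Zv u) : LZ (f.jv u) := by
  rcases hu with e | e <;> obtain ⟨g, e⟩ := isConj_iff.1 e
  · exact e ▸ h.lz.conj g
  · have : LZ (f.jv u)⁻¹ := e ▸ h.lz.conj g
    simpa using this.inv

theorem Zv_ne {u : V4} (hu : f.Zv u) : u ≠ 0 := fun e => (h.Zv_lz hu).ne (e ▸ f.jv_zero)

theorem jv_y : f.jv ![0, -1, 1, 1] = f.e * f.d := by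
  rw [← h.jv_e, ← f.jv_d, ← h.add]; congr 1; decide

theorem Zv_z : f.Zv ![1, 1, 1, 0] := Or.inl (f.jv_z ▸ IsConj.refl _)

theorem Zv_y : f.Zv ![0, -1, 1, 1] := by
  obtain ⟨g, e⟩ := h.hy
  rw [FD.Zv, h.jv_y]
  exact e.imp (fun e => isConj_iff.2 ⟨g, e⟩) fun e => isConj_iff.2 ⟨g, e⟩

theorem Zv0 {u : V4} (hu : sm3 u = 0) : f.Zv u ↔ u ≠ 0 ∧ nm u = 0 := by
  constructor
  · intro hz
    refine ⟨h.Zv_ne hz, ?_⟩
    by_cases e : f.jv u ∈ zpowers f.z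
    · rw [← f.jv_z, h.mem_zp] at e
      rcases e with rfl | rfl | rfl <;> decide
    obtain ⟨s, k⟩ := exists_pair h.lz (h.Zv_lz hz) (h.Q0 hu).1 e
    obtain ⟨a1, a2⟩ := h.both _ s k (u 0 - u 1) 0 (u 3) 0 (by simp [(h.Q0 hu).2])
    simp only [and_true] at a1 a2
    clear * - a1 a2 hu
    revert u; decide +kernel
  · rintro ⟨a1, a2⟩
    have : ∃ i : Fin 3, ∃ j : Fin 2, ∃ w ∈ [![1, 1, 1, 0], ![0, -1, 1, 1]],
        u = mX ^ i.val *ᵥ mT ^ j.val *ᵥ w ∨ u = -(mX ^ i.val *ᵥ mT ^ j.val *ᵥ w) := by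
      clear * - a1 a2 hu
      revert u; decide +kernel
    obtain ⟨i, j, w, hw, e⟩ := this
    have k : f.Zv (mX ^ i.val *ᵥ mT ^ j.val *ᵥ w) := by
      rw [FD.Zv.act (h.ax.pow _), FD.Zv.act (h.at'.pow _)]
      simp only [List.mem_cons, List.not_mem_nil, or_false] at hw
      rcases hw with rfl | rfl
      exacts [h.Zv_z, h.Zv_y]
    rcases e with rfl | rfl
    exacts [k, (h.Zv_neg _).2 k]

theorem Zv1 {u : V4} (hu : sm3 u = 1) : f.Zv u ↔ f.Zv ![-1 - nm u, 1 - nm u, 1 - nm u, 0] := by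
  have : ∃ i k : Fin 3, u = mX ^ i.val *ᵥ mR ^ k.val *ᵥ ![-1 - nm u, 1 - nm u, 1 - nm u, 0] := by
    clear * - hu
    revert u; decide +kernel
  obtain ⟨i, k, e⟩ := this
  conv_lhs => rw [e]
  rw [FD.Zv.act (h.ax.pow _), FD.Zv.act (h.aτ.pow _)]

theorem exists_n : ∃ n A, f.Act n A ∧
    (A *ᵥ ![1, 1, 1, 0] = ![0, -1, 1, 1] ∨ A *ᵥ ![1, 1, 1, 0] = -![0, -1, 1, 1]) := by
  obtain ⟨g, e⟩ := h.hy
  rw [← h.jv_y, ← h.neg, ← f.jv_z] at e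
  rcases e with e | e <;> obtain ⟨n, A, a1, a2⟩ := h.fus _ _ _ e
  exacts [⟨n, A, a1, Or.inl a2⟩, ⟨n, A, a1, Or.inr a2⟩]

theorem exists_k : ∃ k, ∀ u, sm3 u = 1 → (f.Zv u ↔ nm u = k) := by
  obtain ⟨n, A, a1, a2⟩ := h.exists_n
  obtain ⟨A', b1, b2, b3⟩ := h.act_inv a1
  obtain ⟨s, k⟩ := exists_pair h.lz (h.Zv_lz ((FD.Zv.act a1 _).2 h.Zv_z))
    (h.QJ.2 (by rcases a2 with e | e <;> rw [e] <;> decide)) (by
      rw [← f.jv_z, h.mem_zp]; rcases a2 with e | e <;> rw [e] <;> decide)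
  have c1 : sm3 (A' *ᵥ ![1, 1, 1, 0]) = 0 := by
    have := k.zQ
    rw [← a1, f.jv_z, ← cj_Qz, mem_cj] at this
    rw [← h.QJ, ← b1, f.jv_z, inv_inv]; exact this
  have c2 := (h.Zv0 c1).1 ((FD.Zv.act b1 _).2 h.Zv_z)
  have c3 : ∀ c : F3, A' *ᵥ ![1, 1, 1, 0] ≠ c • ![1, 1, 1, 0] := fun c e => by
    have := congrArg (A *ᵥ ·) e
    simp only [mulVec_mulVec, b3, one_mulVec, mulVec_smul] at this
    clear e
    rcases a2 with e | e <;> rw [e] at this <;> revert this c <;> decide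
  have c4 : ∀ c : F3, f.Zv (A *ᵥ ![0, -1, 1, 0] + c • ![1, 1, 1, 0]) ↔
      nm (![0, -1, 1, 0] + c • A' *ᵥ ![1, 1, 1, 0]) = 0 := fun c => by
    rw [← FD.Zv.act b1, mulVec_add, mulVec_mulVec, b2, one_mulVec, mulVec_smul,
      h.Zv0 (by clear * - c1; generalize A' *ᵥ _ = w at c1 ⊢; revert w c; decide +kernel)]
    refine and_iff_right ?_
    clear * - c2; generalize A' *ᵥ _ = w at c2 ⊢; revert w c; decide +kernel
  obtain ⟨c0, c5⟩ : ∃ c0 : F3, ∀ c, nm (![0, -1, 1, 0] + c • A' *ᵥ ![1, 1, 1, 0]) = 0 ↔ c = c0 := by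
    clear * - c1 c2 c3; generalize A' *ᵥ _ = w at c1 c2 c3 ⊢; revert w; decide +kernel
  simp only [c5] at c4
  generalize A *ᵥ ![0, -1, 1, 0] = w at c4
  obtain ⟨w, c0, c6, c4⟩ : ∃ (w : V4) (c0 : F3), sm3 w = 1 ∧ ∀ c : F3,
      f.Zv (w + c • ![1, 1, 1, 0]) ↔ c = c0 := by
    rcases val_cases (sm3 w) with e | e | e
    · exfalso
      have : ∀ c : F3, (w + c • ![1, 1, 1, 0] ≠ 0 ∧ nm (w + c • ![1, 1, 1, 0]) = 0) ↔ c = c0 :=
        fun c => by rw [← c4, h.Zv0 (by clear * - e; revert w c; decide +kernel)]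
      clear * - e this
      revert w c0; decide +kernel
    · exact ⟨w, c0, e, c4⟩
    · refine ⟨-w, -c0, by clear * - e; revert w; decide +kernel, fun c => ?_⟩
      rw [← h.Zv_neg, neg_add, neg_neg, ← neg_smul, c4, neg_eq_iff_eq_neg]
  refine ⟨nm w - c0, fun u hu => ?_⟩
  have e1 : nm (w + (nm w - nm u) • ![1, 1, 1, 0]) = nm u := by
    generalize nm u = m; clear * - c6; revert w m; decide +kernel
  rw [h.Zv1 hu, ← e1, ← h.Zv1 (by generalize nm w - nm u = m; clear * - c6; revert w m; decide +kernel),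
    c4, e1]
  constructor <;> intro e <;> linear_combination -e

theorem ren : ∃ f' : FD G, Pre f' π ε pr B v v' p p' ∧ ∀ u, f'.Zv u ↔ u ≠ 0 ∧ nm u = 0 := by
  obtain ⟨k, hk⟩ := h.exists_k
  let f' : FD G := { f with
    a := f.jv fun i => mK (-k) i 0, b := f.jv fun i => mK (-k) i 1, c := f.jv fun i => mK (-k) i 2 }
  have ch := h.jv_change (f' := f') (P := mK (-k)) rfl rfl rfl
    (f.jv_d.symm.trans (by congr 1; clear * -; revert k; decide +kernel))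
  have j1 : J81 f' := h.change ch (P' := mK k) (by clear * -; revert k; decide +kernel)
  have fz : f'.z = f.z := by
    rw [← f'.jv_z, ch, ← f.jv_z]; congr 1; clear * -; revert k; decide +kernel
  have fe : f'.e = f.e := by
    rw [← j1.jv_e, ch, ← h.jv_e]; congr 1; clear * -; revert k; decide +kernel
  have fa : f'.a * f.a⁻¹ ∈ Qz f.z := by
    rw [← f.jv_a, ← h.neg]
    change f.jv _ * _ ∈ _
    rw [← h.add, h.QJ]; clear * -; revert k; decide +kernel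
  have h' : Pre f' π ε pr B v v' p p' := by
    refine ⟨j1, ?_, ?_, ?_, ?_, h.pd, ?_, h.ax.change ch ?_, ?_, h.aτ.change ch ?_,
      h.at'.change ch ?_, h.tt, ?_, h.big⟩
    any_goals rw [fz]
    any_goals rw [fe]
    exacts [h.toCo.reb fa, h.eQ, h.pe, h.dQ, h.xQ, by clear * -; revert k; decide +kernel, h.τQ,
      by clear * -; revert k; decide +kernel, by clear * -; revert k; decide +kernel, h.hy]
  have k1 : ∀ u, sm3 u = 1 → (f'.Zv u ↔ u ≠ 0 ∧ nm u = 0) := fun u hu => by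
    rw [FD.Zv, ch, fz]
    refine (hk _ (by clear * - hu; revert u k; decide +kernel)).trans ?_
    clear * - hu; revert u k; decide +kernel
  refine ⟨f', h', fun u => ?_⟩
  rcases val_cases (sm3 u) with e | e | e
  · exact h'.Zv0 e
  · exact k1 u e
  · rw [← j1.Zv_neg, k1 _ (by clear * - e; revert u; decide +kernel)]
    clear * -; revert u; decide +kernel

variable (hZ : ∀ u, f.Zv u ↔ u ≠ 0 ∧ nm u = 0)
include hZ

theorem sim {g : G} {A : M4} (hA : f.Act g A) : ∃ l : F3, l * l = 1 ∧ Aᵀ * A = l • (1 : M4) := by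
  obtain ⟨l, hl⟩ := sim_of (A := A) fun u hu => by
    by_cases e : u = 0
    · simp [e, nm]
    · exact ((hZ _).1 ((FD.Zv.act hA u).2 ((hZ u).2 ⟨e, hu⟩))).2
  refine ⟨l, (by decide : ∀ l : F3, l ≠ 0 → l * l = 1) l fun e => ?_, hl⟩
  obtain ⟨A', -, -, b⟩ := h.act_inv hA
  have := dot_sim hl (A' *ᵥ ![1, 0, 0, 0]) (A' *ᵥ ![1, 0, 0, 0])
  rw [mulVec_mulVec, b, e, zero_mul] at this
  exact absurd this (by decide)

theorem exists_E : ∃ g, f.Act g (Ei ![0, -1, 1, 1] ![0, 0, -1, 1]) := by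
  obtain ⟨n, A, a1, a2⟩ := h.exists_n
  obtain ⟨A', b1, b2, b3⟩ := h.act_inv a1
  obtain ⟨l, l1, l2⟩ := h.sim hZ a1
  have k : ∀ u, (A *ᵥ ![1, 1, 1, 0]) ⬝ᵥ u = 0 → ∃ g, f.Act g (Ei (A *ᵥ ![1, 1, 1, 0]) u) := fun u hu => by
    have e := Ei_conj l2 l1 ![1, 1, 1, 0] (l • A' *ᵥ u)
    have e1 := dot_sim l2 ![1, 1, 1, 0] (A' *ᵥ u)
    rw [mulVec_mulVec, b3, one_mulVec, hu] at e1
    rw [mulVec_smul, smul_smul, l1, one_smul, mulVec_mulVec, b3, one_mulVec] at e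
    obtain ⟨i, k, e2⟩ : ∃ i k : Fin 3, Ei ![1, 1, 1, 0] (l • A' *ᵥ u) = mX ^ i.val * mR ^ k.val := by
      rw [← smul_eq_mul, ← dotProduct_smul] at e1
      generalize l • A' *ᵥ u = w at e1
      clear * - e1; revert w; decide +kernel
    exact ⟨_, ((a1.mul ((h.ax.pow i.val).mul (h.aτ.pow k.val))).mul b1).cast (by
      rw [← e2, ← e, mul_assoc, b3, mul_one])⟩
  rcases a2 with e | e <;> rw [e] at k
  · exact k _ (by decide)
  · obtain ⟨g, hg⟩ := k (-![0, 0, -1, 1]) (by decide)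
    exact ⟨g, hg.cast (by decide +kernel)⟩

theorem exists_uy : ∃ u y ν, f.Act u mU ∧ f.Act y mY ∧ f.Act ν (-1) := by
  obtain ⟨g, e⟩ := h.exists_E hZ
  have t := h.at'
  exact ⟨_, _, _, (((((e.mul t).mul e).mul e).mul t).mul e).cast (by decide +kernel),
    (((((t.mul e).mul e).mul t).mul e).mul t).cast (by decide +kernel),
    (((h.ax.mul e).mul h.ax).mul e).cast (by decide +kernel)⟩

omit hZ in
theorem act_d {g : G} {A : M4} (hA : f.Act g A) (e : A *ᵥ ![1, 1, 1, 0] = ![1, 1, 1, 0]) :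
    g ∈ C1 f.z ∧ ∃ c : F3, (ε g = 1 ∧ A *ᵥ ![0, 0, 0, 1] = ![c, c, c, 1]) ∨
      (ε g ≠ 1 ∧ A *ᵥ ![0, 0, 0, 1] = ![c, c, c, -1]) := by
  have hg : g ∈ C1 f.z := f.jv_z ▸ (h.fix_iff hA).2 e
  refine ⟨hg, ?_⟩
  obtain ⟨M, hM⟩ := h.ex hg
  have a1 := conj_mem_Qz hg h.dQ
  have a2 := hM _ h.dQ
  rw [h.pd, ← f.jv_d, hA] at a2
  rw [← f.jv_d, hA, h.QJ] at a1
  rw [(h.Q0 a1).2] at a2
  generalize A *ᵥ ![0, 0, 0, 1] = w at a1 a2
  have k : ∀ c : F3, M p = c • p → w = ![w 0, w 0, w 0, c] := fun c e => by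
    obtain ⟨b1, -, b2, -⟩ := h.ind (w 0 - w 1) 0 (w 3 - c) 0
      (by linear_combination (norm := module) a2 + e)
    clear * - a1 b1 b2; revert w c; decide +kernel
  by_cases eg : ε g = 1
  · exact ⟨_, Or.inl ⟨eg, k 1 (by simpa using (h.act g hg eg M hM).2.2.1)⟩⟩
  · refine ⟨_, Or.inr ⟨eg, k (-1) ?_⟩⟩
    obtain ⟨r, hr, e1, e2⟩ := h.real ⟨g, hg, eg⟩
    obtain ⟨M', hM'⟩ := h.ex hr
    have := (h.act _ (mul_mem hg hr) (by
      rw [h.pi.mul' _ hg _ hr, Int.units_ne_iff_eq_neg.1 eg, Int.units_ne_iff_eq_neg.1 e1]; simp) _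
      (h.sy.ac_mul (C1_le_NQ _ hr) hM hM')).2.2.1
    rw [LinearMap.comp_apply, (e2 M' hM').2.2.1, map_neg] at this
    simpa using neg_eq_iff_eq_neg.1 this

theorem iso (g : G) (A : M4) (hA : f.Act g A) : Aᵀ * A = 1 := by
  obtain ⟨u, y, -, au, ay, -⟩ := h.exists_uy hZ
  obtain ⟨a1, a2⟩ := (hZ _).1 ((FD.Zv.act hA _).2 h.Zv_z)
  obtain ⟨k, -, P, p1, p2, p3⟩ := orb_ind (f := f) (K := ⊤) (P := fun A => Aᵀ * A = 1) (by simp) iso_mul
    (L := [mX, mT, mU, mY]) (by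
      simp only [List.forall_mem_cons]
      exact ⟨⟨by decide, _, mem_top _, h.ax⟩, ⟨by decide, _, mem_top _, h.at'⟩,
        ⟨by decide, _, mem_top _, au⟩, ⟨by decide, _, mem_top _, ay⟩, by simp⟩) rk0 0 _ rk0_ok _ a1 a2
  obtain ⟨l, -, l2⟩ := h.sim hZ (p2.mul hA)
  obtain ⟨-, c, e⟩ := h.act_d (p2.mul hA) (by rw [← mulVec_mulVec, p3])
  have e1 := dot_sim l2 ![0, 0, 0, 1] ![0, 0, 0, 1]
  have e2 : l = 1 := by
    rcases e with ⟨-, e⟩ | ⟨-, e⟩ <;> rw [e] at e1 <;> clear * - e1 <;> revert c l <;> decide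
  rwa [e2, one_smul, transpose_mul, mul_assoc, ← mul_assoc Pᵀ, p1, one_mul] at l2

theorem exists_s : (∀ g ∈ C1 f.z, ε g = 1) ∨ ∃ s, f.Act s mS := by
  by_cases hr : ∃ g ∈ C1 f.z, ε g ≠ 1
  swap
  · left; simpa using hr
  right
  obtain ⟨g, hg, -, e⟩ := h.real hr
  obtain ⟨M, hM⟩ := h.ex hg
  obtain ⟨a1, -, a2, -⟩ := e M hM
  obtain ⟨i, hi⟩ := exists_val h.lz.cube ((h.sy.eq_iff (conj_mem_Qz hg h.eQ) h.eQ).1
    (by rw [hM _ h.eQ, h.pe, a1]))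
  obtain ⟨j, hj⟩ := exists_val h.lz.cube ((h.sy.eq_iff (conj_mem_Qz hg h.dQ) (inv_mem h.dQ)).1
    (by rw [hM _ h.dQ, h.sy.inv h.dQ, h.pd, a2]))
  rw [mul_inv_eq_iff_eq_mul, ← f.jv_z, ← h.smul] at hi hj
  rw [← h.jv_e, ← h.add] at hi
  rw [← f.jv_d, ← h.neg, ← h.add] at hj
  obtain ⟨A, hA⟩ := h.exists_act (inv_mem_iff.1 (mem_N_of_conj (g := g⁻¹) fun b hb => h.cen_ed
    (mul_mem (mul_mem (inv_mem hg) (le_C1_iff.2 (h.ab (f.jv_z ▸ f.jv_mem _)) hb)) (inv_mem (inv_mem hg)))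
    (by
      rw [← h.jv_e, inv_inv, ← mem_cj, cj_C1, hi]
      exact le_C1_iff.2 (h.ab (f.jv_mem _)) hb)
    (by
      rw [← f.jv_d, inv_inv, ← mem_cj, cj_C1, hj]
      exact le_C1_iff.2 (h.ab (f.jv_mem _)) hb)))
  have b0 := (h.fix_iff hA).1 (f.jv_z ▸ hg)
  have b1 := h.inj ((hA _).symm.trans hi)
  have b2 := h.inj ((hA _).symm.trans hj)
  have hA' := ((h.ax.pow (-i).val).mul (h.aτ.pow j.val)).mul hA
  have c0 : (mX ^ (-i).val * mR ^ j.val * A) *ᵥ ![1, 1, 1, 0] = ![1, 1, 1, 0] ∧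
      (mX ^ (-i).val * mR ^ j.val * A) *ᵥ ![0, -1, 1, 0] = ![0, -1, 1, 0] ∧
      (mX ^ (-i).val * mR ^ j.val * A) *ᵥ ![0, 0, 0, 1] = ![0, 0, 0, -1] := by
    simp only [← mulVec_mulVec, b0, b1, b2]
    clear * -; revert i j; decide +kernel
  refine ⟨_, hA'.cast ?_⟩
  have c1 := dot_sim (l := 1) ((h.iso hZ _ _ hA').trans (one_smul _ _).symm) ![1, 0, 0, 0]
  generalize mX ^ (-i).val * mR ^ j.val * A = A at c0 c1
  obtain ⟨c2, c3, c4⟩ := c0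
  have d1 := c1 ![1, 1, 1, 0]
  have d2 := c1 ![0, -1, 1, 0]
  have d3 := c1 ![0, 0, 0, 1]
  have d4 := c1 ![1, 0, 0, 0]
  rw [c2] at d1
  rw [c3] at d2
  rw [c4] at d3
  have d5 : A *ᵥ ![1, 0, 0, 0] = ![1, 0, 0, 0] := by
    generalize A *ᵥ ![1, 0, 0, 0] = w at d1 d2 d3 d4
    clear * - d1 d2 d3 d4; revert w; decide +kernel
  have : ∀ u, A *ᵥ u = mS *ᵥ u := fun u => by
    rw [(by decide +kernel : ∀ u : V4, u = (u 0 + u 1 + u 2) • ![1, 0, 0, 0] +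
      (-u 1 - u 2) • ![1, 1, 1, 0] + (u 1 - u 2) • ![0, -1, 1, 0] + u 3 • ![0, 0, 0, 1]) u]
    simp only [mulVec_add, mulVec_smul, c2, c3, c4, d5]
    rw [show mS *ᵥ ![1, 0, 0, 0] = ![1, 0, 0, 0] by decide, show mS *ᵥ ![1, 1, 1, 0] = ![1, 1, 1, 0] by
      decide, show mS *ᵥ ![0, -1, 1, 0] = ![0, -1, 1, 0] by decide,
      show mS *ᵥ ![0, 0, 0, 1] = ![0, 0, 0, -1] by decide]
  ext i j
  simpa using congrFun (this (Pi.single j 1)) i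

end Pre

end CfsgH2.T3
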