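import Cfsg.Agent.H2.T3F

/-! Construction of the frame. -/

set_option autoImplicit false
set_option linter.unusedSectionVars false

namespace CfsgH2.T3

open Subgroup CfsgH5 CfsgH6 CfsgFT CfsgH9 CfsgH7 Matrix
open CfsgH1.L43 hiding Loc0 Sym Pair Gen Loc Co

universe u

variable {G : Type u} [Group G] [Finite G]

/-- an element of order four -/
def oM (i : F3) : SL23 := ⟨!![i, 1 + i * i; -1, -i], by rw [det_fin_two_of]; ring⟩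

theorem oM_facts : ∀ i, oM i ^ 4 = 1 ∧ oM i ^ 9 = oM i ∧ oM i * oM i = nM ∧
    uM * oM i * uM⁻¹ * (oM i * (uM * oM i * uM⁻¹) * (oM i)⁻¹) = 1 ∧
    uM * (uM * oM i * uM⁻¹) * uM⁻¹ * (oM i * (uM * oM i * uM⁻¹)) = 1 ∧
    (∀ M : SL23, ∃ m k : F3, ∃ j : Fin 4, M = uM ^ m.val * oM i ^ j.val * uM ^ k.val) ∧
    ∀ m k : F3, ∀ j : Fin 4, m + k = 0 → (uM ^ m.val * oM i ^ j.val * uM ^ k.val) ^ 4 = 1 := by
  decide +kernel

theorem LZ.cube_comm {z g b : G} (l : LZ z) (hg : g ∈ C1 z) (hb : b ∈ C1 z)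
    (h1 : g * b * g⁻¹ * b⁻¹ ∈ zpowers z) : g ^ 3 ∈ C1 b := by
  have h2 := l.zp_comm h1 hg
  have h4 := l.exp _ (l.zp_le h1)
  generalize hc : g * b * g⁻¹ * b⁻¹ = c at h2 h4
  have e : g * b = c * b * g := by rw [← hc]; group
  rw [mem_C1]
  calc g ^ 3 * b = g * g * (g * b) := by rw [pow_three', mul_assoc]
    _ = g * (g * c) * b * g := by rw [e]; group
    _ = g * (c * g) * b * g := by rw [h2]
    _ = (g * c) * (g * b) * g := by group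
    _ = (c * g) * (c * b * g) * g := by rw [e, h2]
    _ = c * (g * c) * b * g * g := by group
    _ = c * c * (g * b) * g * g := by rw [h2]; group
    _ = c ^ 3 * b * g ^ 3 := by rw [e, pow_three', pow_three']; group
    _ = _ := by rw [h4, one_mul]

theorem LZ.eq4 {z g k : G} (l : LZ z) (hk : k ∈ C1 z) (g4 : g ^ 4 = 1) (k4 : k ^ 4 = 1)
    (e : k⁻¹ * g ∈ zpowers z) : g = k := by
  have h1 : Commute k (k⁻¹ * g) := l.zp_comm e hk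
  have h2 := h1.mul_pow 4
  rw [mul_inv_cancel_left, g4, k4, one_mul, pow_succ, l.exp _ (l.zp_le e), one_mul] at h2
  exact (inv_mul_eq_one.1 h2.symm).symm

namespace Pre

variable {f : FD G} {π : G → SL23} {ε : G → ℤˣ} {W : Type u} [AddCommGroup W] [Module F3 W]
  {pr : G → W} {B : W →ₗ[F3] W →ₗ[F3] F3} {v v' p p' : W} (h : Pre f π ε pr B v v' p p')
include h

theorem norm (hZ : ∀ u, f.Zv u ↔ u ≠ 0 ∧ nm u = 0) : ∃ f' : FD G, Pre f' π ε pr B v v' p p' ∧ FrN f' ∧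
    ((∀ g ∈ C1 f'.z, ε g = 1) ∨ f'.Act f'.s mS) := by
  obtain ⟨u, y, ν, au, ay, aν⟩ := h.exists_uy hZ
  obtain ⟨ν, aν, νν⟩ : ∃ ν, f.Act ν (-1) ∧ ν * ν = 1 := ⟨ν ^ 3, (aν.pow 3).cast (by decide +kernel), by
    rw [← (Commute.refl ν).mul_pow]
    exact h.exp _ (h.mem_J ((aν.mul aν).cast (by simp)))⟩
  have νi : ∀ j ∈ f.J, ν * j * ν⁻¹ = j⁻¹ := fun j hj => by
    obtain ⟨u, rfl⟩ := h.surj hj
    rw [aν, ← h.neg, neg_mulVec, one_mulVec]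
  have k : ∀ g A, f.Act g A → ∃ g', f.Act g' A ∧ g' ∈ C1 ν ∧ (g ∈ Qz f.z → g' ∈ Qz f.z) := by
    intro g A hA
    obtain ⟨A', a1, -, a2⟩ := h.act_inv hA
    have m := h.mem_J ((((aν.mul hA).mul (aν.inv (B := -1) (by simp))).mul a1).cast (by simp [a2]))
    refine ⟨(ν * g * ν⁻¹ * g⁻¹)⁻¹ * g, h.act_congr hA (by simpa using inv_mem m), ?_, fun hq =>
      mul_mem (inv_mem (mul_mem (conj_mem_of_mem_N (mem_NQ_of_inv
        (νi _ (f.jv_z ▸ f.jv_mem _))) hq) (inv_mem hq))) hq⟩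
    have e1 := νi _ (inv_mem m)
    have e2 := h.exp _ m
    rw [mem_C1_comm, mem_C1_iff_conj]
    generalize hc : ν * g * ν⁻¹ * g⁻¹ = c at e1 e2
    calc _ = (ν * c⁻¹ * ν⁻¹) * (ν * g * ν⁻¹ * g⁻¹) * g := by group
      _ = c⁻¹ * c ^ 3 * g := by rw [e1, hc, pow_three']; group
      _ = _ := by rw [e2, mul_one]
  have one : ∀ g ∈ f.J, g ∈ C1 ν → g = 1 := fun g hg hν => by
    obtain ⟨u, rfl⟩ := h.surj hg
    have := (h.fix_iff aν).1 (mem_C1_comm.1 hν)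
    rw [show u = 0 by clear * - this; revert u; decide +kernel, f.jv_zero]
  obtain ⟨x, x1, x2, x3⟩ := k _ _ h.ax
  obtain ⟨τ, τ1, τ2, τ3⟩ := k _ _ h.aτ
  obtain ⟨t, t1, t2, -⟩ := k _ _ h.at'
  obtain ⟨u, u1, u2, -⟩ := k _ _ au
  obtain ⟨y, y1, y2, -⟩ := k _ _ ay
  obtain ⟨s, s1, s2, s3, s4⟩ : ∃ s, (s = 1 ∨ f.Act s mS) ∧ s ∈ C1 ν ∧ (s = 1 → ∀ g, ¬ f.Act g mS) ∧
      ((∀ g ∈ C1 f.z, ε g = 1) ∨ f.Act s mS) := by
    rcases h.exists_s hZ with e | ⟨s, e⟩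
    · refine ⟨1, Or.inl rfl, one_mem _, fun _ g hg => ?_, Or.inl e⟩
      obtain ⟨a1, c, ⟨-, a2⟩ | ⟨a2, -⟩⟩ := h.act_d hg (by decide)
      · exact absurd (congrFun a2 3) (show ¬ (mS *ᵥ ![0, 0, 0, 1]) 3 = 1 by decide)
      · exact a2 (e g a1)
    · obtain ⟨s, s1, s2, -⟩ := k _ _ e
      exact ⟨s, Or.inr s1, s2, fun e => absurd (h.act_uniq (e ▸ s1) FD.Act.one) (by decide),
        Or.inr s1⟩
  exact ⟨{ f with x := x, t := t, u := u, y := y, ν := ν, τ := τ, s := s },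
    ⟨⟨h.add, h.inj⟩, h.toCo, h.eQ, h.pe, h.dQ, h.pd, x3 h.xQ, x1, τ3 h.τQ, τ1, t1,
      one _ (h.mem_J ((t1.mul t1).cast (by decide))) (mul_mem t2 t2), h.hy, h.big⟩,
    ⟨⟨h.add, h.inj⟩, h.cJ, x1, t1, u1, y1, aν, τ1, s1, νν, x2, t2, u2, y2, τ2, s2, h.iso hZ, s3, h.fus⟩,
    s4⟩

theorem tC : f.t ∈ C1 f.z ∧ π f.t = nM ∧ ε f.t = 1 := by
  obtain ⟨a1, c, ⟨a2, -⟩ | ⟨-, a2⟩⟩ := h.act_d h.at' (by decide)
  · refine ⟨a1, sl_n.2.2.2.2 _ (by rw [← h.pi.mul _ a1 _ a1, h.tt, h.pi.one]) fun e => ?_, a2⟩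
    have := h.lz.exp _ ((h.pi.ker _ a1).1 ⟨e, a2⟩)
    rw [pow_three', h.tt, one_mul] at this
    exact absurd (h.act_uniq (this ▸ h.at') FD.Act.one) (by decide)
  · exact absurd (congrFun a2 3) (show ¬ (mT *ᵥ ![0, 0, 0, 1]) 3 = -1 by decide)

/-- the centralizer of `t` and `C_Q(t)` -/
def _root_.CfsgH2.T3.FD.D (f : FD G) : Subgroup G := C1 f.z ⊓ C1 f.t ⊓ C1 f.d ⊓ C1 f.τ

theorem D_e {g : G} (hg : g ∈ f.D) (he : g ∈ C1 f.e) : g ∈ zpowers f.z := by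
  obtain ⟨u, rfl⟩ := h.surj (h.cen_ed hg.1.1.1 he hg.1.2)
  have a1 := (h.fix_iff h.at').1 (mem_C1_comm.1 hg.1.1.2)
  have a2 := (h.fix_iff h.aτ).1 (mem_C1_comm.1 hg.2)
  rw [← f.jv_z, h.mem_zp]
  clear * - a1 a2; revert u; decide +kernel

theorem D_Q {g : G} (hg : g ∈ f.D) (e1 : π g = 1) : g ∈ zpowers f.z := by
  obtain ⟨t1, t2, t3⟩ := h.tC
  obtain ⟨T, hT⟩ := h.ex t1
  obtain ⟨M, hM⟩ := h.ex hg.1.1.1
  have hq := (h.pi.ker _ hg.1.1.1).1 ⟨e1, h.eps hg.1.1.1 hM (by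
    rw [← h.pd, ← hM _ h.dQ, mem_C1_iff_conj.1 hg.1.2])⟩
  refine h.D_e hg (mem_C1_comm.1 (mem_C1.2 ((h.sy.comm_iff h.eQ hq).2 ?_)))
  rw [h.pe]
  exact orth (h.sy.B_act t1 hT) (h.act_t t1 t2 t3 hT).1
    (by rw [← hT _ hq, mem_C1_iff_conj.1 (mem_C1_comm.1 hg.1.1.2)])

theorem D_a {g : G} (hg : g ∈ f.D) : f.a * g * f.a⁻¹ ∈ f.D := by
  have k : ∀ {b : G}, g ∈ C1 (f.a⁻¹ * b * f.a⁻¹⁻¹) → f.a * g * f.a⁻¹ ∈ C1 b := fun hb => by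
    rw [← cj_C1, mem_cj] at hb; simpa using hb
  have k' : ∀ {b : G}, f.a ∈ C1 b → g ∈ C1 b → f.a * g * f.a⁻¹ ∈ C1 b := fun h1 h2 =>
    mul_mem (mul_mem h1 h2) (inv_mem h1)
  refine ⟨⟨⟨k' h.sC hg.1.1.1, k' (mem_C1_comm.1 (f.jv_a ▸ (h.fix_iff h.at').2 (by decide))) hg.1.1.2⟩,
    k' (mem_C1.2 (f.jv_a ▸ f.jv_d ▸ h.comm _ _)) hg.1.2⟩, k ?_⟩
  have e := h.aτ ![1, 0, 0, 0]
  rw [show mR *ᵥ ![1, 0, 0, 0] = ![1, 0, 0, 0] + (![1, 1, 1, 0] + -![0, 0, 0, 1]) by decide, h.add,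
    h.add, h.neg, f.jv_a, f.jv_z, f.jv_d] at e
  rw [show f.a⁻¹ * f.τ * f.a⁻¹⁻¹ = f.a⁻¹ * (f.τ * f.a * f.τ⁻¹) * f.τ by group, e, mem_C1_comm,
    inv_mul_cancel_left]
  exact mul_mem (mul_mem (mem_C1_comm.1 hg.1.1.1) (inv_mem (mem_C1_comm.1 hg.1.2)))
    (mem_C1_comm.1 hg.2)

variable (k : FrN f)
include k

theorem tx : f.t * f.x * f.t⁻¹ = f.x⁻¹ :=
  k.eq_of_act (((h.at'.mul h.ax).mul (h.at'.inv (B := mT) (by decide))).cast (by decide))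
    (h.ax.inv (B := mX * mX) (by decide)) (mul_mem (mul_mem k.νt k.νx) (inv_mem k.νt)) (inv_mem k.νx)

theorem tτ : f.t ∈ C1 f.τ :=
  mem_C1.2 (k.eq_of_act ((h.at'.mul h.aτ).cast (by decide)) (h.aτ.mul h.at')
    (mul_mem k.νt k.ντ) (mul_mem k.ντ k.νt))

theorem px' : ∃ i : F3, pr f.x = i • v + (-1 : F3) • v' := by
  obtain ⟨t1, t2, t3⟩ := h.tC
  obtain ⟨T, hT⟩ := h.ex t1
  obtain ⟨a1, a2, a3, a4⟩ := h.act_t t1 t2 t3 hT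
  obtain ⟨i, m, e⟩ := h.px
  have := hT _ h.xQ
  rw [h.tx k, h.sy.inv h.xQ, e] at this
  simp only [map_add, map_smul, a1, a2, a3, a4] at this
  obtain ⟨-, -, b, -⟩ := h.ind 0 0 (m + m) 0 (by linear_combination (norm := module) -this)
  exact ⟨i, by simpa [half0 (W := F3) b] using e⟩

theorem pτ' : ∃ m : F3, pr f.τ = m • p + p' := by
  obtain ⟨t1, t2, t3⟩ := h.tC
  obtain ⟨T, hT⟩ := h.ex t1
  obtain ⟨a1, a2, a3, a4⟩ := h.act_t t1 t2 t3 hT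
  obtain ⟨i, m, e⟩ := h.pτ
  have := hT _ h.τQ
  rw [mem_C1_iff_conj.1 (h.tτ k), e] at this
  simp only [map_add, map_smul, a1, a2, a3, a4] at this
  obtain ⟨b, -⟩ := h.ind (i + i) 0 0 0 (by linear_combination (norm := module) this)
  exact ⟨m, by simpa [half0 (W := F3) b] using e⟩

theorem exists_w : ∃ w ∈ f.D, w ^ 4 = 1 ∧ w * f.e * w⁻¹ = f.x ∧ ∃ i, π w = oM i := by
  obtain ⟨t1, t2, t3⟩ := h.tC
  obtain ⟨i, ex⟩ := h.px' k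
  obtain ⟨m, eτ⟩ := h.pτ' k
  obtain ⟨o1, o2, -⟩ := oM_facts i
  obtain ⟨g, g1, g2, g3, g4⟩ : ∃ g ∈ C1 f.z, π g = oM i ∧ ε g = 1 ∧ g ∈ C1 f.t := by
    obtain ⟨g, g1, g2, g3⟩ := h.pi.surj (oM i)
    have m1 := mul_mem (mul_mem g1 t1) (inv_mem g1)
    have hq := (h.pi.eq_iff m1 t1).1 ⟨by rw [h.pi.cj g1 t1, t2, sl_n.2.2.2.1]; simp, h.pi.cj' g1 t1⟩
    have q1 := (h.pi.ker _ (Qz_le _ hq)).2 hq
    refine ⟨g * f.t * g⁻¹ * f.t⁻¹ * g, mul_mem (Qz_le _ hq) g1, by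
      rw [h.pi.mul _ (Qz_le _ hq) _ g1, q1.1, g2, one_mul], by
      rw [h.pi.mul' _ (Qz_le _ hq) _ g1, q1.2, g3, one_mul], mem_C1_iff_conj.2 ?_⟩
    have q3 := h.lz.exp _ hq
    have ti := inv_eq_of_mul_eq_one_right h.tt
    have si : (g * f.t * g⁻¹)⁻¹ = g * f.t * g⁻¹ := by rw [conj_inv, ti]
    rw [show g * f.t * g⁻¹ * f.t⁻¹ * g * f.t * (g * f.t * g⁻¹ * f.t⁻¹ * g)⁻¹ =
      g * f.t * g⁻¹ * f.t⁻¹ * (g * f.t * g⁻¹) * f.t⁻¹⁻¹ * (g * f.t * g⁻¹)⁻¹ by group, si, ti, ti]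
    rw [ti, pow_three'] at q3
    generalize g * f.t * g⁻¹ = r at q3
    rw [← ti, eq_inv_iff_mul_eq_one, ti, ← q3]; group
  have q4 : g ^ 4 ∈ Qz f.z := (h.pi.ker _ (pow_mem g1 4)).1
    ⟨by rw [h.pi.pow g1, g2, o1], by rw [h.pi.pow' g1, g3, one_pow]⟩
  obtain ⟨M, hM⟩ := h.ex g1
  obtain ⟨-, -, a3, c, a4⟩ := h.act g g1 g3 M hM
  have n := C1_le_NQ _ g1
  have a5 := h.sy.ac_mul n (h.sy.ac_mul n (h.sy.ac_mul n hM hM) hM) hM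
  rw [show g * g * g * g = g ^ 4 by simp [pow_succ]] at a5
  have a6 := h.sy.ac_Q q4 a5 p'
  simp only [LinearMap.comp_apply, a4, map_add, map_smul, a3] at a6
  obtain ⟨-, -, a7, -⟩ := h.ind 0 0 (c + c + c + c) 0 (by linear_combination (norm := module) a6)
  rw [(by decide : ∀ c : F3, c + c + c + c = 0 → c = 0) c a7, zero_smul, add_zero] at a4
  have b : ∀ {q}, q ∈ Qz f.z → M (pr q) = pr q → g ^ 9 ∈ C1 q := fun hq e => by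
    rw [show 9 = 3 * 3 by rfl, pow_mul]
    exact pow_mem (h.lz.cube_comm g1 (Qz_le _ hq)
      ((h.sy.eq_iff (conj_mem_Qz g1 hq) hq).1 (by rw [hM _ hq, e]))) 3
  have w1 := pow_mem g1 9
  have w2 : π (g ^ 9) = oM i := by rw [h.pi.pow g1, g2, o2]
  have w3 := pow_mem g4 9
  refine ⟨g ^ 9, ⟨⟨⟨w1, w3⟩, b h.dQ (by rw [h.pd, a3])⟩, b h.τQ (by
    rw [eτ, map_add, map_smul, a3, a4])⟩, by
      rw [← pow_mul, show 9 * 4 = 4 * 3 * 3 by rfl, pow_mul, pow_mul, h.lz.exp _ q4, one_pow], ?_, i, w2⟩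
  have w4 : ε (g ^ 9) = 1 := by rw [h.pi.pow' g1, g3, one_pow]
  generalize g ^ 9 = w at w1 w2 w3 w4
  obtain ⟨M, hM⟩ := h.ex w1
  have c1 := (h.act w w1 w4 M hM).1
  have m1 := conj_mem_Qz w1 h.eQ
  have c2 := (h.sy.eq_iff m1 h.xQ).1 (by rw [hM _ h.eQ, h.pe, c1, w2, ex]; rfl)
  have c3 := h.lz.zp_comm c2 t1
  have c4 := h.lz.zp_comm c2 (Qz_le _ h.xQ)
  have c5 := h.lz.exp _ (h.lz.zp_le c2)
  have c6 : f.t * (w * f.e * w⁻¹) * f.t⁻¹ = (w * f.e * w⁻¹)⁻¹ := by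
    have e1 := h.at' ![0, -1, 1, 0]
    rw [show mT *ᵥ ![0, -1, 1, 0] = -![0, -1, 1, 0] by decide, h.neg, h.jv_e] at e1
    calc _ = (f.t * w * f.t⁻¹) * (f.t * f.e * f.t⁻¹) * (f.t * w * f.t⁻¹)⁻¹ := by group
      _ = _ := by rw [mem_C1_iff_conj.1 (mem_C1_comm.1 w3), e1]; group
  obtain ⟨c, hc⟩ : ∃ c, w * f.e * w⁻¹ = c * f.x := ⟨w * f.e * w⁻¹ * f.x⁻¹, by group⟩
  rw [hc, mul_inv_cancel_right] at c3 c4 c5
  rw [hc, ← mul_assoc, c3, mul_assoc c, mul_assoc c, h.tx k, ← c4, _root_.mul_inv_rev,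
    mul_left_inj, ← mul_eq_one_iff_eq_inv] at c6
  rw [pow_three', c6, one_mul] at c5
  rw [hc, c5, one_mul]

omit k in
theorem D_eq {g r : G} (hg : g ∈ f.D) (hr : r ∈ f.D) (g4 : g ^ 4 = 1) (r4 : r ^ 4 = 1)
    (e : g * f.e * g⁻¹ = r * f.e * r⁻¹) : g = r :=
  h.lz.eq4 hr.1.1.1 g4 r4 (h.D_e (mul_mem (inv_mem hr) hg) (mem_C1_iff_conj.2 (by
    rw [show r⁻¹ * g * f.e * (r⁻¹ * g)⁻¹ = r⁻¹ * (g * f.e * g⁻¹) * r by group, e]; group)))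

omit k in
theorem D_pi {g r : G} (hg : g ∈ f.D) (hr : r ∈ f.D) (g4 : g ^ 4 = 1) (r4 : r ^ 4 = 1)
    (e : (π r)⁻¹ * π g = 1) : g = r :=
  h.lz.eq4 hr.1.1.1 g4 r4 (h.D_Q (mul_mem (inv_mem hr) hg) (by
    rw [h.pi.mul _ (inv_mem hr.1.1.1) _ hg.1.1.1, h.pi.inv hr.1.1.1, e]))

theorem t_D : f.t ∈ f.D :=
  ⟨⟨⟨h.tC.1, self_mem_C1 _⟩, f.jv_d ▸ (h.fix_iff h.at').2 (by decide)⟩, h.tτ k⟩

omit h k in
theorem D_cj {n g : G} (hg : g ∈ f.D) (h1 : n * f.z * n⁻¹ = f.z ∨ n * f.z * n⁻¹ = f.z⁻¹)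
    (h2 : n * f.t * n⁻¹ = f.t) (h3 : n * f.d * n⁻¹ = f.d⁻¹)
    (h4 : n * f.τ * n⁻¹ = f.τ ∨ n * f.τ * n⁻¹ = f.τ⁻¹) : n * g * n⁻¹ ∈ f.D := by
  have k : ∀ {b : G}, n * b * n⁻¹ = b ∨ n * b * n⁻¹ = b⁻¹ → g ∈ C1 b → n * g * n⁻¹ ∈ C1 b :=
    fun e hb => by
      have := (cj_C1 n _).le (conj_mem_cj.2 hb)
      rcases e with e | e <;> rw [e] at this
      exacts [this, (C1_inv _).le this]
  exact ⟨⟨⟨k h1 hg.1.1.1, k (Or.inl h2) hg.1.1.2⟩, k (Or.inr h3) hg.1.2⟩, k h4 hg.2⟩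

omit h in
theorem s_rel (hs : f.Act f.s mS) : f.s * f.z * f.s⁻¹ = f.z ∧ f.s * f.e * f.s⁻¹ = f.e ∧
    f.s * f.d * f.s⁻¹ = f.d⁻¹ ∧ f.s * f.t * f.s⁻¹ = f.t ∧ f.s * f.x * f.s⁻¹ = f.x ∧
    f.s * f.τ * f.s⁻¹ = f.τ⁻¹ := by
  have hs' := hs.inv (B := mS) (by decide)
  have m : ∀ {g}, g ∈ C1 f.ν → f.s * g * f.s⁻¹ ∈ C1 f.ν := fun hg =>
    mul_mem (mul_mem k.νs hg) (inv_mem k.νs)
  refine ⟨?_, ?_, ?_, k.eq_of_act (((hs.mul k.at').mul hs').cast (by decide)) k.at' (m k.νt) k.νt,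
    k.eq_of_act (((hs.mul k.ax).mul hs').cast (by decide)) k.ax (m k.νx) k.νx,
    k.eq_of_act (((hs.mul k.aτ).mul hs').cast (by decide)) (k.aτ.inv (B := mR * mR) (by decide))
      (m k.ντ) (inv_mem k.ντ)⟩
  · rw [← f.jv_z, hs]; congr 1; decide
  · rw [← k.jv_e, hs]; congr 1; decide
  · rw [← f.jv_d, hs, ← k.neg]; congr 1; decide

variable {w : G} (w1 : w ∈ f.D) (w2 : w ^ 4 = 1) (w3 : w * f.e * w⁻¹ = f.x) {i : F3}
  (w4 : π w = oM i)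
include w1 w2 w4

theorem ww : w * w = f.t :=
  h.D_pi (mul_mem w1 w1) (h.t_D k) (by rw [(Commute.refl w).mul_pow, w2, one_mul])
    (by rw [show 4 = 2 * 2 by rfl, pow_mul, pow_two f.t, h.tt, one_pow])
    (by rw [h.pi.mul _ w1.1.1.1 _ w1.1.1.1, w4, (oM_facts i).2.2.1, h.tC.2.1, inv_mul_cancel])

theorem wa : (w * f.a) ^ 3 = 1 := by
  obtain ⟨-, -, -, o4, o5, -⟩ := oM_facts i
  have a1 := h.D_a w1
  have a2 := h.D_a a1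
  have p1 : π (f.a * w * f.a⁻¹) = uM * oM i * uM⁻¹ := by rw [h.pi.cj h.sC w1.1.1.1, h.ps, w4]
  have q1 : (f.a * w * f.a⁻¹) ^ 4 = 1 := by rw [conj_pow, w2]; simp
  have p2 : π (f.a * (f.a * w * f.a⁻¹) * f.a⁻¹) = uM * (uM * oM i * uM⁻¹) * uM⁻¹ := by
    rw [h.pi.cj h.sC a1.1.1.1, h.ps, p1]
  have q2 : (f.a * (f.a * w * f.a⁻¹) * f.a⁻¹) ^ 4 = 1 := by rw [conj_pow, q1]; simp
  have e : (w * f.a) ^ 3 = w * (f.a * w * f.a⁻¹) * (f.a * (f.a * w * f.a⁻¹) * f.a⁻¹) * f.a ^ 3 := by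
    rw [pow_three', pow_three']; group
  rw [e, h.a3, mul_one, mul_eq_one_iff_eq_inv]
  generalize f.a * (f.a * w * f.a⁻¹) * f.a⁻¹ = r at a2 p2 q2
  generalize f.a * w * f.a⁻¹ = g at a1 p1 q1
  have b1 := h.D_pi (mul_mem (mul_mem w1 a1) (inv_mem w1)) (inv_mem a1) (by rw [conj_pow, q1]; simp)
    (by rw [inv_pow, q1, inv_one])
    (by rw [h.pi.inv a1.1.1.1, inv_inv, h.pi.cj w1.1.1.1 a1.1.1.1, p1, w4, o4])
  refine h.D_pi (mul_mem w1 a1) (inv_mem a2) ?_ (by rw [inv_pow, q2, inv_one])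
    (by rw [h.pi.inv a2.1.1.1, inv_inv, h.pi.mul _ w1.1.1.1 _ a1.1.1.1, p1, p2, w4, o5])
  have b2 : (w * g) ^ 2 = f.t := by
    calc _ = (w * g * w⁻¹) * (w * w) * g := by rw [pow_two]; group
      _ = g⁻¹ * f.t * g⁻¹⁻¹ := by rw [b1, h.ww k w1 w2 w4, inv_inv]
      _ = _ := mem_C1_iff_conj.1 (inv_mem a1.1.1.2)
  rw [show 4 = 2 * 2 by rfl, pow_mul, b2, pow_two, h.tt]

include w3

theorem νw : f.ν * w * f.ν⁻¹ = w⁻¹ := by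
  have νi : ∀ j ∈ f.J, f.ν * j * f.ν⁻¹ = j⁻¹ := fun j hj => by
    obtain ⟨u, rfl⟩ := h.surj hj
    rw [k.aν, ← h.neg, neg_mulVec, one_mulVec]
  have c : ∀ {g}, g ∈ C1 f.ν → f.ν * g * f.ν⁻¹ = g := fun hg => mem_C1_iff_conj'.1 hg
  have e1 := h.at' ![0, -1, 1, 0]
  rw [show mT *ᵥ ![0, -1, 1, 0] = -![0, -1, 1, 0] by decide, h.neg, h.jv_e, ← h.ww k w1 w2 w4] at e1
  refine h.D_eq (D_cj w1 (Or.inr (νi _ (f.jv_z ▸ f.jv_mem _))) (c k.νt) (νi _ f.d_mem)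
    (Or.inl (c k.ντ))) (inv_mem w1) (by rw [conj_pow, w2]; simp) (by rw [inv_pow, w2, inv_one]) ?_
  have e2 := νi _ (inv_mem (h.jv_e ▸ f.jv_mem _ : f.e ∈ f.J))
  rw [inv_inv] at e2
  calc _ = f.ν * (w * (f.ν⁻¹ * f.e * f.ν) * w⁻¹) * f.ν⁻¹ := by group
    _ = (f.ν * (w * f.e * w⁻¹) * f.ν⁻¹)⁻¹ := by conv_lhs => rw [← e2]
                                                group
    _ = w⁻¹ * (w * w * f.e * (w * w)⁻¹)⁻¹ * w⁻¹⁻¹ := by rw [w3, c k.νx, ← w3]; group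
    _ = _ := by rw [e1, inv_inv]

omit w4 in
theorem sw : f.s * w * f.s⁻¹ = w := by
  rcases k.as with e | hs
  · simp [e]
  obtain ⟨s1, s2, s3, s4, s5, s6⟩ := s_rel k hs
  refine h.D_eq (D_cj w1 (Or.inl s1) s4 s3 (Or.inr s6)) w1 (by rw [conj_pow, w2]; simp) w2 ?_
  calc _ = f.s * (w * (f.s⁻¹ * f.e * f.s) * w⁻¹) * f.s⁻¹ := by group
    _ = f.s * (w * f.e * w⁻¹) * f.s⁻¹ := by conv_lhs => rw [← s2]
                                            group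
    _ = _ := by rw [w3, s5]

omit k w2 w3

theorem dec {g : G} (hg : g ∈ C1 f.z) (eg : ε g = 1) : ∃ q ∈ Qz f.z, ∃ m k : F3, ∃ j : Fin 4,
    g = q * (f.a ^ m.val * w ^ j.val * f.a ^ k.val) ∧
      π g = uM ^ m.val * oM i ^ j.val * uM ^ k.val := by
  obtain ⟨m, k, j, e⟩ := (oM_facts i).2.2.2.2.2.1 (π g)
  have wz := w1.1.1.1
  obtain ⟨M, hM⟩ := h.ex wz
  have ew := h.eps wz hM (by rw [← h.pd, ← hM _ h.dQ, mem_C1_iff_conj.1 w1.1.2])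
  have a1 := pow_mem h.sC m.val
  have a2 := pow_mem wz j.val
  have a3 := pow_mem h.sC k.val
  refine ⟨_, (h.pi.eq_iff hg (mul_mem (mul_mem a1 a2) a3)).1 ⟨?_, ?_⟩, m, k, j, by group, e⟩
  · rw [h.pi.mul _ (mul_mem a1 a2) _ a3, h.pi.mul _ a1 _ a2, h.pi.pow h.sC, h.pi.pow h.sC,
      h.pi.pow wz, h.ps, w4, e]
  · rw [h.pi.mul' _ (mul_mem a1 a2) _ a3, h.pi.mul' _ a1 _ a2, h.pi.pow' h.sC, h.pi.pow' h.sC,
      h.pi.pow' wz, h.es, ew, eg]; simp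

omit w1 w4 in
theorem cz_of {K : Subgroup G} {P : G → Prop} (hs : (∀ g ∈ C1 f.z, ε g = 1) ∨ f.Act f.s mS)
    (sK : f.Act f.s mS → f.s ∈ K) (sP : f.Act f.s mS → ∀ g, P g → P (g * f.s))
    (h1 : ∀ g ∈ C1 f.z, ε g = 1 → P g → g ∈ K) {g : G} (hg : g ∈ C1 f.z) (hP : P g) : g ∈ K := by
  by_cases eg : ε g = 1
  · exact h1 g hg eg hP
  have hs := hs.resolve_left fun e => eg (e g hg)
  obtain ⟨a1, c, ⟨-, a2⟩ | ⟨a2, -⟩⟩ := h.act_d hs (by decide)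
  · exact absurd (congrFun a2 3) (show ¬ (mS *ᵥ ![0, 0, 0, 1]) 3 = 1 by decide)
  exact (mul_mem_cancel_right (sK hs)).1 (h1 _ (mul_mem hg a1) (by
    rw [h.pi.mul' _ hg _ a1, Int.units_ne_iff_eq_neg.1 eg, Int.units_ne_iff_eq_neg.1 a2]; simp)
    (sP hs g hP))

theorem cz (hs : (∀ g ∈ C1 f.z, ε g = 1) ∨ f.Act f.s mS) :
    C1 f.z ≤ f.S ⊔ zpowers w ⊔ zpowers f.s := fun g hg =>
  h.cz_of (P := fun _ => True) hs (fun _ => mem_sup_right (mem_zpowers _)) (fun _ _ _ => trivial)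
    (fun g hg eg _ => by
      obtain ⟨q, hq, m, k, j, rfl, -⟩ := h.dec w1 w4 hg eg
      have a : f.a ∈ f.S ⊔ zpowers w := mem_sup_left (mem_sup_left (mem_sup_left f.a_mem))
      exact mem_sup_left (mul_mem (mem_sup_left (h.Q_le_S hq)) (mul_mem (mul_mem (pow_mem a _)
        (pow_mem (mem_sup_right (mem_zpowers _)) _)) (pow_mem a _)))) hg trivial

theorem czd : C1 f.z ⊓ C1 f.d ≤ f.J ⊔ zpowers f.x ⊔ zpowers w := by
  rintro g ⟨hg, gd⟩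
  obtain ⟨M, hM⟩ := h.ex hg
  obtain ⟨q, hq, m, k, j, rfl, -⟩ := h.dec w1 w4 hg
    (h.eps hg hM (by rw [← h.pd, ← hM _ h.dQ, mem_C1_iff_conj.1 gd]))
  have ad : f.a ∈ C1 f.d := mem_C1.2 (f.jv_a ▸ f.jv_d ▸ h.comm _ _)
  have a : f.a ∈ f.J ⊔ zpowers f.x ⊔ zpowers w := mem_sup_left (mem_sup_left f.a_mem)
  replace gd := (mul_mem_cancel_right (mul_mem (mul_mem (pow_mem ad _) (pow_mem w1.1.2 _))
    (pow_mem ad _))).1 gd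
  obtain ⟨u, hu, m', n, rfl⟩ := h.decQ hq
  obtain ⟨-, i, k, e⟩ := h.prQ hu m'.val n.val
  have := (h.sy.comm_iff hq h.dQ).1 (mem_C1.1 gd)
  rw [e, h.pd, h.Bp, mul_one, ZMod.natCast_zmod_val] at this
  rw [this, ZMod.val_zero, pow_zero, mul_one]
  exact mul_mem (mem_sup_left (mul_mem_sup (f.jv_mem u) (pow_mem (mem_zpowers _) _)))
    (mul_mem (mul_mem (pow_mem a _) (pow_mem (mem_sup_right (mem_zpowers _)) _)) (pow_mem a _))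

omit w1 w4 in
theorem cze (hs : (∀ g ∈ C1 f.z, ε g = 1) ∨ f.Act f.s mS) : C1 f.z ⊓ C1 f.e ≤ N f.J := fun g hg =>
  h.cz_of (P := fun g => g ∈ C1 f.e) hs h.mem_N
    (fun hs g hg => mul_mem hg (h.jv_e ▸ (h.fix_iff hs).2 (by decide))) (fun g hg eg ge => by
      obtain ⟨M, hM⟩ := h.ex hg
      obtain ⟨i, hi⟩ := h.fixv hg eg hM (by rw [← h.pe, ← hM _ h.eQ, mem_C1_iff_conj.1 ge])
      exact (mul_mem_cancel_right (inv_mem (pow_mem (le_N _ f.a_mem) _))).1 (h.S_le_N (h.Q_le_S hi)))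
    hg.1 hg.2

include k in
theorem nτ (g : G) (u u' : V4) (n : ℕ) (hu : u 0 + u 1 + u 2 = 0) :
    g * (f.jv u * f.x ^ n * f.τ) * g⁻¹ ≠ f.jv u' := fun e => by
  obtain ⟨hq, i', k', e1⟩ := h.prQ (u := u) hu n 1
  rw [pow_one] at hq e1
  generalize f.jv u * f.x ^ n * f.τ = q at e hq e1
  have qz : q ∉ zpowers f.z := fun e => by
    rw [(h.sy.zero q hq).2 e] at e1
    exact absurd (h.ind _ _ _ _ e1.symm).2.2.2 (by decide)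
  have c := h.lz.card_C hq qz
  have hS : SylIn 3 (Qz f.z ⊓ C1 q) (C1 q) := by
    refine sylIn_of_sylIn_N Nat.prime_three ⟨le_inf inf_le_right (le_N _),
      (pg_of_exp (n := 1) h.lz.exp).to_inf_left, fun T h1 h2 h3 => le_antisymm (fun r hr => ?_) h3⟩
    obtain ⟨l, hl⟩ := h2 ⟨r, hr⟩
    refine CfsgH8.mem_of_pow_coprime (a := 3 ^ l) (b := 2 * 2 * 4) (Nat.Coprime.pow_left l (by norm_num))
      ((show r ^ 3 ^ l = 1 from congrArg Subtype.val hl) ▸ one_mem _) ⟨?_, pow_mem (h1 hr).1 _⟩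
    obtain ⟨a, ha, b, hb, e2⟩ : ∃ a ∈ Qz f.z ⊓ C1 q, ∃ b ∈ Qz f.z ⊓ C1 q, a * b ≠ b * a := by
      by_contra hc
      push Not at hc
      have := h.lz.ab_le inf_le_left (ab_iff.2 hc)
      omega
    have r1 : r * f.z * r⁻¹ ∈ zpowers f.z := by
      have := h.lz.der _ (conj_mem_of_mem_N (h1 hr).2 ha).1 _ (conj_mem_of_mem_N (h1 hr).2 hb).1
      rw [show r * a * r⁻¹ * (r * b * r⁻¹) * (r * a * r⁻¹)⁻¹ * (r * b * r⁻¹)⁻¹ =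
        r * (a * b * a⁻¹ * b⁻¹) * r⁻¹ by group] at this
      rcases CfsgH8.mem_zpowers_three h.lz.cube (h.lz.der a ha.1 b hb.1) with e1 | e1 | e1
      · exact absurd (by rwa [mul_inv_eq_one, mul_inv_eq_iff_eq_mul] at e1) e2
      · rwa [e1] at this
      · rwa [e1, ← conj_inv, inv_mem_iff] at this
    have r2 : r ^ 2 ∈ C1 f.z := by
      rw [mem_C1_iff_conj, show r ^ 2 * f.z * (r ^ 2)⁻¹ = r * (r * f.z * r⁻¹) * r⁻¹ by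
        rw [pow_two]; group]
      rcases CfsgH8.mem_zpowers_three h.lz.cube r1 with e1 | e1 | e1
      · exact absurd (conj_eq_one_iff.1 e1) h.lz.ne
      · rw [e1, e1]
      · rw [e1, ← conj_inv, e1, inv_inv]
    have r3 : ε ((r ^ 2) ^ 2) = 1 := by rw [h.pi.pow' r2, Int.units_sq]
    have r4 : (r ^ 2) ^ 2 ∈ C1 q := pow_mem (pow_mem (h1 hr).1 _) _
    have r5 := pow_mem r2 2
    rw [pow_mul, pow_mul]
    generalize (r ^ 2) ^ 2 = s at r3 r4 r5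
    obtain ⟨q', hq', m, l, j, e2, e3⟩ := h.dec w1 w4 r5 r3
    refine (h.pi.ker _ (pow_mem r5 4)).1 ⟨?_, by rw [h.pi.pow' r5, r3, one_pow]⟩
    rw [h.pi.pow r5, e3]
    refine (oM_facts i).2.2.2.2.2.2 m l j ?_
    have a1 := pow_mem h.sC m.val
    have a2 := pow_mem w1.1.1.1 j.val
    have a3 := pow_mem h.sC l.val
    obtain ⟨M, hM⟩ := h.ex r5
    obtain ⟨M1, h1⟩ := h.ex a1
    obtain ⟨M2, h2⟩ := h.ex a2
    obtain ⟨M3, h3⟩ := h.ex a3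
    obtain ⟨b1, b2, b3, c, b4⟩ := h.act s r5 r3 M hM
    have b5 := hM q hq
    rw [mem_C1_iff_conj.1 r4, e1] at b5
    simp only [map_add, map_smul, b1, b2, b3, b4] at b5
    obtain ⟨-, -, rfl, -⟩ := h.ind (i' * (π s).1 0 0 - n * (π s).1 0 1 - i')
      (i' * (π s).1 1 0 - n * (π s).1 1 1 + n) c 0 (by linear_combination (norm := module) -b5)
    have b6 := h.sy.ac_eq (C1_le_NQ _ (mul_mem (mul_mem a1 a2) a3)) (by rw [e2, mul_inv_cancel_right]; exact hq') hM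
      (h.sy.ac_mul (C1_le_NQ _ a3) (h.sy.ac_mul (C1_le_NQ _ a2) h1 h2) h3) p'
    obtain ⟨n, e4⟩ := h.pτ' k
    have c1 : M2 p = p := by rw [← h.pd, ← h2 _ h.dQ, mem_C1_iff_conj.1 (pow_mem w1.1.2 _)]
    have c2 := h2 _ h.τQ
    rw [mem_C1_iff_conj.1 (pow_mem w1.2 _), e4, map_add, map_smul, c1, add_right_inj] at c2
    obtain ⟨-, -, d1, d2⟩ := h.act_pow _ h1
    simp only [b4, LinearMap.comp_apply, (h.act_pow _ h3).2.2.2, map_add, map_smul, c1, ← c2, d1, d2,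
      ZMod.natCast_zmod_val] at b6
    exact (h.ind 0 0 _ 0 (by linear_combination (norm := module) -b6)).2.2.1
  obtain ⟨r, -, h1⟩ := hS.exists_le_cj (X := cj g⁻¹ f.J) (by
    rw [← le_cj_iff, cj_C1, e]; exact le_C1_iff.2 (h.ab (f.jv_mem _))) (isPGroup_cj h.isP _)
  have := card_le_of_le (le_cj_iff.1 h1)
  have := h.lz.ab_le ((le_cj_iff.1 h1).trans inf_le_left) ((h.ab.cjj _).cjj _)
  rw [card_cj, card_cj, h.card] at this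
  omega

omit w1 w4 in
include k in
theorem sig : Sig3 f.J := fun K h3 hn => by
  have k1 : ∀ K : Subgroup G, ¬ 3 ∣ Nat.card K → Nrm f.J K → ∀ m ∈ K, m ∈ C1 f.z → m = 1 := by
    intro K h3 hn m hm mz
    have one : ∀ g ∈ K, g ^ 3 = 1 → g = 1 := fun g hg e => by
      by_contra hc
      exact h3 (orderOf_three hc e ▸ K.orderOf_dvd_natCard hg)
    have c : ∀ b ∈ f.J, b ∈ Qz f.z → m ∈ C1 b := fun b hb bq => by
      have := one (m * b * m⁻¹ * b⁻¹) (by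
        rw [mul_assoc m b, mul_assoc m]; exact mul_mem hm (hn b hb _ (inv_mem hm)))
        (h.lz.exp _ (mul_mem (conj_mem_Qz mz bq) (inv_mem bq)))
      exact mem_C1_iff_conj.2 (mul_inv_eq_one.1 this)
    exact one m hm (h.exp _ (h.cen_ed mz (c _ (h.jv_e ▸ f.jv_mem _) h.eQ) (c _ f.d_mem h.dQ)))
  have k2 : ∀ u, u ≠ 0 → nm u = 0 → ∀ m ∈ K, m * f.jv u = f.jv u * m → m ∈ (⊥ : Subgroup G) := by
    intro u u0 hu m hm e
    obtain ⟨n, -, A, -, a1, a2⟩ := orb_ind (f := f) (K := ⊤) (P := fun _ => True) trivial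
      (fun _ _ _ _ => trivial) (L := [mX, mT, mU, mY]) (by
      simp only [List.forall_mem_cons]
      exact ⟨⟨trivial, _, mem_top _, k.ax⟩, ⟨trivial, _, mem_top _, k.at'⟩,
        ⟨trivial, _, mem_top _, k.au⟩, ⟨trivial, _, mem_top _, k.ay⟩, by simp⟩) rk0 0 _ rk0_ok u u0 hu
    refine conj_eq_one_iff.1 (k1 (cj n K) (by rwa [card_cj]) (mem_N.1 (h.mem_N a1) ▸ hn.cjj n) _
      (conj_mem_cj.2 hm) ?_)
    rw [← f.jv_z, ← a2, ← a1, ← cj_C1]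
    exact conj_mem_cj.2 (mem_C1.2 e)
  have hb : B9 (f.jv ![1, 1, 1, 0]) (f.jv ![0, -1, 1, 1]) :=
    ⟨h.cube _, h.cube _, h.comm _ _, h.toJ81.ne (by decide), by rw [h.mem_zp]; decide⟩
  refine le_bot_iff.1 (hb.gen (hn _ (f.jv_mem _)) (hn _ (f.jv_mem _)) h3 (k2 _ (by decide) (by decide))
    (k2 _ (by decide) (by decide)) ?_ ?_)
  · rw [← h.add]; exact k2 _ (by decide) (by decide)
  · rw [← h.neg, ← h.add]; exact k2 _ (by decide) (by decide)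

omit w1 w4 in
theorem exists_fr : ∃ f' : FD G, Fr f' := by
  obtain ⟨f, h, hZ⟩ := h.ren
  obtain ⟨f, h, k, hs⟩ := h.norm hZ
  obtain ⟨w, w1, w2, w3, i, w4⟩ := h.exists_w k
  obtain ⟨⟨k1, k2⟩, k3, k4, k5, k6, k7, k8, k9, k10, k11, k12, k13, k14, k15, k16, k17, k18, k19,
    k20⟩ := id k
  exact ⟨{ f with w := w }, ⟨⟨k1, k2⟩, k3, k4, k5, k6, k7, k8, k9, k10, k11, k12, k13, k14, k15, k16,
    k17, k18, k19, k20⟩, h.ww k w1 w2 w4, mem_C1_iff_conj.1 w1.1.1.1, w3, h.wa k w1 w2 w4,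
    mem_C1_iff_conj.1 w1.1.2, h.νw k w1 w2 w3 w4, mem_C1_iff_conj'.1 w1.2, h.sw k w1 w2 w3, h.sig k,
    h.syl, h.cz w1 w4 hs, h.czd w1 w4, h.cze hs, h.nτ k w1 w4⟩

end Pre

end CfsgH2.T3
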