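import Cfsg.Agent.H2.T3G

/-! From the hypotheses to the frame. -/

set_option autoImplicit false
set_option linter.unusedSectionVars false

namespace CfsgH2.T3

open Subgroup CfsgH5 CfsgH6 CfsgFT CfsgH9 CfsgH7 Matrix
open CfsgH1.L43 hiding Loc0 Sym Pair Gen Loc Co

universe u

theorem exists_psi {H : Type u} [Group H]
    (e : Nonempty (H ≃* SL23) ∨ Nonempty (H ≃* SL23 × Multiplicative (ZMod 2))) :
    ∃ ψ : H →* SL23 × ℤˣ, Function.Injective ψ ∧ ∀ s, ∃ g, ψ g = (s, 1) := by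
  rcases e with ⟨⟨e⟩⟩ | ⟨⟨e⟩⟩
  · exact ⟨(MonoidHom.inl _ _).comp e.toMonoidHom, fun a b h => e.injective (congrArg Prod.fst h),
      fun s => ⟨e.symm s, by simp⟩⟩
  · let σ : Multiplicative (ZMod 2) →* ℤˣ :=
      MonoidHom.mk' (fun a => if a = 1 then 1 else -1) (by decide)
    have hσ : Function.Injective σ := by decide
    refine ⟨((MonoidHom.id _).prodMap σ).comp e.toMonoidHom, fun a b h => e.injective
      (Prod.ext ?_ (hσ ?_)), fun s => ⟨e.symm (s, 1), by simp⟩⟩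
    exacts [congrArg (Prod.fst (β := ℤˣ)) h, congrArg Prod.snd h]

theorem mem_res {H : Type u} [Group H] {ψ : H →* SL23 × ℤˣ} (h1 : Function.Injective ψ)
    (h2 : ∀ s, ∃ g, ψ g = (s, 1)) (g : H) : g ∈ Cfsg.pResidual 2 H ↔ (ψ g).2 = 1 := by
  constructor
  · intro hg
    refine (closure_le ((MonoidHom.snd _ _).comp ψ).ker).2 (fun a ha => ?_) hg
    have h3 := congrArg (fun a => (ψ a).2) (pow_orderOf_eq_one a)
    obtain ⟨k, hk⟩ := Nat.coprime_two_right.1 ha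
    simp only [hk, pow_succ, pow_mul, map_mul, map_pow, map_one, Prod.snd_mul, Prod.pow_snd,
      Int.units_sq, one_mul, one_pow, Prod.snd_one] at h3
    exact h3
  · intro hg
    have h : ∀ a : SL23, a ^ 3 = 1 → a ≠ 1 → ∃ b ∈ Cfsg.pResidual 2 H, ψ b = (a, 1) := fun a a3 a1 => by
      obtain ⟨b, hb⟩ := h2 a
      refine ⟨b, subset_closure ?_, hb⟩
      rw [Set.mem_ofPred_eq, orderOf_eq_prime (p := 3) (h1 (by simp [hb, a3]))
        fun e => a1 (by simpa [e] using (congrArg Prod.fst hb).symm)]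
      norm_num
    obtain ⟨i, j, k, l, e⟩ := sl_gen (ψ g).1
    obtain ⟨a, a1, a2⟩ := h uM (by decide) (by decide)
    obtain ⟨b, b1, b2⟩ := h lM (by decide) (by decide)
    rw [h1 (a₁ := g) (a₂ := a ^ i.val * b ^ j.val * a ^ k.val * b ^ l.val)
      (Prod.ext (by simpa [a2, b2] using e) (by simpa [a2, b2] using hg))]
    exact mul_mem (mul_mem (mul_mem (pow_mem a1 _) (pow_mem b1 _)) (pow_mem a1 _)) (pow_mem b1 _)

variable {G : Type u} [Group G] [Finite G]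

theorem lz_of {z : G} (z1 : z ≠ 1) (h1 : Cfsg.IsExtraspecial 3 (Qz z)) (h2 : Nat.card (Qz z) = 3 ^ 5)
    (h3 : ∀ a ∈ Qz z, a ^ 3 = 1) (h4 : C (Qz z) ≤ Qz z)
    (e : Nonempty (C1 z ⧸ Cfsg.pCore 3 (C1 z) ≃* SL23) ∨
      Nonempty (C1 z ⧸ Cfsg.pCore 3 (C1 z) ≃* SL23 × Multiplicative (ZMod 2))) :
    LZ z ∧ ∃ π ε, Pi2 z π ε ∧ ∀ k, k ∈ ((Cfsg.pResidual 2 (C1 z ⧸ Cfsg.pCore 3 (C1 z))).comap
      (QuotientGroup.mk' (Cfsg.pCore 3 (C1 z)))).map (C1 z).subtype ↔ k ∈ C1 z ∧ ε k = 1 := by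
  classical
  obtain ⟨ψ, p1, p2⟩ := exists_psi e
  have zC : z ∈ C (Qz z) := le_C1_iff.1 (Qz_le z)
  have m : ∀ a : Qz z, a ∈ center (Qz z) ↔ a.1 ∈ Z (Qz z) := fun a => by
    rw [mem_center_iff]
    exact ⟨fun h => ⟨a.2, fun b hb => congrArg Subtype.val (h ⟨b, hb⟩)⟩, fun h b => Subtype.ext (h.2 b b.2)⟩
  have h5 : Z (Qz z) = zpowers z := eq_zpowers_of_prime_card (by
    rw [show Z (Qz z) = (center (Qz z)).map (Qz z).subtype from ext fun a =>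
      ⟨fun h => ⟨⟨a, h.1⟩, (m _).2 h, rfl⟩, by rintro ⟨b, h, rfl⟩; exact (m b).1 h⟩,
      card_map_of_injective (subtype_injective _), h1.2]
    norm_num) ⟨h4 zC, zC⟩ z1
  have hπ : Pi2 z (fun g => if h : g ∈ C1 z then (ψ (QuotientGroup.mk ⟨g, h⟩)).1 else 1)
      (fun g => if h : g ∈ C1 z then (ψ (QuotientGroup.mk ⟨g, h⟩)).2 else 1) := by
    refine ⟨fun a ha b hb => ?_, fun a ha b hb => ?_, fun s => ?_, fun g hg => ?_⟩
    · rw [dif_pos ha, dif_pos hb, dif_pos (mul_mem ha hb), ← Prod.fst_mul, ← map_mul]; rfl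
    · rw [dif_pos ha, dif_pos hb, dif_pos (mul_mem ha hb), ← Prod.snd_mul, ← map_mul]; rfl
    · obtain ⟨g, hg⟩ := p2 s
      obtain ⟨g, rfl⟩ := QuotientGroup.mk_surjective g
      exact ⟨g, g.2, by simp [hg], by simp [hg]⟩
    · rw [dif_pos hg, dif_pos hg, ← Prod.mk_eq_one, map_eq_one_iff ψ p1, QuotientGroup.eq_one_iff]
      exact ⟨fun h => ⟨_, h, rfl⟩, fun ⟨k, h, e⟩ => (Subtype.ext e : k = ⟨g, hg⟩) ▸ h⟩
  refine ⟨⟨z1, h2, h3, h4 zC, fun a ha h => h5.le ⟨ha, fun b hb => (h b hb).symm⟩, fun a ha b hb =>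
    h5.le ((m (⟨a, ha⟩ * ⟨b, hb⟩ * ⟨a, ha⟩⁻¹ * ⟨b, hb⟩⁻¹)).1 (h1.1.2.2 ▸
      commutator_mem_commutator (mem_top _) (mem_top _))),
    fun a h => h4 fun b hb => (h b hb).symm, _, _, hπ⟩, _, _, hπ, fun k => ⟨?_, fun ⟨hk, e⟩ => ?_⟩⟩
  · rintro ⟨k, hk, rfl⟩
    exact ⟨k.2, by simpa using (mem_res p1 p2 _).1 hk⟩
  · rw [dif_pos hk] at e
    exact ⟨⟨k, hk⟩, (mem_res p1 p2 _).2 e, rfl⟩

theorem red_of {z : G} {π : G → SL23} {ε : G → ℤˣ} (l : LZ z) (hπ : Pi2 z π ε) {K : Subgroup G} (hK : ∀ k, k ∈ K ↔ k ∈ C1 z ∧ ε k = 1)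
    {r : ℕ} {A : Fin (r + 1) → Subgroup G} (hA0 : A 0 = zpowers z) (hAr : A (Fin.last r) = Qz z)
    (hmono : ∀ i : Fin r, A i.castSucc < A i.succ)
    (hmax : ∀ i : Fin r, ∀ B : Subgroup G, A i.castSucc < B → B < A i.succ →
      ∃ k ∈ K, ∃ b ∈ B, k * b * k⁻¹ ∉ B)
    (hone : ∃! i : Fin r, (∃ k ∈ K, ∃ a ∈ A i.succ, k * a * k⁻¹ * a⁻¹ ∉ A i.castSucc)) : Red z ε := by
  intro h X h1 h2
  obtain ⟨t, ht, pt, et⟩ := hπ.surj nM
  replace h := h t ht et (fun e => absurd (pt ▸ ((hπ.ker t ht).2 e).1) (by decide))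
    ((hπ.ker _ (mul_mem ht ht)).1 ⟨by rw [hπ.mul _ ht _ ht, pt, sl_n.2.1], by
      rw [hπ.mul' _ ht _ ht, et, one_mul]⟩)
  have mono := (Fin.strictMono_iff_lt_succ.2 hmono).monotone
  obtain ⟨i, -, hi⟩ := hone
  replace hi : ∀ j, j = i := fun j => by
    obtain ⟨a, a1, a2⟩ := SetLike.exists_of_lt (hmono j)
    have aQ : a ∈ Qz z := hAr ▸ mono (Fin.le_last _) a1
    refine hi j ⟨t, (hK t).2 ⟨ht, et⟩, a, a1, fun e => a2 ?_⟩
    have := mul_mem (inv_mem (mono (Fin.zero_le _) (hA0 ▸ h a aQ))) e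
    rwa [show (t * a * t⁻¹ * a)⁻¹ * (t * a * t⁻¹ * a⁻¹) = a * (a ^ 3)⁻¹ by
      rw [pow_three']; group, l.exp a aQ, inv_one, mul_one] at this
  have e1 : i.castSucc = 0 := by rw [← hi ⟨0, i.pos⟩]; rfl
  have e2 : i.succ = Fin.last r := by
    have := i.pos
    rw [← hi ⟨r - 1, by omega⟩]; ext; simp; omega
  obtain ⟨k, hk, e⟩ := hmax i X (by rwa [e1, hA0]) (by rwa [e2, hAr])
  exact ⟨k, ((hK k).1 hk).1, ((hK k).1 hk).2, e⟩

theorem fr_of {z x : G} {π : G → SL23} {ε : G → ℤˣ} (l : LZ z) (hπ : Pi2 z π ε) (hr : Red z ε)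
    (yQ : x * z * x⁻¹ ∈ Qz z) (yZ : x * z * x⁻¹ ∉ zpowers z)
    (big : ∀ P : Subgroup G, IsPGroup 3 P → Nat.card P ≤ 729) : ∃ f : FD G, Fr f := by
  obtain ⟨s, s', π, h⟩ := exists_gn l (l.conj x) yQ yZ hπ
  obtain ⟨W, _, _, pr, B, hs⟩ := l.exists_sym
  obtain ⟨v, v', p, p', β, c⟩ := h.exists_co hs hr
  rcases (by decide : ∀ β : F3, β ≠ 0 → β = 1 ∨ -β = 1) β c.ne with rfl | e
  · obtain ⟨f, hf⟩ := exists_pre c h.toPr ⟨x, Or.inl rfl⟩ big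
    exact hf.exists_fr
  · obtain ⟨f, hf⟩ := exists_pre (e ▸ c.flip) ⟨l.inv, h.hy, (Qz_inv z).ge h.yQ, by
      rw [zpowers_inv]; exact h.yZ, inv_mem h.zQ, by rw [Qz_inv]; exact h.card, h.sQ,
      (C1_inv z).ge h.sC, by rw [Qz_inv]; exact h.sn⟩ ⟨x, Or.inr conj_inv.symm⟩ big
    exact hf.exists_fr

end CfsgH2.T3
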