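import Cfsg.Agent.H2.T3F
import Cfsg.Agent.H7.T3E
import Cfsg.Agent.H9.T3D

/-! Control of the elements of order three. -/

set_option autoImplicit false
set_option linter.unusedSectionVars false

namespace CfsgH2.T3

open Subgroup CfsgH5 CfsgH6 CfsgFT CfsgH9 CfsgH7 Matrix
open CfsgH1.L43 hiding Loc0 Sym Pair Gen Loc Co

universe u

variable {G : Type u} [Group G] [Finite G] {f : FD G}

/-- elements of the complement -/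
def FD.Wt (f : FD G) (g : G) (A : M4) : Prop := f.Act g A ∧ g ∈ C1 f.ν

theorem FD.Wt.mul {g k : G} {A B : M4} (h1 : f.Wt g A) (h2 : f.Wt k B) : f.Wt (g * k) (A * B) :=
  ⟨h1.1.mul h2.1, mul_mem h1.2 h2.2⟩
theorem FD.Wt.pow {g : G} {A : M4} (h1 : f.Wt g A) (n : ℕ) : f.Wt (g ^ n) (A ^ n) :=
  ⟨h1.1.pow n, pow_mem h1.2 n⟩
theorem FD.Wt.one : f.Wt 1 1 := ⟨FD.Act.one, one_mem _⟩

namespace FrN
variable (h : FrN f)
include h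

theorem wx : f.Wt f.x mX := ⟨h.ax, h.νx⟩
theorem wt : f.Wt f.t mT := ⟨h.at', h.νt⟩
theorem wu : f.Wt f.u mU := ⟨h.au, h.νu⟩
theorem wy : f.Wt f.y mY := ⟨h.ay, h.νy⟩
theorem wτ : f.Wt f.τ mR := ⟨h.aτ, h.ντ⟩

theorem weq {g k : G} {A B : M4} (h1 : f.Wt g A) (h2 : f.Wt k B) (e : A = B) : g = k :=
  h.eq_of_act h1.1 (h2.1.cast e.symm) h1.2 h2.2

theorem wcj {n g k : G} {A B D : M4} (h1 : f.Wt n A) (h2 : f.Wt g B) (h3 : f.Wt k D)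
    (e : A * B = D * A) : n * g * n⁻¹ = k :=
  mul_inv_eq_iff_eq_mul.2 (h.weq (h1.mul h2) (h3.mul h1) e)

theorem τ3 : f.τ ^ 3 = 1 := h.weq (h.wτ.pow 3) FD.Wt.one (by decide)
theorem x3 : f.x ^ 3 = 1 := h.weq (h.wx.pow 3) FD.Wt.one (by decide)
theorem τt : f.τ * f.t * f.τ⁻¹ = f.t := h.wcj h.wτ h.wt h.wt (by decide)

theorem ss : f.s * f.s = 1 := by
  rcases h.as with e | e
  · simp [e]
  · exact h.weq (FD.Wt.mul ⟨e, h.νs⟩ ⟨e, h.νs⟩) FD.Wt.one (by decide)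

theorem sτ : f.s = 1 ∨ f.s * f.τ * f.s⁻¹ = f.τ⁻¹ := h.as.imp_right fun e => by
  rw [h.wcj ⟨e, h.νs⟩ h.wτ (h.wτ.pow 2) (by decide), eq_inv_iff_mul_eq_one, ← pow_succ, h.τ3]

theorem mem_NH {n : G} {A : M4} (h1 : f.Wt n A) (hx : n * f.x * n⁻¹ ∈ f.H) (ht : n * f.t * n⁻¹ ∈ f.H)
    (hu : n * f.u * n⁻¹ ∈ f.H) (hw : n * f.w * n⁻¹ ∈ f.H) (hy : n * f.y * n⁻¹ ∈ f.H) : n ∈ N f.H := by
  have hJ : ∀ j ∈ f.J, n * j * n⁻¹ ∈ f.H := fun j hj => f.J_le_H (conj_mem_of_mem_N (h.mem_N h1.1) hj)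
  refine mem_N_of_conj fun g hg => ?_
  have : f.H ≤ cj n⁻¹ f.H := CfsgH8.Gen_le fun a a1 a2 => by
    rw [mem_cj, inv_inv]
    interval_cases a
    exacts [hJ _ f.a_mem, hJ _ f.b_mem, hJ _ f.c_mem, hJ _ f.d_mem, hx, ht, hu,
      (mem_C1_iff_conj.1 h1.2).symm ▸ f.ν_mem, hw, hy]
  simpa [mem_cj] using this hg

theorem S_dec {g : G} (hg : g ∈ f.S) : ∃ v, ∃ k l : F3, g = f.jv v * f.x ^ k.val * f.τ ^ l.val := by
  let K : Subgroup G :=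
    { carrier := {g | ∃ k l : F3, f.Act g (mX ^ k.val * mR ^ l.val)}
      mul_mem' := by
        rintro a b ⟨k, l, e⟩ ⟨k', l', e'⟩
        exact ⟨k + k', l + l', (e.mul e').cast (by clear * -; revert k l k' l'; decide +kernel)⟩
      one_mem' := ⟨0, 0, FD.Act.one.cast (by decide)⟩
      inv_mem' := by
        rintro a ⟨k, l, e⟩
        exact ⟨-k, -l, e.inv (by clear * -; revert k l; decide +kernel)⟩ }
  obtain ⟨k, l, e⟩ := (sup_le (sup_le (fun j hj => ⟨0, 0, (h.act_J hj).cast (by decide)⟩)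
    (zpowers_le.2 ⟨1, 0, h.ax.cast (by decide)⟩)) (zpowers_le.2 ⟨0, 1, h.aτ.cast (by decide)⟩) :
    f.S ≤ K) hg
  obtain ⟨v, hv⟩ := h.surj (h.div_mem_J e ((h.ax.pow _).mul (h.aτ.pow _)))
  exact ⟨v, k, l, by rw [hv]; group⟩

theorem cube_eq {g : G} {A : M4} (h1 : f.Wt g A) (e : A ^ 3 = 1) {v : V4} (h3 : (f.jv v * g) ^ 3 = 1) :
    v + A *ᵥ v + A *ᵥ A *ᵥ v = 0 := by
  have := h.weq (h1.pow 3) FD.Wt.one e
  refine h.inj ?_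
  rw [h.add, h.add, ← h1.1 (A *ᵥ v), ← h1.1 v, f.jv_zero, ← h3, ← mul_one (_ * _ * (_ * _ * _)), ← this,
    pow_three', pow_three']
  group

theorem card_le_S (hS : IsPGroup 3 f.S) : 729 ∣ Nat.card f.S := by
  have h1 : f.J < f.J ⊔ zpowers f.x := lt_of_le_of_ne le_sup_left fun e =>
    absurd (h.act_uniq h.ax (h.act_J (e.ge (mem_sup_right (mem_zpowers _))))) (by decide)
  have h2 : f.J ⊔ zpowers f.x < f.S := lt_of_le_of_ne le_sup_left fun e => by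
    obtain ⟨a, ha, b, hb, e⟩ := (mem_sup_nrm' (nrm_of_le_N (zpowers_le.2 (h.mem_N h.ax)))).1
      (e.ge (mem_sup_right (mem_zpowers _)))
    obtain ⟨k, rfl⟩ := exists_val h.x3 hb
    have := h.act_uniq (e ▸ h.aτ) ((h.act_J ha).mul (h.ax.pow _))
    clear * - this; revert k; decide +kernel
  obtain ⟨n, hn⟩ := IsPGroup.iff_card.1 hS
  obtain ⟨m, hm⟩ := IsPGroup.iff_card.1 (hS.to_le h2.le)
  have h3 := card_lt_of_lt h1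
  have h4 := card_lt_of_lt h2
  rw [hn, hm] at h4
  rw [hm, h.card] at h3
  have h5 := (Nat.pow_lt_pow_iff_right (by norm_num)).1 h4
  have h6 := (Nat.pow_lt_pow_iff_right (a := 3) (n := 4) (by norm_num)).1 h3
  exact hn ▸ pow_dvd_pow 3 (show 6 ≤ n by omega)

end FrN

def rk1 : List ℕ := [0, 3, 4, 2, 0, 0, 3, 0, 0, 1, 0, 0, 0, 0, 0, 0, 0, 0, 2, 0, 0, 0, 0, 0, 0, 0, 0, 0,
  0, 0, 0, 0, 0, 0, 0, 0, 0, 0, 0, 0, 2, 2, 0, 3, 3, 0, 0, 0, 0, 2, 4, 0, 3, 1, 3, 0, 0, 0, 0, 0, 0, 0, 0,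
  0, 0, 0, 0, 3, 3, 0, 4, 2, 0, 0, 0, 0, 3, 3, 0, 4, 4]

def rk2 : List ℕ := [0, 0, 0, 0, 3, 1, 0, 2, 2, 0, 2, 2, 3, 0, 0, 0, 0, 0, 0, 2, 3, 1, 0, 0, 4, 0, 0, 0,
  3, 2, 2, 0, 0, 1, 0, 0, 3, 0, 0, 0, 0, 0, 0, 0, 0, 2, 0, 0, 0, 0, 0, 0, 0, 0, 0, 3, 4, 2, 0, 0, 3, 0, 0,
  3, 0, 0, 0, 0, 0, 0, 0, 0, 4, 0, 0, 0, 0, 0, 0, 0, 0]

theorem orb_ok : ∀ u : V4, (u = 0 ∨ nm u ≠ 0 ∨ u = ![1, 1, 1, 0] ∨ ∃ A ∈ [mX, mT, mU, mY, mR],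
    A *ᵥ u ≠ 0 ∧ nm (A *ᵥ u) = 0 ∧ rk0.getD (ix (A *ᵥ u)) 0 < rk0.getD (ix u) 0) ∧
    (u = 0 ∨ nm u ≠ 1 ∨ u = ![0, 0, 0, 1] ∨ ∃ A ∈ [mX, mT, mU, mY, mR],
    A *ᵥ u ≠ 0 ∧ nm (A *ᵥ u) = 1 ∧ rk1.getD (ix (A *ᵥ u)) 0 < rk1.getD (ix u) 0) ∧
    (u = 0 ∨ nm u ≠ -1 ∨ u = ![0, -1, 1, 0] ∨ ∃ A ∈ [mX, mT, mU, mY, mR],
    A *ᵥ u ≠ 0 ∧ nm (A *ᵥ u) = -1 ∧ rk2.getD (ix (A *ᵥ u)) 0 < rk2.getD (ix u) 0) := by
  decide +kernel

namespace Fr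
variable (h : Fr f)
include h

theorem τ_N : f.τ ∈ N f.H := h.mem_NH h.wτ
  ((h.wcj h.wτ h.wx h.wx (by decide)).symm ▸ f.x_mem) (h.τt.symm ▸ f.t_mem)
  (h.wcj h.wτ h.wu (((h.wx.mul h.wy).mul h.wt).mul h.wx) (by decide) ▸
    mul_mem (mul_mem (mul_mem f.x_mem f.y_mem) f.t_mem) f.x_mem) (h.τw.symm ▸ f.w_mem)
  (h.wcj h.wτ h.wy ((h.wu.mul h.wy).mul h.wu) (by decide) ▸ mul_mem (mul_mem f.u_mem f.y_mem) f.u_mem)

theorem s_N : f.s ∈ N f.H := by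
  rcases h.as with e | e
  · exact e ▸ one_mem _
  have ws : f.Wt f.s mS := ⟨e, h.νs⟩
  exact h.mem_NH ws ((h.wcj ws h.wx h.wx (by decide)).symm ▸ f.x_mem)
    ((h.wcj ws h.wt h.wt (by decide)).symm ▸ f.t_mem)
    ((h.wcj ws h.wu h.wu (by decide)).symm ▸ f.u_mem)
    (h.sw.symm ▸ f.w_mem)
    (h.wcj ws h.wy ((h.wu.mul h.wy).mul h.wu) (by decide) ▸ mul_mem (mul_mem f.u_mem f.y_mem) f.u_mem)

theorem M_le_N : f.M ≤ N f.H := sup_le (sup_le (le_N _) (zpowers_le.2 h.τ_N)) (zpowers_le.2 h.s_N)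

omit h in
theorem S_le_M : f.S ≤ f.M := sup_le (sup_le (f.J_le_H.trans f.H_le_M)
  (zpowers_le.2 (f.H_le_M f.x_mem))) (zpowers_le.2 f.τ_mem)

theorem orb {u : V4} (u0 : u ≠ 0) : ∃ g ∈ f.M, ∃ A, f.Act g A ∧ (nm u = 0 ∧ A *ᵥ u = ![1, 1, 1, 0] ∨
    nm u ≠ 0 ∧ (A *ᵥ u = ![0, 0, 0, 1] ∨ A *ᵥ u = ![0, -1, 1, 0])) := by
  have k := @orb_ind _ _ _ f f.M (fun _ => True) trivial (fun _ _ _ _ => trivial) [mX, mT, mU, mY, mR] (by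
    simp only [List.forall_mem_cons]
    exact ⟨⟨trivial, _, f.H_le_M f.x_mem, h.ax⟩, ⟨trivial, _, f.H_le_M f.t_mem, h.at'⟩,
      ⟨trivial, _, f.H_le_M f.u_mem, h.au⟩, ⟨trivial, _, f.H_le_M f.y_mem, h.ay⟩,
      ⟨trivial, _, f.τ_mem, h.aτ⟩, by simp⟩)
  rcases val_cases (nm u) with e | e | e
  · obtain ⟨g, hg, A, -, a1, a2⟩ := k rk0 _ _ (fun u => (orb_ok u).1) u u0 e
    exact ⟨g, hg, A, a1, Or.inl ⟨e, a2⟩⟩
  · obtain ⟨g, hg, A, -, a1, a2⟩ := k rk1 _ _ (fun u => (orb_ok u).2.1) u u0 e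
    exact ⟨g, hg, A, a1, Or.inr ⟨by rw [e]; decide, Or.inl a2⟩⟩
  · obtain ⟨g, hg, A, -, a1, a2⟩ := k rk2 _ _ (fun u => (orb_ok u).2.2) u u0 e
    exact ⟨g, hg, A, a1, Or.inr ⟨by rw [e]; decide, Or.inr a2⟩⟩

theorem Cz_le : C1 f.z ≤ f.M := h.cz.trans (sup_le (sup_le S_le_M (zpowers_le.2 (f.H_le_M f.w_mem)))
  (zpowers_le.2 f.s_mem))

theorem NJ_le : N f.J ≤ f.M := fun g hg => by
  obtain ⟨A, hA⟩ := h.exists_act hg
  have e := dot_sim (l := 1) ((h.iso _ _ hA).trans (one_smul _ _).symm) ![1, 1, 1, 0] ![1, 1, 1, 0]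
  obtain ⟨k, hk, B, a1, ⟨-, a2⟩ | ⟨a2, -⟩⟩ := h.orb (u := A *ᵥ ![1, 1, 1, 0]) fun e => by
    have := hA ![1, 1, 1, 0]
    rw [e, f.jv_zero, conj_eq_one_iff] at this
    exact h.ne (by decide) this
  · exact (mul_mem_cancel_left hk).1 (h.Cz_le (f.jv_z ▸ (h.fix_iff (a1.mul hA)).2
      (by rw [← mulVec_mulVec, a2])))
  · exact absurd (by rw [nm_eq, e]; decide) a2

theorem C_le {j : G} (hj : j ∈ f.J) (j1 : j ≠ 1) : C1 j ≤ f.M := by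
  obtain ⟨u, rfl⟩ := h.surj hj
  obtain ⟨g, hg, A, a1, a2⟩ := h.orb (u := u) fun e => j1 (e ▸ f.jv_zero)
  have : C1 (f.jv (A *ᵥ u)) ≤ f.M := by
    rcases a2 with ⟨-, e⟩ | ⟨-, e | e⟩ <;> rw [e]
    exacts [f.jv_z ▸ h.Cz_le, f.jv_d ▸ (h.cent_d h.cent_e).2, h.jv_e ▸ h.cent_e.trans h.NJ_le]
  rw [← a1, ← cj_C1] at this
  intro c hc
  simpa [mul_assoc] using mul_mem (mul_mem (inv_mem hg) (this (conj_mem_cj.2 hc))) hg

theorem nτ' (g : G) (v : V4) (k : F3) : g * (f.jv v * f.x ^ k.val * f.τ) * g⁻¹ ∉ f.J := fun e => by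
  have k1 : ∀ g v, g * (f.jv v * f.x * f.τ) * g⁻¹ ∉ f.J := fun g v e => by
    obtain ⟨v', e⟩ := h.surj e
    have c : ∀ {n A}, f.Wt n A → A * (mX * mR) = mX * mR * A → sm3 (A *ᵥ v) ≠ 0 := fun {n A} a1 a2 a3 =>
      h.nτ (g * n⁻¹) _ v' 1 a3 (by
        rw [e, ← a1.1, pow_one, mul_assoc _ f.x, ← h.wcj a1 (h.wx.mul h.wτ) (h.wx.mul h.wτ) a2]; group)
    have c0 := c FD.Wt.one (by simp)
    have c1 := c ((h.wt.mul h.wy).mul h.wu) (by decide)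
    have c2 := c ((h.wu.mul h.wy).mul h.wt) (by decide)
    have c3 := c (((h.wu.mul h.wy).mul h.wt).mul h.wx) (by decide)
    clear * - c0 c1 c2 c3; revert v; decide +kernel
  rcases val_cases k with rfl | rfl | rfl
  · have e3 := h.exp _ e
    rw [conj_pow, conj_eq_one_iff, ZMod.val_zero, pow_zero, mul_one] at e3
    have := h.cube_eq h.wτ (by decide) e3
    obtain ⟨v', e⟩ := h.surj e
    exact h.nτ g v v' _ (by clear * - this; revert v; decide +kernel) e.symm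
  · exact k1 g v (by simpa [ZMod.val_one] using e)
  · refine k1 (g * f.t⁻¹) (mT *ᵥ v) ?_
    rw [← h.at', ← h.wcj h.wt (h.wx.pow (-1 : F3).val) h.wx (by decide),
      ← h.wcj h.wt h.wτ h.wτ (by decide)]
    convert e using 1; group

theorem into_J {y g : G} (hy : y ∈ f.M) (y3 : y ^ 3 = 1) (hg : g * y * g⁻¹ ∈ f.J ∨ y ∈ f.H ∧ f.τ ∉ f.H) :
    ∃ m ∈ f.M, m * y * m⁻¹ ∈ f.J := by
  obtain ⟨m, hm, e⟩ := (h.syl.of_le S_le_M le_top).exists_le_cj (zpowers_le.2 hy) (pg_zp y3)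
  obtain ⟨v, k, l, e⟩ := h.S_dec (mem_cj.1 (e (mem_zpowers y)))
  obtain rfl : y = m * (f.jv v * f.x ^ k.val * f.τ ^ l.val) * m⁻¹ := by rw [← e]; group
  clear e
  rw [conj_pow, conj_eq_one_iff] at y3
  obtain rfl : l = 0 := by
    by_contra l0
    rcases hg with hg | ⟨hg, hτ⟩
    · rcases (val_cases l).resolve_left l0 with rfl | rfl
      · exact h.nτ' (g * m) v k (by simpa [ZMod.val_one, mul_assoc] using hg)
      · obtain ⟨v', e⟩ := h.surj (conj_mem_of_mem_N (inv_mem (h.mem_N ((h.ax.pow k.val).mul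
          (h.aτ.pow (-1 : F3).val)))) (inv_mem (f.jv_mem v)))
        refine h.nτ' (g * m) v' (-k) ?_
        have e1 : f.x ^ (-k).val * f.τ * (f.x ^ k.val * f.τ ^ (-1 : F3).val) = 1 :=
          h.weq (((h.wx.pow _).mul h.wτ).mul ((h.wx.pow _).mul (h.wτ.pow _))) FD.Wt.one
            (by clear * -; revert k; decide +kernel)
        rw [e, mul_assoc _ _ f.τ, eq_inv_of_mul_eq_one_left e1]
        convert inv_mem hg using 1; group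
    · have := conj_mem_of_mem_N (h.M_le_N (inv_mem hm)) hg
      rw [show ∀ a, m⁻¹ * (m * a * m⁻¹) * m⁻¹⁻¹ = a from fun a => by group,
        mul_mem_cancel_left (mul_mem (f.J_le_H (f.jv_mem _)) (pow_mem f.x_mem _))] at this
      exact hτ (CfsgH8.mem_of_pow_coprime (b := 3) (by clear * - l0; revert l; decide) this
        (h.τ3 ▸ one_mem _))
  rw [ZMod.val_zero, pow_zero, mul_one] at y3 ⊢
  by_cases k0 : k = 0
  · exact ⟨m⁻¹, inv_mem hm, by simpa [k0, mul_assoc] using f.jv_mem v⟩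
  have := h.cube_eq (h.wx.pow _) (by clear * -; revert k; decide +kernel) y3
  obtain ⟨u, e⟩ : ∃ u : V4, u + v - mX ^ k.val *ᵥ u = v 3 • ![0, 0, 0, 1] := by
    clear * - this k0; revert v k; decide +kernel
  refine ⟨f.w⁻¹ * f.jv u * m⁻¹, mul_mem (mul_mem (inv_mem (f.H_le_M f.w_mem))
    (f.H_le_M (f.J_le_H (f.jv_mem u)))) (inv_mem hm), ?_⟩
  have e1 := congrArg f.jv e
  rw [sub_eq_add_neg, h.add, h.add, h.neg, ← h.ax.pow, h.smul, f.jv_d, ← h.wd, conj_pow] at e1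
  have e2 : f.x ^ k.val = f.w * f.e ^ k.val * f.w⁻¹ := by rw [← h.we, conj_pow]
  convert mul_mem (pow_mem f.d_mem (v 3).val) (pow_mem (h.jv_e ▸ f.jv_mem _ : f.e ∈ f.J) k.val) using 1
  calc _ = f.w⁻¹ * (f.jv u * f.jv v * (f.x ^ k.val * f.jv u * (f.x ^ k.val)⁻¹)⁻¹) * f.x ^ k.val * f.w := by
        group
    _ = _ := by rw [e1, e2]; group

theorem se (hτ : f.τ ∉ f.H) {j : G} (hj : j ∈ f.H) (j1 : j ≠ 1) (j3 : j ^ 3 = 1) {g : G}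
    (hg : g * j * g⁻¹ ∈ f.M) : g ∈ f.M := by
  obtain ⟨m, hm, e⟩ := h.into_J (g := 1) (f.H_le_M hj) j3 (Or.inr ⟨hj, hτ⟩)
  obtain ⟨m', hm', e'⟩ := h.into_J (g := m * g⁻¹) hg (by rw [conj_pow, j3]; simp)
    (Or.inl (by convert e using 1; group))
  obtain ⟨v, hv⟩ := h.surj e
  obtain ⟨v', hv'⟩ := h.surj e'
  obtain ⟨n, A, a1, a2⟩ := h.fus (m' * g * m⁻¹) v v' (by rw [hv, hv']; group)
  have hn := h.NJ_le (h.mem_N a1)
  have := h.C_le e (fun e => j1 (conj_eq_one_iff.1 e)) (x := n⁻¹ * (m' * g * m⁻¹))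
    (mem_C1_iff_conj.2 (by
      rw [show n⁻¹ * (m' * g * m⁻¹) * (m * j * m⁻¹) * (n⁻¹ * (m' * g * m⁻¹))⁻¹ =
        n⁻¹ * (m' * (g * j * g⁻¹) * m'⁻¹) * n by group, ← hv', ← a2, ← a1, hv]; group))
  rwa [mul_mem_cancel_left (inv_mem hn), mul_mem_cancel_right (inv_mem hm),
    mul_mem_cancel_left hm'] at this

theorem τ_not (hc : ¬ 729 ∣ Nat.card f.H) : f.τ ∉ f.H := fun e => hc ((h.card_le_S h.syl.isPGroup).trans
  (card_dvd_of_le (sup_le (sup_le f.J_le_H (zpowers_le.2 f.x_mem)) (zpowers_le.2 e))))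

theorem C_H : C f.H = ⊥ := eq_bot_iff.2 fun g hg =>
  h.eq_one (h.cJ (C_anti f.J_le_H hg)) (mem_C1.2 (mem_C.1 hg _ f.ν_mem).symm)

theorem sa : f.s * f.a = f.a * f.s := by
  rcases h.as with e | e
  · simp [e]
  · exact mem_C1.1 (f.jv_a ▸ (h.fix_iff e).2 (by decide))

end Fr

end CfsgH2.T3
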