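import Cfsg.Agent.H3.U3Def
import Cfsg.Agent.H9.MatCode

/-! Identification of the unitary group from coordinates. -/

set_option autoImplicit false

namespace CfsgU3

open Subgroup Matrix

universe u

theorem U3D.iso {G Ω : Type u} [Group G] [MulAction G Ω] [IsSimpleGroup G] {E : Type} [Field E]
    {σ : E →+* E} {i o : Ω} {Q : Subgroup G} {x y : G → E} {η : Eˣ →* G}
    (h : U3D G Ω σ i o Q x y η) (hσ : ∀ u, σ (σ u) = u) (gen : KGen σ hσ) {w : G}
    (hw : Wey G Ω i o Q x y w) : Nonempty (G ≃* UK σ ⧸ center (UK σ)) := by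
  classical
  have x1 : x 1 = 0 := by simpa using h.x_mul 1 (one_mem _) 1 (one_mem _)
  have y1 : y 1 = 0 := by simpa [x1] using h.y_mul 1 (one_mem _) 1 (one_mem _)
  have y0 : ∀ a ∈ Q, a ≠ 1 → y a ≠ 0 := fun a ha a1 e => a1 (h.ext a ha 1 (one_mem _)
    (by simpa [e, x1] using (h.her a ha).symm) (by rw [e, y1]))
  obtain ⟨v, vi, va⟩ : ∃ v : Ω → Fin 3 → E, v i = ![1, 0, 0] ∧ ∀ a ∈ Q, v (a • o) = ![y a, x a, 1] := by
    choose! c c1 c2 using h.tr
    refine ⟨fun p => if p = i then ![1, 0, 0] else ![y (c p), x (c p), 1], if_pos rfl, fun a ha => ?_⟩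
    have n : a • o ≠ i := fun e => h.ne (by rw [← inv_smul_smul a o, e, h.fix _ (inv_mem ha)])
    beta_reduce
    rw [if_neg n, inv_mul_eq_one.1 (h.reg _ (mul_mem (inv_mem (c1 _ n)) ha) (by
      rw [mul_smul, inv_smul_eq_iff, c2 _ n]))]
  have vo : v o = ![0, 0, 1] := by simpa [x1, y1] using va 1 (one_mem _)
  have cs : ∀ p, p = i ∨ ∃ a ∈ Q, a • o = p := fun p => or_iff_not_imp_left.2 (h.tr p)
  have vinj : ∀ p p' (c : E), v p = c • v p' → p = p' := by
    intro p p' c e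
    rcases cs p with rfl | ⟨a, ha, rfl⟩ <;> rcases cs p' with rfl | ⟨b, hb, rfl⟩
    · rfl
    · simp [vi, va b hb, funext_iff, Fin.forall_fin_succ] at e; grind
    · simp [vi, va a ha, funext_iff, Fin.forall_fin_succ] at e
    · simp [va a ha, va b hb, funext_iff, Fin.forall_fin_succ] at e
      rw [h.ext a ha b hb (by grind) (by grind)]
  have v0 : ∀ p, v p ≠ 0 := fun p => by
    rcases cs p with rfl | ⟨a, ha, rfl⟩
    · simp [vi]
    · simp [va a ha]
  let D : Subgroup (G × UK σ) :=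
    { carrier := {z | ∀ p, ∃ c : E, z.2.1.1 *ᵥ v p = c • v (z.1 • p)}
      one_mem' := fun p => ⟨1, by simp⟩
      mul_mem' := fun {a b} ha hb p => by
        obtain ⟨c, e⟩ := hb p
        obtain ⟨d, e'⟩ := ha (b.1 • p)
        exact ⟨c * d, by rw [Prod.snd_mul, UK_mul_vec, e, mulVec_smul, e', smul_smul, Prod.fst_mul,
          mul_smul a.1]⟩
      inv_mem' := fun {a} ha p => by
        obtain ⟨c, e⟩ := ha (a.1⁻¹ • p)
        replace e := congrArg ((a.2⁻¹).1.1 *ᵥ ·) e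
        simp only [← UK_mul_vec, inv_mul_cancel, smul_inv_smul, mulVec_smul] at e
        rw [show (1 : UK σ).1.1 *ᵥ v (a.1⁻¹ • p) = _ from one_mulVec _] at e
        have c0 : c ≠ 0 := fun c0 => v0 _ (by rw [e, c0, zero_smul])
        exact ⟨c⁻¹, by rw [Prod.fst_inv, e, inv_smul_smul₀ c0, Prod.snd_inv]⟩ }
  have mU : ∀ a (ha : a ∈ Q), (a, kU hσ (h.her a ha)) ∈ D := fun a ha p => ⟨1, by
    rcases cs p with rfl | ⟨b, hb, rfl⟩
    · simp [kU_vec, h.fix a ha, vi]
    · simp only [kU_vec, ← mul_smul, va _ hb, va _ (mul_mem ha hb), h.x_mul a ha b hb,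
        h.y_mul a ha b hb]
      simp; constructor <;> ring⟩
  have mT : (w, kT σ) ∈ D := fun p => by
    rcases cs p with rfl | ⟨a, ha, rfl⟩
    · exact ⟨1, by simp [kT_vec, hw.1, vi, vo]⟩
    by_cases a1 : a = 1
    · exact ⟨1, by simp [kT_vec, a1, hw.2.1, vi, vo]⟩
    obtain ⟨b, hb, e1, e2, e3⟩ := hw.2.2 a ha a1
    have := y0 a ha a1
    exact ⟨y a, by simp [kT_vec, e1, va a ha, va b hb, e2, e3]; constructor <;> field_simp⟩
  obtain ⟨a, ha, a1⟩ : ∃ a ∈ Q, a ≠ 1 := by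
    by_cases e : (2 : E) = 0
    · obtain ⟨a, ha, -, e1⟩ := h.sur 0 1 (by simpa [one_add_one_eq_two] using e)
      exact ⟨a, ha, fun c => by simp [c, y1] at e1⟩
    · obtain ⟨a, ha, -, e1⟩ := h.sur 2 2 (by rw [map_ofNat]; norm_num)
      exact ⟨a, ha, fun c => e (by rw [← e1, c, y1])⟩
  have fst : ∀ g, ∃ A, (g, A) ∈ D := by
    let K := D.map (MonoidHom.fst _ _)
    have kQ : Q ≤ K := fun a ha => ⟨_, mU a ha, rfl⟩
    have : normalClosure (Q : Set G) ≤ K := (closure_le K).2 fun b hb => by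
      obtain ⟨c, hc, e⟩ := Group.mem_conjugatesOfSet_iff.1 hb
      obtain ⟨g, rfl⟩ := isConj_iff.1 e
      obtain ⟨k, hk, e⟩ : ∃ k ∈ K, k • i = g • i := by
        rcases cs (g • i) with e | ⟨a, ha, e⟩
        · exact ⟨1, one_mem _, by simp [e]⟩
        · exact ⟨a * w, mul_mem (kQ ha) ⟨_, mT, rfl⟩, by rw [mul_smul, hw.1, e]⟩
      have := mul_mem (mul_mem hk (kQ (h.nrm (k⁻¹ * g) (by rw [mul_smul, ← e, inv_smul_smul]) c hc)))
        (inv_mem hk)
      simpa [mul_assoc] using this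
    rw [(normalClosure_normal.eq_bot_or_eq_top).resolve_left fun e =>
      a1 (mem_bot.1 (e ▸ subset_normalClosure ha))] at this
    intro g
    obtain ⟨z, hz, rfl⟩ := this (mem_top g)
    exact ⟨z.2, hz⟩
  have inj : ∀ g, (g, 1) ∈ D → g = 1 := fun g hg =>
    mem_bot.1 (((MulAction.toPermHom G Ω).normal_ker.eq_bot_or_eq_top.resolve_right fun e =>
      h.ne (hw.1.symm.trans (congrArg (· i) (e.ge (mem_top w) : MulAction.toPerm w = 1)))).le
        (Equiv.ext fun p => by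
          obtain ⟨c, e⟩ := hg p
          exact (vinj _ _ c ((one_mulVec _).symm.trans e)).symm))
  obtain ⟨e⟩ := CfsgH9.nonempty_equiv_of_graph
    (D.map ((MonoidHom.id G).prodMap (QuotientGroup.mk' (center (UK σ))))) ⊤ ⊤
    (fun g _ => (fst g).elim fun A hA => ⟨_, mem_top _, _, hA, rfl⟩) (fun A _ => by
      obtain ⟨A, rfl⟩ := QuotientGroup.mk'_surjective _ A
      obtain ⟨z, hz, rfl⟩ := (gen (D.map (MonoidHom.snd _ _)) ⟨_, mT, rfl⟩ fun u t e => by
        obtain ⟨g, hg, rfl, rfl⟩ := h.sur u t e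
        exact ⟨_, mU g hg, rfl⟩).ge (mem_top A)
      exact ⟨z.1, mem_top _, z, hz, rfl⟩) (by
      rintro A' ⟨⟨g, A⟩, hz, e⟩
      obtain ⟨rfl, rfl⟩ : g = 1 ∧ QuotientGroup.mk A = A' := Prod.ext_iff.1 e
      have fx : ∀ p, ∃ c : E, A.1.1 *ᵥ v p = c • v p := fun p => by simpa using hz p
      obtain ⟨c, e1⟩ := fx i
      obtain ⟨c', e2⟩ := fx o
      have e3 : ∀ b ∈ Q, ∃ l : E, A.1.1 *ᵥ ![y b, x b, 1] = l • ![y b, x b, 1] := fun b hb =>
        va b hb ▸ fx (b • o)
      rw [vi] at e1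
      rw [vo] at e2
      have f1 := mem_UK.1 A.2 ![0, 1, 0] ![1, 0, 0]
      have f2 := mem_UK.1 A.2 ![0, 1, 0] ![0, 0, 1]
      have f3 := mem_UK.1 A.2 ![1, 0, 0] ![0, 0, 1]
      rw [e1] at f1 f3
      rw [e2] at f2 f3
      simp [formK, mulVec, dotProduct, Fin.sum_univ_three, funext_iff, Fin.forall_fin_succ]
        at e1 e2 e3 f1 f2 f3
      have c0 : c ≠ 0 := left_ne_zero_of_mul_eq_one f3
      have c1 : c' ≠ 0 := fun e => by simp [e] at f3
      have e4 : A.1.1 = diagonal ![c, A.1.1 1 1, c'] := by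
        ext j k; fin_cases j <;> fin_cases k <;> simp [e1, e2, f1.resolve_right c0, f2.resolve_right c1]
      have e5 : c = c' := by have := e3 a ha; have := y0 a ha a1; grind
      have k : ∀ B : UK σ, B.1.1 * A.1.1 = A.1.1 * B.1.1 → B ∈ centralizer {A} := fun B e =>
        mem_centralizer_singleton_iff.2 (Subtype.ext (Subtype.ext e))
      rw [QuotientGroup.eq_one_iff, mem_center_iff]
      suffices centralizer {A} = ⊤ from fun B => mem_centralizer_singleton_iff.1 (this.ge (mem_top B))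
      refine gen _ (k _ ?_) fun u t e => k _ ?_
      · rw [e4]; ext j k; fin_cases j <;> fin_cases k <;> simp [kT, e5]
      · obtain ⟨b, hb, rfl, rfl⟩ := h.sur u t e
        have e6 : A.1.1 1 1 * x b = c' * x b := by have := e3 b hb; grind
        have e7 : σ (x b) * A.1.1 1 1 = c' * σ (x b) := by
          by_cases x0 : x b = 0
          · simp [x0]
          · rw [mul_right_cancel₀ x0 e6, mul_comm]
        rw [e4]; ext j k; fin_cases j <;> fin_cases k <;> simp [kU, e5, e6, e7, mul_comm]) (by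
      rintro g' - ⟨⟨g, A⟩, hz, e⟩
      obtain ⟨rfl, e'⟩ : g = g' ∧ (QuotientGroup.mk A : UK σ ⧸ center (UK σ)) = 1 := Prod.ext_iff.1 e
      replace e := mem_center_iff.1 ((QuotientGroup.eq_one_iff _).1 e')
      have : g ∈ center G := mem_center_iff.2 fun k => by
        obtain ⟨B, hB⟩ := fst k
        have := D.mul_mem (D.mul_mem hB hz) (D.inv_mem (D.mul_mem hz hB))
        simp only [Prod.mk_mul_mk, Prod.inv_mk, e B, mul_inv_cancel] at this
        exact mul_inv_eq_one.1 (inj _ this)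
      rcases (inferInstance : (center G).Normal).eq_bot_or_eq_top with e1 | e1
      · exact mem_bot.1 (e1.le this)
      refine absurd (h.reg a ha ?_) a1
      rw [← hw.1, ← mul_smul, ← mem_center_iff.1 (e1.ge (mem_top a)), mul_smul, h.fix a ha])
  exact ⟨topEquiv.symm.trans (e.trans topEquiv)⟩

end CfsgU3
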