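import Cfsg.Agent.H2.V3DUa
import Cfsg.Agent.H6.V3Dio

/-! S3424, piece (DU). -/

set_option autoImplicit false

namespace CfsgV3

universe u

theorem Sp.du {G : Type u} [Group G] [Finite G] {q r d m : ℕ} (h : Sp G q r d m) :
    IsSimpleGroup G ∧ ∃ a s h', DU G q r d m a s h' :=
  h.du_of (fun _ _ => h.par.ppow) fun _ _ => h.par.dio

end CfsgV3
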