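import Cfsg.Agent.H7.V3X
import Cfsg.Agent.H7.V3Par
import Cfsg.Agent.H2.DegB
import Cfsg.Agent.H4.B1b
import Cfsg.Agent.H5.BSWChar

/-! S3424, piece (DU): the characters of degrees `q² - q`, `q³`, `(q - 1)(q + 1)²`. -/

set_option autoImplicit false
set_option linter.style.haveILetI false

namespace CfsgV3

open Finset Cfsg CfsgL CfsgH5 CfsgH6 CfsgFT CfsgSZ CfsgH8 CfsgB0 CfsgU3 Subgroup

universe u

variable {G : Type u} [Group G] [Finite G] {q r d m : ℕ}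

/-- the arithmetic input on prime powers -/
def DuPP (q m : ℕ) : Prop := ∀ s j : ℕ, s.Prime → s ^ j ∣ q ^ 3 * ((q - 1) * (q + 1) ^ 2) →
  s ^ j ≡ 1 [MOD m] → s ^ j = 1 ∨ (s ^ j = 8 ∧ (q = 3 ∨ q = 5))

/-- the arithmetic input on degrees -/
def DuDio (q m : ℕ) : Prop := ∀ A B : ℤ, (m : ℤ) ∣ A - 1 → (m : ℤ) ∣ B - 1 →
  A ∣ ((q ^ 3 * ((q - 1) * (q + 1) ^ 2) : ℕ) : ℤ) → B ∣ ((q ^ 3 * ((q - 1) * (q + 1) ^ 2) : ℕ) : ℤ) →
  1 + A + B ∣ ((q ^ 3 * ((q - 1) * (q + 1) ^ 2) : ℕ) : ℤ) → IsSquare (-(A * B * (1 + A + B))) →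
  (A = -(q * (q - 1)) ∧ B = -q ^ 3) ∨ (B = -(q * (q - 1)) ∧ A = -q ^ 3) ∨ (q = 3 ∧ 1 + A + B = 3) ∨
    (q = 5 ∧ (A = -6 ∨ B = -6))

theorem Sp.du_small (h : Sp G q r d m) (hp : DuPP q m) (K : Subgroup G) [K.Normal]
    (hK : ∀ y ∈ K, ¬ TT m y) : Nat.card K = 1 ∨ (Nat.card K = 8 ∧ (q = 3 ∨ q = 5)) := by
  have C := h.cc'
  have h1 : (Nat.card K).Coprime m := Nat.Coprime.symm (Nat.coprime_of_dvd fun s hs h1 h2 => by
    haveI := Fact.mk hs
    obtain ⟨y, hy⟩ := exists_prime_orderOf_dvd_card' s h2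
    exact hK y y.2 (C.tt_of_prime hs h1 (by rw [orderOf_coe, hy])))
  have h2 : Nat.card K ∣ q ^ 3 * ((q - 1) * (q + 1) ^ 2) :=
    h1.dvd_of_dvd_mul_left (C.card ▸ K.card_subgroup_dvd_card)
  have h3 := fun s hs => hp s _ hs ((Nat.ordProj_dvd _ _).trans h2) (C.nrm K hK hs)
  have h4 := Nat.eq_prime_pow_of_unique_prime_dvd (p := 2) (Nat.card_pos (α := K)).ne' fun {s} hs e => by
    have e1 := dvd_pow_self s (hs.factorization_pos_of_dvd Nat.card_pos.ne' e).ne'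
    rcases h3 s hs with e2 | ⟨e2, -⟩ <;> rw [e2] at e1
    · exact absurd (Nat.dvd_one.1 e1) hs.ne_one
    · exact (Nat.prime_dvd_prime_iff_eq hs Nat.prime_two).1 (hs.dvd_of_dvd_pow (n := 3) e1)
  have h5 := h3 2 Nat.prime_two
  rw [h4, Nat.prime_two.factorization_pow, Finsupp.single_eq_same, ← h4] at h5
  exact h5

theorem Sp.du_bot (h : Sp G q r d m) (hp : DuPP q m) (K : Subgroup G) [K.Normal]
    (hK : ∀ y ∈ K, ¬ TT m y) : K = ⊥ := by
  have C := h.cc'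
  rcases h.du_small hp K hK with e | ⟨e, hq⟩
  · exact card_eq_one.1 e
  exfalso
  let f : G →* Equiv.Perm K := (MulAut.toPerm K).comp MulAut.conjNormal
  obtain ⟨k, hk⟩ : ∃ k : K, k ≠ 1 := by
    haveI : Nontrivial K := Finite.one_lt_card_iff_nontrivial.1 (by omega)
    exact exists_ne 1
  have h1 := h.du_small hp f.ker fun y hy ty => hK k k.2 ⟨fun e => hk (Subtype.ext e),
    C.cen_pow ty (by
      have : y * k * y⁻¹ = k := congrArg Subtype.val (Equiv.Perm.ext_iff.1 hy k)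
      exact (mul_inv_eq_iff_eq_mul.1 this).symm)⟩
  have h2 : Nat.card G ∣ 8 * Nat.factorial 8 := by
    rw [← f.ker.card_mul_index, index_ker]
    refine Nat.mul_dvd_mul (by rcases h1 with e | ⟨e, -⟩ <;> rw [e]; exact one_dvd _) ?_
    rw [← e, ← Nat.card_perm]
    exact f.range.card_subgroup_dvd_card
  have h3 : q ^ 3 ∣ 8 * Nat.factorial 8 :=
    dvd_trans (C.card ▸ (dvd_mul_right _ _).mul_left m) h2
  rcases hq with rfl | rfl <;> exact absurd h3 (by decide)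

theorem XD.symm {χ ψ θ : IrrCharacter G} {ε₁ ε₂ δ : ℤ} (X : XD G m χ ψ θ ε₁ ε₂ δ) :
    XD G m ψ χ θ ε₂ ε₁ δ where
  sgn := ⟨X.sgn.2.1, X.sgn.1, X.sgn.2.2⟩
  ne := ⟨X.ne.2.1, X.ne.1, X.ne.2.2.symm⟩
  vT y hy := ⟨(X.vT y hy).2.1, (X.vT y hy).1, (X.vT y hy).2.2⟩
  rel g hg := by rw [← X.rel g hg]; ring
  cong := X.cong.symm
  only φ h := by have := X.only φ h; tauto
  cmf g g' a b := by
    obtain ⟨k, h1, h2⟩ := X.cmf g g' a b
    exact ⟨k, h1, by rw [h2]; ring⟩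

theorem XD.deg {χ ψ θ : IrrCharacter G} {ε₁ ε₂ δ : ℤ} (X : XD G m χ ψ θ ε₁ ε₂ δ) :
    1 + ε₁ * dg χ + ε₂ * dg ψ = δ * dg θ := by
  have := X.rel 1 not_TT_one
  simp only [dg_cast] at this
  exact_mod_cast this

theorem XD.int {χ ψ θ : IrrCharacter G} {ε₁ ε₂ δ : ℤ} (X : XD G m χ ψ θ ε₁ ε₂ δ) (h0 : ¬ m ∣ dg χ)
    (h1 : dg χ ≠ 1) (h2 : dg χ ≠ dg ψ) (h3 : dg χ ≠ dg θ) (g : G) : χ.1 g = iv g χ :=
  int_of_gal fun k hk => by
    have e := dg_gal hk χ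
    rcases X.only (gal hk χ) (e ▸ h0) with f | f | f | f
    · exact absurd (by rw [← e, f, dg_triv]) h1
    · exact congrFun (congrArg Subtype.val f) g
    · exact absurd (by rw [← e, f]) h2
    · exact absurd (e.symm.trans f) h3

theorem XD.intθ {χ ψ θ : IrrCharacter G} {ε₁ ε₂ δ : ℤ} (X : XD G m χ ψ θ ε₁ ε₂ δ) {g : G}
    (hg : ¬ TT m g) (h1 : χ.1 g = iv g χ) (h2 : ψ.1 g = iv g ψ) :
    θ.1 g = iv g θ ∧ 1 + ε₁ * iv g χ + ε₂ * iv g ψ = δ * iv g θ := by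
  have e := X.rel g hg
  rw [h1, h2] at e
  have e1 : θ.1 g = (δ * (1 + ε₁ * iv g χ + ε₂ * iv g ψ) : ℤ) := by
    push_cast
    rw [e]
    rcases X.sgn.2.2 with f | f <;> simp [f]
  rw [iv_eq e1]
  refine ⟨e1, ?_⟩
  rcases X.sgn.2.2 with f | f <;> simp [f]

theorem du_sq {A B u v : ℤ} (hv : v ≠ 0)
    (h : B * (1 + B) * u ^ 2 - 2 * A * B * u * v + A * (1 + A) * v ^ 2 = 0) :
    IsSquare (-(A * B * (1 + A + B))) := by
  have e : (B * (1 + B) * u - A * B * v) ^ 2 = v ^ 2 * -(A * B * (1 + A + B)) := by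
    linear_combination (B * (1 + B)) * h
  obtain ⟨w, hw⟩ := (Int.pow_dvd_pow_iff two_ne_zero).1 ⟨_, e⟩
  rw [hw, mul_pow] at e
  exact ⟨w, by rw [← mul_left_cancel₀ (pow_ne_zero 2 hv) e, sq]⟩

theorem XD.square {χ ψ θ : IrrCharacter G} {ε₁ ε₂ δ : ℤ} (X : XD G m χ ψ θ ε₁ ε₂ δ) {t : G}
    (ht : orderOf t = 2) (hT : ¬ TT m t) (hk : θ.1 t ≠ θ.1 1) :
    IsSquare (-(ε₁ * dg χ * (ε₂ * dg ψ) * (1 + ε₁ * dg χ + ε₂ * dg ψ))) := by
  have t2 : t * t = 1 := by rw [← sq, ← ht, pow_orderOf_eq_one]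
  have hi : ∀ φ : IrrCharacter G, φ.1 t = iv t φ := fun φ => int_of_gal fun k hk => by
    obtain ⟨j, rfl⟩ : Odd k := (Nat.coprime_two_right.1 (hk.coprime_dvd_right
      (ht ▸ orderOf_dvd_natCard t)))
    rw [pow_succ, pow_mul, sq, t2, one_pow, one_mul]
  obtain ⟨k, h1, h2⟩ := X.cmf t t hT hT
  have e1 := (X.intθ hT (hi χ) (hi ψ)).2
  have e2 := X.deg
  have c : ∀ φ : IrrCharacter G, (dg φ : ℂ) ≠ 0 := fun φ => Nat.cast_ne_zero.2 (dg_pos φ).ne'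
  rw [h1 t2 t2, zero_mul, Nat.cast_zero, eq_comm, mul_eq_zero, hi, hi, hi] at h2
  have h3 := h2.resolve_left (Nat.cast_ne_zero.2 Nat.card_pos.ne')
  have h4 : (dg χ : ℤ) * dg ψ * dg θ + ε₁ * iv t χ ^ 2 * dg ψ * dg θ + ε₂ * iv t ψ ^ 2 * dg χ * dg θ -
      δ * iv t θ ^ 2 * dg χ * dg ψ = 0 := by
    have := c χ; have := c ψ; have := c θ
    field_simp at h3
    exact_mod_cast (by linear_combination h3 : (dg χ : ℂ) * dg ψ * dg θ +
      ε₁ * iv t χ ^ 2 * dg ψ * dg θ + ε₂ * iv t ψ ^ 2 * dg χ * dg θ - δ * iv t θ ^ 2 * dg χ * dg ψ = 0)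
  have s1 : ε₁ ^ 2 = 1 := by rcases X.sgn.1 with f | f <;> simp [f]
  have s2 : ε₂ ^ 2 = 1 := by rcases X.sgn.2.1 with f | f <;> simp [f]
  have s3 : δ ^ 2 = 1 := by rcases X.sgn.2.2 with f | f <;> simp [f]
  have h5 : ε₂ * dg ψ * (1 + ε₂ * dg ψ) * (ε₁ * iv t χ - ε₁ * dg χ) ^ 2 - 2 * (ε₁ * dg χ) *
      (ε₂ * dg ψ) * (ε₁ * iv t χ - ε₁ * dg χ) * (ε₂ * iv t ψ - ε₂ * dg ψ) +
      ε₁ * dg χ * (1 + ε₁ * dg χ) * (ε₂ * iv t ψ - ε₂ * dg ψ) ^ 2 = 0 := by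
    have f1 : (dg θ : ℤ) = δ * (1 + ε₁ * dg χ + ε₂ * dg ψ) := by rw [e2, ← mul_assoc, ← sq, s3, one_mul]
    have f2 : iv t θ = δ * (1 + ε₁ * iv t χ + ε₂ * iv t ψ) := by rw [e1, ← mul_assoc, ← sq, s3, one_mul]
    rw [f1, f2] at h4
    rcases X.sgn.1 with rfl | rfl <;> rcases X.sgn.2.1 with rfl | rfl <;>
      rcases X.sgn.2.2 with rfl | rfl <;> first | linear_combination h4 | linear_combination -h4
  by_cases hv : ε₂ * iv t ψ - ε₂ * dg ψ = 0
  · have hu : ε₁ * iv t χ - ε₁ * dg χ ≠ 0 := fun hu => hk (by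
      rw [hi, dg_cast]
      have : δ * iv t θ = δ * dg θ := by omega
      exact_mod_cast mul_left_cancel₀ (by rintro rfl; simp at s3) this)
    have := du_sq (A := ε₂ * dg ψ) (B := ε₁ * dg χ) (u := ε₂ * iv t ψ - ε₂ * dg ψ) hu
      (by linear_combination h5)
    rwa [mul_comm (ε₂ * _), add_right_comm] at this
  · exact du_sq hv h5

/-- an integral character with two values on the non-trivial elements of a `p`-group -/
theorem du_two {χ : IrrCharacter G} {s n : ℕ} (hs : s.Prime) (hn : s ^ n ∣ Nat.card G) {a b : ℤ}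
    (hi : ∀ g : G, orderOf g ∣ s ^ n → χ.1 g = iv g χ) (hk : charKer χ.1 = ⊥)
    (hv : ∀ v : ℤ, (s : ℤ) ∣ v - dg χ → -(dg χ : ℤ) ≤ v → v < dg χ → v = a ∨ v = b) :
    ((s ^ n : ℕ) : ℤ) ∣ (dg χ - a) * (dg χ - b) := by
  classical
  haveI := Fact.mk hs
  obtain ⟨P, hP⟩ := Sylow.exists_subgroup_card_pow_prime s hn
  letI := Fintype.ofFinite P
  have ho : ∀ g : P, orderOf (g : G) ∣ s ^ n := fun g => hP ▸ P.orderOf_dvd_natCard g.2
  have h1 : ∀ j : ℕ, ∀ g : G, orderOf g ∣ s ^ n → g ^ s ^ j = 1 → (s : ℤ) ∣ iv g χ - dg χ := by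
    intro j
    induction j with
    | zero => intro g _ e; rw [pow_zero, pow_one] at e; simp [e, iv_eq (a := dg χ) (dg_cast χ)]
    | succ j ih =>
      intro g o e
      have o' := (orderOf_pow_dvd s).trans o
      have := dvd_add (char_congr_prime (irr_isChar χ.2) hs (hi g o) (hi _ o'))
        (ih _ o' (by rw [← pow_mul, ← pow_succ', e]))
      rwa [sub_add_sub_cancel] at this
  have h2 : ∀ g : P, g ≠ 1 → (iv g.1 χ - a) * (iv g.1 χ - b) = 0 := fun g hg => by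
    have e1 := char_norm_le (irr_isChar χ.2) g
    rw [hi g (ho g), dg_cast, Complex.norm_intCast, Complex.norm_natCast] at e1
    have e2 : |iv g.1 χ| ≤ dg χ := by exact_mod_cast e1
    have e3 : iv g.1 χ ≠ dg χ := fun e => hg (Subtype.ext (mem_bot.1 (hk ▸
      (mem_charKer_iff (irr_isChar χ.2)).2 (by rw [hi g (ho g), e, dg_cast]; simp))))
    rcases hv _ (h1 n g (ho g) (orderOf_dvd_iff_pow_eq_one.1 (ho g))) (abs_le.1 e2).1
      (lt_of_le_of_ne (abs_le.1 e2).2 e3) with e | e <;> simp [e]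
  have hc := char_restrict P (irr_isChar χ.2)
  obtain ⟨n1, e1⟩ := char_inner_nat hc char_one
  obtain ⟨n2, e2⟩ := char_inner_nat hc hc
  have f1 := (sum_mul_conj_eq _ _).trans (congrArg (_ * ·) e1)
  have f2 := (sum_mul_conj_eq _ _).trans (congrArg (_ * ·) e2)
  simp only [fun g : P => hi g (ho g), map_one, mul_one, map_intCast, hP] at f1 f2
  have g1 : ∑ g : P, iv g.1 χ = (s ^ n : ℕ) * n1 := by exact_mod_cast f1
  have g2 : ∑ g : P, iv g.1 χ * iv g.1 χ = (s ^ n : ℕ) * n2 := by exact_mod_cast f2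
  have g3 : ∑ g : P, (iv g.1 χ - a) * (iv g.1 χ - b) = (dg χ - a) * (dg χ - b) := by
    rw [sum_eq_single 1 (fun g _ hg => h2 g hg) (by simp)]
    simp [iv_eq (a := dg χ) (dg_cast χ)]
  refine ⟨n2 - (a + b) * n1 + a * b, ?_⟩
  rw [← g3, sum_congr rfl fun (g : P) _ => (by ring : (iv g.1 χ - a) * (iv g.1 χ - b) =
    iv g.1 χ * iv g.1 χ - (a + b) * iv g.1 χ + a * b), sum_add_distrib, sum_sub_distrib, ← mul_sum, g1, g2,
    sum_const, card_univ, Fintype.card_eq_nat_card, hP, nsmul_eq_mul]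
  ring

theorem Sp.du_main (h : Sp G q r d m) (hp : DuPP q m) {χ ψ θ : IrrCharacter G} {ε₁ ε₂ δ : ℤ}
    (X : XD G m χ ψ θ ε₁ ε₂ δ) (hA : ε₁ * dg χ = -(q * (q - 1))) (hB : ε₂ * dg ψ = -q ^ 3) :
    IsSimpleGroup G ∧ DU G q r d m χ ψ θ := by
  have C := h.cc'
  have P := h.par
  have q3 : (3 : ℤ) ≤ q := by exact_mod_cast P.q3
  have m7 := P.seven
  have e0 := X.deg
  have cq : ((q - 1 : ℕ) : ℤ) = q - 1 := Nat.cast_pred (by have := P.q3; omega)
  obtain rfl : ε₁ = -1 := X.sgn.1.resolve_left (by rintro rfl; nlinarith [Int.natCast_nonneg (dg χ)])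
  obtain rfl : ε₂ = -1 := X.sgn.2.1.resolve_left (by
    rintro rfl; nlinarith [Int.natCast_nonneg (dg ψ), pow_pos (by omega : (0 : ℤ) < q) 3])
  have d1 : (dg χ : ℤ) = q * (q - 1) := by omega
  have d2 : (dg ψ : ℤ) = q ^ 3 := by omega
  have l1 : (1 : ℤ) < q * (q - 1) := by nlinarith
  have l2 : (q : ℤ) * (q - 1) < q ^ 3 := by nlinarith
  obtain rfl : δ = -1 := X.sgn.2.2.resolve_left (by rintro rfl; have := dg_pos θ; omega)
  have d3 : (dg θ : ℤ) = (q - 1) * (q + 1) ^ 2 := by linear_combination e0 + d1 + d2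
  have n1 : ∀ {φ : IrrCharacter G}, (m : ℤ) ∣ -1 * dg φ - 1 → ¬ m ∣ dg φ := fun e f => by
    have := (dvd_sub_right (a := (m : ℤ)) ((Int.natCast_dvd_natCast.2 f).mul_left (-1))).1 e
    have := Int.le_of_dvd one_pos this
    omega
  have i1 := X.int (n1 X.cong.1) (by omega) (by omega) (by omega)
  have i2 := X.symm.int (n1 X.cong.2) (by omega) (by omega) (by omega)
  have i3 := fun g hg => X.intθ hg (i1 g) (i2 g)
  have hc : commutator G = ⊤ := CfsgH2.perfect_of_deg fun φ hφ e => by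
    have e1 : dg ⟨φ, hφ⟩ = 1 := dg_eq (by simpa using e)
    rcases X.only ⟨φ, hφ⟩ (by rw [e1, Nat.dvd_one]; omega) with f | f | f | f
    · exact congrArg Subtype.val f
    all_goals first | (rw [f] at e1; omega)
  have hs : ∀ g g' : G, ¬ TT m g → ¬ TT m g' → ∀ k : ℕ, (k : ℂ) = Nat.card G *
      (1 + (-1 : ℤ) * (χ.1 g * χ.1 g') / dg χ + (-1 : ℤ) * (ψ.1 g * ψ.1 g') / dg ψ -
        (-1 : ℤ) * (θ.1 g * θ.1 g') / dg θ) → (k : ℤ) = sc q m χ ψ θ g g' := fun g g' a b k e => by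
    have c1 : (q : ℂ) ≠ 0 := by exact_mod_cast (by omega : (q : ℤ) ≠ 0)
    have c2 : (q : ℂ) - 1 ≠ 0 := by exact_mod_cast (by omega : (q : ℤ) - 1 ≠ 0)
    have c3 : (q : ℂ) + 1 ≠ 0 := by exact_mod_cast (by omega : (q : ℤ) + 1 ≠ 0)
    have c4 : ((q - 1 : ℕ) : ℂ) = q - 1 := by exact_mod_cast cq
    rw [i1, i1, i2, i2, (i3 g a).1, (i3 g' b).1, h.card, show (dg χ : ℂ) = q * (q - 1) by exact_mod_cast d1,
      show (dg ψ : ℂ) = q ^ 3 by exact_mod_cast d2,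
      show (dg θ : ℂ) = (q - 1) * (q + 1) ^ 2 by exact_mod_cast d3] at e
    rw [← Int.cast_inj (α := ℂ), Int.cast_natCast, e, sc]
    push_cast [c4]
    field_simp
    ring
  haveI : Nontrivial G := by
    obtain ⟨x, hx⟩ := h.exm
    exact ⟨x, 1, fun e => by rw [e, orderOf_one] at hx; omega⟩
  refine ⟨⟨fun K hK => ?_⟩, P, h.card, ⟨by zify [cq]; exact d1, by exact_mod_cast d2,
    by zify [cq]; exact d3⟩, fun φ hφ g hg => ?_, fun g hg => by have := (i3 g hg).2; omega,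
    fun g hg => by simpa using And.intro (X.vT g hg).1 (X.vT g hg).2.1, fun g => C.cop',
    fun g => C.cp, C.np, fun g g' a b => ?_, fun t ht => ?_, fun φ hφ => ?_⟩
  · by_cases e : ∃ y ∈ K, TT m y
    · obtain ⟨y, y1, y2⟩ := e
      exact Or.inr (C.top hc K y2 y1)
    · exact Or.inl (h.du_bot hp K fun y y1 y2 => e ⟨y, y1, y2⟩)
  · simp only [List.mem_cons, List.not_mem_nil, or_false] at hφ
    rcases hφ with rfl | rfl | rfl
    exacts [i1 g, i2 g, (i3 g hg).1]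
  · obtain ⟨k, -, e⟩ := X.cmf g g' a b
    exact ⟨k, hs g g' a b _ e⟩
  · have a : ¬ TT m t := fun e => e.not_coprime (ht ▸ Nat.coprime_two_left.2 P.m_odd)
    have t2 : t * t = 1 := by rw [← sq, ← ht, pow_orderOf_eq_one]
    obtain ⟨k, e1, e⟩ := X.cmf t t a a
    rw [← hs t t a a _ e, e1 t2 t2]
    simp
  · have e1 : dg φ = dg ψ := by zify; rw [d2]; exact_mod_cast hφ
    rcases X.only φ (e1 ▸ n1 X.cong.2) with f | f | f | f
    · rw [f, dg_triv] at e1; omega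
    · rw [f] at e1; omega
    · exact f
    · omega

theorem du_three : ∀ A ∈ Finset.Icc (-864 : ℤ) 864, A ∣ 864 → 2 - A ∣ 864 → 7 ∣ A - 1 →
    A = 1 ∨ A = 8 ∨ A = -6 := by decide +kernel

theorem Sp.du_not5 (h : Sp G 5 r d m) (hp : DuPP 5 m) {χ ψ θ : IrrCharacter G} {ε₁ ε₂ δ : ℤ}
    (X : XD G m χ ψ θ ε₁ ε₂ δ) (hA : ε₁ * dg χ = -6) (c : δ * dg θ ∣ 18000) : False := by
  have C := h.cc'
  obtain rfl : m = 7 := by have := h.par.hm; rw [h.par.hd] at this; norm_num at this; omega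
  have e0 := X.deg
  have e1 := X.cong.2
  obtain rfl : ε₁ = -1 := X.sgn.1.resolve_left (by rintro rfl; omega)
  have d1 : dg χ = 6 := by omega
  have i1 := X.int (by omega) (by omega) (fun e => by
    rcases X.sgn.2.1 with rfl | rfl
    · omega
    · rw [← e0, ← e, d1] at c; norm_num at c) (fun e => by
    rcases X.sgn.2.2 with rfl | rfl <;> omega)
  haveI := charKer_normal (Irr_class χ)
  have := du_two (χ := χ) (a := 1) (b := -4) (n := 3) Nat.prime_five (by rw [h.card]; decide)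
    (fun g _ => i1 g) (h.du_bot hp _ fun y hy ty => by
      have := (X.vT y ty).1.symm.trans ((mem_charKer_iff (irr_isChar χ.2)).1 hy)
      rw [dg_cast, d1] at this
      norm_num at this) (fun v => by rw [d1]; omega)
  rw [d1] at this
  norm_num at this

theorem Sp.du_of (h : Sp G q r d m) (hp : DuPP q m) (hd : DuDio q m) :
    IsSimpleGroup G ∧ ∃ a s h', DU G q r d m a s h' := by
  have C := h.cc'
  obtain ⟨χ, ψ, θ, ε₁, ε₂, δ, X⟩ := C.exists_XD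
  have e0 := X.deg
  have hdv : ∀ (φ : IrrCharacter G) (ε c : ℤ), (ε = 1 ∨ ε = -1) → IsCoprime (m : ℤ) c →
      (m : ℤ) ∣ ε * dg φ - c → ε * dg φ ∣ ((q ^ 3 * ((q - 1) * (q + 1) ^ 2) : ℕ) : ℤ) := by
    intro φ ε c hε h1 ⟨k, hk⟩
    have h2 : (dg φ : ℤ) ∣ m * ((q ^ 3 * ((q - 1) * (q + 1) ^ 2) : ℕ) : ℤ) := by
      exact_mod_cast C.card ▸ irr_deg_dvd_card φ.2 (dg_cast φ)
    have h3 : IsCoprime (ε * dg φ) (m : ℤ) := by
      rw [show ε * dg φ = c + m * k by omega]; exact (h1.add_mul_left_right k).symm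
    refine h3.dvd_of_dvd_mul_left ?_
    rcases hε with rfl | rfl <;> simpa using h2
  have a := hdv χ _ 1 X.sgn.1 isCoprime_one_right X.cong.1
  have b := hdv ψ _ 1 X.sgn.2.1 isCoprime_one_right X.cong.2
  have c := hdv θ _ 3 X.sgn.2.2 (Nat.isCoprime_iff_coprime.2
    ((Nat.Prime.coprime_iff_not_dvd Nat.prime_three).2 h.par.not_three).symm) (by
      rw [← e0]; exact (dvd_add X.cong.1 X.cong.2).trans (Dvd.intro 1 (by ring)))
  haveI := charKer_normal (Irr_class θ)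
  have hk : charKer θ.1 = ⊥ := h.du_bot hp _ fun y hy ty =>
    (X.vT y ty).2.2 ((mem_charKer_iff (irr_isChar θ.2)).1 hy)
  obtain ⟨t, ht⟩ := exists_prime_orderOf_dvd_card' (G := G) 2 (C.card ▸ C.even.mul_left m)
  have sq := X.square ht (fun e => e.not_coprime (ht ▸ Nat.coprime_two_left.2 h.par.m_odd))
    fun e => by
      have := mem_bot.1 (hk ▸ (mem_charKer_iff (irr_isChar θ.2)).2 e)
      rw [this, orderOf_one] at ht
      omega
  rcases hd _ _ X.cong.1 X.cong.2 a b (e0 ▸ c) sq with ⟨e1, e2⟩ | ⟨e1, e2⟩ | ⟨rfl, e1⟩ | ⟨rfl, e1 | e1⟩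
  · exact (h.du_main hp X e1 e2).imp_right fun D => ⟨_, _, _, D⟩
  · exact (h.du_main hp X.symm e1 e2).imp_right fun D => ⟨_, _, _, D⟩
  · exfalso
    obtain rfl : m = 7 := by have := h.par.hm; rw [h.par.hd] at this; norm_num at this; omega
    have f1 : ε₂ * dg ψ = 2 - ε₁ * dg χ := by omega
    have f2 := du_three _ (mem_Icc.2 (abs_le.1 (Int.le_of_dvd (by norm_num) ((abs_dvd _ _).2 a)))) a
      (f1 ▸ b) X.cong.1
    have f3 : ε₁ * dg χ ≠ 1 := fun e => by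
      rw [f1, e] at sq
      obtain ⟨w, hw⟩ := sq
      nlinarith [mul_self_nonneg w]
    have d3 : dg θ = 3 := by rcases X.sgn.2.2 with rfl | rfl <;> omega
    have d1 : dg χ = 8 ∧ dg ψ = 6 ∨ dg χ = 6 ∧ dg ψ = 8 := by
      rcases X.sgn.1 with rfl | rfl <;> rcases X.sgn.2.1 with rfl | rfl <;> omega
    have i1 := X.int (by omega) (by omega) (by omega) (by omega)
    have i2 := X.symm.int (by omega) (by omega) (by omega) (by omega)
    have := du_two (χ := θ) (a := 0) (b := -3) (n := 3) Nat.prime_three (by rw [h.card]; decide)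
      (fun g hg => (X.intθ (fun e => e.not_coprime (Nat.Coprime.coprime_dvd_left hg (by norm_num)))
        (i1 g) (i2 g)).1) hk (fun v => by rw [d3]; omega)
    rw [d3] at this
    norm_num at this
  · exact (h.du_not5 hp X e1 c).elim
  · exact (h.du_not5 hp X.symm e1 c).elim

end CfsgV3
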